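import Mathlib

/-!
# Morphisms from a projective object (in degree 0) to a shifted complex in the derived category
(helper35)

For `P` projective and a cochain complex `E`, morphisms `P[0] ⟶ (Q E)⟦n⟧` in `D(C)` are
`{g : P ⟶ Eⁿ | g ≫ d = 0}` modulo `{h ≫ d}`.
-/

universe w v u

open CategoryTheory CochainComplex HomComplex

set_option linter.unusedSectionVars false

namespace Groth.Agent.H35

variable {C : Type u} [Category.{v} C] [Abelian C] [HasDerivedCategory.{w} C]

open DerivedCategory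

section General

variable {K L : CochainComplex C ℤ} {n : ℤ}

/-- The morphism in the derived category attached to a cocycle. -/
noncomputable def cocycleHom (x : Cocycle K L n) : Q.obj K ⟶ (Q.obj L)⟦n⟧ :=
  Q.map (Cocycle.equivHomShift.symm x) ≫ (Q.commShiftIso n).hom.app L

lemma cocycleHom_sub (x y : Cocycle K L n) : cocycleHom (x - y) = cocycleHom x - cocycleHom y := by
  simp only [cocycleHom, map_sub, Functor.map_sub, Preadditive.sub_comp]

lemma cocycleHom_precomp {K' : CochainComplex C ℤ} (x : Cocycle K L n) (g : K' ⟶ K) :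
    cocycleHom (x.precomp g) = Q.map g ≫ cocycleHom x := by
  simp only [cocycleHom, Cocycle.equivHomShift_symm_precomp, Functor.map_comp, Category.assoc]

lemma Q_map_surjective_of_isKProjective [K.IsKProjective] (L' : CochainComplex C ℤ)
    (ψ : Q.obj K ⟶ Q.obj L') : ∃ g : K ⟶ L', Q.map g = ψ := by
  obtain ⟨χ, hχ⟩ := (CochainComplex.IsKProjective.Qh_map_bijective K
    ((HomotopyCategory.quotient _ _).obj L')).2
      ((quotientCompQhIso C).hom.app K ≫ ψ ≫ (quotientCompQhIso C).inv.app L')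
  obtain ⟨g, rfl⟩ := (HomotopyCategory.quotient C (ComplexShape.up ℤ)).map_surjective χ
  refine ⟨g, ?_⟩
  have := (quotientCompQhIso C).hom.naturality g
  simp only [Functor.comp_map] at this
  rw [hχ] at this
  simp only [Category.assoc, Iso.inv_hom_id_app, Category.comp_id] at this
  exact (cancel_epi ((quotientCompQhIso C).hom.app K)).mp this.symm

lemma Q_map_eq_zero_iff_of_isKProjective [K.IsKProjective] {L' : CochainComplex C ℤ}
    (g : K ⟶ L') : Q.map g = 0 ↔ (HomotopyCategory.quotient C (ComplexShape.up ℤ)).map g = 0 := by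
  constructor
  · intro h
    apply (CochainComplex.IsKProjective.Qh_map_bijective K
      ((HomotopyCategory.quotient _ _).obj L')).1
    have := (quotientCompQhIso C).hom.naturality g
    simp only [Functor.comp_map] at this
    rw [h, Limits.comp_zero] at this
    rw [Functor.map_zero]
    exact (cancel_mono ((quotientCompQhIso C).hom.app L')).mp (by rw [this, Limits.zero_comp])
  · intro h
    have := (quotientCompQhIso C).hom.naturality g
    simp only [Functor.comp_map] at this
    rw [h, Functor.map_zero, Limits.zero_comp] at this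
    exact (cancel_epi ((quotientCompQhIso C).hom.app K)).mp (by rw [← this, Limits.comp_zero])

lemma cocycleHom_surjective [K.IsKProjective] (φ : Q.obj K ⟶ (Q.obj L)⟦n⟧) :
    ∃ x : Cocycle K L n, cocycleHom x = φ := by
  obtain ⟨g, hg⟩ := Q_map_surjective_of_isKProjective (L⟦n⟧)
    (φ ≫ (Q.commShiftIso n).inv.app L)
  refine ⟨Cocycle.equivHomShift g, ?_⟩
  simp [cocycleHom, hg]

lemma cocycleHom_eq_zero_iff [K.IsKProjective] (x : Cocycle K L n) :
    cocycleHom x = 0 ↔ x ∈ coboundaries K L n := by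
  rw [← CohomologyClass.toHom_mk_eq_zero_iff, CohomologyClass.toHom_mk,
    ← Q_map_eq_zero_iff_of_isKProjective]
  constructor
  · intro h
    have h2 : cocycleHom x ≫ (Q.commShiftIso n).inv.app L = 0 := by rw [h, Limits.zero_comp]
    simpa [cocycleHom] using h2
  · intro h
    simp [cocycleHom, h]

end General

section Single

variable (P : C) [Projective P]

instance single_isKProjective : ((CochainComplex.singleFunctor C 0).obj P).IsKProjective := by
  have : ∀ n : ℤ, Projective (((CochainComplex.singleFunctor C 0).obj P).X n) := by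
    intro n
    by_cases hn : n = 0
    · subst hn
      exact Projective.of_iso (HomologicalComplex.singleObjXSelf (ComplexShape.up ℤ) 0 P).symm
        inferInstance
    · have hz : Limits.IsZero (((CochainComplex.singleFunctor C 0).obj P).X n) :=
        HomologicalComplex.isZero_single_obj_X _ _ _ _ hn
      exact Projective.of_iso hz.isoZero.symm inferInstance
  exact isKProjective_of_projective _ 0

variable {P} (E : CochainComplex C ℤ) (n : ℤ)

/-- The morphism `P[0] ⟶ (Q E)⟦n⟧` attached to `g : P ⟶ Eⁿ` with `g ≫ d = 0`. -/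
noncomputable def singleHom (g : P ⟶ E.X n) (hg : g ≫ E.d n (n + 1) = 0) :
    Q.obj ((CochainComplex.singleFunctor C 0).obj P) ⟶ (Q.obj E)⟦n⟧ :=
  cocycleHom (Cocycle.fromSingleMk g (zero_add n) (n + 1) rfl hg)

lemma singleHom_surjective
    (φ : Q.obj ((CochainComplex.singleFunctor C 0).obj P) ⟶ (Q.obj E)⟦n⟧) :
    ∃ (g : P ⟶ E.X n) (hg : g ≫ E.d n (n + 1) = 0), singleHom E n g hg = φ := by
  obtain ⟨x, rfl⟩ := cocycleHom_surjective φ
  obtain ⟨g, hg, rfl⟩ := Cocycle.fromSingleMk_surjective x n (zero_add n) (n + 1) rfl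
  exact ⟨g, hg, rfl⟩

lemma singleHom_eq_zero_iff (g : P ⟶ E.X n) (hg : g ≫ E.d n (n + 1) = 0) :
    singleHom E n g hg = 0 ↔ ∃ h : P ⟶ E.X (n - 1), h ≫ E.d (n - 1) n = g := by
  rw [singleHom, cocycleHom_eq_zero_iff,
    Cocycle.fromSingleMk_mem_coboundaries_iff g (zero_add n) (n + 1) rfl hg (n - 1) (by omega)]

lemma singleHom_sub (g g' : P ⟶ E.X n) (hg : g ≫ E.d n (n + 1) = 0)
    (hg' : g' ≫ E.d n (n + 1) = 0) (hgg' : (g - g') ≫ E.d n (n + 1) = 0) :
    singleHom E n (g - g') hgg' =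
      singleHom E n g hg - singleHom E n g' hg' := by
  rw [singleHom, singleHom, singleHom, ← cocycleHom_sub, Cocycle.fromSingleMk_sub]

lemma singleHom_precomp {P' : C} [Projective P'] (u : P' ⟶ P) (g : P ⟶ E.X n)
    (hg : g ≫ E.d n (n + 1) = 0) (hug : (u ≫ g) ≫ E.d n (n + 1) = 0) :
    singleHom E n (u ≫ g) hug =
      Q.map ((CochainComplex.singleFunctor C 0).map u) ≫ singleHom E n g hg := by
  rw [singleHom, singleHom, ← cocycleHom_precomp, Cocycle.fromSingleMk_precomp]

/-- The class in `Hom(P, Hⁿ(E))` of `g : P ⟶ Eⁿ` with `g ≫ d = 0`. -/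
noncomputable def homologyClass (g : P ⟶ E.X n) (hg : g ≫ E.d n (n + 1) = 0) :
    P ⟶ E.homology n :=
  E.liftCycles g (n + 1) (by simp) hg ≫ E.homologyπ n

lemma homologyClass_surjective (ψ : P ⟶ E.homology n) :
    ∃ (g : P ⟶ E.X n) (hg : g ≫ E.d n (n + 1) = 0), homologyClass E n g hg = ψ := by
  let ψ' : P ⟶ E.cycles n := Projective.factorThru ψ (E.homologyπ n)
  refine ⟨ψ' ≫ E.iCycles n, by rw [Category.assoc, E.iCycles_d, Limits.comp_zero], ?_⟩
  have : E.liftCycles (ψ' ≫ E.iCycles n) (n + 1) (by simp)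
      (by rw [Category.assoc, E.iCycles_d, Limits.comp_zero]) = ψ' := by
    rw [← cancel_mono (E.iCycles n), E.liftCycles_i]
  rw [homologyClass, this]
  exact Projective.factorThru_comp ψ (E.homologyπ n)

lemma homologyClass_eq_zero_iff (g : P ⟶ E.X n) (hg : g ≫ E.d n (n + 1) = 0) :
    homologyClass E n g hg = 0 ↔ ∃ h : P ⟶ E.X (n - 1), h ≫ E.d (n - 1) n = g := by
  rw [homologyClass, E.liftCycles_comp_homologyπ_eq_zero_iff_up_to_refinements (n - 1) n (n + 1)
    (by simp) (by simp)]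
  constructor
  · rintro ⟨A', π, _, x₁, hx₁⟩
    refine ⟨Projective.factorThru (𝟙 P) π ≫ x₁, ?_⟩
    rw [Category.assoc, ← hx₁, ← Category.assoc, Projective.factorThru_comp, Category.id_comp]
  · rintro ⟨h, rfl⟩
    exact ⟨P, 𝟙 P, inferInstance, h, by simp⟩

lemma homologyClass_sub (g g' : P ⟶ E.X n) (hg : g ≫ E.d n (n + 1) = 0)
    (hg' : g' ≫ E.d n (n + 1) = 0) (hgg' : (g - g') ≫ E.d n (n + 1) = 0) :
    homologyClass E n (g - g') hgg' =
      homologyClass E n g hg - homologyClass E n g' hg' := by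
  rw [homologyClass, homologyClass, homologyClass, ← Preadditive.sub_comp]
  congr 1
  rw [← cancel_mono (E.iCycles n), E.liftCycles_i, Preadditive.sub_comp, E.liftCycles_i,
    E.liftCycles_i]

lemma homologyClass_precomp {P' : C} (u : P' ⟶ P) (g : P ⟶ E.X n)
    (hg : g ≫ E.d n (n + 1) = 0) (hug : (u ≫ g) ≫ E.d n (n + 1) = 0) :
    homologyClass E n (u ≫ g) hug =
      u ≫ homologyClass E n g hg := by
  rw [homologyClass, homologyClass, ← Category.assoc, E.comp_liftCycles]

end Single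

/-- Transfer of bijectivity along a bijective correspondence. -/
lemma bijective_transfer {X Y : Type*} (R : X → Y → Prop) (U : X → X) (V : Y → Y)
    (h1 : ∀ x, ∃ y, R x y) (h2 : ∀ y, ∃ x, R x y)
    (h3 : ∀ x x' y y', R x y → R x' y' → (x = x' ↔ y = y'))
    (h4 : ∀ x y, R x y → R (U x) (V y)) : Function.Bijective U ↔ Function.Bijective V := by
  constructor
  · rintro ⟨hi, hs⟩
    constructor
    · intro y y' hyy'
      obtain ⟨x, hx⟩ := h2 y
      obtain ⟨x', hx'⟩ := h2 y'
      have := (h3 _ _ _ _ (h4 _ _ hx) (h4 _ _ hx')).mpr hyy'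
      exact (h3 _ _ _ _ hx hx').mp (hi this)
    · intro y
      obtain ⟨x, hx⟩ := h2 y
      obtain ⟨x₀, rfl⟩ := hs x
      obtain ⟨y₀, hy₀⟩ := h1 x₀
      exact ⟨y₀, ((h3 _ _ _ _ (h4 _ _ hy₀) hx).mp rfl)⟩
  · rintro ⟨hi, hs⟩
    constructor
    · intro x x' hxx'
      obtain ⟨y, hy⟩ := h1 x
      obtain ⟨y', hy'⟩ := h1 x'
      have := (h3 _ _ _ _ (h4 _ _ hy) (h4 _ _ hy')).mp hxx'
      exact (h3 _ _ _ _ hy hy').mpr (hi this)
    · intro x
      obtain ⟨y, hy⟩ := h1 x
      obtain ⟨y₀, rfl⟩ := hs y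
      obtain ⟨x₀, hx₀⟩ := h2 y₀
      exact ⟨x₀, ((h3 _ _ _ _ (h4 _ _ hx₀) hy).mpr rfl)⟩

section Main

variable {P : C} [Projective P] (E : CochainComplex C ℤ) (n : ℤ)

/-- For an endomorphism `u` of a projective object `P`, precomposition with `u` is bijective
on `Hom_{D(C)}(P[0], (Q E)⟦n⟧)` iff it is bijective on `Hom(P, Hⁿ(E))`. -/
theorem precomp_bijective_iff (u : P ⟶ P) :
    Function.Bijective (fun φ : Q.obj ((CochainComplex.singleFunctor C 0).obj P) ⟶ (Q.obj E)⟦n⟧ =>
      Q.map ((CochainComplex.singleFunctor C 0).map u) ≫ φ) ↔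
    Function.Bijective (fun ψ : P ⟶ E.homology n => u ≫ ψ) := by
  refine bijective_transfer
    (fun φ ψ => ∃ (g : P ⟶ E.X n) (hg : g ≫ E.d n (n + 1) = 0),
      singleHom E n g hg = φ ∧ homologyClass E n g hg = ψ) _ _ ?_ ?_ ?_ ?_
  · intro φ
    obtain ⟨g, hg, rfl⟩ := singleHom_surjective E n φ
    exact ⟨_, g, hg, rfl, rfl⟩
  · intro ψ
    obtain ⟨g, hg, rfl⟩ := homologyClass_surjective E n ψ
    exact ⟨_, g, hg, rfl, rfl⟩
  · rintro φ φ' ψ ψ' ⟨g, hg, rfl, rfl⟩ ⟨g', hg', rfl, rfl⟩
    have hgg' : (g - g') ≫ E.d n (n + 1) = 0 := by rw [Preadditive.sub_comp, hg, hg', sub_zero]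
    rw [← sub_eq_zero, ← singleHom_sub E n g g' hg hg' hgg', singleHom_eq_zero_iff,
      ← homologyClass_eq_zero_iff E n _ hgg', homologyClass_sub E n g g' hg hg' hgg', sub_eq_zero]
  · rintro φ ψ ⟨g, hg, rfl, rfl⟩
    have hug : (u ≫ g) ≫ E.d n (n + 1) = 0 := by rw [Category.assoc, hg, Limits.comp_zero]
    exact ⟨u ≫ g, hug, singleHom_precomp E n u g hg hug,
      homologyClass_precomp E n u g hg hug⟩

end Main

end Groth.Agent.H35
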