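import Mathlib
import Groth.Agent.H35.DerHom

/-!
# Representing the third vertex of a distinguished triangle by a mapping cone (helper35)
-/

universe w v u

open CategoryTheory Pretriangulated Limits

set_option linter.unusedSectionVars false

namespace Groth.Agent.H35

section TwoOutOfThree

variable {D : Type*} [Category D] [Preadditive D] [HasZeroObject D] [HasShift D ℤ]
  [∀ n : ℤ, (shiftFunctor D n).Additive] [Pretriangulated D]

/-- A property of objects stable under isomorphisms, shifts and cones satisfies two-out-of-three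
in distinguished triangles. -/
theorem two_out_of_three_of_cone (P : D → Prop)
    (hiso : ∀ X Y : D, (X ≅ Y) → P X → P Y)
    (hshift : ∀ (X : D) (n : ℤ), P X → P (X⟦n⟧))
    (hcone : ∀ T : Triangle D, T ∈ distTriang D → P T.obj₁ → P T.obj₂ → P T.obj₃)
    (T : Triangle D) (hT : T ∈ distTriang D) :
    (P T.obj₁ → P T.obj₂ → P T.obj₃) ∧ (P T.obj₁ → P T.obj₃ → P T.obj₂) ∧
      (P T.obj₂ → P T.obj₃ → P T.obj₁) := by
  refine ⟨hcone T hT, ?_, ?_⟩
  · intro h1 h3
    exact hcone T.invRotate (inv_rot_of_distTriang T hT) (hshift _ (-1) h3) h1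
  · intro h2 h3
    have h := hcone T.rotate (rot_of_distTriang T hT) h2 h3
    exact hiso _ _ ((shiftFunctorCompIsoId D 1 (-1) (by omega)).app T.obj₁)
      (hshift _ (-1) h)

end TwoOutOfThree

section Cone

variable {C : Type u} [Category.{v} C] [Abelian C] [HasDerivedCategory.{w} C]

open DerivedCategory

/-- If the first two vertices of a distinguished triangle are represented by complexes `E₁`
and `E₂` and the first map by a chain map `a`, the third is represented by the cone of `a`. -/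
theorem nonempty_mappingCone_iso (T : Triangle (DerivedCategory C))
    (hT : T ∈ distTriang (DerivedCategory C)) (E₁ E₂ : CochainComplex C ℤ)
    (e₁ : Q.obj E₁ ≅ T.obj₁) (e₂ : Q.obj E₂ ≅ T.obj₂) (a : E₁ ⟶ E₂)
    (ha : Q.map a = e₁.hom ≫ T.mor₁ ≫ e₂.inv) :
    Nonempty (Q.obj (CochainComplex.mappingCone a) ≅ T.obj₃) := by
  have hT' : Q.mapTriangle.obj (CochainComplex.mappingCone.triangle a) ∈
      distTriang (DerivedCategory C) := by
    rw [mem_distTriang_iff]
    exact ⟨_, _, a, ⟨Iso.refl _⟩⟩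
  have comm : (Q.mapTriangle.obj (CochainComplex.mappingCone.triangle a)).mor₁ ≫ e₂.hom =
      e₁.hom ≫ T.mor₁ := by
    change Q.map a ≫ e₂.hom = _
    rw [ha]
    simp
  exact ⟨Triangle.π₃.mapIso (isoTriangleOfIso₁₂ _ _ hT' hT e₁ e₂ comm)⟩

/-- If the first two vertices of a distinguished triangle are represented by complexes `E₁`
(K-projective) and `E₂`, the third is represented by the cone of a chain map `E₁ ⟶ E₂`. -/
theorem exists_mappingCone_iso (T : Triangle (DerivedCategory C))
    (hT : T ∈ distTriang (DerivedCategory C)) (E₁ E₂ : CochainComplex C ℤ) [E₁.IsKProjective]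
    (e₁ : Q.obj E₁ ≅ T.obj₁) (e₂ : Q.obj E₂ ≅ T.obj₂) :
    ∃ a : E₁ ⟶ E₂, Nonempty (Q.obj (CochainComplex.mappingCone a) ≅ T.obj₃) := by
  obtain ⟨a, ha⟩ := Q_map_surjective_of_isKProjective E₂ (e₁.hom ≫ T.mor₁ ≫ e₂.inv)
  refine ⟨a, ?_⟩
  have hT' : Q.mapTriangle.obj (CochainComplex.mappingCone.triangle a) ∈
      distTriang (DerivedCategory C) := by
    rw [mem_distTriang_iff]
    exact ⟨_, _, a, ⟨Iso.refl _⟩⟩
  have comm : (Q.mapTriangle.obj (CochainComplex.mappingCone.triangle a)).mor₁ ≫ e₂.hom =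
      e₁.hom ≫ T.mor₁ := by
    change Q.map a ≫ e₂.hom = _
    rw [ha]
    simp
  exact ⟨Triangle.π₃.mapIso (isoTriangleOfIso₁₂ _ _ hT' hT e₁ e₂ comm)⟩

/-- The terms of the mapping cone. -/
noncomputable def mappingConeXIso {E₁ E₂ : CochainComplex C ℤ} (a : E₁ ⟶ E₂) (i : ℤ) :
    (CochainComplex.mappingCone a).X i ≅ E₁.X (i + 1) ⊞ E₂.X i :=
  HomologicalComplex.homotopyCofiber.XIsoBiprod a i (i + 1) rfl

end Cone

end Groth.Agent.H35
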