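import Mathlib
import Groth.Prelude.Def_DRing2
import Groth.Agent.H35.ConeRep

/-!
# Pseudo-coherent and perfect objects: shifts and cones (helper35)
-/

universe u

open CategoryTheory Pretriangulated Limits

attribute [local instance] HasDerivedCategory.standard

namespace Groth.Agent.H35

open DerivedCategory

variable {R : Type u} [CommRing R]

section Modules

lemma finite_of_iso {M N : ModuleCat.{u} R} (e : M ≅ N) (h : Module.Finite R M) :
    Module.Finite R N :=
  Module.Finite.equiv e.toLinearEquiv

lemma free_of_iso {M N : ModuleCat.{u} R} (e : M ≅ N) (h : Module.Free R M) :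
    Module.Free R N :=
  Module.Free.of_equiv e.toLinearEquiv

lemma projective_of_iso {M N : ModuleCat.{u} R} (e : M ≅ N) (h : Module.Projective R M) :
    Module.Projective R N :=
  Module.Projective.of_equiv e.toLinearEquiv

lemma finite_biprod (M N : ModuleCat.{u} R) (hM : Module.Finite R M) (hN : Module.Finite R N) :
    Module.Finite R ↑(M ⊞ N) :=
  finite_of_iso (ModuleCat.biprodIsoProd M N).symm (by dsimp; infer_instance)

lemma free_biprod (M N : ModuleCat.{u} R) (hM : Module.Free R M) (hN : Module.Free R N) :
    Module.Free R ↑(M ⊞ N) :=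
  free_of_iso (ModuleCat.biprodIsoProd M N).symm (by dsimp; infer_instance)

lemma projective_biprod (M N : ModuleCat.{u} R) (hM : Module.Projective R M)
    (hN : Module.Projective R N) : Module.Projective R ↑(M ⊞ N) :=
  projective_of_iso (ModuleCat.biprodIsoProd M N).symm (by dsimp; infer_instance)

end Modules

section Shift

variable (E : DRing.Cx R) (n : ℤ)

/-- `Q (E⟦n⟧) ≅ (Q E)⟦n⟧`. -/
noncomputable def QShiftIso : Q.obj (E⟦n⟧) ≅ (Q.obj E)⟦n⟧ :=
  (Q.commShiftIso n).app E

end Shift

section Cone

variable {E₁ E₂ : DRing.Cx R} (a : E₁ ⟶ E₂)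

lemma mappingCone_finite (i : ℤ) (h₁ : Module.Finite R (E₁.X (i + 1)))
    (h₂ : Module.Finite R (E₂.X i)) : Module.Finite R ((CochainComplex.mappingCone a).X i) :=
  finite_of_iso (mappingConeXIso a i).symm (finite_biprod _ _ h₁ h₂)

lemma mappingCone_free (i : ℤ) (h₁ : Module.Free R (E₁.X (i + 1)))
    (h₂ : Module.Free R (E₂.X i)) : Module.Free R ((CochainComplex.mappingCone a).X i) :=
  free_of_iso (mappingConeXIso a i).symm (free_biprod _ _ h₁ h₂)

lemma mappingCone_projective (i : ℤ) (h₁ : Module.Projective R (E₁.X (i + 1)))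
    (h₂ : Module.Projective R (E₂.X i)) :
    Module.Projective R ((CochainComplex.mappingCone a).X i) :=
  projective_of_iso (mappingConeXIso a i).symm (projective_biprod _ _ h₁ h₂)

lemma mappingCone_isZero (i : ℤ) (h₁ : IsZero (E₁.X (i + 1))) (h₂ : IsZero (E₂.X i)) :
    IsZero ((CochainComplex.mappingCone a).X i) := by
  refine IsZero.of_iso ?_ (mappingConeXIso a i)
  rw [IsZero.iff_id_eq_zero]
  apply biprod.hom_ext
  · simp only [Category.id_comp, zero_comp]
    exact h₁.eq_of_tgt _ _
  · simp only [Category.id_comp, zero_comp]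
    exact h₂.eq_of_tgt _ _

end Cone

section KProj

lemma isKProjective_of_vanishesAbove (E : DRing.Cx R) (b : ℤ) (hb : DRing.VanishesAbove E b)
    (hp : ∀ i : ℤ, Module.Projective R (E.X i)) : E.IsKProjective := by
  have : E.IsStrictlyLE b := by
    rw [CochainComplex.isStrictlyLE_iff]
    exact fun i hi => hb i hi
  have : ∀ i : ℤ, Projective (E.X i) := fun i =>
    (IsProjective.iff_projective (R := R) (P := E.X i)).mp (hp i)
  exact CochainComplex.isKProjective_of_projective E b

end KProj

end Groth.Agent.H35
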