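import Mathlib
import Groth.Prelude.Def_DRing2
import Groth.Agent.H35.PerfCx

/-!
# Induction over bounded complexes (helper35)

For a cochain complex `E` whose term in degree `a - 1` vanishes, the kernel `E'` of the projection
`E ⟶ E^a[-a]` is the brutal truncation `σ_{≥ a+1} E`; the short exact sequence
`0 → E' → E → E^a[-a] → 0` gives a distinguished triangle in `D(R)`.
-/

universe u

open CategoryTheory Pretriangulated Limits

attribute [local instance] HasDerivedCategory.standard

namespace Groth.Agent.H35

open DerivedCategory

variable {R : Type u} [CommRing R]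

section Bottom

variable (E : DRing.Cx R) (a : ℤ) (ha : IsZero (E.X (a - 1)))

/-- The projection of `E` to its bottom term. -/
noncomputable def projBottom :
    E ⟶ (HomologicalComplex.single (ModuleCat.{u} R) (ComplexShape.up ℤ) a).obj (E.X a) :=
  HomologicalComplex.mkHomToSingle (𝟙 _) (by
    intro i hi
    have : i = a - 1 := by
      simp only [ComplexShape.up_Rel] at hi
      omega
    subst this
    exact ha.eq_of_src _ _)

/-- The short complex `0 → σ_{≥ a+1} E → E → E^a[-a] → 0`. -/
noncomputable def bottomSC : ShortComplex (DRing.Cx R) :=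
  ShortComplex.mk (kernel.ι (projBottom E a ha)) (projBottom E a ha) (kernel.condition _)

instance projBottom_f_isIso : IsIso ((projBottom E a ha).f a) := by
  rw [projBottom, HomologicalComplex.mkHomToSingle_f]
  infer_instance

instance projBottom_epi : Epi (projBottom E a ha) := by
  have : ∀ i, Epi ((projBottom E a ha).f i) := by
    intro i
    by_cases hi : i = a
    · subst hi
      infer_instance
    · have hz : IsZero (((HomologicalComplex.single (ModuleCat.{u} R) (ComplexShape.up ℤ)
          a).obj (E.X a)).X i) := HomologicalComplex.isZero_single_obj_X _ _ _ _ hi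
      exact ⟨fun g h _ => hz.eq_of_src _ _⟩
  exact HomologicalComplex.epi_of_epi_f _ this

lemma bottomSC_shortExact : (bottomSC E a ha).ShortExact where
  exact := ShortComplex.exact_of_f_is_kernel _ (kernelIsKernel _)
  mono_f := by dsimp [bottomSC]; infer_instance
  epi_g := by dsimp [bottomSC]; infer_instance

/-- The brutal truncation `σ_{≥ a+1} E`. -/
noncomputable abbrev truncBottom : DRing.Cx R := (bottomSC E a ha).X₁

lemma bottomSC_eval_shortExact (i : ℤ) :
    ((bottomSC E a ha).map (HomologicalComplex.eval _ _ i)).ShortExact :=
  (bottomSC_shortExact E a ha).map_of_exact _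

lemma truncBottom_isZero_X : IsZero ((truncBottom E a ha).X a) := by
  have h := bottomSC_eval_shortExact E a ha a
  exact h.isIso_g_iff.mp (projBottom_f_isIso E a ha)

/-- The terms of the brutal truncation. -/
noncomputable def truncBottomXIso (i : ℤ) (hi : i ≠ a) : (truncBottom E a ha).X i ≅ E.X i := by
  have h := bottomSC_eval_shortExact E a ha i
  have : IsIso ((bottomSC E a ha).map (HomologicalComplex.eval _ _ i)).f :=
    h.isIso_f_iff.mpr (HomologicalComplex.isZero_single_obj_X (ComplexShape.up ℤ) _ _ _ hi)
  exact @asIso _ _ _ _ _ this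

lemma truncBottom_isZero_of_isZero (i : ℤ) (hi : IsZero (E.X i)) :
    IsZero ((truncBottom E a ha).X i) := by
  by_cases h : i = a
  · subst h
    exact truncBottom_isZero_X E i ha
  · exact IsZero.of_iso hi (truncBottomXIso E a ha i h)

/-- The distinguished triangle `σ_{≥ a+1} E → E → E^a[-a] →`. -/
lemma bottom_triangle_distinguished :
    triangleOfSES (bottomSC_shortExact E a ha) ∈ distTriang (Dual.D R) :=
  triangleOfSES_distinguished _

end Bottom

section Induction

/-- A complex with all terms zero is a zero object of `D(R)`. -/
lemma isZero_Q_of_isZero_X (E : DRing.Cx R) (h : ∀ i, IsZero (E.X i)) : IsZero (Q.obj E) := by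
  have : IsZero E := by
    rw [IsZero.iff_id_eq_zero]
    ext i : 1
    exact (h i).eq_of_src _ _
  exact Q.map_isZero this

/-- Induction over bounded complexes. -/
theorem induction_bounded (P : Dual.D R → Prop) (Cm : ModuleCat.{u} R → Prop)
    (hCiso : ∀ M N : ModuleCat.{u} R, (M ≅ N) → Cm M → Cm N)
    (hzero : ∀ X : Dual.D R, IsZero X → P X)
    (hext : ∀ T : Triangle (Dual.D R), T ∈ distTriang (Dual.D R) → P T.obj₁ → P T.obj₃ → P T.obj₂)
    (hsingle : ∀ (M : ModuleCat.{u} R) (i : ℤ), Cm M →
      P (Q.obj ((HomologicalComplex.single (ModuleCat.{u} R) (ComplexShape.up ℤ) i).obj M)))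
    (E : DRing.Cx R) (a b : ℤ) (hE : DRing.VanishesOutside E a b)
    (hC : ∀ i : ℤ, a ≤ i → i ≤ b → Cm (E.X i)) : P (Q.obj E) := by
  obtain ⟨n, hn⟩ : ∃ n : ℕ, b < a + n := ⟨(b - a + 1).toNat, by omega⟩
  induction n generalizing E a with
  | zero =>
    apply hzero
    apply isZero_Q_of_isZero_X
    intro i
    apply hE
    omega
  | succ n ih =>
    have ha : IsZero (E.X (a - 1)) := hE _ (Or.inl (by omega))
    have hT := bottom_triangle_distinguished E a ha
    refine hext _ hT ?_ ?_
    · refine ih (truncBottom E a ha) (a + 1) ?_ ?_ (by omega)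
      · intro i hi
        by_cases h : i = a
        · subst h
          exact truncBottom_isZero_X E i ha
        · exact truncBottom_isZero_of_isZero E a ha i (hE i (by omega))
      · intro i hi hi'
        exact hCiso _ _ (truncBottomXIso E a ha i (by omega)).symm (hC i (by omega) hi')
    · by_cases hab : a ≤ b
      · exact hsingle _ _ (hC a le_rfl hab)
      · apply hzero
        apply isZero_Q_of_isZero_X
        intro i
        by_cases h : i = a
        · subst h
          exact IsZero.of_iso (hE i (Or.inr (by omega)))
            (HomologicalComplex.singleObjXSelf (ComplexShape.up ℤ) i (E.X i))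
        · exact HomologicalComplex.isZero_single_obj_X _ _ _ _ h

end Induction

end Groth.Agent.H35
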