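import Mathlib
import Groth.Prelude.Def_DRing2
import Groth.Agent.H35.BoundedInduction
import Groth.Agent.H45.Derived.BoundedInduction

/-!
# Finite injective dimension: shifts, cones, bounded complexes (helper35)
-/

universe w v u

open CategoryTheory Pretriangulated Limits ZeroObject

set_option linter.unusedSectionVars false

namespace Groth.Agent.H35

open DerivedCategory

section General

variable {C : Type u} [Category.{v} C] [Abelian C] [HasDerivedCategory.{w} C]

lemma Q_map_surjective_of_isKInjective (K L : CochainComplex C ℤ) [L.IsKInjective]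
    (ψ : Q.obj K ⟶ Q.obj L) : ∃ g : K ⟶ L, Q.map g = ψ := by
  obtain ⟨χ, hχ⟩ := (CochainComplex.IsKInjective.Qh_map_bijective
    ((HomotopyCategory.quotient _ _).obj K) L).2
      ((quotientCompQhIso C).hom.app K ≫ ψ ≫ (quotientCompQhIso C).inv.app L)
  obtain ⟨g, rfl⟩ := (HomotopyCategory.quotient C (ComplexShape.up ℤ)).map_surjective χ
  refine ⟨g, ?_⟩
  have := (quotientCompQhIso C).hom.naturality g
  simp only [Functor.comp_map] at this
  rw [hχ] at this
  simp only [Category.assoc, Iso.inv_hom_id_app, Category.comp_id] at this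
  exact (cancel_epi ((quotientCompQhIso C).hom.app K)).mp this.symm

/-- If the first two vertices of a distinguished triangle are represented by complexes `E₁`
and `E₂` (K-injective), the third is represented by the cone of a chain map `E₁ ⟶ E₂`. -/
theorem exists_mappingCone_iso_of_isKInjective (T : Triangle (DerivedCategory C))
    (hT : T ∈ distTriang (DerivedCategory C)) (E₁ E₂ : CochainComplex C ℤ) [E₂.IsKInjective]
    (e₁ : Q.obj E₁ ≅ T.obj₁) (e₂ : Q.obj E₂ ≅ T.obj₂) :
    ∃ a : E₁ ⟶ E₂, Nonempty (Q.obj (CochainComplex.mappingCone a) ≅ T.obj₃) := by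
  obtain ⟨a, ha⟩ := Q_map_surjective_of_isKInjective E₁ E₂ (e₁.hom ≫ T.mor₁ ≫ e₂.inv)
  exact ⟨a, nonempty_mappingCone_iso T hT E₁ E₂ e₁ e₂ a ha⟩

end General

attribute [local instance] HasDerivedCategory.standard

variable (R : Type u) [CommRing R]

lemma injective_iff_injective_object' (M : ModuleCat.{u} R) :
    Module.Injective R M ↔ Injective M :=
  Module.injective_iff_injective_object R M

lemma injective_of_iso' {M N : ModuleCat.{u} R} (e : M ≅ N) (h : Module.Injective R M) :
    Module.Injective R N := by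
  rw [injective_iff_injective_object'] at h ⊢
  exact Injective.of_iso e h

lemma injective_biprod (M N : ModuleCat.{u} R) (hM : Module.Injective R M)
    (hN : Module.Injective R N) : Module.Injective R ↑(M ⊞ N) := by
  rw [injective_iff_injective_object'] at hM hN ⊢
  infer_instance

lemma mappingCone_injective {E₁ E₂ : DRing.Cx R} (a : E₁ ⟶ E₂) (i : ℤ)
    (h₁ : Module.Injective R (E₁.X (i + 1))) (h₂ : Module.Injective R (E₂.X i)) :
    Module.Injective R ((CochainComplex.mappingCone a).X i) :=
  injective_of_iso' R (mappingConeXIso a i).symm (injective_biprod R _ _ h₁ h₂)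

lemma isKInjective_of_vanishesBelow (E : DRing.Cx R) (a : ℤ) (ha : ∀ i : ℤ, i < a → IsZero (E.X i))
    (hI : ∀ i : ℤ, Module.Injective R (E.X i)) : E.IsKInjective := by
  have : E.IsStrictlyGE a := by
    rw [CochainComplex.isStrictlyGE_iff]
    exact fun i hi => ha i hi
  have : ∀ i : ℤ, Injective (E.X i) := fun i =>
    (injective_iff_injective_object' R (E.X i)).mp (hI i)
  exact CochainComplex.isKInjective_of_injective E a

/-- Finite injective dimension is stable under shifts. -/
theorem hasFiniteInjDim_shift (K : Dual.D R) (n : ℤ)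
    (h : DRing.HasFiniteInjDim R K) : DRing.HasFiniteInjDim R (K⟦n⟧) := by
  obtain ⟨a, b, E, hab, hI, ⟨e⟩⟩ := h
  refine ⟨a - n, b - n, E⟦n⟧, ?_, ?_,
    ⟨QShiftIso E n ≪≫ (shiftFunctor (Dual.D R) n).mapIso e⟩⟩
  · intro i hi
    exact hab (i + n) (by omega)
  · intro i
    exact hI (i + n)

lemma hasFiniteInjDim_of_iso {K L : Dual.D R} (e : K ≅ L) (h : DRing.HasFiniteInjDim R K) :
    DRing.HasFiniteInjDim R L := by
  obtain ⟨a, b, E, hab, hI, ⟨e'⟩⟩ := h
  exact ⟨a, b, E, hab, hI, ⟨e' ≪≫ e⟩⟩

/-- Finite injective dimension is stable under cones. -/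
theorem hasFiniteInjDim_cone (T : Triangle (Dual.D R))
    (hT : T ∈ distTriang (Dual.D R)) (h₁ : DRing.HasFiniteInjDim R T.obj₁)
    (h₂ : DRing.HasFiniteInjDim R T.obj₂) : DRing.HasFiniteInjDim R T.obj₃ := by
  obtain ⟨a₁, b₁, E₁, hab₁, hI₁, ⟨e₁⟩⟩ := h₁
  obtain ⟨a₂, b₂, E₂, hab₂, hI₂, ⟨e₂⟩⟩ := h₂
  have : E₂.IsKInjective := isKInjective_of_vanishesBelow R E₂ a₂
    (fun i hi => hab₂ i (Or.inl hi)) hI₂
  obtain ⟨a, ⟨e₃⟩⟩ := exists_mappingCone_iso_of_isKInjective T hT E₁ E₂ e₁ e₂
  refine ⟨min (a₁ - 1) a₂, max b₁ b₂, CochainComplex.mappingCone a, ?_, ?_, ⟨e₃⟩⟩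
  · intro i hi
    refine mappingCone_isZero a i (hab₁ _ ?_) (hab₂ _ ?_)
    · rcases hi with hi | hi
      · left; omega
      · right; omega
    · rcases hi with hi | hi
      · left; omega
      · right; omega
  · intro i
    exact mappingCone_injective R a i (hI₁ _) (hI₂ _)

/-- Two-out-of-three for finite injective dimension. -/
theorem hasFiniteInjDim_two_out_of_three (T : Triangle (Dual.D R))
    (hT : T ∈ distTriang (Dual.D R)) :
    (DRing.HasFiniteInjDim R T.obj₁ → DRing.HasFiniteInjDim R T.obj₂ →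
        DRing.HasFiniteInjDim R T.obj₃) ∧
      (DRing.HasFiniteInjDim R T.obj₁ → DRing.HasFiniteInjDim R T.obj₃ →
        DRing.HasFiniteInjDim R T.obj₂) ∧
      (DRing.HasFiniteInjDim R T.obj₂ → DRing.HasFiniteInjDim R T.obj₃ →
        DRing.HasFiniteInjDim R T.obj₁) :=
  two_out_of_three_of_cone (DRing.HasFiniteInjDim R)
    (fun _ _ e h => hasFiniteInjDim_of_iso R e h)
    (hasFiniteInjDim_shift R) (hasFiniteInjDim_cone R) T hT

/-- Zero objects have finite injective dimension. -/
theorem hasFiniteInjDim_of_isZero (X : Dual.D R) (hX : IsZero X) :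
    DRing.HasFiniteInjDim R X := by
  have h0 : ∀ i : ℤ, IsZero ((0 : DRing.Cx R).X i) := fun i =>
    (HomologicalComplex.eval _ _ i).map_isZero (isZero_zero _)
  refine ⟨0, 0, 0, fun i _ => h0 i, fun i => ?_, ⟨(isZero_Q_of_isZero_X _ h0).iso hX⟩⟩
  rw [injective_iff_injective_object']
  exact ⟨fun g f _ => ⟨0, (h0 i).eq_of_tgt _ _⟩⟩

/-- A module of finite injective dimension placed in any degree. -/
theorem hasFiniteInjDim_single (M : ModuleCat.{u} R) (i : ℤ)
    (h : DRing.HasFiniteInjDim R ((DerivedCategory.singleFunctor (ModuleCat.{u} R) 0).obj M)) :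
    DRing.HasFiniteInjDim R ((DerivedCategory.singleFunctor (ModuleCat.{u} R) i).obj M) := by
  have e : (shiftFunctor (Dual.D R) (-i)).obj
      ((DerivedCategory.singleFunctor (ModuleCat.{u} R) 0).obj M) ≅
      (DerivedCategory.singleFunctor (ModuleCat.{u} R) i).obj M :=
    ((DerivedCategory.singleFunctors (ModuleCat.{u} R)).shiftIso (-i) i 0 (by omega)).app M
  exact hasFiniteInjDim_of_iso R e (hasFiniteInjDim_shift R _ _ h)

/-- A bounded complex of modules of finite injective dimension has finite injective dimension. -/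
theorem hasFiniteInjDim_of_bounded_termwise (K : DRing.Cx R) (a b : ℤ)
    (hab : DRing.VanishesOutside K a b)
    (hK : ∀ i : ℤ, DRing.HasFiniteInjDim R (Dual.inD R (K.X i))) :
    DRing.HasFiniteInjDim R (DRing.toD K) := by
  refine induction_bounded (DRing.HasFiniteInjDim R)
    (fun M => DRing.HasFiniteInjDim R ((DerivedCategory.singleFunctor (ModuleCat.{u} R) 0).obj M))
    ?_ (hasFiniteInjDim_of_isZero R) (fun T hT => (hasFiniteInjDim_two_out_of_three R T hT).2.1) ?_
    K a b hab (fun i _ _ => hK i)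
  · intro M N e h
    exact hasFiniteInjDim_of_iso R
      ((DerivedCategory.singleFunctor (ModuleCat.{u} R) 0).mapIso e) h
  · intro M i h
    exact hasFiniteInjDim_single R M i h

/-- An object with bounded cohomology, all of whose cohomology modules have finite injective
dimension, has finite injective dimension. -/
theorem hasFiniteInjDim_of_bounded_homology (K : Dual.D R)
    (hb : ∃ a b : ℤ, ∀ i : ℤ, (i < a ∨ b < i) → Subsingleton (Dual.HD R K i))
    (hK : ∀ i : ℤ, DRing.HasFiniteInjDim R (Dual.inD R (Dual.HD R K i))) :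
    DRing.HasFiniteInjDim R K := by
  obtain ⟨a, b, hab⟩ := hb
  let P : ObjectProperty (Dual.D R) := DRing.HasFiniteInjDim R
  have : P.IsClosedUnderIsomorphisms := ⟨fun e h => hasFiniteInjDim_of_iso R e h⟩
  let S : ObjectProperty (ModuleCat.{u} R) := fun M =>
    DRing.HasFiniteInjDim R ((DerivedCategory.singleFunctor (ModuleCat.{u} R) 0).obj M)
  have : S.IsClosedUnderIsomorphisms := ⟨fun e h =>
    hasFiniteInjDim_of_iso R ((DerivedCategory.singleFunctor (ModuleCat.{u} R) 0).mapIso e) h⟩
  have hGE : K.IsGE a := by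
    rw [DerivedCategory.isGE_iff]
    intro i hi
    have := hab i (Or.inl hi)
    exact ModuleCat.isZero_of_subsingleton _
  have hLE : K.IsLE b := by
    rw [DerivedCategory.isLE_iff]
    intro i hi
    have := hab i (Or.inr hi)
    exact ModuleCat.isZero_of_subsingleton _
  refine Groth.Agent.H45.bounded_induction' P S (hasFiniteInjDim_of_isZero R)
    (fun T hT => (hasFiniteInjDim_two_out_of_three R T hT).2.1)
    (fun M n h => hasFiniteInjDim_single R M n h)
    ?_ K a b hGE hLE (fun q => hK q)
  intro M hM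
  exact hasFiniteInjDim_of_isZero R _
    ((DerivedCategory.singleFunctor (ModuleCat.{u} R) 0).map_isZero hM)

end Groth.Agent.H35
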