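import Mathlib
import Groth.Agent.H35.DerHom
import Groth.Agent.H35.InjBounded

/-!
# Morphisms into a K-injective complex in the derived category (helper35)
-/

universe w v u

open CategoryTheory CochainComplex HomComplex

set_option linter.unusedSectionVars false

namespace Groth.Agent.H35

variable {C : Type u} [Category.{v} C] [Abelian C] [HasDerivedCategory.{w} C]

open DerivedCategory

section General

variable {K L : CochainComplex C ℤ} {n : ℤ}

lemma Q_map_eq_zero_iff_of_isKInjective [L.IsKInjective] (g : K ⟶ L) :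
    Q.map g = 0 ↔ (HomotopyCategory.quotient C (ComplexShape.up ℤ)).map g = 0 := by
  constructor
  · intro h
    apply (CochainComplex.IsKInjective.Qh_map_bijective
      ((HomotopyCategory.quotient _ _).obj K) L).1
    have := (quotientCompQhIso C).hom.naturality g
    simp only [Functor.comp_map] at this
    rw [h, Limits.comp_zero] at this
    rw [Functor.map_zero]
    exact (cancel_mono ((quotientCompQhIso C).hom.app L)).mp (by rw [this, Limits.zero_comp])
  · intro h
    have := (quotientCompQhIso C).hom.naturality g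
    simp only [Functor.comp_map] at this
    rw [h, Functor.map_zero, Limits.zero_comp] at this
    exact (cancel_epi ((quotientCompQhIso C).hom.app K)).mp (by rw [← this, Limits.comp_zero])

lemma cocycleHom_surjective_of_isKInjective [L.IsKInjective] (φ : Q.obj K ⟶ (Q.obj L)⟦n⟧) :
    ∃ x : Cocycle K L n, cocycleHom x = φ := by
  obtain ⟨g, hg⟩ := Q_map_surjective_of_isKInjective K (L⟦n⟧)
    (φ ≫ (Q.commShiftIso n).inv.app L)
  refine ⟨Cocycle.equivHomShift g, ?_⟩
  simp [cocycleHom, hg]

lemma cocycleHom_eq_zero_iff_of_isKInjective [L.IsKInjective] (x : Cocycle K L n) :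
    cocycleHom x = 0 ↔ x ∈ coboundaries K L n := by
  rw [← CohomologyClass.toHom_mk_eq_zero_iff, CohomologyClass.toHom_mk,
    ← Q_map_eq_zero_iff_of_isKInjective]
  constructor
  · intro h
    have h2 : cocycleHom x ≫ (Q.commShiftIso n).inv.app L = 0 := by rw [h, Limits.zero_comp]
    simpa [cocycleHom] using h2
  · intro h
    simp [cocycleHom, h]

end General

section Single

variable {M : C} (E : CochainComplex C ℤ) [E.IsKInjective] (n : ℤ)

lemma singleHom_surjective_of_isKInjective
    (φ : Q.obj ((CochainComplex.singleFunctor C 0).obj M) ⟶ (Q.obj E)⟦n⟧) :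
    ∃ (g : M ⟶ E.X n) (hg : g ≫ E.d n (n + 1) = 0), singleHom E n g hg = φ := by
  obtain ⟨x, rfl⟩ := cocycleHom_surjective_of_isKInjective φ
  obtain ⟨g, hg, rfl⟩ := Cocycle.fromSingleMk_surjective x n (zero_add n) (n + 1) rfl
  exact ⟨g, hg, rfl⟩

lemma singleHom_eq_zero_iff_of_isKInjective (g : M ⟶ E.X n) (hg : g ≫ E.d n (n + 1) = 0) :
    singleHom E n g hg = 0 ↔ ∃ h : M ⟶ E.X (n - 1), h ≫ E.d (n - 1) n = g := by
  rw [singleHom, cocycleHom_eq_zero_iff_of_isKInjective,
    Cocycle.fromSingleMk_mem_coboundaries_iff g (zero_add n) (n + 1) rfl hg (n - 1) (by omega)]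

lemma singleHom_eq_zero_iff_of_isKInjective' (m : ℤ) (hm : m + 1 = n) (g : M ⟶ E.X n)
    (hg : g ≫ E.d n (n + 1) = 0) :
    singleHom E n g hg = 0 ↔ ∃ h : M ⟶ E.X m, h ≫ E.d m n = g := by
  obtain rfl : m = n - 1 := by omega
  exact singleHom_eq_zero_iff_of_isKInjective E n g hg

end Single

end Groth.Agent.H35
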