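import Mathlib
import Groth.Prelude.Def_DRing2
import Groth.Agent.H35.DerHomInj

/-!
# Injective amplitude: Ext-vanishing criteria (helper35)
-/

universe u

open CategoryTheory Pretriangulated Limits

attribute [local instance] HasDerivedCategory.standard

set_option linter.unusedSectionVars false

namespace Groth.Agent.H35

open DerivedCategory HomologicalComplex

variable {R : Type u} [CommRing R]

/-- Baer-type criterion: if `J^b` is injective and `Ext^c(R/I, J) = 0` for every ideal `I`
(`c = b + 1`), then the module of cycles `Z^b(J)` is injective. -/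
theorem injective_cycles_of_ext_vanishing (J : DRing.Cx R) [J.IsKInjective] (b c : ℤ)
    (hbc : b + 1 = c) (hJ : Module.Injective R (J.X b))
    (h : ∀ I : Ideal R, Subsingleton
      (Q.obj ((CochainComplex.singleFunctor (ModuleCat.{u} R) 0).obj (ModuleCat.of R (R ⧸ I))) ⟶
        (Q.obj J)⟦c⟧)) :
    Module.Injective R (J.cycles b) := by
  apply Module.Baer.injective
  intro I g
  obtain ⟨h₁, hh₁⟩ := Module.Baer.of_injective hJ I ((J.iCycles b).hom ∘ₗ g)
  let dh : R →ₗ[R] J.X c := (J.d b c).hom ∘ₗ h₁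
  have hI : I ≤ LinearMap.ker dh := by
    intro x hx
    rw [LinearMap.mem_ker]
    change (J.d b c).hom (h₁ x) = 0
    rw [hh₁ x hx]
    change (J.iCycles b ≫ J.d b c).hom (g ⟨x, hx⟩) = 0
    rw [iCycles_d]
    rfl
  let kbar : ModuleCat.of R (R ⧸ I) ⟶ J.X c := ModuleCat.ofHom (Submodule.liftQ I dh hI)
  have hk : kbar ≫ J.d c (c + 1) = 0 := by
    refine ModuleCat.hom_ext (LinearMap.ext fun x => ?_)
    obtain ⟨r, rfl⟩ := Submodule.Quotient.mk_surjective I x
    change (J.d c (c + 1)).hom ((J.d b c).hom (h₁ r)) = 0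
    exact congr($(J.d_comp_d b c (c + 1)) (h₁ r))
  have hz : singleHom J c kbar hk = 0 := (h I).elim _ _
  obtain ⟨k, hk'⟩ := (singleHom_eq_zero_iff_of_isKInjective' J c b hbc kbar hk).mp hz
  let h' : R →ₗ[R] J.X b := h₁ - k.hom ∘ₗ (Submodule.mkQ I)
  have hd : (ModuleCat.ofHom h' : ModuleCat.of R R ⟶ J.X b) ≫ J.d b c = 0 := by
    refine ModuleCat.hom_ext (LinearMap.ext fun r => ?_)
    change (J.d b c).hom (h₁ r - k.hom (Submodule.Quotient.mk r)) = 0
    rw [map_sub]
    have : (J.d b c).hom (k.hom (Submodule.Quotient.mk r)) = kbar.hom (Submodule.Quotient.mk r) :=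
      congr($hk' (Submodule.Quotient.mk r))
    rw [this]
    change (J.d b c).hom (h₁ r) - dh r = 0
    exact sub_self _
  let g' : ModuleCat.of R R ⟶ J.cycles b :=
    J.liftCycles (ModuleCat.ofHom h') c (by simp [← hbc]) hd
  refine ⟨g'.hom, fun x hx => ?_⟩
  have hmono : Function.Injective (J.iCycles b).hom :=
    (ModuleCat.mono_iff_injective (J.iCycles b)).mp inferInstance
  apply hmono
  have h1 : (J.iCycles b).hom (g'.hom x) = h' x := congr($(J.liftCycles_i _ c _ hd) x)
  rw [h1]
  change h₁ x - k.hom (Submodule.Quotient.mk x) = _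
  rw [(Submodule.Quotient.mk_eq_zero I).mpr hx, map_zero, sub_zero, hh₁ x hx]
  rfl

/-- Bounded below objects of `D(R)` are represented by bounded below complexes of injectives. -/
theorem exists_injective_rep (K : Dual.D R) (a : ℤ) (hK : K.IsGE a) :
    ∃ J : DRing.Cx R, J.IsStrictlyGE a ∧ (∀ n : ℤ, Module.Injective R (J.X n)) ∧
      Nonempty (Q.obj J ≅ K) := by
  obtain ⟨L, hL, ⟨e⟩⟩ := K.exists_iso_Q_obj_of_isGE a
  obtain ⟨J, i, hi, hJ, hGE⟩ :=
    CochainComplex.Plus.modelCategoryQuillen.exists_quasiIso_injective L a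
  exact ⟨J, hGE, fun n => (injective_iff_injective_object' R (J.X n)).mpr (hJ n),
    ⟨(asIso (Q.map i)).symm ≪≫ e.symm⟩⟩

/-- If `Hom(P[0], K[n]) = 0` for a projective module `P`, then `Hom(P, Hⁿ(K)) = 0`. -/
theorem hom_homology_eq_zero_of_subsingleton (K : Dual.D R) (n : ℤ) (P : ModuleCat.{u} R)
    [Module.Projective R P]
    (h : Subsingleton ((DerivedCategory.singleFunctor (ModuleCat.{u} R) 0).obj P ⟶ K⟦n⟧))
    (ψ : P ⟶ (DerivedCategory.homologyFunctor (ModuleCat.{u} R) n).obj K) : ψ = 0 := by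
  have : Projective P := (IsProjective.iff_projective (R := R) (P := P)).mp inferInstance
  let E := Q.objPreimage K
  let e : Q.obj E ≅ K := Q.objObjPreimageIso K
  let i1 := (DerivedCategory.homologyFunctor (ModuleCat.{u} R) n).mapIso e.symm ≪≫
    (DerivedCategory.homologyFunctorFactors (ModuleCat.{u} R) n).app E
  obtain ⟨g, hg, hgψ⟩ := homologyClass_surjective E n (ψ ≫ i1.hom)
  have hz : singleHom E n g hg = 0 := by
    have h0 := h.elim (singleHom E n g hg ≫ (shiftFunctor (Dual.D R) n).map e.hom) 0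
    have : IsIso ((shiftFunctor (Dual.D R) n).map e.hom) := inferInstance
    exact (cancel_mono ((shiftFunctor (Dual.D R) n).map e.hom)).mp (h0.trans zero_comp.symm)
  have h2 := (singleHom_eq_zero_iff E n g hg).mp hz
  rw [← homologyClass_eq_zero_iff E n g hg, hgψ] at h2
  exact (cancel_mono i1.hom).mp (h2.trans zero_comp.symm)

/-- `Ext^i(N, J) = 0` outside `[a, b]` for a complex of injectives in degrees `[a, b]`. -/
theorem subsingleton_hom_shift_of_injective_amplitude (J : DRing.Cx R) (a b : ℤ)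
    (hJ : DRing.VanishesOutside J a b) (hinj : ∀ i : ℤ, Module.Injective R (J.X i))
    (N : ModuleCat.{u} R) (i : ℤ) (hi : i < a ∨ b < i) :
    Subsingleton ((DerivedCategory.singleFunctor (ModuleCat.{u} R) 0).obj N ⟶ (Q.obj J)⟦i⟧) := by
  have : J.IsKInjective := isKInjective_of_vanishesBelow R J a (fun j hj => hJ j (Or.inl hj)) hinj
  have key : ∀ φ : (DerivedCategory.singleFunctor (ModuleCat.{u} R) 0).obj N ⟶ (Q.obj J)⟦i⟧,
      φ = 0 := by
    intro φ
    obtain ⟨g, hg, rfl⟩ := singleHom_surjective_of_isKInjective J i φ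
    exact (singleHom_eq_zero_iff_of_isKInjective J i g hg).mpr
      ⟨0, (hJ i hi).eq_of_tgt _ _⟩
  exact ⟨fun x y => by rw [key x, key y]⟩

/-- If `Hom((R/⊥)[0], K[n]) = 0` then `Hⁿ(K) = 0`. -/
theorem isZero_homology_of_subsingleton_hom_quotient_bot (K : Dual.D R) (n : ℤ)
    (h : Subsingleton ((DerivedCategory.singleFunctor (ModuleCat.{u} R) 0).obj
      (ModuleCat.of R (R ⧸ (⊥ : Ideal R))) ⟶ K⟦n⟧)) :
    IsZero ((DerivedCategory.homologyFunctor (ModuleCat.{u} R) n).obj K) := by
  let eR : (R ⧸ (⊥ : Ideal R)) ≃ₗ[R] R := Submodule.quotEquivOfEqBot ⊥ rfl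
  have : Module.Projective R (ModuleCat.of R (R ⧸ (⊥ : Ideal R))) :=
    Module.Projective.of_equiv eR.symm
  have hsub : Subsingleton ((DerivedCategory.homologyFunctor (ModuleCat.{u} R) n).obj K) := by
    refine ⟨fun x y => ?_⟩
    have key : ∀ m : (DerivedCategory.homologyFunctor (ModuleCat.{u} R) n).obj K, m = 0 := by
      intro m
      let ψ : ModuleCat.of R (R ⧸ (⊥ : Ideal R)) ⟶
          (DerivedCategory.homologyFunctor (ModuleCat.{u} R) n).obj K :=
        ModuleCat.ofHom ((LinearMap.toSpanSingleton R _ m) ∘ₗ eR.toLinearMap)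
      have hψ := hom_homology_eq_zero_of_subsingleton K n _ h ψ
      have h1 : ψ.hom (eR.symm 1) = m := by
        change (LinearMap.toSpanSingleton R _ m) (eR (eR.symm 1)) = m
        rw [LinearEquiv.apply_symm_apply, LinearMap.toSpanSingleton_apply, one_smul]
      rw [← h1, hψ]
      rfl
    rw [key x, key y]
  exact ModuleCat.isZero_of_subsingleton _

/-- If `Ext^i(R/I, K) = 0` for all ideals `I` and all `i ∉ [a, b]`, then `K` has injective
amplitude in `[a, b]`. -/
theorem hasInjAmplitudeIn_of_ext_vanishing (K : Dual.D R) (a b : ℤ)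
    (h : ∀ (I : Ideal R) (i : ℤ), (i < a ∨ b < i) →
      Subsingleton ((DerivedCategory.singleFunctor (ModuleCat.{u} R) 0).obj
        (ModuleCat.of R (R ⧸ I)) ⟶ K⟦i⟧)) :
    DRing.HasInjAmplitudeIn R a b K := by
  have hvan : ∀ i : ℤ, (i < a ∨ b < i) →
      IsZero ((DerivedCategory.homologyFunctor (ModuleCat.{u} R) i).obj K) :=
    fun i hi => isZero_homology_of_subsingleton_hom_quotient_bot K i (h ⊥ i hi)
  have hGE : K.IsGE a := by
    rw [isGE_iff]
    exact fun i hi => hvan i (Or.inl hi)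
  obtain ⟨J, hJa, hJ, ⟨e⟩⟩ := exists_injective_rep K a hGE
  have : J.IsKInjective :=
    isKInjective_of_vanishesBelow R J a (fun i hi => J.isZero_of_isStrictlyGE a i hi) hJ
  have hcyc : Module.Injective R (J.cycles b) := by
    refine injective_cycles_of_ext_vanishing J b (b + 1) rfl (hJ b) (fun I => ?_)
    have := h I (b + 1) (Or.inr (by omega))
    refine ⟨fun x y => ?_⟩
    have h0 := this.elim (x ≫ (shiftFunctor (Dual.D R) (b + 1)).map e.hom)
      (y ≫ (shiftFunctor (Dual.D R) (b + 1)).map e.hom)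
    exact (cancel_mono ((shiftFunctor (Dual.D R) (b + 1)).map e.hom)).mp h0
  have hLE : J.IsLE b := by
    rw [CochainComplex.isLE_iff]
    intro i hi
    rw [exactAt_iff_isZero_homology]
    exact IsZero.of_iso (hvan i (Or.inr hi))
      (((DerivedCategory.homologyFunctor (ModuleCat.{u} R) i).mapIso e.symm ≪≫
        (DerivedCategory.homologyFunctorFactors (ModuleCat.{u} R) i).app J).symm)
  have hqi : QuasiIso (J.ιTruncLE b) := (J.quasiIso_ιTruncLE_iff b).mpr hLE
  refine ⟨J.truncLE b, ?_, ?_, ⟨asIso (Q.map (J.ιTruncLE b)) ≪≫ e⟩⟩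
  · intro i hi
    by_cases h1 : b < i
    · exact (J.truncLE b).isZero_of_isStrictlyLE b i h1
    · have hia : i < a := by omega
      by_cases h2 : i = b
      · subst h2
        refine IsZero.of_iso ?_ (J.truncLEXIsoCycles i)
        rw [IsZero.iff_id_eq_zero, ← cancel_mono (J.iCycles i)]
        exact (J.isZero_of_isStrictlyGE a i hia).eq_of_tgt _ _
      · exact IsZero.of_iso (J.isZero_of_isStrictlyGE a i hia) (J.truncLEXIso b i (by omega))
  · intro i
    by_cases h1 : b < i
    · exact (injective_iff_injective_object' R _).mpr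
        ((J.truncLE b).isZero_of_isStrictlyLE b i h1).injective
    · by_cases h2 : i = b
      · subst h2
        exact injective_of_iso' R (J.truncLEXIsoCycles i).symm hcyc
      · exact injective_of_iso' R (J.truncLEXIso b i (by omega)).symm (hJ i)

end Groth.Agent.H35
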