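import Mathlib
import Groth.Agent.H45.KFlat.Acyclic

/-!
# K-flat complexes of modules over a ring: the total tensor product and short exact sequences
(helper35; port to `ModuleCat R` of helper45's ringed-site library `Groth/Agent/H45/KFlat`)
-/

open CategoryTheory Limits MonoidalCategory

set_option linter.style.haveILetI false

namespace Groth.Agent.H35.KF

universe u

section FunctorCategory

universe v₁ v₂ u₁ u₂

variable {K : Type u₁} [Category.{v₁} K] {𝒞 : Type u₂} [Category.{v₂} 𝒞] [Abelian 𝒞]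

/-- Exactness in a functor category can be checked pointwise. -/
lemma exact_of_evaluation (S : ShortComplex (K ⥤ 𝒞))
    (h : ∀ j, (S.map ((evaluation K 𝒞).obj j)).Exact) : S.Exact := by
  rw [ShortComplex.exact_iff_isZero_homology, Functor.isZero_iff]
  intro j
  have := h j
  rw [ShortComplex.exact_iff_isZero_homology] at this
  exact this.of_iso (S.mapHomologyIso ((evaluation K 𝒞).obj j)).symm

end FunctorCategory

variable {R : Type u} [CommRing R]

/-- A complex of `R`-modules is K-flat if tensoring with it (on the right) preserves acyclicity. -/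
def IsKFlat (K : CochainComplex (ModuleCat.{u} R) ℤ) : Prop :=
  ∀ L : CochainComplex (ModuleCat.{u} R) ℤ, (∀ i : ℤ, IsZero (L.homology i)) →
    ∀ i : ℤ, IsZero ((L ⊗ K).homology i)

section Tensor

open HomologicalComplex

instance hasExactColimitsOfShape_discrete_mod (ι : Type) :
    HasExactColimitsOfShape (Discrete ι) (ModuleCat.{u} R) := by
  haveI : HasCoproducts.{0} (ModuleCat.{u} R) := fun I => inferInstance
  haveI : AB4OfSize.{0} (ModuleCat.{u} R) := AB4OfSize_shrink.{0, u} (ModuleCat.{u} R)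
  exact AB4OfSize.ofShape ι

instance preservesZeroMorphisms_tensorLeft (F : CochainComplex (ModuleCat.{u} R) ℤ) :
    (tensorLeft F).PreservesZeroMorphisms where
  map_zero K K' := by
    ext n : 1
    apply mapBifunctor.hom_ext
    intro i₁ i₂ h
    refine (ι_mapBifunctorMap (𝟙 F) (0 : K ⟶ K') (curriedTensor (ModuleCat.{u} R))
      (ComplexShape.up ℤ) i₁ i₂ n h).trans ?_
    simp only [HomologicalComplex.zero_f, Functor.map_zero, zero_comp, comp_zero]

/-- `Tot(F ⊗ -)` sends a short exact sequence of complexes to a short exact sequence provided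
each `F^p ⊗ -` keeps the sequence of terms in degree `q` short exact. -/
theorem shortExact_map_tensorLeft (F : CochainComplex (ModuleCat.{u} R) ℤ)
    (S : ShortComplex (CochainComplex (ModuleCat.{u} R) ℤ))
    (h : ∀ p q : ℤ, ((S.map (eval _ _ q)).map
      ((curriedTensor (ModuleCat.{u} R)).obj (F.X p))).ShortExact) :
    (S.map (tensorLeft F)).ShortExact := by
  apply shortExact_of_degreewise_shortExact
  intro n
  let B := curriedTensor (ModuleCat.{u} R)
  let π := ComplexShape.π (ComplexShape.up ℤ) (ComplexShape.up ℤ) (ComplexShape.up ℤ)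
  let ι := π ⁻¹' {n}
  let X : CochainComplex (ModuleCat.{u} R) ℤ → GradedObject (ℤ × ℤ) (ModuleCat.{u} R) := fun K =>
    (((B.mapBifunctorHomologicalComplex _ _).obj F).obj K).toGradedObject
  let G : CochainComplex (ModuleCat.{u} R) ℤ → (Discrete ι ⥤ ModuleCat.{u} R) := fun K =>
    Discrete.functor ((X K).mapObjFun π n)
  let Gm : ∀ {K K' : CochainComplex (ModuleCat.{u} R) ℤ} (φ : K ⟶ K'), G K ⟶ G K' := fun φ =>
    Discrete.natTrans (fun i => (B.obj (F.X i.as.1.1)).map (φ.f i.as.1.2))
  let S' : ShortComplex (Discrete ι ⥤ ModuleCat.{u} R) := ShortComplex.mk (Gm S.f) (Gm S.g) (by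
    ext ⟨i⟩ : 2
    change (B.obj (F.X i.1.1)).map (S.f.f i.1.2) ≫
      (B.obj (F.X i.1.1)).map (S.g.f i.1.2) = 0
    rw [← Functor.map_comp, ← HomologicalComplex.comp_f, S.zero]
    simp)
  have hS' : S'.Exact := exact_of_evaluation S' (fun ⟨i⟩ => (h i.1.1 i.1.2).exact)
  let c : ∀ K : CochainComplex (ModuleCat.{u} R) ℤ, Cocone (G K) := fun K => (X K).cofanMapObj π n
  have hc : ∀ K, IsColimit (c K) := fun K => (X K).isColimitCofanMapObj π n
  let T : CochainComplex (ModuleCat.{u} R) ℤ ⥤ CochainComplex (ModuleCat.{u} R) ℤ := tensorLeft F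
  have hcomm : ∀ {K K' : CochainComplex (ModuleCat.{u} R) ℤ} (φ : K ⟶ K') (j : Discrete ι),
      (c K).ι.app j ≫ (T.map φ).f n = (Gm φ).app j ≫ (c K').ι.app j := by
    rintro K K' φ ⟨⟨⟨i₁, i₂⟩, hi⟩⟩
    refine (ι_mapBifunctorMap (𝟙 F) φ B (ComplexShape.up ℤ)
      i₁ i₂ n hi).trans ?_
    have e1 : (B.map (𝟙 (F.X i₁))).app (K.X i₂) = 𝟙 _ := by
      rw [B.map_id]; rfl
    rw [HomologicalComplex.id_f, e1, Category.id_comp]
    rfl
  have hmono : Mono (Gm S.f) := by
    have : ∀ j, Mono ((Gm S.f).app j) := fun ⟨i⟩ => (h i.1.1 i.1.2).mono_f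
    exact NatTrans.mono_of_mono_app _
  have hepi : ∀ j, Epi ((Gm S.g).app j) := fun ⟨i⟩ => (h i.1.1 i.1.2).epi_g
  exact
    { exact := colim.exact_mapShortComplex hS' (hc S.X₁) (hc S.X₂) (hc S.X₃)
        ((T.map S.f).f n) ((T.map S.g).f n) (hcomm S.f) (hcomm S.g)
      mono_f := colim.map_mono' (Gm S.f) (hc S.X₁) (hc S.X₂) ((T.map S.f).f n) (hcomm S.f)
      epi_g := colim.map_epi' (Gm S.g) (c S.X₂) (hc S.X₃) ((T.map S.g).f n) (hcomm S.g) }

end Tensor

end Groth.Agent.H35.KF
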