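import Mathlib
import Groth.Agent.H35.KFTotalExact

/-!
# Colimits of K-flat complexes of modules (helper35; port of helper45's `KFlat/Colimit`)
-/

open CategoryTheory Limits MonoidalCategory

set_option linter.style.haveILetI false

namespace Groth.Agent.H35.KF

universe u

section General

variable {A : Type*} [Category A] [Abelian A] {J : Type*} [Category J]
  [HasColimitsOfShape J A] [HasExactColimitsOfShape J A] {ι : Type*} {c : ComplexShape ι}

open HomologicalComplex

/-- If colimits of shape `J` are exact, a colimit of shape `J` of complexes which are exact in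
degree `i` is exact in degree `i`. -/
theorem exactAt_of_isColimit (D : J ⥤ HomologicalComplex A c) (cc : Cocone D) (hcc : IsColimit cc)
    (i : ι) (h : ∀ j, (D.obj j).ExactAt i) : cc.pt.ExactAt i := by
  let S : ShortComplex (J ⥤ A) :=
    ShortComplex.mk (Functor.whiskerLeft D (dNatTrans A c (c.prev i) i))
      (Functor.whiskerLeft D (dNatTrans A c i (c.next i))) (by
        ext j
        exact (D.obj j).d_comp_d _ _ _)
  have hS : S.Exact := exact_of_evaluation S (fun j => h j)
  exact colim.exact_mapShortComplex hS (isColimitOfPreserves (eval A c (c.prev i)) hcc)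
    (isColimitOfPreserves (eval A c i) hcc) (isColimitOfPreserves (eval A c (c.next i)) hcc)
    (cc.pt.d (c.prev i) i) (cc.pt.d i (c.next i))
    (fun j => ((cc.ι.app j).comm (c.prev i) i))
    (fun j => ((cc.ι.app j).comm i (c.next i)))

end General

section Tensor

variable {R : Type u} [CommRing R]

open HomologicalComplex

variable (F : CochainComplex (ModuleCat.{u} R) ℤ) (n : ℤ)

/-- The index type of the summands of the total complex in degree `n`. -/
abbrev TotIdx (n : ℤ) : Type :=
  (ComplexShape.π (ComplexShape.up ℤ) (ComplexShape.up ℤ) (ComplexShape.up ℤ)) ⁻¹' {n}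

/-- The graded object underlying the double complex `F^p ⊗ K^q`. -/
noncomputable abbrev totGraded (K : CochainComplex (ModuleCat.{u} R) ℤ) :
    GradedObject (ℤ × ℤ) (ModuleCat.{u} R) :=
  ((((curriedTensor (ModuleCat.{u} R)).mapBifunctorHomologicalComplex _ _).obj F).obj
    K).toGradedObject

/-- The functor sending a complex `K` to the family of summands `F^p ⊗ K^q`, `p + q = n`. -/
noncomputable def totSummands :
    CochainComplex (ModuleCat.{u} R) ℤ ⥤ (Discrete (TotIdx n) ⥤ ModuleCat.{u} R) where
  obj K := Discrete.functor ((totGraded F K).mapObjFun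
    (ComplexShape.π (ComplexShape.up ℤ) (ComplexShape.up ℤ) (ComplexShape.up ℤ)) n)
  map {K K'} φ := Discrete.natTrans
    (fun i => ((curriedTensor (ModuleCat.{u} R)).obj (F.X i.as.1.1)).map (φ.f i.as.1.2))
  map_id K := by
    apply NatTrans.ext
    funext ⟨i⟩
    change ((curriedTensor (ModuleCat.{u} R)).obj (F.X i.1.1)).map ((𝟙 K : K ⟶ K).f i.1.2) = 𝟙 _
    rw [HomologicalComplex.id_f]
    exact CategoryTheory.Functor.map_id _ _
  map_comp {K K' K''} φ ψ := by
    apply NatTrans.ext
    funext ⟨i⟩
    change ((curriedTensor (ModuleCat.{u} R)).obj (F.X i.1.1)).map ((φ ≫ ψ).f i.1.2) =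
      ((curriedTensor (ModuleCat.{u} R)).obj (F.X i.1.1)).map (φ.f i.1.2) ≫
        ((curriedTensor (ModuleCat.{u} R)).obj (F.X i.1.1)).map (ψ.f i.1.2)
    rw [HomologicalComplex.comp_f]
    exact CategoryTheory.Functor.map_comp _ _ _

/-- The evaluation of `totSummands` at an index. -/
noncomputable def totSummandsEvaluationIso (i : TotIdx n) :
    totSummands F n ⋙ (evaluation _ _).obj ⟨i⟩ ≅
      eval _ _ i.1.2 ⋙ (curriedTensor (ModuleCat.{u} R)).obj (F.X i.1.1) :=
  NatIso.ofComponents (fun K => Iso.refl _) (fun {K K'} φ => by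
    change ((curriedTensor (ModuleCat.{u} R)).obj (F.X i.1.1)).map (φ.f i.1.2) ≫ 𝟙 _ =
      𝟙 _ ≫ ((curriedTensor (ModuleCat.{u} R)).obj (F.X i.1.1)).map (φ.f i.1.2)
    rw [Category.comp_id, Category.id_comp])

/-- The colimit cocone exhibiting `Tot(F ⊗ K)^n` as the coproduct of its summands. -/
noncomputable abbrev totCocone (K : CochainComplex (ModuleCat.{u} R) ℤ) :
    Cocone ((totSummands F n).obj K) :=
  (totGraded F K).cofanMapObj
    (ComplexShape.π (ComplexShape.up ℤ) (ComplexShape.up ℤ) (ComplexShape.up ℤ)) n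

/-- `totCocone` is a colimit cocone. -/
noncomputable def isColimitTotCocone (K : CochainComplex (ModuleCat.{u} R) ℤ) :
    IsColimit (totCocone F n K) :=
  (totGraded F K).isColimitCofanMapObj
    (ComplexShape.π (ComplexShape.up ℤ) (ComplexShape.up ℤ) (ComplexShape.up ℤ)) n

lemma totCocone_ι_naturality {K K' : CochainComplex (ModuleCat.{u} R) ℤ} (φ : K ⟶ K')
    (j : Discrete (TotIdx n)) :
    (totCocone F n K).ι.app j ≫ ((tensorLeft F).map φ).f n =
      ((totSummands F n).map φ).app j ≫ (totCocone F n K').ι.app j := by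
  obtain ⟨⟨⟨i₁, i₂⟩, hi⟩⟩ := j
  refine (ι_mapBifunctorMap (𝟙 F) φ (curriedTensor (ModuleCat.{u} R)) (ComplexShape.up ℤ)
    i₁ i₂ n hi).trans ?_
  have e1 : ((curriedTensor (ModuleCat.{u} R)).map (𝟙 (F.X i₁))).app (K.X i₂) = 𝟙 _ := by
    rw [(curriedTensor (ModuleCat.{u} R)).map_id]; rfl
  rw [HomologicalComplex.id_f, e1, Category.id_comp]
  rfl

/-- The degree `n` part of `Tot(F ⊗ -)` is the coproduct of the summands. -/
noncomputable def totEvalIso :
    tensorLeft F ⋙ eval _ _ n ≅ totSummands F n ⋙ colim :=
  NatIso.ofComponents (fun K => (isColimitTotCocone F n K).coconePointUniqueUpToIso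
    (colimit.isColimit _)) (fun {K K'} φ => by
      apply (isColimitTotCocone F n K).hom_ext
      intro j
      have h1 := totCocone_ι_naturality F n φ j
      have h2 := IsColimit.comp_coconePointUniqueUpToIso_hom (isColimitTotCocone F n K')
        (colimit.isColimit _) j
      have h3 := IsColimit.comp_coconePointUniqueUpToIso_hom (isColimitTotCocone F n K)
        (colimit.isColimit _) j
      change (totCocone F n K).ι.app j ≫ ((tensorLeft F).map φ).f n ≫
        ((isColimitTotCocone F n K').coconePointUniqueUpToIso (colimit.isColimit _)).hom =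
        (totCocone F n K).ι.app j ≫
          ((isColimitTotCocone F n K).coconePointUniqueUpToIso (colimit.isColimit _)).hom ≫
            colimMap ((totSummands F n).map φ)
      refine (Category.assoc _ _ _).symm.trans ((h1 =≫ _).trans ((Category.assoc _ _ _).trans
        ((_ ≫= h2).trans ?_)))
      refine Eq.trans ?_ ((Category.assoc _ _ _).symm.trans (h3 =≫ _)).symm
      exact (ι_colimMap _ _).symm)

/-- `Tot(F ⊗ -)` preserves colimits. -/
instance preservesColimitsOfShape_tensorLeft (K : Type*) [Category K]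
    [HasColimitsOfShape K (ModuleCat.{u} R)]
    [∀ X : ModuleCat.{u} R, PreservesColimitsOfShape K ((curriedTensor (ModuleCat.{u} R)).obj X)] :
    PreservesColimitsOfShape K (tensorLeft F) := by
  apply preservesColimitsOfShape_of_eval
  intro n
  have : PreservesColimitsOfShape K (totSummands F n) := by
    apply preservesColimitsOfShape_of_evaluation
    rintro ⟨i⟩
    exact preservesColimitsOfShape_of_natIso (totSummandsEvaluationIso F n i).symm
  exact preservesColimitsOfShape_of_natIso (totEvalIso F n).symm

/-- A colimit (of a shape for which colimits are exact) of K-flat complexes is K-flat. -/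
theorem isKFlat_of_isColimit {K : Type*} [Category K] [HasColimitsOfShape K (ModuleCat.{u} R)]
    [HasExactColimitsOfShape K (ModuleCat.{u} R)]
    [∀ X : ModuleCat.{u} R, PreservesColimitsOfShape K ((curriedTensor (ModuleCat.{u} R)).obj X)]
    (D : K ⥤ CochainComplex (ModuleCat.{u} R) ℤ) (cc : Cocone D) (hcc : IsColimit cc)
    (hD : ∀ k, IsKFlat (D.obj k)) : IsKFlat cc.pt := by
  intro F hF i
  rw [← exactAt_iff_isZero_homology]
  exact exactAt_of_isColimit (D ⋙ tensorLeft F) _
    (isColimitOfPreserves (tensorLeft F) hcc) i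
    (fun k => (exactAt_iff_isZero_homology _ _).2 (hD k F hF i))

instance hasExactColimitsOfShape_nat_mod : HasExactColimitsOfShape ℕ (ModuleCat.{u} R) := by
  haveI : HasFilteredColimitsOfSize.{0, 0} (ModuleCat.{u} R) := ⟨fun I _ _ => inferInstance⟩
  haveI : AB5OfSize.{0, 0} (ModuleCat.{u} R) := AB5OfSize_shrink.{0, 0, u, u} (ModuleCat.{u} R)
  exact AB5OfSize.ofShape ℕ

/-- The colimit of a sequence of K-flat complexes is K-flat. -/
theorem isKFlat_of_isColimit_nat (D : ℕ ⥤ CochainComplex (ModuleCat.{u} R) ℤ) (cc : Cocone D)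
    (hcc : IsColimit cc) (hD : ∀ k, IsKFlat (D.obj k)) : IsKFlat cc.pt :=
  isKFlat_of_isColimit D cc hcc hD

/-- A filtered colimit of K-flat complexes is K-flat. -/
theorem isKFlat_of_isColimit_filtered {J : Type u} [SmallCategory J] [IsFiltered J]
    (D : J ⥤ CochainComplex (ModuleCat.{u} R) ℤ) (cc : Cocone D)
    (hcc : IsColimit cc) (hD : ∀ k, IsKFlat (D.obj k)) : IsKFlat cc.pt := by
  haveI : HasExactColimitsOfShape J (ModuleCat.{u} R) := AB5OfSize.ofShape J
  exact isKFlat_of_isColimit D cc hcc hD

end Tensor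

end Groth.Agent.H35.KF
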