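import Mathlib
import Groth.Agent.H35.KFTotalExact

/-!
# Two out of three for K-flat complexes of modules in short exact sequences (helper35)
-/

open CategoryTheory Limits MonoidalCategory

namespace Groth.Agent.H35.KF

universe u

variable {R : Type u} [CommRing R]

section Linear

open TensorProduct LinearMap

/-- For a short exact sequence `0 → A → B → C → 0` with `C` flat, `M ⊗ A → M ⊗ B` is injective
for every module `M`. -/
theorem lTensor_injective_of_flat_coker (M : Type u) [AddCommGroup M] [Module R M]
    {A B C : Type u} [AddCommGroup A] [Module R A] [AddCommGroup B] [Module R B]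
    [AddCommGroup C] [Module R C] [Module.Flat R C]
    (ι : A →ₗ[R] B) (π : B →ₗ[R] C) (hι : Function.Injective ι) (hex : Function.Exact ι π)
    (hπ : Function.Surjective π) : Function.Injective (LinearMap.lTensor M ι) := by
  let F := M →₀ R
  let p : F →ₗ[R] M := Finsupp.linearCombination R id
  have hp : Function.Surjective p := Finsupp.linearCombination_id_surjective R M
  let K := LinearMap.ker p
  let j : K →ₗ[R] F := K.subtype
  have hj : Function.Injective j := K.injective_subtype
  have hjp : Function.Exact j p := LinearMap.exact_subtype_ker_map p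
  have hFinj : Function.Injective (lTensor F ι) :=
    Module.Flat.lTensor_preserves_injective_linearMap ι hι
  have hCinj : Function.Injective (rTensor C j) :=
    Module.Flat.rTensor_preserves_injective_linearMap j hj
  rw [injective_iff_map_eq_zero]
  intro x hx
  obtain ⟨y, rfl⟩ := rTensor_surjective A hp x
  have h1 : (rTensor B p) ((lTensor F ι) y) = 0 := by
    rw [← hx, ← LinearMap.comp_apply, ← LinearMap.comp_apply, rTensor_comp_lTensor,
      lTensor_comp_rTensor]
  obtain ⟨z, hz⟩ := (rTensor_exact (R := R) (M := K) (N := F) (P := M) B (f := j) (g := p)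
    hjp hp _).1 h1
  have h2 : (rTensor C j) ((lTensor K π) z) = 0 := by
    rw [← LinearMap.comp_apply, rTensor_comp_lTensor, ← lTensor_comp_rTensor,
      LinearMap.comp_apply, hz, ← LinearMap.comp_apply, ← lTensor_comp, hex.linearMap_comp_eq_zero]
    simp
  have h3 : (lTensor K π) z = 0 := hCinj (by rw [h2, map_zero])
  obtain ⟨w, hw⟩ := (lTensor_exact K hex hπ _).1 h3
  have h4 : (rTensor A j) w = y := hFinj (by
    rw [← LinearMap.comp_apply, lTensor_comp_rTensor, ← rTensor_comp_lTensor,
      LinearMap.comp_apply, hw, hz])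
  rw [← h4, ← LinearMap.comp_apply, ← rTensor_comp, hjp.linearMap_comp_eq_zero]
  simp

end Linear

/-- Tensoring (on the left, with any module) a short exact sequence with flat third term gives a
short exact sequence. -/
theorem shortExact_map_tensorLeft_obj_of_flat (S : ShortComplex (ModuleCat.{u} R))
    (hS : S.ShortExact) (h3 : Module.Flat R S.X₃) (M : ModuleCat.{u} R) :
    (S.map (tensorLeft M)).ShortExact := by
  have hpres : PreservesFiniteColimits (tensorLeft M) := inferInstance
  have hall : ∀ (S : ShortComplex (ModuleCat.{u} R)), S.ShortExact →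
      (S.map (tensorLeft M)).Exact ∧ Epi ((tensorLeft M).map S.g) :=
    ((Functor.preservesFiniteColimits_tfae (tensorLeft M)).out 3 0 rfl rfl).1 hpres
  have hex : (S.map (tensorLeft M)).Exact ∧ Epi ((tensorLeft M).map S.g) := hall S hS
  have hmono : Mono ((tensorLeft M).map S.f) := by
    rw [ModuleCat.mono_iff_injective]
    exact lTensor_injective_of_flat_coker M S.f.hom S.g.hom
      ((ModuleCat.mono_iff_injective _).1 hS.mono_f)
      ((ShortComplex.ShortExact.moduleCat_exact_iff_function_exact _).1 hS.exact)
      ((ModuleCat.epi_iff_surjective _).1 hS.epi_g)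
  exact { exact := hex.1, mono_f := hmono, epi_g := hex.2 }

open HomologicalComplex

/-- Two out of three for K-flatness, given that `Tot(F ⊗ -)` keeps the sequence short exact for
every `F`. -/
theorem isKFlat_two_of_three (S : ShortComplex (CochainComplex (ModuleCat.{u} R) ℤ))
    (hS : ∀ F : CochainComplex (ModuleCat.{u} R) ℤ, (S.map (tensorLeft F)).ShortExact) :
    (IsKFlat S.X₁ → IsKFlat S.X₂ → IsKFlat S.X₃) ∧
    (IsKFlat S.X₁ → IsKFlat S.X₃ → IsKFlat S.X₂) ∧
    (IsKFlat S.X₂ → IsKFlat S.X₃ → IsKFlat S.X₁) := by
  refine ⟨fun h₁ h₂ F hF => ?_, fun h₁ h₃ F hF => ?_, fun h₂ h₃ F hF => ?_⟩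
  · exact Groth.Agent.H45.acyclic_X₃_of_shortExact _ (hS F) (h₁ F hF) (h₂ F hF)
  · exact Groth.Agent.H45.acyclic_X₂_of_shortExact _ (hS F) (h₁ F hF) (h₃ F hF)
  · exact Groth.Agent.H45.acyclic_X₁_of_shortExact _ (hS F) (h₂ F hF) (h₃ F hF)

/-- A short exact sequence of complexes whose third complex has flat terms stays short exact after
applying `Tot(F ⊗ -)`. -/
theorem shortExact_map_tensorLeft_of_flat (S : ShortComplex (CochainComplex (ModuleCat.{u} R) ℤ))
    (hS : S.ShortExact) (h3 : ∀ n : ℤ, Module.Flat R (S.X₃.X n))
    (F : CochainComplex (ModuleCat.{u} R) ℤ) :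
    (S.map (tensorLeft F)).ShortExact := by
  apply shortExact_map_tensorLeft
  intro p q
  have hSq : (S.map (eval _ _ q)).ShortExact := hS.map_of_exact _
  exact shortExact_map_tensorLeft_obj_of_flat _ hSq (h3 q) (F.X p)

end Groth.Agent.H35.KF
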