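import Mathlib
import Groth.Agent.H35.KFTwoOfThree

/-!
# K-flat complexes of modules: shifts and mapping cones (helper35; port of helper45's `KFlat/Cone`)
-/

open CategoryTheory Limits MonoidalCategory

namespace Groth.Agent.H35.KF

universe u

section Shift

universe v' u'

variable {𝒞 : Type u'} [Category.{v'} 𝒞] [Abelian 𝒞]

lemma acyclic_shift_iff (K : CochainComplex 𝒞 ℤ) (n : ℤ) :
    (∀ i, IsZero ((K⟦n⟧).homology i)) ↔ ∀ i, IsZero (K.homology i) := by
  constructor
  · intro h i
    exact (h (i - n)).of_iso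
      ((CochainComplex.ShiftSequence.shiftIso 𝒞 n (i - n) i (by lia)).app K).symm
  · intro h i
    exact (h (n + i)).of_iso
      ((CochainComplex.ShiftSequence.shiftIso 𝒞 n i (n + i) rfl).app K)

end Shift

variable {R : Type u} [CommRing R]

open HomologicalComplex

lemma isKFlat_shift_iff (K : CochainComplex (ModuleCat.{u} R) ℤ) (n : ℤ) :
    IsKFlat (K⟦n⟧) ↔ IsKFlat K := by
  have key : ∀ F : CochainComplex (ModuleCat.{u} R) ℤ,
      (∀ i, IsZero ((F ⊗ (K⟦n⟧)).homology i)) ↔
        ∀ i, IsZero ((F ⊗ K).homology i) := by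
    intro F
    rw [← acyclic_shift_iff (F ⊗ K) n]
    have e : F ⊗ (K⟦n⟧) ≅ (F ⊗ K)⟦n⟧ :=
      CochainComplex.mapBifunctorShift₂Iso F K (curriedTensor (ModuleCat.{u} R)) n
    constructor
    · intro h i
      exact (h i).of_iso ((HomologicalComplex.homologyFunctor _ _ i).mapIso e.symm)
    · intro h i
      exact (h i).of_iso ((HomologicalComplex.homologyFunctor _ _ i).mapIso e)
  constructor
  · intro h F hF
    exact (key F).1 (h F hF)
  · intro h F hF
    exact (key F).2 (h F hF)

/-- A degreewise split short exact sequence stays short exact after applying `Tot(F ⊗ -)`. -/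
theorem shortExact_map_tensorLeft_of_splitting
    (S : ShortComplex (CochainComplex (ModuleCat.{u} R) ℤ))
    (σ : ∀ n, (S.map (eval _ _ n)).Splitting)
    (F : CochainComplex (ModuleCat.{u} R) ℤ) :
    (S.map (tensorLeft F)).ShortExact := by
  apply shortExact_map_tensorLeft
  intro p q
  exact ((σ q).map ((curriedTensor (ModuleCat.{u} R)).obj (F.X p))).shortExact

/-- Two out of three for K-flatness along a mapping cone. -/
theorem isKFlat_mappingCone_two_of_three {K₁ K₂ : CochainComplex (ModuleCat.{u} R) ℤ}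
    (φ : K₁ ⟶ K₂) :
    (IsKFlat K₁ → IsKFlat K₂ → IsKFlat (CochainComplex.mappingCone φ)) ∧
    (IsKFlat K₁ → IsKFlat (CochainComplex.mappingCone φ) → IsKFlat K₂) ∧
    (IsKFlat K₂ → IsKFlat (CochainComplex.mappingCone φ) → IsKFlat K₁) := by
  have h := isKFlat_two_of_three (CochainComplex.mappingCone.triangleRotateShortComplex φ)
    (fun F => shortExact_map_tensorLeft_of_splitting _
      (CochainComplex.mappingCone.triangleRotateShortComplexSplitting φ) F)
  have hs : IsKFlat (CochainComplex.mappingCone.triangleRotateShortComplex φ).X₃ ↔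
      IsKFlat K₁ := isKFlat_shift_iff K₁ 1
  refine ⟨fun h₁ h₂ => h.2.1 h₂ (hs.2 h₁), fun h₁ h₃ => h.2.2 h₃ (hs.2 h₁),
    fun h₂ h₃ => hs.1 (h.1 h₂ h₃)⟩

theorem isKFlat_of_iso {K K' : CochainComplex (ModuleCat.{u} R) ℤ} (e : K ≅ K')
    (h : IsKFlat K) : IsKFlat K' := by
  intro F hF i
  exact (h F hF i).of_iso ((HomologicalComplex.homologyFunctor _ _ i).mapIso
    ((tensorLeft F).mapIso e.symm))

end Groth.Agent.H35.KF
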