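import Mathlib
import Groth.Agent.H35.KFBounded
import Groth.Agent.H45.Resolution.System

/-!
# K-flat resolutions of complexes of modules (helper35; port of helper45's `Resolution/KFlatRes`)
-/

open CategoryTheory Limits MonoidalCategory

namespace Groth.Agent.H35.KF

universe u

section General

universe v₁ v₂ v₃ u₁ u₂ u₃

/-- In a functor category whose target has exact colimits of shape `K`, a colimit of shape `K` of
functors preserving finite limits preserves finite limits. -/
theorem preservesFiniteLimits_of_isColimit {A : Type u₁} [Category.{v₁} A]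
    {B : Type u₂} [Category.{v₂} B] {K : Type u₃} [Category.{v₃} K]
    [HasColimitsOfShape K B] [HasExactColimitsOfShape K B]
    (Φ : K ⥤ (A ⥤ B)) (h : ∀ i, PreservesFiniteLimits (Φ.obj i)) (cc : Cocone Φ)
    (hcc : IsColimit cc) : PreservesFiniteLimits cc.pt := by
  have h1 : PreservesFiniteLimits Φ.flip := by
    refine ⟨fun K _ _ => ?_⟩
    apply preservesLimitsOfShape_of_evaluation
    intro i
    have := h i
    exact preservesLimitsOfShape_of_natIso (flipCompEvaluation Φ i).symm
  have h2 : PreservesFiniteLimits (colim : (K ⥤ B) ⥤ B) :=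
    HasExactColimitsOfShape.preservesFiniteLimits
  have h3 : PreservesFiniteLimits (Φ.flip ⋙ colim) := inferInstance
  exact preservesFiniteLimits_of_natIso
    ((colimitIsoFlipCompColim Φ).symm ≪≫ (hcc.coconePointUniqueUpToIso (colimit.isColimit Φ)).symm)

end General

variable {R : Type u} [CommRing R]

/-- A colimit (of a shape with exact colimits) of flat modules is flat. -/
theorem isFlat_of_isColimit {I : Type*} [Category I] [HasColimitsOfShape I (ModuleCat.{u} R)]
    [HasExactColimitsOfShape I (ModuleCat.{u} R)]
    [PreservesColimitsOfShape I (curriedTensor (ModuleCat.{u} R))]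
    (D : I ⥤ ModuleCat.{u} R) (hD : ∀ i, Module.Flat R (D.obj i)) (c : Cocone D)
    (hc : IsColimit c) : Module.Flat R c.pt := by
  rw [Module.Flat.iff_preservesFiniteLimits_tensorLeft]
  exact preservesFiniteLimits_of_isColimit
    (D ⋙ curriedTensor (ModuleCat.{u} R))
    (fun i => (Module.Flat.iff_preservesFiniteLimits_tensorLeft (D.obj i)).1 (hD i))
    ((curriedTensor (ModuleCat.{u} R)).mapCocone c) (isColimitOfPreserves _ hc)

instance preservesColimitsOfShape_curriedTensor (I : Type*) [Category I]
    [HasColimitsOfShape I (ModuleCat.{u} R)]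
    [∀ X : ModuleCat.{u} R, PreservesColimitsOfShape I (tensorRight X)] :
    PreservesColimitsOfShape I (curriedTensor (ModuleCat.{u} R)) := by
  apply preservesColimitsOfShape_of_evaluation
  intro X
  exact inferInstanceAs (PreservesColimitsOfShape I (tensorRight X))

section Prod

open TensorProduct

theorem flat_prod (X Y : Type u) [AddCommGroup X] [Module R X] [AddCommGroup Y] [Module R Y]
    [Module.Flat R X] [Module.Flat R Y] : Module.Flat R (X × Y) := by
  rw [Module.Flat.iff_lTensor_preserves_injective_linearMap]
  intro N N' _ _ _ _ L hL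
  have h1 := Module.Flat.lTensor_preserves_injective_linearMap (M := X) L hL
  have h2 := Module.Flat.lTensor_preserves_injective_linearMap (M := Y) L hL
  have key : (TensorProduct.prodLeft R R X Y N').toLinearMap ∘ₗ (L.lTensor (X × Y)) =
      (LinearMap.prodMap (L.lTensor X) (L.lTensor Y)) ∘ₗ
        (TensorProduct.prodLeft R R X Y N).toLinearMap := by
    ext <;> simp
  have h3 : Function.Injective ((TensorProduct.prodLeft R R X Y N').toLinearMap ∘ₗ
      (L.lTensor (X × Y))) := by
    rw [key]
    exact (Prod.map_injective.2 ⟨h1, h2⟩).comp (TensorProduct.prodLeft R R X Y N).injective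
  rw [LinearMap.coe_comp] at h3
  exact Function.Injective.of_comp h3

end Prod

lemma isFlat_biprod (X Y : ModuleCat.{u} R) (hX : Module.Flat R X) (hY : Module.Flat R Y) :
    Module.Flat R (X ⊞ Y : ModuleCat.{u} R) := by
  have := hX
  have := hY
  exact isFlat_of_iso (ModuleCat.biprodIsoProd X Y).symm (flat_prod (R := R) X Y)

lemma exists_flat_epi (M : ModuleCat.{u} R) :
    ∃ (Q : ModuleCat.{u} R) (q : Q ⟶ M), Module.Flat R Q ∧ Epi q := by
  refine ⟨ModuleCat.of R (M →₀ R), ModuleCat.ofHom (Finsupp.linearCombination R id), ?_, ?_⟩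
  · exact inferInstanceAs (Module.Flat R (M →₀ R))
  · rw [ModuleCat.epi_iff_surjective]
    exact Finsupp.linearCombination_id_surjective R M

variable (R) in
/-- Every complex of modules admits a K-flat resolution with flat terms, by a termwise epimorphic
quasi-isomorphism. -/
theorem exists_isKFlat_resolution (G : CochainComplex (ModuleCat.{u} R) ℤ) :
    ∃ (K : CochainComplex (ModuleCat.{u} R) ℤ) (q : K ⟶ G), IsKFlat K ∧
      (∀ n : ℤ, Module.Flat R (K.X n)) ∧ QuasiIso q ∧ ∀ n : ℤ, Epi (q.f n) := by
  obtain ⟨Kc, π, -, -, h3, h4, -, c, -, hqi, hepi⟩ :=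
    Groth.Agent.H45.exists_resolution_system (P := fun M : ModuleCat.{u} R => Module.Flat R M)
      exists_flat_epi
      (fun Z hZ => isFlat_of_isZero hZ) (fun X Y hX hY => isFlat_biprod X Y hX hY)
      (fun X Y e hX => isFlat_of_iso e hX) G
  refine ⟨colimit Kc, c, ?_, fun i => ?_, hqi, hepi⟩
  · refine isKFlat_of_isColimit_nat Kc (colimit.cocone Kc) (colimit.isColimit Kc) (fun n => ?_)
    have := h3 n
    exact isKFlat_of_isStrictlyLE (Kc.obj n) ((n : ℤ) + 1) (fun i => h4 n i)
  · exact isFlat_of_isColimit (Kc ⋙ HomologicalComplex.eval _ _ i) (fun n => h4 n i)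
      ((HomologicalComplex.eval _ _ i).mapCocone (colimit.cocone Kc))
      (isColimitOfPreserves _ (colimit.isColimit Kc))

end Groth.Agent.H35.KF
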