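import Mathlib

/-!
# Flatness of a quotient from universal injectivity (helper35)

* `flat_quotient_of_forall_injective`: `C` flat, `Z ≤ C` with `Z ⊗ N → C ⊗ N` injective for all
  `N` implies `C ⧸ Z` flat.
* `flat_coker_of_forall_exact`: `A → B → C` with `C` flat and `A ⊗ N → B ⊗ N → C ⊗ N` exact for all
  `N` implies `C ⧸ range (B → C)` flat.
-/

universe u

open TensorProduct LinearMap

namespace Groth.Agent.H35

variable {R : Type u} [CommRing R]

theorem flat_quotient_of_forall_injective {C : Type u} [AddCommGroup C] [Module R C]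
    [Module.Flat R C] (Z : Submodule R C)
    (h : ∀ (N : Type u) [AddCommGroup N] [Module R N],
      Function.Injective (rTensor N Z.subtype)) : Module.Flat R (C ⧸ Z) := by
  rw [Module.Flat.iff_lTensor_preserves_injective_linearMap]
  intro N' N'' _ _ _ _ L hL
  let Q := C ⧸ Z
  let π : C →ₗ[R] Q := Z.mkQ
  let ι : Z →ₗ[R] C := Z.subtype
  have hπ : Function.Surjective π := Z.mkQ_surjective
  have hιπ : Function.Exact ι π := LinearMap.exact_subtype_mkQ Z
  let N := N'' ⧸ LinearMap.range L
  let p : N'' →ₗ[R] N := (LinearMap.range L).mkQ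
  have hp : Function.Surjective p := (LinearMap.range L).mkQ_surjective
  have hLp : Function.Exact L p := LinearMap.exact_map_mkQ_range L
  have hCinj : Function.Injective (lTensor C L) :=
    Module.Flat.lTensor_preserves_injective_linearMap L hL
  rw [injective_iff_map_eq_zero]
  intro x hx
  obtain ⟨y, rfl⟩ := rTensor_surjective N' hπ x
  have h1 : (rTensor N'' π) ((lTensor C L) y) = 0 := by
    rw [← hx, ← LinearMap.comp_apply, ← LinearMap.comp_apply, rTensor_comp_lTensor,
      lTensor_comp_rTensor]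
  obtain ⟨z'', hz''⟩ := (rTensor_exact (R := R) (M := Z) (N := C) (P := Q) N'' (f := ι) (g := π)
    hιπ hπ _).1 h1
  have h2 : (rTensor N ι) ((lTensor Z p) z'') = 0 := by
    rw [← LinearMap.comp_apply, rTensor_comp_lTensor, ← lTensor_comp_rTensor,
      LinearMap.comp_apply, hz'', ← LinearMap.comp_apply, ← lTensor_comp,
      hLp.linearMap_comp_eq_zero]
    simp
  have h3 : (lTensor Z p) z'' = 0 := h N (by rw [h2, map_zero])
  obtain ⟨z', hz'⟩ := (lTensor_exact Z hLp hp _).1 h3
  have h4 : (rTensor N' ι) z' = y := hCinj (by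
    rw [← LinearMap.comp_apply, lTensor_comp_rTensor, ← rTensor_comp_lTensor,
      LinearMap.comp_apply, hz', hz''])
  rw [← h4, ← LinearMap.comp_apply, ← rTensor_comp, hιπ.linearMap_comp_eq_zero]
  simp

theorem flat_coker_of_forall_exact {A B C : Type u} [AddCommGroup A] [Module R A]
    [AddCommGroup B] [Module R B] [AddCommGroup C] [Module R C] [Module.Flat R C]
    (d₁ : A →ₗ[R] B) (d₂ : B →ₗ[R] C) (hd : d₂ ∘ₗ d₁ = 0)
    (h : ∀ (N : Type u) [AddCommGroup N] [Module R N],
      Function.Exact (rTensor N d₁) (rTensor N d₂)) :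
    Module.Flat R (C ⧸ LinearMap.range d₂) := by
  apply flat_quotient_of_forall_injective
  intro N _ _
  let Z := LinearMap.range d₂
  let d₂' : B →ₗ[R] Z := d₂.rangeRestrict
  have hd₂' : Function.Surjective d₂' := d₂.surjective_rangeRestrict
  have hfac : Z.subtype ∘ₗ d₂' = d₂ := LinearMap.subtype_comp_codRestrict _ _ _
  have hzero : d₂' ∘ₗ d₁ = 0 := by
    apply LinearMap.ext
    intro a
    apply Subtype.ext
    change d₂ (d₁ a) = 0
    exact LinearMap.congr_fun hd a
  rw [injective_iff_map_eq_zero]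
  intro x hx
  obtain ⟨y, rfl⟩ := rTensor_surjective N hd₂' x
  have h1 : (rTensor N d₂) y = 0 := by
    rw [← hx, ← LinearMap.comp_apply, ← rTensor_comp, hfac]
  obtain ⟨w, rfl⟩ := (h N _).1 h1
  rw [← LinearMap.comp_apply, ← rTensor_comp, hzero]
  simp

end Groth.Agent.H35
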