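import Mathlib
import Groth.Agent.H35.KFRes
import Groth.Agent.H5.BifunctorSplit

/-!
# Symmetry of the tensor product of complexes of modules and K-flatness; tensoring and
quasi-isomorphisms (helper35; port of helper45's `KFlat/Symmetry` and `Resolution/TensorQuasiIso`)
-/

open CategoryTheory Limits MonoidalCategory

namespace Groth.Agent.H35.KF

universe u

section General

variable {C₁ C₂ D : Type*} [Category C₁] [Category C₂] [Category D]
  [HasZeroMorphisms C₁] [HasZeroMorphisms C₂] [Preadditive D]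
  {I₁ I₂ J : Type*} {c₁ : ComplexShape I₁} {c₂ : ComplexShape I₂}
  {F G : C₁ ⥤ C₂ ⥤ D} [F.PreservesZeroMorphisms] [∀ X, (F.obj X).PreservesZeroMorphisms]
  [G.PreservesZeroMorphisms] [∀ X, (G.obj X).PreservesZeroMorphisms]
  (K₁ : HomologicalComplex C₁ c₁) (K₂ : HomologicalComplex C₂ c₂)

open HomologicalComplex

/-- The morphism of bicomplexes induced by a natural transformation of bifunctors. -/
def bicomplexMapOfNatTrans (τ : F ⟶ G) :
    ((F.mapBifunctorHomologicalComplex c₁ c₂).obj K₁).obj K₂ ⟶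
      ((G.mapBifunctorHomologicalComplex c₁ c₂).obj K₁).obj K₂ :=
  HomologicalComplex₂.homMk (fun ⟨i₁, i₂⟩ => (τ.app (K₁.X i₁)).app (K₂.X i₂))
    (fun i₁ i₁' i₂ _ => by
      dsimp
      exact (NatTrans.naturality_app τ _ _).symm)
    (fun i₁ i₂ i₂' _ => by
      dsimp
      exact ((τ.app _).naturality _).symm)

/-- The isomorphism of bicomplexes induced by a natural isomorphism of bifunctors. -/
def bicomplexIsoOfNatIso (e : F ≅ G) :
    ((F.mapBifunctorHomologicalComplex c₁ c₂).obj K₁).obj K₂ ≅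
      ((G.mapBifunctorHomologicalComplex c₁ c₂).obj K₁).obj K₂ where
  hom := bicomplexMapOfNatTrans K₁ K₂ e.hom
  inv := bicomplexMapOfNatTrans K₁ K₂ e.inv
  hom_inv_id := by
    ext i₁ i₂
    change (e.hom.app (K₁.X i₁)).app (K₂.X i₂) ≫ (e.inv.app (K₁.X i₁)).app (K₂.X i₂) = 𝟙 _
    rw [← NatTrans.comp_app, ← NatTrans.comp_app, e.hom_inv_id]
    rfl
  inv_hom_id := by
    ext i₁ i₂
    change (e.inv.app (K₁.X i₁)).app (K₂.X i₂) ≫ (e.hom.app (K₁.X i₁)).app (K₂.X i₂) = 𝟙 _
    rw [← NatTrans.comp_app, ← NatTrans.comp_app, e.inv_hom_id]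
    rfl

variable (c : ComplexShape J) [TotalComplexShape c₁ c₂ c] [DecidableEq J]
  [HasMapBifunctor K₁ K₂ F c] [HasMapBifunctor K₁ K₂ G c]

/-- The isomorphism of total complexes induced by a natural isomorphism of bifunctors. -/
noncomputable def mapBifunctorNatIso (e : F ≅ G) :
    mapBifunctor K₁ K₂ F c ≅ mapBifunctor K₁ K₂ G c :=
  HomologicalComplex₂.total.mapIso (bicomplexIsoOfNatIso K₁ K₂ e) c

end General

section Module

open HomologicalComplex

variable {R : Type u} [CommRing R]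

instance additive_curriedTensor_flip : (curriedTensor (ModuleCat.{u} R)).flip.Additive where
  map_add {X Y f g} := by
    refine NatTrans.ext (funext fun Z => ?_)
    exact ((curriedTensor (ModuleCat.{u} R)).obj Z).map_add

/-- The swap isomorphism `K ⊗ L ≅ L ⊗ K` of complexes of modules. -/
noncomputable def tensorSwapIso (K L : CochainComplex (ModuleCat.{u} R) ℤ) :
    K ⊗ L ≅ L ⊗ K :=
  mapBifunctorNatIso K L (ComplexShape.up ℤ)
      (BraidedCategory.curriedBraidingNatIso (ModuleCat.{u} R)) ≪≫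
    mapBifunctorFlipIso L K (curriedTensor (ModuleCat.{u} R)) (ComplexShape.up ℤ)

/-- A K-flat complex is also K-flat "on the left". -/
theorem isZero_homology_tensor_left_of_isKFlat {K : CochainComplex (ModuleCat.{u} R) ℤ}
    (hK : IsKFlat K) (L : CochainComplex (ModuleCat.{u} R) ℤ)
    (hL : ∀ i : ℤ, IsZero (L.homology i)) (i : ℤ) :
    IsZero ((K ⊗ L).homology i) :=
  (hK L hL i).of_iso ((HomologicalComplex.homologyFunctor _ _ i).mapIso (tensorSwapIso K L))

/-- If `K` is K-flat, `- ⊗ K` preserves quasi-isomorphisms. -/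
theorem quasiIso_whiskerRight_of_isKFlat {K : CochainComplex (ModuleCat.{u} R) ℤ}
    (hK : IsKFlat K) {F F' : CochainComplex (ModuleCat.{u} R) ℤ} (φ : F ⟶ F') [QuasiIso φ] :
    QuasiIso (φ ▷ K) :=
  Groth.Agent.H5.BifunctorSplit.quasiIso_Gmap (curriedTensor (ModuleCat.{u} R)) K hK φ

/-- If `F ⊗ L` is acyclic for every acyclic `L`, then `F ⊗ -` preserves
quasi-isomorphisms. -/
theorem quasiIso_whiskerLeft_of_left_flat (F : CochainComplex (ModuleCat.{u} R) ℤ)
    (hF : ∀ L : CochainComplex (ModuleCat.{u} R) ℤ, (∀ i : ℤ, IsZero (L.homology i)) →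
      ∀ i : ℤ, IsZero ((F ⊗ L).homology i))
    {P Q : CochainComplex (ModuleCat.{u} R) ℤ} (α : P ⟶ Q) [QuasiIso α] :
    QuasiIso (F ◁ α) := by
  let B := curriedTensor (ModuleCat.{u} R)
  have h1 : QuasiIso (mapBifunctorMap α (𝟙 F) B.flip (ComplexShape.up ℤ)) :=
    Groth.Agent.H5.BifunctorSplit.quasiIso_Gmap B.flip F
      (fun L hL i => (hF L hL i).of_iso ((HomologicalComplex.homologyFunctor _ _ i).mapIso
        (mapBifunctorFlipIso F L B (ComplexShape.up ℤ)))) α
  have h2 := mapBifunctorFlipIso_hom_naturality (𝟙 F) α B (ComplexShape.up ℤ)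
  have h3 : mapBifunctorMap (𝟙 F) α B (ComplexShape.up ℤ) =
      (mapBifunctorFlipIso F P B (ComplexShape.up ℤ)).inv ≫
        mapBifunctorMap α (𝟙 F) B.flip (ComplexShape.up ℤ) ≫
          (mapBifunctorFlipIso F Q B (ComplexShape.up ℤ)).hom := by
    rw [h2, Iso.inv_hom_id_assoc]
  change QuasiIso (mapBifunctorMap (𝟙 F) α B (ComplexShape.up ℤ))
  rw [h3]
  infer_instance

/-- A quasi-isomorphism between K-flat complexes stays a quasi-isomorphism after tensoring with
an arbitrary complex. -/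
theorem quasiIso_whiskerLeft_of_isKFlat {P Q : CochainComplex (ModuleCat.{u} R) ℤ}
    (hP : IsKFlat P) (hQ : IsKFlat Q) (α : P ⟶ Q) [QuasiIso α]
    (F : CochainComplex (ModuleCat.{u} R) ℤ) :
    QuasiIso (F ◁ α) := by
  obtain ⟨K, q, hK, -, hq, -⟩ := exists_isKFlat_resolution R F
  have htop : QuasiIso (K ◁ α) :=
    quasiIso_whiskerLeft_of_left_flat K (isZero_homology_tensor_left_of_isKFlat hK) α
  have hleft : QuasiIso (q ▷ P) := quasiIso_whiskerRight_of_isKFlat hP q
  have hright : QuasiIso (q ▷ Q) := quasiIso_whiskerRight_of_isKFlat hQ q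
  have comm : (q ▷ P) ≫ (F ◁ α) = (K ◁ α) ≫ (q ▷ Q) := (whisker_exchange q α).symm
  have hcomp : QuasiIso ((q ▷ P) ≫ (F ◁ α)) := by
    rw [comm]
    infer_instance
  exact quasiIso_of_comp_left (q ▷ P) _

end Module

end Groth.Agent.H35.KF
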