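import Mathlib
import Groth.Agent.H35.KFSymmetry

/-!
# Tensoring a complex with a complex concentrated in one degree; flat cokernels (helper35)
-/

open CategoryTheory Limits MonoidalCategory

namespace Groth.Agent.H35.KF

universe u

variable {R : Type u} [CommRing R]

open HomologicalComplex

/-- A quasi-isomorphism between K-flat complexes stays a quasi-isomorphism after tensoring (on the
right) with an arbitrary complex. -/
theorem quasiIso_whiskerRight_of_isKFlat' {P Q : CochainComplex (ModuleCat.{u} R) ℤ}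
    (hP : IsKFlat P) (hQ : IsKFlat Q) (α : P ⟶ Q) [QuasiIso α]
    (F : CochainComplex (ModuleCat.{u} R) ℤ) :
    QuasiIso (α ▷ F) := by
  obtain ⟨K, q, hK, -, hq, -⟩ := exists_isKFlat_resolution R F
  have htop : QuasiIso (α ▷ K) := quasiIso_whiskerRight_of_isKFlat hK α
  have hleft : QuasiIso (P ◁ q) :=
    quasiIso_whiskerLeft_of_left_flat P (isZero_homology_tensor_left_of_isKFlat hP) q
  have hright : QuasiIso (Q ◁ q) :=
    quasiIso_whiskerLeft_of_left_flat Q (isZero_homology_tensor_left_of_isKFlat hQ) q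
  have comm : (P ◁ q) ≫ (α ▷ F) = (α ▷ K) ≫ (Q ◁ q) := whisker_exchange α q
  have hcomp : QuasiIso ((P ◁ q) ≫ (α ▷ F)) := by
    rw [comm]
    infer_instance
  exact quasiIso_of_comp_left (P ◁ q) _

/-- If `K` is concentrated in degree `m`, exactness of `Tot(F ⊗ K)` in degree `n = p + m` amounts
to exactness of `F^{p-1} ⊗ K^m ⟶ F^p ⊗ K^m ⟶ F^{p+1} ⊗ K^m`. -/
theorem exactAt_tensor_iff_of_isZero (F K : CochainComplex (ModuleCat.{u} R) ℤ) (m : ℤ)
    (hK : ∀ q, q ≠ m → IsZero (K.X q)) (n p : ℤ) (hp : p + m = n) :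
    (F ⊗ K).ExactAt n ↔ ((F.sc' (p - 1) p (p + 1)).map (tensorRight (K.X m))).Exact := by
  let T := mapBifunctor F K (curriedTensor (ModuleCat.{u} R)) (ComplexShape.up ℤ)
  change T.ExactAt n ↔ _
  rw [exactAt_iff' T (n - 1) n (n + 1) (by simp) (by simp)]
  have hπ : ∀ a b : ℤ, a + m = b →
      ComplexShape.π (ComplexShape.up ℤ) (ComplexShape.up ℤ) (ComplexShape.up ℤ) (a, m) = b :=
    fun a b h => h
  have i₁ := isIso_ιMapBifunctor_of_isZero F K m hK (p - 1) (n - 1) (hπ _ _ (by lia))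
  have i₂ := isIso_ιMapBifunctor_of_isZero F K m hK p n (hπ _ _ (by lia))
  have i₃ := isIso_ιMapBifunctor_of_isZero F K m hK (p + 1) (n + 1) (hπ _ _ (by lia))
  refine (ShortComplex.exact_iff_of_iso ?_).symm
  refine ShortComplex.isoMk (@asIso _ _ _ _ _ i₁) (@asIso _ _ _ _ _ i₂) (@asIso _ _ _ _ _ i₃) ?_ ?_
  · exact (ι_comp_d_of_isZero F K m hK (p - 1) p (n - 1) n (by lia) _ _)
  · exact (ι_comp_d_of_isZero F K m hK p (p + 1) n (n + 1) rfl _ _)

end Groth.Agent.H35.KF
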