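import Mathlib

/-!
# Projective resolutions of bounded above complexes (helper35)

Obtained by duality from Mathlib's injective resolutions of bounded below complexes.
-/

universe v u

open CategoryTheory Limits Opposite

set_option linter.unusedSectionVars false

namespace Groth.Agent.H35

section Restriction

variable {ι ι' : Type*} {c : ComplexShape ι} {c' : ComplexShape ι'}
  {C : Type*} [Category C] [Abelian C]

lemma quasiIsoAt_restrictionMap_iff (e : c.Embedding c') [e.IsRelIff]
    {K L : HomologicalComplex C c'} (g : K ⟶ L) (i j k : ι) (hi : c.prev j = i)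
    (hk : c.next j = k) {i' j' k' : ι'} (hi' : e.f i = i') (hj' : e.f j = j') (hk' : e.f k = k')
    (hi'' : c'.prev j' = i') (hk'' : c'.next j' = k') :
    QuasiIsoAt (HomologicalComplex.restrictionMap g e) j ↔ QuasiIsoAt g j' := by
  rw [quasiIsoAt_iff' _ i j k hi hk, quasiIsoAt_iff' _ i' j' k' hi'' hk'']
  refine ShortComplex.quasiIso_iff_of_arrow_mk_iso _ _ ?_
  refine Arrow.isoMk (HomologicalComplex.restriction.sc'Iso K e i j k hi' hj' hk' hi'' hk'')
    (HomologicalComplex.restriction.sc'Iso L e i j k hi' hj' hk' hi'' hk'') ?_
  subst hi' hj' hk'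
  ext <;> simp [HomologicalComplex.restrictionXIso] <;>
    (erw [eqToHom_refl, eqToHom_refl, Category.id_comp, Category.comp_id])

end Restriction

section Op

variable {C : Type u} [Category.{v} C] [Abelian C]

/-- The opposite of a chain map, as a morphism of `ℤ`-indexed chain complexes. -/
noncomputable def opChainMap {K L : CochainComplex C ℤ} (f : K ⟶ L) :
    (show ChainComplex Cᵒᵖ ℤ from (HomologicalComplex.opFunctor C (ComplexShape.up ℤ)).obj (op L)) ⟶
      (show ChainComplex Cᵒᵖ ℤ from (HomologicalComplex.opFunctor C (ComplexShape.up ℤ)).obj (op K)) :=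
  (HomologicalComplex.opFunctor C (ComplexShape.up ℤ)).map f.op

lemma quasiIso_opChainMap_iff {K L : CochainComplex C ℤ} (f : K ⟶ L) :
    QuasiIso (opChainMap f) ↔ QuasiIso f :=
  HomologicalComplex.quasiIso_opFunctor_map_iff f

lemma quasiIso_opEquivalence_map_iff {K L : CochainComplex C ℤ} (f : K ⟶ L) :
    QuasiIso ((CochainComplex.opEquivalence C).functor.map f.op) ↔ QuasiIso f := by
  rw [← quasiIso_opChainMap_iff f]
  change QuasiIso (HomologicalComplex.restrictionMap (opChainMap f)
      ComplexShape.embeddingUpIntDownInt) ↔ _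
  simp only [quasiIso_iff]
  have key : ∀ n : ℤ, QuasiIsoAt (HomologicalComplex.restrictionMap (opChainMap f)
        ComplexShape.embeddingUpIntDownInt) n ↔ QuasiIsoAt (opChainMap f) (-n) := by
    intro n
    exact quasiIsoAt_restrictionMap_iff ComplexShape.embeddingUpIntDownInt _ (n - 1) n (n + 1)
      (by simp) (by simp) (i' := -n + 1) (j' := -n) (k' := -n - 1)
      (by simp; omega) (by simp) (by simp; omega) (by simp) (by simp)
  constructor
  · intro h n
    have := (key (-n)).mp (h (-n))
    rwa [neg_neg] at this
  · intro h n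
    exact (key n).mpr (h (-n))

/-- A bounded above complex in an abelian category with enough projectives admits a
quasi-isomorphism from a bounded above complex of projectives (with the same bound). -/
theorem exists_quasiIso_projective [EnoughProjectives C] (K : CochainComplex C ℤ) (d : ℤ)
    [K.IsStrictlyLE d] :
    ∃ (P : CochainComplex C ℤ) (π : P ⟶ K), QuasiIso π ∧ (∀ n, Projective (P.X n)) ∧
      P.IsStrictlyLE d := by
  let e := CochainComplex.opEquivalence C
  let K' := e.functor.obj (op K)
  have : K'.IsStrictlyGE (-d) := by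
    rw [CochainComplex.isStrictlyGE_iff]
    intro i hi
    exact (K.isZero_of_isStrictlyLE d (-i) (by lia)).op
  obtain ⟨L', i, hi, hL', hGE⟩ :=
    CochainComplex.Plus.modelCategoryQuillen.exists_quasiIso_injective K' (-d)
  let P := (e.inverse.obj L').unop
  let π : P ⟶ K := (e.unitIso.hom.app (op K) ≫ e.inverse.map i).unop
  refine ⟨P, π, ?_, ?_, ?_⟩
  · rw [← quasiIso_opEquivalence_map_iff]
    have h1 : e.functor.map π.op = e.functor.map (e.unitIso.hom.app (op K)) ≫
        e.counit.app _ ≫ i ≫ e.counitInv.app _ := by
      change e.functor.map (e.unitIso.hom.app (op K) ≫ e.inverse.map i) = _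
      rw [Functor.map_comp, Equivalence.fun_inv_map]
    rw [h1]
    infer_instance
  · intro n
    change Projective ((L'.X (-n)).unop)
    infer_instance
  · rw [CochainComplex.isStrictlyLE_iff]
    intro i hi
    exact (L'.isZero_of_isStrictlyGE (-d) (-i) (by omega)).unop

end Op

end Groth.Agent.H35
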