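import Mathlib
import Groth.Agent.H35.KFSingle
import Groth.Agent.H35.FlatCoker
import Groth.Agent.H35.ProjRes
import Groth.Agent.H35.DerHom
import Groth.Agent.H35.PerfCx

/-!
# Invariance of `H^i(F ⊗ N)` for bounded above flat complexes `F` under isomorphism in `D(R)`
(helper35)
-/

open CategoryTheory Limits MonoidalCategory

namespace Groth.Agent.H35.KF

universe u

variable {R : Type u} [CommRing R]

open HomologicalComplex

attribute [local instance] HasDerivedCategory.standard

/-- `F ⊗ N` is exact in degree `i` (termwise tensor product with a module). -/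
def TensExactAt (F : CochainComplex (ModuleCat.{u} R) ℤ) (N : ModuleCat.{u} R) (i : ℤ) : Prop :=
  ((F.sc' (i - 1) i (i + 1)).map (tensorRight N)).Exact

/-- The natural isomorphism `- ⊗ N ≅ - ⊗ N'` induced by `N ≅ N'`. -/
noncomputable def tensorRightIsoOfIso {N N' : ModuleCat.{u} R} (e : N ≅ N') :
    tensorRight N ≅ tensorRight N' :=
  NatIso.ofComponents (fun X => whiskerLeftIso X e) (fun {X Y} f => by
    dsimp
    exact (whisker_exchange f e.hom).symm)

lemma tensExactAt_iff_of_iso (F : CochainComplex (ModuleCat.{u} R) ℤ) {N N' : ModuleCat.{u} R}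
    (e : N ≅ N') (i : ℤ) : TensExactAt F N i ↔ TensExactAt F N' i :=
  ShortComplex.exact_iff_of_iso ((F.sc' (i - 1) i (i + 1)).mapNatIso (tensorRightIsoOfIso e))

/-- The complex `N[0]`. -/
noncomputable abbrev sgl (N : ModuleCat.{u} R) : CochainComplex (ModuleCat.{u} R) ℤ :=
  (HomologicalComplex.single (ModuleCat.{u} R) (ComplexShape.up ℤ) 0).obj N

lemma exactAt_tensor_sgl_iff (F : CochainComplex (ModuleCat.{u} R) ℤ) (N : ModuleCat.{u} R)
    (i : ℤ) : (F ⊗ sgl N).ExactAt i ↔ TensExactAt F N i := by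
  rw [exactAt_tensor_iff_of_isZero F (sgl N) 0
    (fun q hq => isZero_single_obj_X (ComplexShape.up ℤ) 0 N q hq) i i (by simp)]
  exact tensExactAt_iff_of_iso F (singleObjXSelf (ComplexShape.up ℤ) 0 N) i

/-- A quasi-isomorphism between K-flat complexes preserves and reflects exactness of `- ⊗ N`. -/
lemma tensExactAt_iff_of_quasiIso {P F : CochainComplex (ModuleCat.{u} R) ℤ} (hP : IsKFlat P)
    (hF : IsKFlat F) (f : P ⟶ F) [QuasiIso f] (N : ModuleCat.{u} R) (i : ℤ) :
    TensExactAt P N i ↔ TensExactAt F N i := by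
  rw [← exactAt_tensor_sgl_iff, ← exactAt_tensor_sgl_iff]
  have := quasiIso_whiskerRight_of_isKFlat' hP hF f (sgl N)
  exact exactAt_iff_of_quasiIsoAt (f ▷ sgl N) i

lemma isKFlat_of_bounded_flat (F : CochainComplex (ModuleCat.{u} R) ℤ) (b : ℤ)
    (hb : ∀ i, b < i → IsZero (F.X i)) (hF : ∀ i, Module.Flat R (F.X i)) : IsKFlat F := by
  have : F.IsStrictlyLE b := (CochainComplex.isStrictlyLE_iff F b).2 (fun i hi => hb i hi)
  exact isKFlat_of_isStrictlyLE F b hF

/-- Invariance: bounded above termwise flat complexes which are isomorphic in `D(R)` have the same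
exactness properties after tensoring with any module. -/
theorem tensExactAt_iff_of_iso_Q (F F' : CochainComplex (ModuleCat.{u} R) ℤ) (b b' : ℤ)
    (hb : ∀ i, b < i → IsZero (F.X i)) (hb' : ∀ i, b' < i → IsZero (F'.X i))
    (hF : ∀ i, Module.Flat R (F.X i)) (hF' : ∀ i, Module.Flat R (F'.X i))
    (e : DerivedCategory.Q.obj F ≅ DerivedCategory.Q.obj F') (N : ModuleCat.{u} R) (i : ℤ) :
    TensExactAt F N i ↔ TensExactAt F' N i := by
  have : F.IsStrictlyLE b := (CochainComplex.isStrictlyLE_iff F b).2 (fun i hi => hb i hi)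
  obtain ⟨P, f, hf, hPproj, hPle⟩ := Groth.Agent.H35.exists_quasiIso_projective F b
  have hPK : CochainComplex.IsKProjective P := CochainComplex.isKProjective_of_projective P b
  have : IsIso (DerivedCategory.Q.map f) := (DerivedCategory.isIso_Q_map_iff_quasiIso (φ := f)).2 hf
  obtain ⟨g, hg⟩ := Groth.Agent.H35.Q_map_surjective_of_isKProjective (K := P) F'
    (DerivedCategory.Q.map f ≫ e.hom)
  have hgiso : IsIso (DerivedCategory.Q.map g) := by rw [hg]; infer_instance
  have hgq : QuasiIso g := (DerivedCategory.isIso_Q_map_iff_quasiIso (φ := g)).1 hgiso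
  have hPflat : IsKFlat P := isKFlat_of_bounded_flat P b
    (fun i hi => P.isZero_of_isStrictlyLE b i hi) (fun i => by
      have := hPproj i
      have : Module.Projective R (P.X i) := (IsProjective.iff_projective (P.X i)).2 (hPproj i)
      infer_instance)
  have hFflat : IsKFlat F := isKFlat_of_bounded_flat F b hb hF
  have hF'flat : IsKFlat F' := isKFlat_of_bounded_flat F' b' hb' hF'
  rw [← tensExactAt_iff_of_quasiIso hPflat hFflat f N i,
    tensExactAt_iff_of_quasiIso hPflat hF'flat g N i]

lemma tensExactAt_iff' (F : CochainComplex (ModuleCat.{u} R) ℤ) (N : ModuleCat.{u} R)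
    (i j k : ℤ) (hij : i + 1 = j) (hjk : j + 1 = k) :
    TensExactAt F N j ↔ ((F.sc' i j k).map (tensorRight N)).Exact := by
  obtain rfl : i = j - 1 := by omega
  obtain rfl : k = j + 1 := by omega
  rfl

lemma tensExactAt_iff_function_exact (F : CochainComplex (ModuleCat.{u} R) ℤ)
    (N : Type u) [AddCommGroup N] [Module R N]
    (i j k : ℤ) (hij : i + 1 = j) (hjk : j + 1 = k) :
    TensExactAt F (ModuleCat.of R N) j ↔
      Function.Exact (LinearMap.rTensor N (F.d i j).hom) (LinearMap.rTensor N (F.d j k).hom) := by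
  rw [tensExactAt_iff' F _ i j k hij hjk]
  exact ShortComplex.ShortExact.moduleCat_exact_iff_function_exact _

lemma tensExactAt_of_isZero (F : CochainComplex (ModuleCat.{u} R) ℤ) (N : ModuleCat.{u} R)
    (i : ℤ) (h : IsZero (F.X i)) : TensExactAt F N i :=
  ShortComplex.exact_of_isZero_X₂ _ ((tensorRight N).map_isZero h)

end Groth.Agent.H35.KF
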