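import Mathlib
import Groth.Agent.H35.KFTorInv
import Groth.Agent.H35.KFRes
import Groth.Agent.H35.KFCone
import Groth.Agent.H5.ResDerivLeft
import Groth.Prelude.Def_DDual2

/-!
# Left derived functors on `D(R)` via K-flat resolutions (helper35)

Instantiates helper5's `ResDerivLeft` for `ModuleCat R` with the class of K-flat complexes:
any additive functor `F : ModuleCat R ⥤ B` sending acyclic K-flat complexes to acyclic complexes
has a total left derived functor, computed termwise on K-flat complexes.  Applications: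
`DRing.HasLTensor R M` and `DRing.HasLBaseChange φ` always hold.
-/

open CategoryTheory Limits MonoidalCategory ZeroObject

namespace Groth.Agent.H35.LT

universe u

open HomologicalComplex Groth.Agent.H35.KF Groth.Agent.H5

attribute [local instance] HasDerivedCategory.standard

section
variable (R : Type u) [CommRing R]

/-- the class of K-flat complexes of `R`-modules -/
def kf : ObjectProperty (CochainComplex (ModuleCat.{u} R) ℤ) := fun K => IsKFlat K

lemma isKFlat_zero : IsKFlat (0 : CochainComplex (ModuleCat.{u} R) ℤ) := by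
  have hz : ∀ q : ℤ, IsZero ((0 : CochainComplex (ModuleCat.{u} R) ℤ).X q) := fun q =>
    (HomologicalComplex.eval _ (ComplexShape.up ℤ) q).map_isZero (isZero_zero _)
  exact isKFlat_of_bounded_flat _ 0 (fun q _ => hz q) (fun q => isFlat_of_isZero (hz q))

lemma hyp : ResDerivLeft.Hyp (kf R) where
  zero := isKFlat_zero R
  shift K n hK := (isKFlat_shift_iff K n).2 hK
  cone f h₁ h₂ := (isKFlat_mappingCone_two_of_three f).1 h₁ h₂
  res G := by
    obtain ⟨K, q, hK, -, hq, -⟩ := exists_isKFlat_resolution R G
    exact ⟨K, q, hK, hq⟩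

end

section Generic

universe u' v' w'

variable {R : Type u} [CommRing R]
  {B : Type u'} [Category.{v'} B] [Abelian B] [HasDerivedCategory.{w'} B]
  (F : ModuleCat.{u} R ⥤ B) [F.Additive]

/-- `F` sends acyclic K-flat complexes to acyclic complexes. -/
def KFAcyclic : Prop :=
  ∀ P : CochainComplex (ModuleCat.{u} R) ℤ, IsKFlat P → (∀ i, P.ExactAt i) →
    ∀ i, ((F.mapHomologicalComplex (ComplexShape.up ℤ)).obj P).ExactAt i

/-- the functor `K(R) ⥤ D(B)` induced by `F` -/
noncomputable abbrev Gf : HomotopyCategory (ModuleCat.{u} R) (ComplexShape.up ℤ) ⥤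
    DerivedCategory B :=
  F.mapHomotopyCategory (ComplexShape.up ℤ) ⋙ DerivedCategory.Qh

variable {F}

theorem hasLeftDerivedFunctor (hF : KFAcyclic F) :
    (Gf F).HasLeftDerivedFunctor
      (HomotopyCategory.quasiIso (ModuleCat.{u} R) (ComplexShape.up ℤ)) :=
  ResDerivLeft.hasLeftDerivedFunctor (hyp R) F hF

theorem isIso_counit (hF : KFAcyclic F)
    [(Gf F).HasLeftDerivedFunctor
      (HomotopyCategory.quasiIso (ModuleCat.{u} R) (ComplexShape.up ℤ))]
    (K : CochainComplex (ModuleCat.{u} R) ℤ) (hK : IsKFlat K) :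
    IsIso (((Gf F).totalLeftDerivedCounit DerivedCategory.Qh
      (HomotopyCategory.quasiIso (ModuleCat.{u} R) (ComplexShape.up ℤ))).app
        ((HomotopyCategory.quotient _ _).obj K)) :=
  ResDerivLeft.isIso_counit (hyp R) F hF DerivedCategory.Qh _ _ K hK

/-- On a K-flat complex, the left derived functor is computed termwise. -/
noncomputable def derivedIso (hF : KFAcyclic F)
    [(Gf F).HasLeftDerivedFunctor
      (HomotopyCategory.quasiIso (ModuleCat.{u} R) (ComplexShape.up ℤ))]
    (K : CochainComplex (ModuleCat.{u} R) ℤ) (hK : IsKFlat K) :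
    ((Gf F).totalLeftDerived DerivedCategory.Qh
      (HomotopyCategory.quasiIso (ModuleCat.{u} R) (ComplexShape.up ℤ))).obj
        (DerivedCategory.Q.obj K) ≅
      DerivedCategory.Q.obj ((F.mapHomologicalComplex (ComplexShape.up ℤ)).obj K) :=
  haveI := isIso_counit hF K hK
  ((Gf F).totalLeftDerived DerivedCategory.Qh
      (HomotopyCategory.quasiIso (ModuleCat.{u} R) (ComplexShape.up ℤ))).mapIso
    ((DerivedCategory.quotientCompQhIso (ModuleCat.{u} R)).app K).symm ≪≫
    asIso (((Gf F).totalLeftDerivedCounit DerivedCategory.Qh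
      (HomotopyCategory.quasiIso (ModuleCat.{u} R) (ComplexShape.up ℤ))).app
        ((HomotopyCategory.quotient _ _).obj K)) ≪≫
    DerivedCategory.Qh.mapIso
      ((F.mapHomotopyCategoryFactors (ComplexShape.up ℤ)).app K) ≪≫
    (DerivedCategory.quotientCompQhIso B).app _

end Generic

section TensorRight

variable {R : Type u} [CommRing R]

lemma quasiIso_zero_of_exactAt (P : CochainComplex (ModuleCat.{u} R) ℤ)
    (hP : ∀ i, P.ExactAt i) : QuasiIso (0 : P ⟶ (0 : CochainComplex (ModuleCat.{u} R) ℤ)) := by
  have hz : IsZero (0 : CochainComplex (ModuleCat.{u} R) ℤ) := isZero_zero _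
  rw [quasiIso_iff]
  intro i
  rw [quasiIsoAt_iff_exactAt _ _ (hP i)]
  exact ShortComplex.exact_of_isZero_X₂ _
    ((HomologicalComplex.eval _ (ComplexShape.up ℤ) i).map_isZero hz)

/-- An acyclic K-flat complex stays acyclic after tensoring with any module. -/
theorem tensExactAt_of_isKFlat_of_exactAt (P : CochainComplex (ModuleCat.{u} R) ℤ)
    (hP : IsKFlat P) (hP' : ∀ i, P.ExactAt i) (M : ModuleCat.{u} R) (i : ℤ) :
    TensExactAt P M i := by
  have := quasiIso_zero_of_exactAt P hP'
  rw [tensExactAt_iff_of_quasiIso hP (isKFlat_zero R)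
    (0 : P ⟶ (0 : CochainComplex (ModuleCat.{u} R) ℤ)) M i]
  exact tensExactAt_of_isZero _ M i
    ((HomologicalComplex.eval _ (ComplexShape.up ℤ) i).map_isZero (isZero_zero _))

lemma exactAt_map_tensorRight_iff (P : CochainComplex (ModuleCat.{u} R) ℤ)
    (M : ModuleCat.{u} R) (i : ℤ) :
    (((tensorRight M).mapHomologicalComplex (ComplexShape.up ℤ)).obj P).ExactAt i ↔
      TensExactAt P M i := by
  rw [exactAt_iff' _ (i - 1) i (i + 1) (by simp) (by simp)]
  rfl

theorem kfAcyclic_tensorRight (M : ModuleCat.{u} R) : KFAcyclic (tensorRight M) :=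
  fun P hP hP' i => (exactAt_map_tensorRight_iff P M i).2
    (tensExactAt_of_isKFlat_of_exactAt P hP hP' M i)

/-- The derived tensor product with a module always exists. -/
theorem hasLTensor (M : ModuleCat.{u} R) : DRing.HasLTensor R M :=
  hasLeftDerivedFunctor (kfAcyclic_tensorRight M)

/-- On a K-flat complex the derived tensor product is computed termwise. -/
noncomputable def LTensorIso (M : ModuleCat.{u} R) [DRing.HasLTensor R M]
    (K : CochainComplex (ModuleCat.{u} R) ℤ) (hK : IsKFlat K) :
    (DRing.LTensor R M).obj (DerivedCategory.Q.obj K) ≅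
      DerivedCategory.Q.obj (((tensorRight M).mapHomologicalComplex (ComplexShape.up ℤ)).obj K) :=
  derivedIso (kfAcyclic_tensorRight M) K hK

end TensorRight

section BaseChange

open TensorProduct

variable {A B : Type u} [CommRing A] [CommRing B] (φ : A →+* B)

/-- `B` as an `A`-module via `φ`. -/
noncomputable abbrev BA : ModuleCat.{u} A := (ModuleCat.restrictScalars φ).obj (ModuleCat.of B B)

/-- the swap `M ⊗ B ≃ B ⊗ M`, as an additive equivalence onto the underlying group of the
extension of scalars -/
noncomputable def swapEquiv (M : ModuleCat.{u} A) :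
    ((M : Type u) ⊗[A] (BA φ : Type u)) ≃+ ((ModuleCat.extendScalars φ).obj M : Type u) :=
  (TensorProduct.comm A M (BA φ)).toAddEquiv

lemma swapEquiv_comm {M N : ModuleCat.{u} A} (f : M ⟶ N) (y : (M : Type u) ⊗[A] (BA φ : Type u)) :
    ((ModuleCat.extendScalars φ).map f).hom (swapEquiv φ M y) =
      swapEquiv φ N (LinearMap.rTensor (BA φ) f.hom y) := by
  induction y using TensorProduct.induction_on with
  | zero => simp
  | tmul m b => rfl
  | add x y hx hy => simp only [map_add, hx, hy]

lemma extendScalars_exact_iff {M₁ M₂ M₃ : ModuleCat.{u} A} (f : M₁ ⟶ M₂) (g : M₂ ⟶ M₃) :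
    Function.Exact ((ModuleCat.extendScalars φ).map f).hom ((ModuleCat.extendScalars φ).map g).hom ↔
      Function.Exact (LinearMap.rTensor (BA φ) f.hom) (LinearMap.rTensor (BA φ) g.hom) := by
  constructor
  · intro h y
    have h1 := h (swapEquiv φ M₂ y)
    rw [swapEquiv_comm, map_eq_zero_iff _ (swapEquiv φ M₃).injective] at h1
    rw [h1]
    constructor
    · rintro ⟨x, hx⟩
      obtain ⟨x', rfl⟩ := (swapEquiv φ M₁).surjective x
      rw [swapEquiv_comm] at hx
      exact ⟨x', (swapEquiv φ M₂).injective hx⟩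
    · rintro ⟨x, rfl⟩
      exact ⟨swapEquiv φ M₁ x, swapEquiv_comm φ f x⟩
  · intro h y
    obtain ⟨y', rfl⟩ := (swapEquiv φ M₂).surjective y
    rw [swapEquiv_comm, map_eq_zero_iff _ (swapEquiv φ M₃).injective, h y']
    constructor
    · rintro ⟨x, rfl⟩
      exact ⟨swapEquiv φ M₁ x, swapEquiv_comm φ f x⟩
    · rintro ⟨x, hx⟩
      obtain ⟨x', rfl⟩ := (swapEquiv φ M₁).surjective x
      rw [swapEquiv_comm] at hx
      exact ⟨x', (swapEquiv φ M₂).injective hx⟩

lemma exactAt_map_extendScalars_iff (P : CochainComplex (ModuleCat.{u} A) ℤ) (i : ℤ) :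
    (((ModuleCat.extendScalars φ).mapHomologicalComplex (ComplexShape.up ℤ)).obj P).ExactAt i ↔
      TensExactAt P (BA φ) i := by
  rw [exactAt_iff' _ (i - 1) i (i + 1) (by simp) (by simp),
    tensExactAt_iff_function_exact P (BA φ) (i - 1) i (i + 1) (by simp) (by simp),
    ← extendScalars_exact_iff]
  exact ShortComplex.ShortExact.moduleCat_exact_iff_function_exact _

theorem kfAcyclic_extendScalars : KFAcyclic (ModuleCat.extendScalars.{u, u, u} φ) :=
  fun P hP hP' i => (exactAt_map_extendScalars_iff φ P i).2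
    (tensExactAt_of_isKFlat_of_exactAt P hP hP' (BA φ) i)

/-- Derived base change always exists. -/
theorem hasLBaseChange : DRing.HasLBaseChange φ :=
  hasLeftDerivedFunctor (kfAcyclic_extendScalars φ)

/-- On a K-flat complex derived base change is computed termwise. -/
noncomputable def LBaseChangeIso [DRing.HasLBaseChange φ]
    (K : CochainComplex (ModuleCat.{u} A) ℤ) (hK : IsKFlat K) :
    (DRing.LBaseChange φ).obj (DerivedCategory.Q.obj K) ≅
      DerivedCategory.Q.obj
        (((ModuleCat.extendScalars.{u, u, u} φ).mapHomologicalComplex (ComplexShape.up ℤ)).obj K) :=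
  derivedIso (kfAcyclic_extendScalars φ) K hK

end BaseChange

end Groth.Agent.H35.LT
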