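import Mathlib
import Groth.Prelude.Def_DRing2
import Groth.Agent.H35.PerfCx

/-!
# Morphisms out of bounded complexes of projectives (helper35)
-/

universe u

open CategoryTheory Pretriangulated Limits

attribute [local instance] HasDerivedCategory.standard

namespace Groth.Agent.H35

open DerivedCategory

variable {R : Type u} [CommRing R]

/-- If `P` is a complex of projectives in degrees `[a, b]` and `K` has no cohomology in degrees
`≥ a`, every morphism `P ⟶ K` in `D(R)` vanishes. -/
theorem hom_eq_zero_of_projective_of_isLE (P : DRing.Cx R) (a b : ℤ)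
    (hP : DRing.VanishesOutside P a b) (hproj : ∀ i : ℤ, Module.Projective R (P.X i))
    (K : Dual.D R) (hK : K.IsLE (a - 1)) (ξ : Q.obj P ⟶ K) : ξ = 0 := by
  obtain ⟨K', hK', ⟨e⟩⟩ := K.exists_iso_Q_obj_of_isLE (a - 1)
  have : P.IsKProjective :=
    isKProjective_of_vanishesAbove P b (fun i hi => hP i (Or.inr hi)) hproj
  obtain ⟨g, hg⟩ := Q_map_surjective_of_isKProjective K' (ξ ≫ e.hom)
  have h0 : g = 0 := by
    apply HomologicalComplex.hom_ext
    intro i
    by_cases h : i < a
    · exact (hP i (Or.inl h)).eq_of_src _ _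
    · exact (K'.isZero_of_isStrictlyLE (a - 1) i (by omega)).eq_of_tgt _ _
  rw [h0, Functor.map_zero] at hg
  exact (cancel_mono e.hom).mp (by rw [← hg, zero_comp])

end Groth.Agent.H35
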