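import Mathlib
import Groth.Agent.H35.DerHom

/-!
# Morphisms from a complex to a module placed in one degree (helper35)

For a cochain complex `E` with `E^{p+2} = 0` and `φ : E^p ⟶ M` with `d ≫ φ = 0`, the chain map
`φ̂ : E ⟶ M[-p]` vanishes in the derived category iff `φ` factors through `d : E^p ⟶ E^{p+1}`.
-/

universe w v u

open CategoryTheory Limits

set_option linter.unusedSectionVars false

namespace Groth.Agent.H35

open DerivedCategory HomologicalComplex

variable {C : Type u} [Category.{v} C] [Abelian C] [HasDerivedCategory.{w} C]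

lemma Q_map_eq_zero_iff_Qh {K L : CochainComplex C ℤ} (g : K ⟶ L) :
    Q.map g = 0 ↔ Qh.map ((HomotopyCategory.quotient C (ComplexShape.up ℤ)).map g) = 0 := by
  have nat := (quotientCompQhIso C).hom.naturality g
  simp only [Functor.comp_map] at nat
  constructor
  · intro h
    rw [h, comp_zero] at nat
    exact (cancel_mono ((quotientCompQhIso C).hom.app L)).mp (by rw [nat, zero_comp])
  · intro h
    rw [h, zero_comp] at nat
    exact (cancel_epi ((quotientCompQhIso C).hom.app K)).mp (by rw [← nat, comp_zero])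

section ToSingle

variable (E : CochainComplex C ℤ) (p : ℤ) (M : C)

/-- The chain map `E ⟶ M[-p]` given by `φ : E^p ⟶ M` with `d ≫ φ = 0`. -/
noncomputable def toSingleOfCocycle (φ : E.X p ⟶ M) (hφ : E.d (p - 1) p ≫ φ = 0) :
    E ⟶ (single C (ComplexShape.up ℤ) p).obj M :=
  mkHomToSingle φ (by
    intro i hi
    simp only [ComplexShape.up_Rel] at hi
    obtain rfl : i = p - 1 := by omega
    exact hφ)

@[simp]
lemma toSingleOfCocycle_f (φ : E.X p ⟶ M) (hφ : E.d (p - 1) p ≫ φ = 0) :
    (toSingleOfCocycle E p M φ hφ).f p = φ ≫ (singleObjXSelf (ComplexShape.up ℤ) p M).inv :=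
  mkHomToSingle_f _ _

/-- If `φ̂` vanishes in the derived category, `φ` factors through the differential. -/
theorem exists_factor_of_Q_map_eq_zero (φ : E.X p ⟶ M) (hφ : E.d (p - 1) p ≫ φ = 0)
    (hE : IsZero (E.X (p + 1 + 1)))
    (h : Q.map (toSingleOfCocycle E p M φ hφ) = 0) :
    ∃ g : E.X (p + 1) ⟶ M, E.d p (p + 1) ≫ g = φ := by
  set S := (single C (ComplexShape.up ℤ) p).obj M with hS
  set φ' := toSingleOfCocycle E p M φ hφ with hφ'
  rw [Q_map_eq_zero_iff_Qh] at h
  have h' : Qh.map ((HomotopyCategory.quotient C (ComplexShape.up ℤ)).map φ') =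
      Qh.map 0 := by rw [h, Functor.map_zero]
  obtain ⟨Z, s, hs, fac⟩ := (MorphismProperty.map_eq_iff_postcomp Qh
    (HomotopyCategory.quasiIso C (ComplexShape.up ℤ)) _ _).mp h'
  obtain ⟨L, rfl⟩ := HomotopyCategory.quotient_obj_surjective Z
  obtain ⟨t, rfl⟩ := (HomotopyCategory.quotient _ _).map_surjective s
  have ht : QuasiIso t := (HomotopyCategory.quotient_map_mem_quasiIso_iff t).mp hs
  rw [zero_comp, ← Functor.map_comp] at fac
  have H : Homotopy (φ' ≫ t) 0 :=
    HomotopyCategory.homotopyOfEq _ _ (by rw [fac, Functor.map_zero])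
  have c0 := H.comm (p + 1)
  have cm := H.comm p
  rw [dNext_eq H.hom (show (ComplexShape.up ℤ).Rel p (p + 1) from rfl),
    prevD_eq H.hom (show (ComplexShape.up ℤ).Rel (p - 1) p by simp), zero_f, add_zero] at cm
  rw [dNext_eq H.hom (show (ComplexShape.up ℤ).Rel (p + 1) (p + 1 + 1) from rfl),
    prevD_eq H.hom (show (ComplexShape.up ℤ).Rel p (p + 1) from rfl), zero_f, add_zero] at c0
  have hh : H.hom (p + 1) p ≫ L.d p (p + 1) = 0 := by
    have h1 : (φ' ≫ t).f (p + 1) = 0 := by
      rw [comp_f]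
      have : IsZero (S.X (p + 1)) := isZero_single_obj_X _ _ _ _ (by omega)
      rw [this.eq_of_tgt (φ'.f (p + 1)) 0, zero_comp]
    have h2 : E.d (p + 1) (p + 1 + 1) ≫ H.hom (p + 1 + 1) (p + 1) = 0 := by
      rw [hE.eq_of_tgt (E.d (p + 1) (p + 1 + 1)) 0, zero_comp]
    rw [h1, h2, zero_add] at c0
    exact c0.symm
  let g' : E.X (p + 1) ⟶ L.cycles p := L.liftCycles (H.hom (p + 1) p) (p + 1) (by simp) hh
  have : IsIso (homologyMap t p) := inferInstance
  let r : L.cycles p ⟶ M := L.homologyπ p ≫ inv (homologyMap t p) ≫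
    (singleObjHomologySelfIso (ComplexShape.up ℤ) p M).hom
  have key1 : cyclesMap t p ≫ r = (singleObjCyclesSelfIso (ComplexShape.up ℤ) p M).hom := by
    dsimp only [r]
    rw [← homologyπ_naturality_assoc, IsIso.hom_inv_id_assoc,
      homologyπ_singleObjHomologySelfIso_hom]
  have key2 : L.toCycles (p - 1) p ≫ r = 0 := by
    dsimp only [r]
    rw [toCycles_comp_homologyπ_assoc, zero_comp]
  refine ⟨g' ≫ r, ?_⟩
  have hw : E.d p (p + 1) ≫ g' + H.hom p (p - 1) ≫ L.toCycles (p - 1) p =
      φ ≫ (singleObjCyclesSelfIso (ComplexShape.up ℤ) p M).inv ≫ cyclesMap t p := by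
    rw [← cancel_mono (L.iCycles p)]
    simp only [Preadditive.add_comp, Category.assoc, liftCycles_i, toCycles_i, cyclesMap_i,
      singleObjCyclesSelfIso_inv_iCycles_assoc, g']
    rw [← cm, comp_f, hφ', toSingleOfCocycle_f, Category.assoc]
  have := congrArg (fun x => x ≫ r) hw
  simp only [Preadditive.add_comp, Category.assoc, key1, key2, comp_zero, add_zero,
    Iso.inv_hom_id, Category.comp_id] at this
  exact this

end ToSingle

end Groth.Agent.H35
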