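import Mathlib
import Groth.Agent.H35.TwoTermExt

/-!
# Null-homotopic maps to a single module (helper35)
-/

universe w v u

open CategoryTheory Limits

set_option linter.unusedSectionVars false

namespace Groth.Agent.H35

open DerivedCategory HomologicalComplex CochainComplex.HomComplex

variable {C : Type u} [Category.{v} C] [Abelian C] [HasDerivedCategory.{w} C]

/-- If `φ = d ≫ g`, then `φ̂ : E ⟶ M[-p]` is null-homotopic, hence zero in the derived category. -/
lemma Q_map_toSingleOfCocycle_eq_zero_of_factor (E : CochainComplex C ℤ) (p : ℤ) (M : C)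
    (g : E.X (p + 1) ⟶ M) (hφ : E.d (p - 1) p ≫ E.d p (p + 1) ≫ g = 0) :
    Q.map (toSingleOfCocycle E p M (E.d p (p + 1) ≫ g) hφ) = 0 := by
  rw [Q_map_eq_zero_iff_Qh]
  have : (HomotopyCategory.quotient C (ComplexShape.up ℤ)).map
      (toSingleOfCocycle E p M (E.d p (p + 1) ≫ g) hφ) = 0 := by
    rw [HomotopyCategory.quotient_map_eq_zero_iff]
    let ψ : E ⟶ (CochainComplex.singleFunctor C p).obj M :=
      toSingleOfCocycle E p M (E.d p (p + 1) ≫ g) hφ
    have hψ : ψ.f p = (E.d p (p + 1) ≫ g) ≫ (singleObjXSelf (ComplexShape.up ℤ) p M).inv :=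
      toSingleOfCocycle_f _ _ _ _ _
    suffices h : Nonempty (Homotopy ψ 0) from h
    refine ⟨(Cochain.equivHomotopy _ _).symm
      ⟨Cochain.toSingleMk g (by omega : (p + 1) + (-1) = p), ?_⟩⟩
    rw [Cochain.δ_toSingleMk _ _ 0 p (by omega)]
    simp only [Int.negOnePow_zero, one_smul, Cochain.ofHom_zero, add_zero]
    apply (Cochain.toSingleEquiv (by omega : p + 0 = p)).injective
    simp [Cochain.toSingleEquiv, hψ]
  rw [this, Functor.map_zero]

/-- Variant of `Q_map_toSingleOfCocycle_eq_zero_of_factor` with a free index. -/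
lemma Q_map_toSingleOfCocycle_eq_zero_of_factor' (E : CochainComplex C ℤ) (p q : ℤ)
    (hpq : p + 1 = q) (M : C) (g : E.X q ⟶ M) (hφ : E.d (p - 1) p ≫ E.d p q ≫ g = 0) :
    Q.map (toSingleOfCocycle E p M (E.d p q ≫ g) hφ) = 0 := by
  subst hpq
  exact Q_map_toSingleOfCocycle_eq_zero_of_factor E p M g hφ

/-- Variant of `exists_factor_of_Q_map_eq_zero` with free indices. -/
theorem exists_factor_of_Q_map_eq_zero' (E : CochainComplex C ℤ) (p q r : ℤ)
    (hpq : p + 1 = q) (hqr : q + 1 = r) (M : C) (φ : E.X p ⟶ M)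
    (hφ : E.d (p - 1) p ≫ φ = 0) (hE : IsZero (E.X r))
    (h : Q.map (toSingleOfCocycle E p M φ hφ) = 0) :
    ∃ g : E.X q ⟶ M, E.d p q ≫ g = φ := by
  subst hpq hqr
  exact exists_factor_of_Q_map_eq_zero E p M φ hφ hE h

lemma toSingleOfCocycle_smul {A : Type*} [Ring A] [Linear A C] (E : CochainComplex C ℤ) (p : ℤ)
    (M : C) (a : A) (φ : E.X p ⟶ M) (hφ : E.d (p - 1) p ≫ φ = 0)
    (hφ' : E.d (p - 1) p ≫ (a • φ) = 0) :
    toSingleOfCocycle E p M (a • φ) hφ' = a • toSingleOfCocycle E p M φ hφ := by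
  apply to_single_hom_ext
  rw [toSingleOfCocycle_f, HomologicalComplex.smul_f_apply, toSingleOfCocycle_f,
    Linear.smul_comp]

end Groth.Agent.H35
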