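import Mathlib
import Groth.Agent.H35.TwoTermExtA
import Groth.Agent.H35.ProjRes

/-!
# Ext-vanishing criteria for K-projective complexes (helper35)
-/

universe w v u

open CategoryTheory Limits

set_option linter.unusedSectionVars false

namespace Groth.Agent.H35

open DerivedCategory HomologicalComplex

variable {C : Type u} [Category.{v} C] [Abelian C] [HasDerivedCategory.{w} C]

/-- For a K-projective complex `E`: if `φ̂ : E ⟶ M[-p]` vanishes in the derived category, then
`φ` factors through the differential. -/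
theorem exists_factor_of_Q_map_eq_zero_of_isKProjective (E : CochainComplex C ℤ)
    [E.IsKProjective] (p q : ℤ) (hpq : p + 1 = q) (M : C) (φ : E.X p ⟶ M)
    (hφ : E.d (p - 1) p ≫ φ = 0) (h : Q.map (toSingleOfCocycle E p M φ hφ) = 0) :
    ∃ g : E.X q ⟶ M, E.d p q ≫ g = φ := by
  subst hpq
  rw [Q_map_eq_zero_iff_of_isKProjective, HomotopyCategory.quotient_map_eq_zero_iff] at h
  obtain ⟨H⟩ := h
  have cm := H.comm p
  rw [dNext_eq H.hom (show (ComplexShape.up ℤ).Rel p (p + 1) from rfl),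
    prevD_eq H.hom (show (ComplexShape.up ℤ).Rel (p - 1) p by simp), zero_f, add_zero,
    toSingleOfCocycle_f] at cm
  have hz : H.hom p (p - 1) = 0 :=
    (isZero_single_obj_X (ComplexShape.up ℤ) p M (p - 1) (by omega)).eq_of_tgt _ _
  rw [hz, zero_comp, add_zero] at cm
  refine ⟨H.hom (p + 1) p ≫ (singleObjXSelf (ComplexShape.up ℤ) p M).hom, ?_⟩
  rw [← Category.assoc, ← cm, Category.assoc, Iso.inv_hom_id, Category.comp_id]

/-- The map induced on `H^p` by `φ̂ : E ⟶ M[-p]`. -/
lemma homologyMap_toSingleOfCocycle (E : CochainComplex C ℤ) (p : ℤ) (M : C) (φ : E.X p ⟶ M)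
    (hφ : E.d (p - 1) p ≫ φ = 0) :
    homologyMap (toSingleOfCocycle E p M φ hφ) p ≫
      (singleObjHomologySelfIso (ComplexShape.up ℤ) p M).hom =
      E.homologyι p ≫ E.descOpcycles φ (p - 1) (by simp) hφ := by
  rw [← cancel_epi (E.homologyπ p), homologyπ_naturality_assoc,
    homologyπ_singleObjHomologySelfIso_hom, homology_π_ι_assoc, p_descOpcycles,
    singleObjCyclesSelfIso_hom, ← Category.assoc, cyclesMap_i, Category.assoc,
    toSingleOfCocycle_f, Category.assoc, Iso.inv_hom_id, Category.comp_id]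

/-- If `Q.map φ̂ = 0` then the induced map on `H^p` vanishes. -/
lemma homologyι_descOpcycles_eq_zero_of_Q_map_eq_zero (E : CochainComplex C ℤ) (p : ℤ) (M : C)
    (φ : E.X p ⟶ M) (hφ : E.d (p - 1) p ≫ φ = 0)
    (h : Q.map (toSingleOfCocycle E p M φ hφ) = 0) :
    E.homologyι p ≫ E.descOpcycles φ (p - 1) (by simp) hφ = 0 := by
  rw [← homologyMap_toSingleOfCocycle]
  have nat := homologyFunctorFactors_hom_naturality (toSingleOfCocycle E p M φ hφ) p
  rw [h, Functor.map_zero, zero_comp] at nat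
  have h0 : homologyMap (toSingleOfCocycle E p M φ hφ) p = 0 :=
    (cancel_epi ((homologyFunctorFactors C p).hom.app E)).mp (nat.symm.trans comp_zero.symm)
  rw [h0, zero_comp]

/-- Ext-vanishing splits the differential: if `E` is K-projective and the canonical class
`E ⟶ (E^j/im d)[-j]` vanishes in the derived category, then `E^j/im d ⟶ E^{j+1}` is a split
monomorphism. -/
theorem exists_retraction_fromOpcycles (E : CochainComplex C ℤ) [E.IsKProjective] (j k : ℤ)
    (hjk : j + 1 = k)
    (h : Q.map (toSingleOfCocycle E j (E.opcycles j) (E.pOpcycles j) (by simp)) = 0) :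
    ∃ ψ : E.X k ⟶ E.opcycles j, E.fromOpcycles j k ≫ ψ = 𝟙 _ := by
  obtain ⟨ψ, hψ⟩ := exists_factor_of_Q_map_eq_zero_of_isKProjective E j k hjk _ _ _ h
  refine ⟨ψ, ?_⟩
  rw [← cancel_epi (E.pOpcycles j), p_fromOpcycles_assoc, hψ, Category.comp_id]

/-- A split monomorphism `fromOpcycles` forces exactness. -/
lemma exactAt_of_retraction_fromOpcycles (E : CochainComplex C ℤ) (j k : ℤ)
    (ψ : E.X k ⟶ E.opcycles j) (hψ : E.fromOpcycles j k ≫ ψ = 𝟙 _) : E.ExactAt j := by
  rw [exactAt_iff_isZero_homology, IsZero.iff_id_eq_zero, ← cancel_mono (E.homologyι j),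
    zero_comp, Category.id_comp]
  have : E.homologyι j = E.homologyι j ≫ E.fromOpcycles j k ≫ ψ := by
    rw [hψ, Category.comp_id]
  rw [this, homologyι_comp_fromOpcycles_assoc, zero_comp]

/-- A split monomorphism `fromOpcycles j k` makes `opcycles k` a retract of `E^k`. -/
lemma exists_section_pOpcycles (E : CochainComplex C ℤ) (j k : ℤ) (hjk : j + 1 = k)
    (ψ : E.X k ⟶ E.opcycles j) (hψ : E.fromOpcycles j k ≫ ψ = 𝟙 _) :
    ∃ s : E.opcycles k ⟶ E.X k, s ≫ E.pOpcycles k = 𝟙 _ := by
  have h0 : E.fromOpcycles j k ≫ E.pOpcycles k = 0 := by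
    rw [← cancel_epi (E.pOpcycles j), p_fromOpcycles_assoc, d_pOpcycles, comp_zero]
  have h1 : E.d j k ≫ (𝟙 (E.X k) - ψ ≫ E.fromOpcycles j k) = 0 := by
    rw [Preadditive.comp_sub, Category.comp_id, ← E.p_fromOpcycles j k, Category.assoc,
      reassoc_of% hψ, sub_self]
  refine ⟨E.descOpcycles (𝟙 (E.X k) - ψ ≫ E.fromOpcycles j k) j (by simp [← hjk]) h1, ?_⟩
  rw [← cancel_epi (E.pOpcycles k), p_descOpcycles_assoc, Preadditive.sub_comp, Category.id_comp,
    Category.assoc, h0, comp_zero, sub_zero, Category.comp_id]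

/-- Bounded above objects of the derived category are represented by bounded above complexes
of projectives. -/
theorem exists_iso_Q_obj_projective [EnoughProjectives C] (K : DerivedCategory C) (d : ℤ)
    [K.IsLE d] :
    ∃ (P : CochainComplex C ℤ), (∀ n, Projective (P.X n)) ∧ P.IsStrictlyLE d ∧
      Nonempty (Q.obj P ≅ K) := by
  obtain ⟨K₀, hK₀, ⟨e⟩⟩ := K.exists_iso_Q_obj_of_isLE d
  obtain ⟨P, π, hπ, hP, hd⟩ := exists_quasiIso_projective K₀ d
  exact ⟨P, hP, hd, ⟨asIso (Q.map π) ≪≫ e.symm⟩⟩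

end Groth.Agent.H35
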