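import Mathlib
import Groth.Prelude.Def_DRing2
import Groth.Agent.H35.ProjAmpGen
import Groth.Agent.H35.ProjAmp

/-!
# Projective amplitude: Ext-vanishing criteria (helper35)
-/

universe u

open CategoryTheory Pretriangulated Limits

attribute [local instance] HasDerivedCategory.standard

set_option linter.unusedSectionVars false

namespace Groth.Agent.H35

open DerivedCategory HomologicalComplex

variable {R : Type u} [CommRing R]

/-- `N[i]` is `N` placed in degree `-i`. -/
noncomputable def shiftSingleIso (N : ModuleCat.{u} R) (i : ℤ) :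
    ((DerivedCategory.singleFunctor (ModuleCat.{u} R) 0).obj N)⟦i⟧ ≅
      Q.obj ((single (ModuleCat.{u} R) (ComplexShape.up ℤ) (-i)).obj N) :=
  ((DerivedCategory.singleFunctors (ModuleCat.{u} R)).shiftIso i (-i) 0 (by omega)).app N

/-- Bounded above objects of `D(R)` are represented by bounded above complexes of projectives. -/
theorem exists_projective_rep (K : Dual.D R) (b : ℤ)
    (hK : ∀ n : ℤ, b < n → IsZero ((DerivedCategory.homologyFunctor (ModuleCat.{u} R) n).obj K)) :
    ∃ P : DRing.Cx R, DRing.VanishesAbove P b ∧ (∀ i : ℤ, Module.Projective R (P.X i)) ∧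
      Nonempty (DRing.toD P ≅ K) := by
  have : K.IsLE b := by
    rw [isLE_iff]
    exact hK
  obtain ⟨P, hP, hb, ⟨e⟩⟩ := exists_iso_Q_obj_projective K b
  refine ⟨P, fun i hi => P.isZero_of_isStrictlyLE b i hi, fun i => ?_, ⟨e⟩⟩
  have := hP i
  exact (IsProjective.iff_projective (R := R) (P := P.X i)).mpr (hP i)

/-- Truncating a bounded above complex of projectives which is exact in degrees `< a` and whose
differential into degree `a` splits. -/
theorem exists_bounded_projective_of_exact (P : DRing.Cx R) (a' a b : ℤ) (ha : a' + 1 = a)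
    (hb : DRing.VanishesAbove P b) (hP : ∀ i : ℤ, Module.Projective R (P.X i))
    (hex : ∀ j : ℤ, j < a → P.ExactAt j)
    (ψ : P.X a ⟶ P.opcycles a') (hψ : P.fromOpcycles a' a ≫ ψ = 𝟙 _) :
    ∃ P' : DRing.Cx R, DRing.VanishesOutside P' a b ∧ (∀ i : ℤ, Module.Projective R (P'.X i)) ∧
      Nonempty (DRing.toD P' ≅ DRing.toD P) := by
  have hGE : P.IsGE a := by
    rw [CochainComplex.isGE_iff]
    exact hex
  obtain ⟨s, hs⟩ := exists_section_pOpcycles P a' a ha ψ hψ
  have hproj : Module.Projective R (P.opcycles a) :=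
    Module.Projective.of_split s.hom (P.pOpcycles a).hom (by
      ext x
      exact congr($hs x))
  refine ⟨P.truncGE a, ?_, ?_, ⟨(asIso (Q.map (P.πTruncGE a))).symm⟩⟩
  · intro i hi
    by_cases h1 : i < a
    · exact (P.truncGE a).isZero_of_isStrictlyGE a i h1
    · have hib : b < i := by omega
      by_cases h2 : i = a
      · subst h2
        refine IsZero.of_iso ?_ (P.truncGEXIsoOpcycles i)
        rw [IsZero.iff_id_eq_zero, ← cancel_epi (P.pOpcycles i)]
        exact (hb i hib).eq_of_src _ _
      · exact IsZero.of_iso (hb i hib) (P.truncGEXIso a i (by omega))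
  · intro i
    by_cases h1 : i < a
    · have := ModuleCat.subsingleton_of_isZero ((P.truncGE a).isZero_of_isStrictlyGE a i h1)
      infer_instance
    · by_cases h2 : i = a
      · subst h2
        exact projective_of_iso (P.truncGEXIsoOpcycles i).symm hproj
      · exact projective_of_iso (P.truncGEXIso a i (by omega)).symm (hP i)

/-- Ext-vanishing in degree `-j` for all modules splits `fromOpcycles j`. -/
theorem exists_retraction_of_ext_vanishing (P : DRing.Cx R) (b : ℤ)
    (hb : DRing.VanishesAbove P b) (hP : ∀ i : ℤ, Module.Projective R (P.X i)) (j k : ℤ)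
    (hjk : j + 1 = k)
    (h : ∀ N : ModuleCat.{u} R, Subsingleton (Q.obj P ⟶
      ((DerivedCategory.singleFunctor (ModuleCat.{u} R) 0).obj N)⟦-j⟧)) :
    ∃ ψ : P.X k ⟶ P.opcycles j, P.fromOpcycles j k ≫ ψ = 𝟙 _ := by
  have : P.IsKProjective := isKProjective_of_vanishesAbove P b hb hP
  refine exists_retraction_fromOpcycles P j k hjk ?_
  have e := shiftSingleIso (P.opcycles j) (-j)
  rw [neg_neg] at e
  have h0 := (h (P.opcycles j)).elim
    (Q.map (toSingleOfCocycle P j (P.opcycles j) (P.pOpcycles j) (by simp)) ≫ e.inv) 0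
  exact (cancel_mono e.inv).mp (by rw [h0, zero_comp])

/-- `Ext^i(P, N) = 0` outside `[-b, -a]` for a complex of projectives in degrees `[a, b]`. -/
theorem subsingleton_hom_shift_of_projective_amplitude (P : DRing.Cx R) (a b : ℤ)
    (hP : DRing.VanishesOutside P a b) (hproj : ∀ i : ℤ, Module.Projective R (P.X i))
    (N : ModuleCat.{u} R) (i : ℤ) (hi : i < -b ∨ -a < i) :
    Subsingleton (Q.obj P ⟶
      ((DerivedCategory.singleFunctor (ModuleCat.{u} R) 0).obj N)⟦i⟧) := by
  have key : ∀ z : Q.obj P ⟶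
      ((DerivedCategory.singleFunctor (ModuleCat.{u} R) 0).obj N)⟦i⟧, z = 0 := by
    intro z
    rcases hi with hi | hi
    · have : P.IsStrictlyLE b := by
        rw [CochainComplex.isStrictlyLE_iff]
        exact fun j hj => hP j (Or.inr hj)
      have h1 : (Q.obj P).IsLE b := inferInstance
      have h2 : (((DerivedCategory.singleFunctor (ModuleCat.{u} R) 0).obj N)⟦i⟧).IsGE (-i) :=
        (DerivedCategory.TStructure.t).isGE_shift _ 0 i (-i) (by omega)
      exact (DerivedCategory.TStructure.t).zero z b (-i) (by omega)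
    · have h2 : (((DerivedCategory.singleFunctor (ModuleCat.{u} R) 0).obj N)⟦i⟧).IsLE (-i) :=
        (DerivedCategory.TStructure.t).isLE_shift _ 0 i (-i) (by omega)
      have h3 : (((DerivedCategory.singleFunctor (ModuleCat.{u} R) 0).obj N)⟦i⟧).IsLE (a - 1) :=
        (DerivedCategory.TStructure.t).isLE_of_le _ (-i) (a - 1) (by omega)
      exact hom_eq_zero_of_projective_of_isLE P a b hP hproj _ h3 z
  exact ⟨fun x y => by rw [key x, key y]⟩

/-- If `Ext^{-n}(K, N) = 0` for all modules `N`, then `H^n(K) = 0`. -/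
theorem isZero_homology_of_ext_vanishing (K : Dual.D R) (n : ℤ)
    (h : ∀ N : ModuleCat.{u} R, Subsingleton (K ⟶
      ((DerivedCategory.singleFunctor (ModuleCat.{u} R) 0).obj N)⟦-n⟧)) :
    IsZero ((DerivedCategory.homologyFunctor (ModuleCat.{u} R) n).obj K) := by
  let K' := Q.objPreimage K
  let e : Q.obj K' ≅ K := Q.objObjPreimageIso K
  let I := Injective.under (K'.homology n)
  let ι : K'.homology n ⟶ I := Injective.ι _
  let g : K'.opcycles n ⟶ I := Injective.factorThru ι (K'.homologyι n)
  have hg : K'.homologyι n ≫ g = ι := Injective.comp_factorThru _ _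
  have hφ : K'.d (n - 1) n ≫ K'.pOpcycles n ≫ g = 0 := by
    rw [d_pOpcycles_assoc, zero_comp]
  have e' := shiftSingleIso I (-n)
  rw [neg_neg] at e'
  have h0 := (h I).elim
    (e.inv ≫ Q.map (toSingleOfCocycle K' n I (K'.pOpcycles n ≫ g) hφ) ≫ e'.inv) 0
  have h1 : Q.map (toSingleOfCocycle K' n I (K'.pOpcycles n ≫ g) hφ) ≫ e'.inv = 0 :=
    (cancel_epi e.inv).mp (by rw [h0, comp_zero])
  have h2 : Q.map (toSingleOfCocycle K' n I (K'.pOpcycles n ≫ g) hφ) = 0 :=
    (cancel_mono e'.inv).mp (by rw [h1, zero_comp])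
  have h3 := homologyι_descOpcycles_eq_zero_of_Q_map_eq_zero K' n I _ hφ h2
  have h4 : K'.descOpcycles (K'.pOpcycles n ≫ g) (n - 1) (by simp) hφ = g := by
    rw [← cancel_epi (K'.pOpcycles n), p_descOpcycles]
  rw [h4, hg] at h3
  have hz : IsZero (K'.homology n) := IsZero.of_mono_eq_zero ι h3
  exact IsZero.of_iso hz ((DerivedCategory.homologyFunctor (ModuleCat.{u} R) n).mapIso e.symm ≪≫
    (DerivedCategory.homologyFunctorFactors (ModuleCat.{u} R) n).app K')

end Groth.Agent.H35
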