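import Mathlib
import Groth.Agent.H35.KFTorInv
import Groth.Agent.H35.ProjAmpGen
import Groth.Prelude.Def_DRing2

/-!
# Tor amplitude (flat representative form) via exactness of `F ⊗ N` (helper35)
-/

open CategoryTheory Limits MonoidalCategory

namespace Groth.Agent.H35.KF

universe u

variable {R : Type u} [CommRing R]

open HomologicalComplex

attribute [local instance] HasDerivedCategory.standard

/-- `F ⊗ N` is exact outside `[a, b]` for every module `N`. -/
def TorVanishing (F : CochainComplex (ModuleCat.{u} R) ℤ) (a b : ℤ) : Prop :=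
  ∀ (N : ModuleCat.{u} R) (i : ℤ), (i < a ∨ b < i) → TensExactAt F N i

lemma exactAt_of_tensExactAt_unit (F : CochainComplex (ModuleCat.{u} R) ℤ) (i : ℤ)
    (h : TensExactAt F (𝟙_ (ModuleCat.{u} R)) i) : F.ExactAt i := by
  rw [exactAt_iff' F (i - 1) i (i + 1) (by simp) (by simp)]
  have e : (F.sc' (i - 1) i (i + 1)).map (tensorRight (𝟙_ (ModuleCat.{u} R))) ≅
      (F.sc' (i - 1) i (i + 1)).map (𝟭 _) :=
    (F.sc' (i - 1) i (i + 1)).mapNatIso (rightUnitorNatIso (ModuleCat.{u} R))
  have h2 : ((F.sc' (i - 1) i (i + 1)).map (𝟭 _)).Exact := (ShortComplex.exact_iff_of_iso e).1 h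
  exact h2

/-- The opcycles in degree `a` of a complex of flat modules `P` are flat as soon as `P ⊗ N` is
exact in degree `a - 1` for all `N`. -/
lemma flat_opcycles (P : CochainComplex (ModuleCat.{u} R) ℤ) (a : ℤ)
    (hflat : Module.Flat R (P.X a))
    (h : ∀ N : ModuleCat.{u} R, TensExactAt P N (a - 1)) : Module.Flat R (P.opcycles a) := by
  have hfl : Module.Flat R ((P.X a) ⧸ LinearMap.range (P.d (a - 1) a).hom) := by
    refine Groth.Agent.H35.flat_coker_of_forall_exact (P.d (a - 2) (a - 1)).hom
      (P.d (a - 1) a).hom ?_ ?_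
    · rw [← ModuleCat.hom_comp, P.d_comp_d]
      rfl
    · intro N _ _
      rw [← tensExactAt_iff_function_exact P N (a - 2) (a - 1) a (by omega) (by omega)]
      exact h _
  let e₁ : P.opcycles a ≅ cokernel (P.d (a - 1) a) :=
    (P.opcyclesIsCokernel (a - 1) a (by simp)).coconePointUniqueUpToIso (colimit.isColimit _)
  let e₂ := ModuleCat.cokernelIsoRangeQuotient (P.d (a - 1) a)
  exact isFlat_of_iso (e₁ ≪≫ e₂).symm hfl

/-- A bounded above complex of projectives with tor vanishing outside `[a, b]` and vanishing in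
degrees `> b` is quasi-isomorphic to a complex of flat modules vanishing outside `[a, b]`. -/
theorem exists_flat_truncation (P : CochainComplex (ModuleCat.{u} R) ℤ) (a b : ℤ)
    (hb : ∀ i, b < i → IsZero (P.X i)) (hflat : ∀ i, Module.Flat R (P.X i))
    (hv : TorVanishing P a b) :
    ∃ (E : CochainComplex (ModuleCat.{u} R) ℤ), (∀ i, (i < a ∨ b < i) → IsZero (E.X i)) ∧
      (∀ i, Module.Flat R (E.X i)) ∧ Nonempty (DerivedCategory.Q.obj E ≅ DerivedCategory.Q.obj P) := by
  have hGE : P.IsGE a := by
    rw [CochainComplex.isGE_iff]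
    intro i hi
    exact exactAt_of_tensExactAt_unit P i (hv _ i (Or.inl hi))
  have hq : QuasiIso (P.πTruncGE a) := inferInstance
  have hiso : IsIso (DerivedCategory.Q.map (P.πTruncGE a)) :=
    (DerivedCategory.isIso_Q_map_iff_quasiIso (φ := P.πTruncGE a)).2 hq
  refine ⟨P.truncGE a, ?_, ?_, ⟨(asIso (DerivedCategory.Q.map (P.πTruncGE a))).symm⟩⟩
  · intro i hi
    by_cases h1 : i < a
    · exact (P.truncGE a).isZero_of_isStrictlyGE a i h1
    · have h2 : b < i := by omega
      by_cases h3 : i = a
      · subst h3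
        refine IsZero.of_iso ?_ (P.truncGEXIsoOpcycles i)
        have hepi : Epi (P.pOpcycles i) := inferInstance
        exact @IsZero.of_epi _ _ _ _ _ (P.pOpcycles i) hepi (hb i h2)
      · exact IsZero.of_iso (hb i h2) (P.truncGEXIso a i (by omega))
  · intro i
    by_cases h1 : i < a
    · exact isFlat_of_isZero ((P.truncGE a).isZero_of_isStrictlyGE a i h1)
    · by_cases h3 : i = a
      · subst h3
        exact isFlat_of_iso (P.truncGEXIsoOpcycles i).symm
          (flat_opcycles P i (hflat i) (fun N => hv N (i - 1) (Or.inl (by omega))))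
      · exact isFlat_of_iso (P.truncGEXIso a i (by omega)).symm (hflat i)

end Groth.Agent.H35.KF
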