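import Mathlib
import Groth.Agent.H35.TorAmp
import Groth.Agent.H35.ProjAmpTFAE

/-!
# Tor amplitude of objects of `D(R)`: characterization by tor vanishing of a representative
(helper35)
-/

open CategoryTheory Limits MonoidalCategory

namespace Groth.Agent.H35.KF

universe u

variable {R : Type u} [CommRing R]

open HomologicalComplex DerivedCategory

attribute [local instance] HasDerivedCategory.standard

lemma isZero_homology_of_exactAt (F : CochainComplex (ModuleCat.{u} R) ℤ) (n : ℤ)
    (h : F.ExactAt n) :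
    IsZero ((DerivedCategory.homologyFunctor (ModuleCat.{u} R) n).obj (Q.obj F)) :=
  ((exactAt_iff_isZero_homology F n).1 h).of_iso
    ((DerivedCategory.homologyFunctorFactors (ModuleCat.{u} R) n).app F)

/-- If some bounded above flat representative of `K` has tor vanishing outside `[a, b]`, then `K`
has tor amplitude in `[a, b]`. -/
theorem hasTorAmplitudeIn_of_torVanishing (K : Dual.D R) (a b : ℤ)
    (F : CochainComplex (ModuleCat.{u} R) ℤ) (c : ℤ) (hc : ∀ i, c < i → IsZero (F.X i))
    (hF : ∀ i, Module.Flat R (F.X i)) (e : Q.obj F ≅ K) (hv : TorVanishing F a b) :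
    DRing.HasTorAmplitudeIn R a b K := by
  have hK : ∀ n : ℤ, b < n →
      IsZero ((DerivedCategory.homologyFunctor (ModuleCat.{u} R) n).obj K) := by
    intro n hn
    refine (isZero_homology_of_exactAt F n
      (exactAt_of_tensExactAt_unit F n (hv _ n (Or.inr hn)))).of_iso
      ((DerivedCategory.homologyFunctor (ModuleCat.{u} R) n).mapIso e.symm)
  obtain ⟨P, hPb, hPproj, ⟨e'⟩⟩ := Groth.Agent.H35.exists_projective_rep K b hK
  have hPflat : ∀ i, Module.Flat R (P.X i) := fun i => by
    have := hPproj i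
    infer_instance
  have hvP : TorVanishing P a b := by
    intro N i hi
    rw [tensExactAt_iff_of_iso_Q P F b c hPb hc hPflat hF (e' ≪≫ e.symm) N i]
    exact hv N i hi
  obtain ⟨E, hE, hEfl, ⟨e''⟩⟩ := exists_flat_truncation P a b hPb hPflat hvP
  exact ⟨E, hE, hEfl, ⟨e'' ≪≫ e'⟩⟩

/-- If `K` has tor amplitude in `[a, b]`, every bounded above flat representative has tor vanishing
outside `[a, b]`. -/
theorem torVanishing_of_hasTorAmplitudeIn (K : Dual.D R) (a b : ℤ)
    (h : DRing.HasTorAmplitudeIn R a b K)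
    (F : CochainComplex (ModuleCat.{u} R) ℤ) (c : ℤ) (hc : ∀ i, c < i → IsZero (F.X i))
    (hF : ∀ i, Module.Flat R (F.X i)) (e : Q.obj F ≅ K) : TorVanishing F a b := by
  obtain ⟨E, hE, hEfl, ⟨e'⟩⟩ := h
  intro N i hi
  rw [tensExactAt_iff_of_iso_Q F E c b hc (fun i hi => hE i (Or.inr hi)) hF hEfl
    (e ≪≫ e'.symm) N i]
  exact tensExactAt_of_isZero E N i (hE i hi)

end Groth.Agent.H35.KF
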