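import Mathlib
import Groth.Agent.H35.LTensorRing
import Groth.Agent.H35.TorAmpD
import Groth.Prelude.Def_DRing2

/-!
# Tor amplitude via the derived tensor product (helper35)
-/

open CategoryTheory Limits MonoidalCategory ZeroObject

namespace Groth.Agent.H35.LT

universe u

open HomologicalComplex Groth.Agent.H35.KF DerivedCategory

attribute [local instance] HasDerivedCategory.standard

variable {R : Type u} [CommRing R]

/-- `H^i(K ⊗^L M)` computed on a K-flat representative. -/
noncomputable def homologyLTensorIso (M : ModuleCat.{u} R) [DRing.HasLTensor R M]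
    (P : CochainComplex (ModuleCat.{u} R) ℤ) (hP : IsKFlat P) (K : Dual.D R) (e : Q.obj P ≅ K)
    (i : ℤ) :
    (DerivedCategory.homologyFunctor (ModuleCat.{u} R) i).obj ((DRing.LTensor R M).obj K) ≅
      (((tensorRight M).mapHomologicalComplex (ComplexShape.up ℤ)).obj P).homology i :=
  (DerivedCategory.homologyFunctor (ModuleCat.{u} R) i).mapIso
    ((DRing.LTensor R M).mapIso e.symm ≪≫ LTensorIso M P hP) ≪≫
    (DerivedCategory.homologyFunctorFactors (ModuleCat.{u} R) i).app _

lemma subsingleton_HD_LTensor_iff (M : ModuleCat.{u} R) [DRing.HasLTensor R M]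
    (P : CochainComplex (ModuleCat.{u} R) ℤ) (hP : IsKFlat P) (K : Dual.D R) (e : Q.obj P ≅ K)
    (i : ℤ) :
    Subsingleton (Dual.HD R ((DRing.LTensor R M).obj K) i) ↔ TensExactAt P M i := by
  rw [← exactAt_map_tensorRight_iff, exactAt_iff_isZero_homology,
    ← ModuleCat.isZero_iff_subsingleton]
  exact (homologyLTensorIso M P hP K e i).isZero_iff

/-- Tor amplitude in `[a, b]` is equivalent to the vanishing of `H^i(K ⊗^L M)` outside `[a, b]`
for all modules `M`. -/
theorem hasTorAmplitudeIn_iff_LTensor [∀ M : ModuleCat.{u} R, DRing.HasLTensor R M]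
    (K : Dual.D R) (a b : ℤ) :
    DRing.HasTorAmplitudeIn R a b K ↔
      ∀ (M : ModuleCat.{u} R) (i : ℤ), (i < a ∨ b < i) →
        Subsingleton (Dual.HD R ((DRing.LTensor R M).obj K) i) := by
  constructor
  · rintro ⟨E, hE, hEfl, ⟨e⟩⟩ M i hi
    have hEK : IsKFlat E := isKFlat_of_bounded_flat E b (fun i hi => hE i (Or.inr hi)) hEfl
    rw [subsingleton_HD_LTensor_iff M E hEK K e i]
    exact tensExactAt_of_isZero E M i (hE i hi)
  · intro h
    obtain ⟨K', ⟨e₀⟩⟩ : ∃ K' : CochainComplex (ModuleCat.{u} R) ℤ, Nonempty (Q.obj K' ≅ K) :=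
      ⟨_, ⟨Q.objObjPreimageIso K⟩⟩
    obtain ⟨P, q, hP, -, hq, -⟩ := exists_isKFlat_resolution R K'
    have : IsIso (Q.map q) := (DerivedCategory.isIso_Q_map_iff_quasiIso (φ := q)).2 hq
    let e : Q.obj P ≅ K := asIso (Q.map q) ≪≫ e₀
    have hv : ∀ (M : ModuleCat.{u} R) (i : ℤ), (i < a ∨ b < i) → TensExactAt P M i :=
      fun M i hi => (subsingleton_HD_LTensor_iff M P hP K e i).1 (h M i hi)
    have hK : ∀ n : ℤ, b < n →
        IsZero ((DerivedCategory.homologyFunctor (ModuleCat.{u} R) n).obj K) := by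
      intro n hn
      exact (isZero_homology_of_exactAt P n
        (exactAt_of_tensExactAt_unit P n (hv _ n (Or.inr hn)))).of_iso
        ((DerivedCategory.homologyFunctor (ModuleCat.{u} R) n).mapIso e.symm)
    obtain ⟨P', hP'b, hP'proj, ⟨e'⟩⟩ := Groth.Agent.H35.exists_projective_rep K b hK
    have hP'flat : ∀ i, Module.Flat R (P'.X i) := fun i => by
      have := hP'proj i
      infer_instance
    have hP'K : IsKFlat P' := isKFlat_of_bounded_flat P' b hP'b hP'flat
    refine hasTorAmplitudeIn_of_torVanishing K a b P' b hP'b hP'flat e' ?_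
    intro M i hi
    exact (subsingleton_HD_LTensor_iff M P' hP'K K e' i).1 (h M i hi)

end Groth.Agent.H35.LT
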