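import Mathlib
import Groth.Agent.H35.LTensorAmp
import Groth.Agent.H35.KFSingle
import Groth.Agent.H35.KFSymmetry

/-!
# Amplitude of tensor products of complexes; tor amplitude via resolutions of the module (helper35)
-/

open CategoryTheory Limits MonoidalCategory

universe u

namespace Groth.Agent.H35.LT

open HomologicalComplex Groth.Agent.H35.KF DerivedCategory

attribute [local instance] HasDerivedCategory.standard

variable {R : Type u} [CommRing R]

/-- A term of `E ⊗ Y` vanishes when all its summands do. -/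
lemma isZero_tensor_X (E Y : CochainComplex (ModuleCat.{u} R) ℤ) (n : ℤ)
    (h : ∀ p q : ℤ, p + q = n → IsZero (E.X p) ∨ IsZero (Y.X q)) : IsZero ((E ⊗ Y).X n) := by
  rw [IsZero.iff_id_eq_zero]
  apply mapBifunctor.hom_ext
  intro p q hpq
  have hz : IsZero (((curriedTensor (ModuleCat.{u} R)).obj (E.X p)).obj (Y.X q)) := by
    rcases h p q hpq with h1 | h1
    · exact ((curriedTensor (ModuleCat.{u} R)).flip.obj (Y.X q)).map_isZero h1
    · exact ((curriedTensor (ModuleCat.{u} R)).obj (E.X p)).map_isZero h1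
  exact hz.eq_of_src _ _

/-- Lower bound for the amplitude of `E ⊗ Y`. -/
theorem exactAt_tensor_of_lt (E Y : CochainComplex (ModuleCat.{u} R) ℤ) (hE : IsKFlat E) (a c : ℤ)
    (ha : ∀ p : ℤ, p < a → IsZero (E.X p)) [Y.IsGE c] (n : ℤ) (hn : n < a + c) :
    (E ⊗ Y).ExactAt n := by
  have h1 : QuasiIso (E ◁ Y.πTruncGE c) :=
    quasiIso_whiskerLeft_of_left_flat E (isZero_homology_tensor_left_of_isKFlat hE) _
  rw [exactAt_iff_of_quasiIsoAt (E ◁ Y.πTruncGE c) n]
  refine ExactAt.of_isZero (isZero_tensor_X E (Y.truncGE c) n (fun p q hpq => ?_))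
  by_cases hp : p < a
  · exact Or.inl (ha p hp)
  · exact Or.inr (CochainComplex.isZero_of_isStrictlyGE (Y.truncGE c) c q (by omega))

/-- Upper bound for the amplitude of `E ⊗ Y`. -/
theorem exactAt_tensor_of_gt (E Y : CochainComplex (ModuleCat.{u} R) ℤ) (hE : IsKFlat E) (b d : ℤ)
    (hb : ∀ p : ℤ, b < p → IsZero (E.X p)) [Y.IsLE d] (n : ℤ) (hn : b + d < n) :
    (E ⊗ Y).ExactAt n := by
  have h1 : QuasiIso (E ◁ Y.ιTruncLE d) :=
    quasiIso_whiskerLeft_of_left_flat E (isZero_homology_tensor_left_of_isKFlat hE) _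
  rw [← exactAt_iff_of_quasiIsoAt (E ◁ Y.ιTruncLE d) n]
  refine ExactAt.of_isZero (isZero_tensor_X E (Y.truncLE d) n (fun p q hpq => ?_))
  by_cases hp : b < p
  · exact Or.inl (hb p hp)
  · exact Or.inr (CochainComplex.isZero_of_isStrictlyLE (Y.truncLE d) d q (by omega))

/-- Balancing: `P ⊗ N` for a K-flat resolution `P` of `X` versus `X ⊗ G` for a K-flat
resolution `G` of `N`. -/
lemma tensExactAt_iff_exactAt_tensor {P X G : CochainComplex (ModuleCat.{u} R) ℤ}
    (hP : IsKFlat P) (p : P ⟶ X) [QuasiIso p] (hG : IsKFlat G) (N : ModuleCat.{u} R)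
    (g : G ⟶ sgl N) [QuasiIso g] (i : ℤ) :
    TensExactAt P N i ↔ (X ⊗ G).ExactAt i := by
  rw [← exactAt_tensor_sgl_iff]
  have h1 : QuasiIso (P ◁ g) :=
    quasiIso_whiskerLeft_of_left_flat P (isZero_homology_tensor_left_of_isKFlat hP) g
  have h2 : QuasiIso (p ▷ G) := quasiIso_whiskerRight_of_isKFlat hG p
  rw [← exactAt_iff_of_quasiIsoAt (P ◁ g) i, exactAt_iff_of_quasiIsoAt (p ▷ G) i]

/-- Tor amplitude of `Q X` tested on K-flat resolutions of the modules. -/
theorem hasTorAmplitudeIn_Q_iff (X : CochainComplex (ModuleCat.{u} R) ℤ) (a b : ℤ) :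
    DRing.HasTorAmplitudeIn R a b (Q.obj X) ↔
      ∀ (N : ModuleCat.{u} R) (G : CochainComplex (ModuleCat.{u} R) ℤ) (_ : IsKFlat G)
        (g : G ⟶ sgl N) (_ : QuasiIso g) (i : ℤ), (i < a ∨ b < i) → (X ⊗ G).ExactAt i := by
  have : ∀ M : ModuleCat.{u} R, DRing.HasLTensor R M := fun M => hasLTensor M
  rw [hasTorAmplitudeIn_iff_LTensor]
  obtain ⟨P, p, hP, -, hp, -⟩ := exists_isKFlat_resolution R X
  have : IsIso (Q.map p) := (DerivedCategory.isIso_Q_map_iff_quasiIso (φ := p)).2 hp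
  let e : Q.obj P ≅ Q.obj X := asIso (Q.map p)
  constructor
  · intro h N G hG g hg i hi
    exact (tensExactAt_iff_exactAt_tensor hP p hG N g i).1
      ((subsingleton_HD_LTensor_iff N P hP _ e i).1 (h N i hi))
  · intro h N i hi
    obtain ⟨G, g, hG, -, hg, -⟩ := exists_isKFlat_resolution R (sgl N)
    exact (subsingleton_HD_LTensor_iff N P hP _ e i).2
      ((tensExactAt_iff_exactAt_tensor hP p hG N g i).2 (h N G hG g hg i hi))

end Groth.Agent.H35.LT
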