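import Mathlib
import Groth.Prelude.Def_DRing2
import Groth.Agent.H35.ProjAmpTFAE

/-!
# Maps from a complex to its module of opcycles (helper35)
-/

universe u

open CategoryTheory Pretriangulated Limits

attribute [local instance] HasDerivedCategory.standard

set_option linter.unusedSectionVars false

namespace Groth.Agent.H35

open DerivedCategory HomologicalComplex

variable {R : Type u} [CommRing R]

/-- The canonical chain map `E ⟶ (E^p/im d)[-p]` is injective on `H^p`. -/
lemma mono_homologyMap_toSingleOfCocycle_pOpcycles (E : DRing.Cx R) (p : ℤ) :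
    Mono (homologyMap (toSingleOfCocycle E p (E.opcycles p) (E.pOpcycles p) (by simp)) p) := by
  have h := homologyMap_toSingleOfCocycle E p (E.opcycles p) (E.pOpcycles p) (by simp)
  have h1 : E.descOpcycles (E.pOpcycles p) (p - 1) (by simp) (by simp) = 𝟙 _ := by
    rw [← cancel_epi (E.pOpcycles p), p_descOpcycles, Category.comp_id]
  rw [h1, Category.comp_id] at h
  have : Mono (homologyMap (toSingleOfCocycle E p (E.opcycles p) (E.pOpcycles p) (by simp)) p ≫
      (singleObjHomologySelfIso (ComplexShape.up ℤ) p (E.opcycles p)).hom) := by
    rw [h]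
    infer_instance
  exact mono_of_mono _ (singleObjHomologySelfIso (ComplexShape.up ℤ) p (E.opcycles p)).hom

/-- `E^p / im d` is finitely presented when `E^{p-1}` is finite and `E^p` is finitely presented. -/
lemma finitePresentation_opcycles (E : DRing.Cx R) (p : ℤ) (h1 : Module.Finite R (E.X (p - 1)))
    (h2 : Module.FinitePresentation R (E.X p)) : Module.FinitePresentation R (E.opcycles p) := by
  let S : ShortComplex (ModuleCat.{u} R) :=
    ShortComplex.mk (E.d (p - 1) p) (E.pOpcycles p) (by simp)
  have hS : S.Exact := S.exact_of_g_is_cokernel (E.opcyclesIsCokernel (p - 1) p (by simp))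
  have hsurj : Function.Surjective (E.pOpcycles p).hom :=
    (ModuleCat.epi_iff_surjective _).mp inferInstance
  refine Module.finitePresentation_of_surjective (E.pOpcycles p).hom hsurj ?_
  have hk : LinearMap.ker (E.pOpcycles p).hom = LinearMap.range (E.d (p - 1) p).hom :=
    hS.moduleCat_range_eq_ker.symm
  rw [hk, LinearMap.range_eq_map]
  exact Module.Finite.fg_top.map _

end Groth.Agent.H35
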