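import Mathlib
import Groth.Agent.H28.PCohRing
import Groth.Agent.H35.TorAmpD
import Groth.Agent.H35.PseudoCohMap

/-!
# Perfect = pseudo-coherent + finite tor dimension (helper35)
-/

open CategoryTheory Limits MonoidalCategory

namespace Groth.Agent.H35.KF

universe u

variable {R : Type u} [CommRing R]

open HomologicalComplex DerivedCategory

attribute [local instance] HasDerivedCategory.standard

/-- Perfect objects are pseudo-coherent. -/
theorem isPseudoCoherent'_of_isPerfect (K : Dual.D R) (h : DRing.IsPerfect R K) :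
    DRing.IsPseudoCoherent' R K := by
  obtain ⟨E, a, b, hE, hfp, he⟩ := h
  rw [Groth.Agent.H28.PCohRing.isPseudoCoherent'_iff]
  intro m
  rw [← Groth.Agent.H28.PCohRing.isNPC_finProj_iff]
  exact ⟨E, ⟨⟨b, fun i hi => hE i (Or.inr hi)⟩, fun i _ => hfp i⟩, he⟩

/-- A pseudo-coherent object with no cohomology above `b` is represented by a complex of finite
free modules vanishing above `b`. -/
theorem exists_finiteFree_rep_of_isPseudoCoherent' (K : Dual.D R)
    (hK : DRing.IsPseudoCoherent' R K) (b : ℤ)
    (hb : ∀ i : ℤ, b < i → IsZero ((DerivedCategory.homologyFunctor (ModuleCat.{u} R) i).obj K)) :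
    ∃ E : CochainComplex (ModuleCat.{u} R) ℤ, (∀ i, b < i → IsZero (E.X i)) ∧
      (∀ i, Module.Finite R (E.X i) ∧ Module.Free R (E.X i)) ∧ Nonempty (Q.obj E ≅ K) := by
  have hPC := (Groth.Agent.H28.PCohRing.isPseudoCoherent'_iff R K).1 hK
  obtain ⟨E, hE, hz, hiso⟩ := Groth.Agent.H28.PCohTower.exists_strictPCAll_iso
    (Groth.Agent.H28.PCohRing.hql_finFree R) (Groth.Agent.H28.PCohRing.finFree_prod R)
    (Groth.Agent.H28.PCohRing.hqs_finFree R) (b + 1) K hPC (fun i hi => hb i (by omega))
  exact ⟨E, fun i hi => hz i (by omega), hE.2, hiso⟩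

/-- A complex of finite projective modules vanishing above `b` with tor vanishing outside `[a, b]`
is quasi-isomorphic to a complex of finite projective modules vanishing outside `[a, b]`. -/
theorem exists_finiteProjective_truncation (P : CochainComplex (ModuleCat.{u} R) ℤ) (a b : ℤ)
    (hb : ∀ i, b < i → IsZero (P.X i))
    (hfp : ∀ i, Module.Finite R (P.X i) ∧ Module.Projective R (P.X i))
    (hv : TorVanishing P a b) :
    ∃ (E : CochainComplex (ModuleCat.{u} R) ℤ), (∀ i, (i < a ∨ b < i) → IsZero (E.X i)) ∧
      (∀ i, Module.Finite R (E.X i) ∧ Module.Projective R (E.X i)) ∧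
      Nonempty (DerivedCategory.Q.obj E ≅ DerivedCategory.Q.obj P) := by
  have hflat : ∀ i, Module.Flat R (P.X i) := fun i => by
    have := (hfp i).2
    infer_instance
  have hGE : P.IsGE a := by
    rw [CochainComplex.isGE_iff]
    intro i hi
    exact exactAt_of_tensExactAt_unit P i (hv _ i (Or.inl hi))
  have hq : QuasiIso (P.πTruncGE a) := inferInstance
  have hiso : IsIso (DerivedCategory.Q.map (P.πTruncGE a)) :=
    (DerivedCategory.isIso_Q_map_iff_quasiIso (φ := P.πTruncGE a)).2 hq
  refine ⟨P.truncGE a, ?_, ?_, ⟨(asIso (DerivedCategory.Q.map (P.πTruncGE a))).symm⟩⟩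
  · intro i hi
    by_cases h1 : i < a
    · exact (P.truncGE a).isZero_of_isStrictlyGE a i h1
    · have h2 : b < i := by omega
      by_cases h3 : i = a
      · subst h3
        refine IsZero.of_iso ?_ (P.truncGEXIsoOpcycles i)
        have hepi : Epi (P.pOpcycles i) := inferInstance
        exact @IsZero.of_epi _ _ _ _ _ (P.pOpcycles i) hepi (hb i h2)
      · exact IsZero.of_iso (hb i h2) (P.truncGEXIso a i (by omega))
  · intro i
    by_cases h1 : i < a
    · have hz := (P.truncGE a).isZero_of_isStrictlyGE a i h1
      have : Subsingleton ((P.truncGE a).X i) := ModuleCat.subsingleton_of_isZero hz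
      exact ⟨inferInstance, inferInstance⟩
    · by_cases h3 : i = a
      · subst h3
        have hfl : Module.Flat R (P.opcycles i) :=
          flat_opcycles P i (hflat i) (fun N => hv N (i - 1) (Or.inl (by omega)))
        have hfin1 := (hfp (i - 1)).1
        have hfin2 := (hfp i).1
        have hproj2 := (hfp i).2
        have hfpres : Module.FinitePresentation R (P.X i) :=
          Module.finitePresentation_of_projective R (P.X i)
        have hfpo : Module.FinitePresentation R (P.opcycles i) :=
          Groth.Agent.H35.finitePresentation_opcycles P i hfin1 hfpres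
        have hproj : Module.Projective R (P.opcycles i) :=
          Module.Flat.projective_of_finitePresentation
        have hfin : Module.Finite R (P.opcycles i) := inferInstance
        let e := (P.truncGEXIsoOpcycles i).toLinearEquiv
        exact ⟨Module.Finite.equiv e.symm, Module.Projective.of_equiv e.symm⟩
      · let e := (P.truncGEXIso a i (by omega)).toLinearEquiv
        have := (hfp i).1
        have := (hfp i).2
        exact ⟨Module.Finite.equiv e.symm, Module.Projective.of_equiv e.symm⟩

/-- A pseudo-coherent object with tor amplitude in `[a, b]` is represented by a complex of finite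
projective modules vanishing outside `[a, b]`. -/
theorem exists_finiteProjective_rep_of_isPseudoCoherent'_of_hasTorAmplitudeIn (K : Dual.D R)
    (hK : DRing.IsPseudoCoherent' R K) (a b : ℤ) (h : DRing.HasTorAmplitudeIn R a b K) :
    ∃ E : DRing.Cx R, DRing.VanishesOutside E a b ∧ DRing.TermwiseFiniteProjective E ∧
      Nonempty (DRing.toD E ≅ K) := by
  have hb : ∀ i : ℤ, b < i →
      IsZero ((DerivedCategory.homologyFunctor (ModuleCat.{u} R) i).obj K) := by
    obtain ⟨F, hF, -, ⟨e⟩⟩ := h
    intro i hi
    refine IsZero.of_iso ?_ ((DerivedCategory.homologyFunctor (ModuleCat.{u} R) i).mapIso e.symm)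
    refine isZero_homology_of_exactAt F i ?_
    exact HomologicalComplex.ExactAt.of_isZero (hF i (Or.inr hi))
  obtain ⟨E, hEb, hEff, ⟨e⟩⟩ := exists_finiteFree_rep_of_isPseudoCoherent' K hK b hb
  have hEflat : ∀ i, Module.Flat R (E.X i) := fun i => by
    have := (hEff i).2
    infer_instance
  have hv : TorVanishing E a b := torVanishing_of_hasTorAmplitudeIn K a b h E b hEb hEflat e
  obtain ⟨E', hE', hE'fp, ⟨e'⟩⟩ := exists_finiteProjective_truncation E a b hEb
    (fun i => by
      have := (hEff i).2
      exact ⟨(hEff i).1, inferInstance⟩) hv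
  exact ⟨E', hE', hE'fp, ⟨e' ≪≫ e⟩⟩

/-- S6954. -/
theorem isPerfect_iff_isPseudoCoherent'_and_hasFiniteTorDimCx (K : Dual.D R) :
    DRing.IsPerfect R K ↔ DRing.IsPseudoCoherent' R K ∧ DRing.HasFiniteTorDimCx R K := by
  constructor
  · intro h
    refine ⟨isPseudoCoherent'_of_isPerfect K h, ?_⟩
    obtain ⟨E, a, b, hE, hfp, he⟩ := h
    exact ⟨a, b, E, hE, fun i => by
      have := (hfp i).2
      infer_instance, he⟩
  · rintro ⟨hK, a, b, h⟩
    obtain ⟨E, hE, hfp, he⟩ :=
      exists_finiteProjective_rep_of_isPseudoCoherent'_of_hasTorAmplitudeIn K hK a b h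
    exact ⟨E, a, b, hE, hfp, he⟩

end Groth.Agent.H35.KF
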