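import Mathlib
import Groth.Agent.H35.PerfectPC
import Groth.Prelude.Def_DualSh

/-!
# Restriction of scalars along a flat ring map and tor amplitude (helper35)
-/

open CategoryTheory Limits

namespace Groth.Agent.H35.KF

universe u

open HomologicalComplex DerivedCategory

attribute [local instance] HasDerivedCategory.standard

variable {R A : Type u} [CommRing R] [CommRing A] [Algebra R A]

/-- A flat `A`-module is flat over `R` when `A` is a flat `R`-algebra. -/
lemma flat_restrictScalars_of_flat [Module.Flat R A] (N : ModuleCat.{u} A) [Module.Flat A N] :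
    Module.Flat R ((ModuleCat.restrictScalars (algebraMap R A)).obj N) := by
  let _ : Module A ((ModuleCat.restrictScalars (algebraMap R A)).obj N) :=
    inferInstanceAs (Module A N)
  have : IsScalarTower R A ((ModuleCat.restrictScalars (algebraMap R A)).obj N) :=
    ⟨fun r a x => by
      change (r • a) • (show N from x) = algebraMap R A r • (a • (show N from x))
      rw [Algebra.smul_def, mul_smul]⟩
  have : Module.Flat A ((ModuleCat.restrictScalars (algebraMap R A)).obj N) :=
    inferInstanceAs (Module.Flat A N)
  exact Module.Flat.trans R A _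

/-- Restriction of scalars along a flat map preserves tor amplitude. -/
theorem hasTorAmplitudeIn_restrictD_of_flat [Module.Flat R A] (K : Dual.D A) (a b : ℤ)
    (h : DRing.HasTorAmplitudeIn A a b K) :
    DRing.HasTorAmplitudeIn R a b ((DRing.restrictD (algebraMap R A)).obj K) := by
  obtain ⟨E, hE, hfl, ⟨e⟩⟩ := h
  refine ⟨((ModuleCat.restrictScalars (algebraMap R A)).mapHomologicalComplex
    (ComplexShape.up ℤ)).obj E, ?_, ?_,
    ⟨((ModuleCat.restrictScalars (algebraMap R A)).mapDerivedCategoryFactors.app E).symm ≪≫
      (DRing.restrictD (algebraMap R A)).mapIso e⟩⟩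
  · intro i hi
    exact (ModuleCat.restrictScalars (algebraMap R A)).map_isZero (hE i hi)
  · intro i
    have := hfl i
    exact flat_restrictScalars_of_flat (E.X i)

/-- S7073: for flat `R → A`, perfect objects of `D(A)` are `R`-perfect. -/
theorem isRelPerfect_of_isPerfect [Module.Flat R A] (K : Dual.D A) (hK : DRing.IsPerfect A K) :
    Dual2.IsRelPerfect R A K := by
  refine ⟨isPseudoCoherent'_of_isPerfect K hK, ?_⟩
  obtain ⟨E, a, b, hE, hfp, he⟩ := hK
  exact ⟨a, b, hasTorAmplitudeIn_restrictD_of_flat K a b ⟨E, hE, fun i => by
    have := (hfp i).2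
    infer_instance, he⟩⟩

end Groth.Agent.H35.KF
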