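import Mathlib
import Groth.Agent.H35.BoundedInduction
import Groth.Agent.H45.Derived.BoundedInduction

/-!
# Degree-dependent induction over bounded complexes / bounded objects (helper35)

Variants of `induction_bounded` and of helper45's `bounded_induction` where the condition on the
terms (resp. cohomology objects) may depend on the degree.
-/

universe u

open CategoryTheory Pretriangulated Limits

attribute [local instance] HasDerivedCategory.standard

namespace Groth.Agent.H35

open DerivedCategory

variable {R : Type u} [CommRing R]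

/-- Induction over bounded complexes, with a degree-dependent condition on the terms. -/
theorem induction_bounded_deg (P : Dual.D R → Prop) (Cm : ℤ → ModuleCat.{u} R → Prop)
    (hCiso : ∀ (i : ℤ) (M N : ModuleCat.{u} R), (M ≅ N) → Cm i M → Cm i N)
    (hzero : ∀ X : Dual.D R, IsZero X → P X)
    (hext : ∀ T : Triangle (Dual.D R), T ∈ distTriang (Dual.D R) → P T.obj₁ → P T.obj₃ → P T.obj₂)
    (hsingle : ∀ (M : ModuleCat.{u} R) (i : ℤ), Cm i M →
      P (Q.obj ((HomologicalComplex.single (ModuleCat.{u} R) (ComplexShape.up ℤ) i).obj M)))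
    (E : DRing.Cx R) (a b : ℤ) (hE : DRing.VanishesOutside E a b)
    (hC : ∀ i : ℤ, a ≤ i → i ≤ b → Cm i (E.X i)) : P (Q.obj E) := by
  obtain ⟨n, hn⟩ : ∃ n : ℕ, b < a + n := ⟨(b - a + 1).toNat, by omega⟩
  induction n generalizing E a with
  | zero =>
    apply hzero
    apply isZero_Q_of_isZero_X
    intro i
    apply hE
    omega
  | succ n ih =>
    have ha : IsZero (E.X (a - 1)) := hE _ (Or.inl (by omega))
    have hT := bottom_triangle_distinguished E a ha
    refine hext _ hT ?_ ?_
    · refine ih (truncBottom E a ha) (a + 1) ?_ ?_ (by omega)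
      · intro i hi
        by_cases h : i = a
        · subst h
          exact truncBottom_isZero_X E i ha
        · exact truncBottom_isZero_of_isZero E a ha i (hE i (by omega))
      · intro i hi hi'
        exact hCiso i _ _ (truncBottomXIso E a ha i (by omega)).symm (hC i (by omega) hi')
    · by_cases hab : a ≤ b
      · exact hsingle _ _ (hC a le_rfl hab)
      · apply hzero
        apply isZero_Q_of_isZero_X
        intro i
        by_cases h : i = a
        · subst h
          exact IsZero.of_iso (hE i (Or.inr (by omega)))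
            (HomologicalComplex.singleObjXSelf (ComplexShape.up ℤ) i (E.X i))
        · exact HomologicalComplex.isZero_single_obj_X _ _ _ _ h

section Homology

universe w₁ v₁ u₁

variable {𝒜 : Type u₁} [Category.{v₁} 𝒜] [Abelian 𝒜] [HasDerivedCategory.{w₁} 𝒜]

open Groth.Agent.H45

/-- Induction on the cohomological amplitude, with a degree-dependent condition on the cohomology
objects. -/
theorem bounded_induction_deg (P : ObjectProperty (DerivedCategory 𝒜))
    [P.IsClosedUnderIsomorphisms]
    (S : ℤ → ObjectProperty 𝒜) [∀ n, (S n).IsClosedUnderIsomorphisms]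
    (hzero : ∀ Z : DerivedCategory 𝒜, IsZero Z → P Z)
    (htri : ∀ T : Triangle (DerivedCategory 𝒜), T ∈ distTriang _ → P T.obj₁ → P T.obj₃ → P T.obj₂)
    (hS : ∀ (M : 𝒜) (n : ℤ), S n M → P ((singleFunctor 𝒜 n).obj M))
    (hS0 : ∀ (n : ℤ) (M : 𝒜), IsZero M → S n M) (k : ℕ) :
    ∀ (Z : DerivedCategory 𝒜) (a : ℤ), Z.IsGE a → Z.IsLE (a + k - 1) →
      (∀ q : ℤ, S q ((homologyFunctor 𝒜 q).obj Z)) → P Z := by
  induction k with
  | zero =>
    intro Z a hGE hLE _
    exact hzero Z (TStructure.t.isZero Z (a + (0 : ℕ) - 1) a (by simp))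
  | succ k ih =>
    intro Z a hGE hLE hZ
    let n : ℤ := a + k
    have hLE' : Z.IsLE n := by
      have : a + ((k + 1 : ℕ) : ℤ) - 1 = n := by simp only [n]; omega
      rw [← this]
      exact hLE
    have hT := TStructure.t.triangleLTGE_distinguished n Z
    have h₁ : P ((TStructure.t.truncLT n).obj Z) := by
      apply ih _ a inferInstance
      · have : a + (k : ℤ) - 1 = n - 1 := by simp [n]
        rw [this]
        infer_instance
      · intro q
        by_cases hq : q < n
        · have := isIso_homologyMap_truncLTι Z n q hq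
          exact (S q).prop_of_iso
            (asIso ((homologyFunctor 𝒜 q).map ((TStructure.t.truncLTι n).app Z))).symm (hZ q)
        · apply hS0
          exact isZero_of_isLE _ (n - 1) q (by lia)
    have h₃ : P ((TStructure.t.truncGE n).obj Z) := by
      obtain ⟨A, ⟨e⟩⟩ := exists_iso_singleFunctor_obj_of_isGE_of_isLE
        ((TStructure.t.truncGE n).obj Z) n
      have := isIso_homologyMap_truncGEπ Z n n le_rfl
      have eA : (homologyFunctor 𝒜 n).obj Z ≅ A :=
        asIso ((homologyFunctor 𝒜 n).map ((TStructure.t.truncGEπ n).app Z)) ≪≫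
          (homologyFunctor 𝒜 n).mapIso e ≪≫ (singleFunctorCompHomologyFunctorIso 𝒜 n).app A
      exact P.prop_of_iso e.symm (hS A n ((S n).prop_of_iso eA (hZ n)))
    exact htri _ hT h₁ h₃

/-- Bounded objects: existence of bounds. -/
theorem bounded_induction_deg' (P : ObjectProperty (DerivedCategory 𝒜))
    [P.IsClosedUnderIsomorphisms]
    (S : ℤ → ObjectProperty 𝒜) [∀ n, (S n).IsClosedUnderIsomorphisms]
    (hzero : ∀ Z : DerivedCategory 𝒜, IsZero Z → P Z)
    (htri : ∀ T : Triangle (DerivedCategory 𝒜), T ∈ distTriang _ → P T.obj₁ → P T.obj₃ → P T.obj₂)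
    (hS : ∀ (M : 𝒜) (n : ℤ), S n M → P ((singleFunctor 𝒜 n).obj M))
    (hS0 : ∀ (n : ℤ) (M : 𝒜), IsZero M → S n M)
    (Z : DerivedCategory 𝒜) (a b : ℤ) (hGE : Z.IsGE a) (hLE : Z.IsLE b)
    (hZ : ∀ q : ℤ, S q ((homologyFunctor 𝒜 q).obj Z)) : P Z := by
  obtain ⟨k, hk⟩ : ∃ k : ℕ, b ≤ a + k - 1 := ⟨(b + 1 - a).toNat, by lia⟩
  exact bounded_induction_deg P S hzero htri hS hS0 k Z a hGE
    (TStructure.t.isLE_of_le _ b _ hk) hZ

end Homology

end Groth.Agent.H35
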