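import Mathlib
import Groth.Prelude.Def_DRing2
import Groth.Agent.H35.BoundedInduction
import Groth.Agent.H45.Derived.BoundedInduction

/-!
# Perfect objects: shifts, cones, zero, singles (helper35)
-/

universe u

open CategoryTheory Pretriangulated Limits ZeroObject

attribute [local instance] HasDerivedCategory.standard

namespace Groth.Agent.H35

open DerivedCategory

variable (R : Type u) [CommRing R]

/-- Perfectness is stable under shifts. -/
theorem isPerfect_shift (K : Dual.D R) (n : ℤ)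
    (h : DRing.IsPerfect R K) : DRing.IsPerfect R (K⟦n⟧) := by
  obtain ⟨E, a, b, hab, hfp, ⟨e⟩⟩ := h
  refine ⟨E⟦n⟧, a - n, b - n, ?_, ?_, ⟨QShiftIso E n ≪≫ (shiftFunctor (Dual.D R) n).mapIso e⟩⟩
  · intro i hi
    exact hab (i + n) (by omega)
  · intro i
    exact hfp (i + n)

/-- Perfectness is stable under cones. -/
theorem isPerfect_cone (T : Triangle (Dual.D R))
    (hT : T ∈ distTriang (Dual.D R)) (h₁ : DRing.IsPerfect R T.obj₁)
    (h₂ : DRing.IsPerfect R T.obj₂) : DRing.IsPerfect R T.obj₃ := by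
  obtain ⟨E₁, a₁, b₁, hab₁, hfp₁, ⟨e₁⟩⟩ := h₁
  obtain ⟨E₂, a₂, b₂, hab₂, hfp₂, ⟨e₂⟩⟩ := h₂
  have : E₁.IsKProjective := isKProjective_of_vanishesAbove E₁ b₁
    (fun i hi => hab₁ i (Or.inr hi)) fun i => (hfp₁ i).2
  obtain ⟨a, ⟨e₃⟩⟩ := exists_mappingCone_iso T hT E₁ E₂ e₁ e₂
  refine ⟨CochainComplex.mappingCone a, min (a₁ - 1) a₂, max b₁ b₂, ?_, ?_, ⟨e₃⟩⟩
  · intro i hi
    refine mappingCone_isZero a i (hab₁ _ ?_) (hab₂ _ ?_)
    · rcases hi with hi | hi
      · left; omega
      · right; omega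
    · rcases hi with hi | hi
      · left; omega
      · right; omega
  · intro i
    exact ⟨mappingCone_finite a i (hfp₁ _).1 (hfp₂ _).1,
      mappingCone_projective a i (hfp₁ _).2 (hfp₂ _).2⟩

lemma isPerfect_of_iso {K L : Dual.D R} (e : K ≅ L) (h : DRing.IsPerfect R K) :
    DRing.IsPerfect R L := by
  obtain ⟨E, a, b, hab, hfp, ⟨e'⟩⟩ := h
  exact ⟨E, a, b, hab, hfp, ⟨e' ≪≫ e⟩⟩

/-- Two-out-of-three for perfect objects. -/
theorem isPerfect_two_out_of_three (T : Triangle (Dual.D R)) (hT : T ∈ distTriang (Dual.D R)) :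
    (DRing.IsPerfect R T.obj₁ → DRing.IsPerfect R T.obj₂ → DRing.IsPerfect R T.obj₃) ∧
      (DRing.IsPerfect R T.obj₁ → DRing.IsPerfect R T.obj₃ → DRing.IsPerfect R T.obj₂) ∧
      (DRing.IsPerfect R T.obj₂ → DRing.IsPerfect R T.obj₃ → DRing.IsPerfect R T.obj₁) :=
  two_out_of_three_of_cone (DRing.IsPerfect R) (fun _ _ e h => isPerfect_of_iso R e h)
    (isPerfect_shift R) (isPerfect_cone R) T hT

/-- Zero objects are perfect. -/
theorem isPerfect_of_isZero (X : Dual.D R) (hX : IsZero X) : DRing.IsPerfect R X := by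
  have h0 : ∀ i : ℤ, IsZero ((0 : DRing.Cx R).X i) := fun i =>
    (HomologicalComplex.eval _ _ i).map_isZero (isZero_zero _)
  refine ⟨0, 0, 0, fun i _ => h0 i, fun i => ?_, ⟨(isZero_Q_of_isZero_X _ h0).iso hX⟩⟩
  have : Subsingleton ((0 : DRing.Cx R).X i) := ModuleCat.subsingleton_of_isZero (h0 i)
  exact ⟨inferInstance, inferInstance⟩

/-- A perfect module placed in any degree is perfect. -/
theorem isPerfect_single (M : ModuleCat.{u} R) (i : ℤ)
    (h : DRing.IsPerfect R ((DerivedCategory.singleFunctor (ModuleCat.{u} R) 0).obj M)) :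
    DRing.IsPerfect R ((DerivedCategory.singleFunctor (ModuleCat.{u} R) i).obj M) := by
  have e : (shiftFunctor (Dual.D R) (-i)).obj
      ((DerivedCategory.singleFunctor (ModuleCat.{u} R) 0).obj M) ≅
      (DerivedCategory.singleFunctor (ModuleCat.{u} R) i).obj M :=
    ((DerivedCategory.singleFunctors (ModuleCat.{u} R)).shiftIso (-i) i 0 (by omega)).app M
  exact isPerfect_of_iso R e (isPerfect_shift R _ _ h)

/-- A bounded complex of perfect modules is perfect. -/
theorem isPerfect_of_bounded_termwise (K : DRing.Cx R) (a b : ℤ)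
    (hab : DRing.VanishesOutside K a b) (hK : ∀ i : ℤ, DRing.IsPerfectModule R (K.X i)) :
    DRing.IsPerfect R (DRing.toD K) := by
  refine induction_bounded (DRing.IsPerfect R)
    (fun M => DRing.IsPerfect R ((DerivedCategory.singleFunctor (ModuleCat.{u} R) 0).obj M))
    ?_ (isPerfect_of_isZero R) (fun T hT => (isPerfect_two_out_of_three R T hT).2.1) ?_
    K a b hab (fun i _ _ => hK i)
  · intro M N e h
    exact isPerfect_of_iso R ((DerivedCategory.singleFunctor (ModuleCat.{u} R) 0).mapIso e) h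
  · intro M i h
    exact isPerfect_single R M i h

/-- An object with bounded cohomology, all of whose cohomology modules are perfect, is perfect. -/
theorem isPerfect_of_bounded_homology (K : Dual.D R)
    (hb : ∃ a b : ℤ, ∀ i : ℤ, (i < a ∨ b < i) → Subsingleton (Dual.HD R K i))
    (hK : ∀ i : ℤ, DRing.IsPerfectModule R (Dual.HD R K i)) : DRing.IsPerfect R K := by
  obtain ⟨a, b, hab⟩ := hb
  let P : ObjectProperty (Dual.D R) := DRing.IsPerfect R
  have : P.IsClosedUnderIsomorphisms := ⟨fun e h => isPerfect_of_iso R e h⟩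
  let S : ObjectProperty (ModuleCat.{u} R) := fun M =>
    DRing.IsPerfect R ((DerivedCategory.singleFunctor (ModuleCat.{u} R) 0).obj M)
  have : S.IsClosedUnderIsomorphisms := ⟨fun e h =>
    isPerfect_of_iso R ((DerivedCategory.singleFunctor (ModuleCat.{u} R) 0).mapIso e) h⟩
  have hGE : K.IsGE a := by
    rw [DerivedCategory.isGE_iff]
    intro i hi
    have := hab i (Or.inl hi)
    exact ModuleCat.isZero_of_subsingleton _
  have hLE : K.IsLE b := by
    rw [DerivedCategory.isLE_iff]
    intro i hi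
    have := hab i (Or.inr hi)
    exact ModuleCat.isZero_of_subsingleton _
  refine Groth.Agent.H45.bounded_induction' P S (isPerfect_of_isZero R)
    (fun T hT => (isPerfect_two_out_of_three R T hT).2.1) (fun M n h => isPerfect_single R M n h)
    ?_ K a b hGE hLE (fun q => hK q)
  intro M hM
  exact isPerfect_of_isZero R _ ((DerivedCategory.singleFunctor (ModuleCat.{u} R) 0).map_isZero hM)

end Groth.Agent.H35
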