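import Mathlib
import Groth.Agent.H35.TorAmpD
import Groth.Agent.H35.ConeRep
import Groth.Agent.H35.PerfCx

/-!
# Tor amplitude in distinguished triangles (helper35)
-/

open CategoryTheory Limits MonoidalCategory Pretriangulated

namespace Groth.Agent.H35.KF

universe u

variable {R : Type u} [CommRing R]

open HomologicalComplex DerivedCategory

attribute [local instance] HasDerivedCategory.standard

lemma tensExactAt_shift_one (P : CochainComplex (ModuleCat.{u} R) ℤ) (N : ModuleCat.{u} R) (i : ℤ)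
    (h : TensExactAt P N (i + 1)) : TensExactAt (P⟦(1 : ℤ)⟧) N i := by
  rw [← exactAt_tensor_sgl_iff] at h ⊢
  rw [exactAt_iff_isZero_homology] at h ⊢
  have e : (P⟦(1 : ℤ)⟧) ⊗ sgl N ≅ (P ⊗ sgl N)⟦(1 : ℤ)⟧ :=
    CochainComplex.mapBifunctorShift₁Iso P (sgl N) (curriedTensor (ModuleCat.{u} R)) 1
  have h1 : IsZero ((P ⊗ sgl N).homology (1 + i)) := by rwa [add_comm] at h
  have h' : IsZero (((P ⊗ sgl N)⟦(1 : ℤ)⟧).homology i) :=
    h1.of_iso ((CochainComplex.ShiftSequence.shiftIso (ModuleCat.{u} R) 1 i (1 + i) rfl).app _)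
  exact h'.of_iso ((HomologicalComplex.homologyFunctor _ _ i).mapIso e)

/-- Exactness of `cone(f) ⊗ N` in degree `i` from exactness of `P₁ ⊗ N` in degree `i + 1` and of
`P₂ ⊗ N` in degree `i`. -/
lemma tensExactAt_mappingCone {P₁ P₂ : CochainComplex (ModuleCat.{u} R) ℤ} (f : P₁ ⟶ P₂)
    (N : ModuleCat.{u} R) (i : ℤ) (h₁ : TensExactAt P₁ N (i + 1)) (h₂ : TensExactAt P₂ N i) :
    TensExactAt (CochainComplex.mappingCone f) N i := by
  have h₃ := tensExactAt_shift_one P₁ N i h₁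
  rw [← exactAt_tensor_sgl_iff] at h₂ h₃ ⊢
  rw [exactAt_iff_isZero_homology] at h₂ h₃ ⊢
  have hS := Groth.Agent.H5.BifunctorSplit.shortExact_G_cone
    (curriedTensor (ModuleCat.{u} R)) (sgl N) f
  exact (hS.homology_exact₂ i).isZero_of_both_zeros (h₂.eq_of_src _ _) (h₃.eq_of_tgt _ _)

lemma hasTorAmplitudeIn_of_iso {K L : Dual.D R} (e : K ≅ L) (a b : ℤ)
    (h : DRing.HasTorAmplitudeIn R a b K) : DRing.HasTorAmplitudeIn R a b L := by
  obtain ⟨E, hE, hfl, ⟨e'⟩⟩ := h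
  exact ⟨E, hE, hfl, ⟨e' ≪≫ e⟩⟩

/-- Tor amplitude and shifts. -/
theorem hasTorAmplitudeIn_shift (K : Dual.D R) (a b n : ℤ)
    (h : DRing.HasTorAmplitudeIn R a b K) : DRing.HasTorAmplitudeIn R (a - n) (b - n) (K⟦n⟧) := by
  obtain ⟨E, hE, hfl, ⟨e⟩⟩ := h
  refine ⟨E⟦n⟧, ?_, ?_, ⟨Groth.Agent.H35.QShiftIso E n ≪≫ (shiftFunctor (Dual.D R) n).mapIso e⟩⟩
  · intro i hi
    exact hE (i + n) (by omega)
  · intro i
    exact hfl (i + n)

lemma isZero_homology_of_hasTorAmplitudeIn (K : Dual.D R) (a b : ℤ)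
    (h : DRing.HasTorAmplitudeIn R a b K) (n : ℤ) (hn : n < a ∨ b < n) :
    IsZero ((DerivedCategory.homologyFunctor (ModuleCat.{u} R) n).obj K) := by
  obtain ⟨E, hE, hEfl, ⟨e⟩⟩ := h
  refine (isZero_homology_of_exactAt E n ?_).of_iso
    ((DerivedCategory.homologyFunctor (ModuleCat.{u} R) n).mapIso e.symm)
  exact ShortComplex.exact_of_isZero_X₂ _ (hE n hn)

/-- Tor amplitude of the cone. -/
theorem hasTorAmplitudeIn_cone (a b : ℤ) (T : Triangle (Dual.D R))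
    (hT : T ∈ distTriang (Dual.D R))
    (h₁ : DRing.HasTorAmplitudeIn R (a + 1) (b + 1) T.obj₁)
    (h₂ : DRing.HasTorAmplitudeIn R a b T.obj₂) : DRing.HasTorAmplitudeIn R a b T.obj₃ := by
  obtain ⟨P₁, hb₁, hproj₁, ⟨e₁⟩⟩ := Groth.Agent.H35.exists_projective_rep T.obj₁ (b + 1)
    (fun n hn => isZero_homology_of_hasTorAmplitudeIn T.obj₁ (a + 1) (b + 1) h₁ n (Or.inr hn))
  obtain ⟨E₂, hE₂, hfl₂, ⟨e₂⟩⟩ := id h₂
  have hfl₁ : ∀ i, Module.Flat R (P₁.X i) := fun i => by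
    have := hproj₁ i
    infer_instance
  have : P₁.IsKProjective := Groth.Agent.H35.isKProjective_of_vanishesAbove P₁ (b + 1) hb₁ hproj₁
  obtain ⟨f, ⟨e₃⟩⟩ := Groth.Agent.H35.exists_mappingCone_iso T hT P₁ E₂ e₁ e₂
  have hv₁ : TorVanishing P₁ (a + 1) (b + 1) :=
    torVanishing_of_hasTorAmplitudeIn T.obj₁ (a + 1) (b + 1) h₁ P₁ (b + 1) hb₁ hfl₁ e₁
  refine hasTorAmplitudeIn_of_torVanishing T.obj₃ a b (CochainComplex.mappingCone f) b ?_ ?_ e₃ ?_
  · intro i hi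
    exact Groth.Agent.H35.mappingCone_isZero f i (hb₁ _ (by omega)) (hE₂ _ (Or.inr hi))
  · intro i
    exact isFlat_of_iso (Groth.Agent.H35.mappingConeXIso f i).symm
      (isFlat_biprod _ _ (hfl₁ _) (hfl₂ _))
  · intro N i hi
    refine tensExactAt_mappingCone f N i (hv₁ N (i + 1) (by omega)) ?_
    exact tensExactAt_of_isZero E₂ N i (hE₂ i hi)

/-- Two out of three for tor amplitude in distinguished triangles. -/
theorem hasTorAmplitudeIn_triangle (a b : ℤ) (T : Triangle (Dual.D R))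
    (hT : T ∈ distTriang (Dual.D R)) :
    (DRing.HasTorAmplitudeIn R (a + 1) (b + 1) T.obj₁ → DRing.HasTorAmplitudeIn R a b T.obj₂ →
        DRing.HasTorAmplitudeIn R a b T.obj₃) ∧
      (DRing.HasTorAmplitudeIn R a b T.obj₁ → DRing.HasTorAmplitudeIn R a b T.obj₃ →
        DRing.HasTorAmplitudeIn R a b T.obj₂) ∧
      (DRing.HasTorAmplitudeIn R (a + 1) (b + 1) T.obj₂ → DRing.HasTorAmplitudeIn R a b T.obj₃ →
        DRing.HasTorAmplitudeIn R (a + 1) (b + 1) T.obj₁) := by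
  refine ⟨hasTorAmplitudeIn_cone a b T hT, fun h₁ h₃ => ?_, fun h₂ h₃ => ?_⟩
  · have h := hasTorAmplitudeIn_shift T.obj₃ a b (-1) h₃
    have e : a - -1 = a + 1 := by omega
    have e' : b - -1 = b + 1 := by omega
    rw [e, e'] at h
    exact hasTorAmplitudeIn_cone a b T.invRotate (inv_rot_of_distTriang T hT) h h₁
  · have h := hasTorAmplitudeIn_cone a b T.rotate (rot_of_distTriang T hT) h₂ h₃
    have h' := hasTorAmplitudeIn_shift _ a b (-1) h
    have e : a - -1 = a + 1 := by omega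
    have e' : b - -1 = b + 1 := by omega
    rw [e, e'] at h'
    exact hasTorAmplitudeIn_of_iso ((shiftFunctorCompIsoId (Dual.D R) 1 (-1) (by omega)).app T.obj₁)
      _ _ h'

end Groth.Agent.H35.KF
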