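import Mathlib
import Groth.Agent.H35.BoundedInductionDeg
import Groth.Agent.H35.TorAmpCone
import Groth.Agent.H35.PerfectBounded

/-!
# Tor amplitude of bounded complexes from the tor amplitude of their terms / cohomology (helper35)
-/

universe u

open CategoryTheory Pretriangulated Limits ZeroObject

attribute [local instance] HasDerivedCategory.standard

namespace Groth.Agent.H35.KF

open DerivedCategory

variable {R : Type u} [CommRing R]

/-- Zero objects have any tor amplitude. -/
theorem hasTorAmplitudeIn_of_isZero (X : Dual.D R) (hX : IsZero X) (a b : ℤ) :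
    DRing.HasTorAmplitudeIn R a b X := by
  have h0 : ∀ i : ℤ, IsZero ((0 : DRing.Cx R).X i) := fun i =>
    (HomologicalComplex.eval _ _ i).map_isZero (isZero_zero _)
  exact ⟨0, fun i _ => h0 i, fun i => isFlat_of_isZero (h0 i),
    ⟨(Groth.Agent.H35.isZero_Q_of_isZero_X _ h0).iso hX⟩⟩

/-- A module placed in degree `n`. -/
theorem hasTorAmplitudeIn_single (M : ModuleCat.{u} R) (n a b : ℤ)
    (h : DRing.HasTorAmplitudeIn R (a - n) (b - n)
      ((DerivedCategory.singleFunctor (ModuleCat.{u} R) 0).obj M)) :
    DRing.HasTorAmplitudeIn R a b ((DerivedCategory.singleFunctor (ModuleCat.{u} R) n).obj M) := by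
  have e : (shiftFunctor (Dual.D R) (-n)).obj
      ((DerivedCategory.singleFunctor (ModuleCat.{u} R) 0).obj M) ≅
      (DerivedCategory.singleFunctor (ModuleCat.{u} R) n).obj M :=
    ((DerivedCategory.singleFunctors (ModuleCat.{u} R)).shiftIso (-n) n 0 (by omega)).app M
  have h' := hasTorAmplitudeIn_shift _ (a - n) (b - n) (-n) h
  rw [show a - n - -n = a by omega, show b - n - -n = b by omega] at h'
  exact hasTorAmplitudeIn_of_iso e a b h'

/-- A bounded complex whose term in degree `i` has tor amplitude in `[a - i, b - i]` has tor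
amplitude in `[a, b]`. -/
theorem hasTorAmplitudeIn_of_bounded_termwise (a b : ℤ) (K : DRing.Cx R) (c d : ℤ)
    (hcd : DRing.VanishesOutside K c d)
    (hK : ∀ i : ℤ, DRing.HasTorAmplitudeIn R (a - i) (b - i) (Dual.inD R (K.X i))) :
    DRing.HasTorAmplitudeIn R a b (DRing.toD K) := by
  refine Groth.Agent.H35.induction_bounded_deg (DRing.HasTorAmplitudeIn R a b)
    (fun i M => DRing.HasTorAmplitudeIn R (a - i) (b - i)
      ((DerivedCategory.singleFunctor (ModuleCat.{u} R) 0).obj M))
    ?_ (fun X hX => hasTorAmplitudeIn_of_isZero X hX a b)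
    (fun T hT => (hasTorAmplitudeIn_triangle a b T hT).2.1) ?_
    K c d hcd (fun i _ _ => hK i)
  · intro i M N e h
    exact hasTorAmplitudeIn_of_iso
      ((DerivedCategory.singleFunctor (ModuleCat.{u} R) 0).mapIso e) _ _ h
  · intro M i h
    exact hasTorAmplitudeIn_single M i a b h

/-- An object with bounded cohomology whose cohomology module in degree `i` has tor amplitude in
`[a - i, b - i]` has tor amplitude in `[a, b]`. -/
theorem hasTorAmplitudeIn_of_bounded_homology (a b : ℤ) (K : Dual.D R)
    (hb : ∃ c d : ℤ, ∀ i : ℤ, (i < c ∨ d < i) → Subsingleton (Dual.HD R K i))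
    (hK : ∀ i : ℤ, DRing.HasTorAmplitudeIn R (a - i) (b - i) (Dual.inD R (Dual.HD R K i))) :
    DRing.HasTorAmplitudeIn R a b K := by
  obtain ⟨c, d, hcd⟩ := hb
  let P : ObjectProperty (Dual.D R) := DRing.HasTorAmplitudeIn R a b
  have : P.IsClosedUnderIsomorphisms := ⟨fun e h => hasTorAmplitudeIn_of_iso e a b h⟩
  let S : ℤ → ObjectProperty (ModuleCat.{u} R) := fun i M =>
    DRing.HasTorAmplitudeIn R (a - i) (b - i)
      ((DerivedCategory.singleFunctor (ModuleCat.{u} R) 0).obj M)
  have : ∀ n, (S n).IsClosedUnderIsomorphisms := fun n => ⟨fun e h =>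
    hasTorAmplitudeIn_of_iso ((DerivedCategory.singleFunctor (ModuleCat.{u} R) 0).mapIso e) _ _ h⟩
  have hGE : K.IsGE c := by
    rw [DerivedCategory.isGE_iff]
    intro i hi
    have := hcd i (Or.inl hi)
    exact ModuleCat.isZero_of_subsingleton _
  have hLE : K.IsLE d := by
    rw [DerivedCategory.isLE_iff]
    intro i hi
    have := hcd i (Or.inr hi)
    exact ModuleCat.isZero_of_subsingleton _
  refine Groth.Agent.H35.bounded_induction_deg' P S
    (fun X hX => hasTorAmplitudeIn_of_isZero X hX a b)
    (fun T hT => (hasTorAmplitudeIn_triangle a b T hT).2.1)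
    (fun M n h => hasTorAmplitudeIn_single M n a b h)
    ?_ K c d hGE hLE (fun q => hK q)
  intro n M hM
  exact hasTorAmplitudeIn_of_isZero _
    ((DerivedCategory.singleFunctor (ModuleCat.{u} R) 0).map_isZero hM) _ _

end Groth.Agent.H35.KF
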