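import Mathlib
import Groth.Prelude.Def_DRing2
import Groth.Agent.H35.ProjAmpTFAE
import Groth.Agent.H35.InjBounded
import Groth.Agent.H45.Derived.TruncHomology

/-!
# Splitting off the projective top part of a complex (helper35)
-/

universe u

open CategoryTheory Pretriangulated Limits

attribute [local instance] HasDerivedCategory.standard

set_option linter.unusedSectionVars false

namespace Groth.Agent.H35

open DerivedCategory HomologicalComplex

variable {R : Type u} [CommRing R]

/-- Projective amplitude from vanishing of one Ext group and of cohomology (`(4) → (1)` of the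
projective amplitude criterion). -/
theorem exists_projective_amplitude_of_ext_vanishing (K : Dual.D R) (a b : ℤ)
    (h1 : ∀ n : ℤ, (n < a - 1 ∨ b < n) →
      IsZero ((DerivedCategory.homologyFunctor (ModuleCat.{u} R) n).obj K))
    (h2 : ∀ N : ModuleCat.{u} R, Subsingleton (K ⟶
      ((DerivedCategory.singleFunctor (ModuleCat.{u} R) 0).obj N)⟦-a + 1⟧)) :
    ∃ P' : DRing.Cx R, DRing.VanishesOutside P' a b ∧
      (∀ i : ℤ, Module.Projective R (P'.X i)) ∧ Nonempty (DRing.toD P' ≅ K) := by
  obtain ⟨P, hb, hP, ⟨e⟩⟩ := exists_projective_rep K b (fun n hn => h1 n (Or.inr hn))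
  obtain ⟨ψ, hψ⟩ := exists_retraction_of_ext_vanishing P b hb hP (a - 1) a
    (by omega) (fun N => by
      have h0 : -(a - 1) = -a + 1 := by ring
      rw [h0]
      have := h2 N
      exact ⟨fun x y => (cancel_epi e.inv).mp (this.elim _ _)⟩)
  obtain ⟨P', hP', hproj', ⟨e'⟩⟩ := exists_bounded_projective_of_exact P
    (a - 1) a b (by omega) hb hP (fun j hj => by
      by_cases h : j = a - 1
      · subst h
        exact exactAt_of_retraction_fromOpcycles P (a - 1) a ψ hψ
      · rw [exactAt_iff_isZero_homology]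
        exact IsZero.of_iso (h1 j (Or.inl (by omega)))
          (((DerivedCategory.homologyFunctor (ModuleCat.{u} R) j).mapIso e.symm ≪≫
            (DerivedCategory.homologyFunctorFactors (ModuleCat.{u} R) j).app P).symm)) ψ hψ
  exact ⟨P', hP', hproj', ⟨e' ≪≫ e⟩⟩

/-- Morphisms from an object of `D^{≥ a+1}` to an injective module placed in degree `a`
vanish. -/
theorem hom_eq_zero_of_isGE_of_injective (L : Dual.D R) (a : ℤ) (hL : L.IsGE (a + 1))
    (I : ModuleCat.{u} R) [Injective I]
    (x : L ⟶ ((DerivedCategory.singleFunctor (ModuleCat.{u} R) 0).obj I)⟦-a⟧) : x = 0 := by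
  obtain ⟨L', hL', ⟨e⟩⟩ := L.exists_iso_Q_obj_of_isGE (a + 1)
  have e' := shiftSingleIso I (-a)
  rw [neg_neg] at e'
  have hI : ∀ n : ℤ, Injective (((single (ModuleCat.{u} R) (ComplexShape.up ℤ) a).obj I).X n) := by
    intro n
    by_cases h : n = a
    · subst h
      exact Injective.of_iso (singleObjXSelf (ComplexShape.up ℤ) n I).symm inferInstance
    · exact (isZero_single_obj_X (ComplexShape.up ℤ) a I n h).injective
  have : CochainComplex.IsKInjective ((single (ModuleCat.{u} R) (ComplexShape.up ℤ) a).obj I) :=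
    CochainComplex.isKInjective_of_injective _ a
  obtain ⟨g, hg⟩ := Q_map_surjective_of_isKInjective L'
    ((single (ModuleCat.{u} R) (ComplexShape.up ℤ) a).obj I) (e.inv ≫ x ≫ e'.hom)
  have h0 : g = 0 := by
    apply HomologicalComplex.hom_ext
    intro n
    by_cases h : n = a
    · subst h
      exact (L'.isZero_of_isStrictlyGE (n + 1) n (by omega)).eq_of_src _ _
    · exact (isZero_single_obj_X (ComplexShape.up ℤ) a I n h).eq_of_tgt _ _
  rw [h0, Functor.map_zero] at hg
  have h1 : x ≫ e'.hom = 0 := (cancel_epi e.inv).mp (by rw [← hg, comp_zero])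
  exact (cancel_mono e'.hom).mp (by rw [h1, zero_comp])

/-- If `Hom(K, M[-a]) → Hom(K, M'[-a])` is injective for every injection `M → M'`, then
`τ_{≥ a+1} K` has projective amplitude in `[a+1, b]` and the truncation triangle splits. -/
theorem truncGE_projective_and_connecting_zero (a : ℤ) (K : Dual.D R)
    (hKb : ∃ b : ℤ, ∀ i : ℤ, b < i →
      IsZero ((DerivedCategory.homologyFunctor (ModuleCat.{u} R) i).obj K))
    (h : ∀ (M M' : ModuleCat.{u} R) (g : M ⟶ M'), Function.Injective g.hom →
      Function.Injective (fun x : K ⟶ (shiftFunctor (Dual.D R) (-a)).obj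
          ((DerivedCategory.singleFunctor (ModuleCat.{u} R) 0).obj M) =>
        x ≫ (shiftFunctor (Dual.D R) (-a)).map
          ((DerivedCategory.singleFunctor (ModuleCat.{u} R) 0).map g))) :
    (∃ (P : DRing.Cx R) (b : ℤ), DRing.VanishesOutside P (a + 1) b ∧
        (∀ i : ℤ, Module.Projective R (P.X i)) ∧
        Nonempty (DRing.toD P ≅ ((DerivedCategory.TStructure.t :
          Triangulated.TStructure (Dual.D R)).truncGE (a + 1)).obj K)) ∧
      ((DerivedCategory.TStructure.t :
          Triangulated.TStructure (Dual.D R)).truncGEδLT (a + 1)).app K = 0 := by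
  obtain ⟨b, hb⟩ := hKb
  let t : Triangulated.TStructure (Dual.D R) := DerivedCategory.TStructure.t
  let L := (t.truncGE (a + 1)).obj K
  have hL : L.IsGE (a + 1) := inferInstanceAs (t.IsGE ((t.truncGE (a + 1)).obj K) (a + 1))
  let T := (t.triangleLTGE (a + 1)).obj K
  have hT : T ∈ distTriang (Dual.D R) := t.triangleLTGE_distinguished (a + 1) K
  have hT1 : t.IsLE (T.obj₁⟦(1 : ℤ)⟧) (a - 1) := by
    have : t.IsLE T.obj₁ a := inferInstanceAs (t.IsLE ((t.truncLT (a + 1)).obj K) a)
    exact t.isLE_shift T.obj₁ a 1 (a - 1) (by omega)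
  have hvan : ∀ n : ℤ, (n < a + 1 - 1 ∨ b < n) →
      IsZero ((DerivedCategory.homologyFunctor (ModuleCat.{u} R) n).obj L) := by
    intro n hn
    by_cases h1 : n < a + 1
    · exact isZero_of_isGE L (a + 1) n h1
    · have hn' : b < n := by omega
      have := Groth.Agent.H45.isIso_homologyMap_truncGEπ K (a + 1) n (by omega)
      exact IsZero.of_iso (hb n hn')
        (asIso ((DerivedCategory.homologyFunctor (ModuleCat.{u} R) n).map
          ((TStructure.t.truncGEπ (a + 1)).app K))).symm
  have hext : ∀ N : ModuleCat.{u} R, Subsingleton (L ⟶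
      ((DerivedCategory.singleFunctor (ModuleCat.{u} R) 0).obj N)⟦-(a + 1) + 1⟧) := by
    intro N
    have h0 : -(a + 1) + 1 = -a := by ring
    rw [h0]
    have key : ∀ x : L ⟶ ((DerivedCategory.singleFunctor (ModuleCat.{u} R) 0).obj N)⟦-a⟧,
        x = 0 := by
      intro x
      let I := Injective.under N
      let ι : N ⟶ I := Injective.ι N
      have hι : Function.Injective ι.hom := (ModuleCat.mono_iff_injective ι).mp inferInstance
      have hx1 : x ≫ (shiftFunctor (Dual.D R) (-a)).map
          ((DerivedCategory.singleFunctor (ModuleCat.{u} R) 0).map ι) = 0 :=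
        hom_eq_zero_of_isGE_of_injective L a hL I _
      have h2 : (t.truncGEπ (a + 1)).app K ≫ x = 0 := by
        apply h N I ι hι
        change ((t.truncGEπ (a + 1)).app K ≫ x) ≫ _ = 0 ≫ _
        rw [Category.assoc, hx1, comp_zero, zero_comp]
      obtain ⟨y, hy⟩ := Triangle.yoneda_exact₃ T hT x h2
      have hG : t.IsGE (((DerivedCategory.singleFunctor (ModuleCat.{u} R) 0).obj N)⟦-a⟧) a :=
        t.isGE_shift _ 0 (-a) a (by omega)
      have hy0 : y = 0 := t.zero y (a - 1) a (by omega)
      rw [hy, hy0]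
      exact comp_zero
    exact ⟨fun x y => by rw [key x, key y]⟩
  obtain ⟨P, hP, hproj, ⟨e⟩⟩ := exists_projective_amplitude_of_ext_vanishing L (a + 1) b hvan hext
  refine ⟨⟨P, b, hP, hproj, ⟨e⟩⟩, ?_⟩
  have hLE : (T.obj₁⟦(1 : ℤ)⟧).IsLE (a + 1 - 1) := t.isLE_of_le _ (a - 1) (a + 1 - 1) (by omega)
  have h3 := hom_eq_zero_of_projective_of_isLE P (a + 1) b hP hproj _ hLE (e.hom ≫ T.mor₃)
  exact (cancel_epi e.hom).mp (h3.trans comp_zero.symm)

/-- If `H^a(K) = 0`, then `τ_{<a} K → τ_{<a+1} K` is an isomorphism. -/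
theorem isIso_natTransTruncLTOfLE_app (K : Dual.D R) (a : ℤ)
    (hH : IsZero ((DerivedCategory.homologyFunctor (ModuleCat.{u} R) a).obj K)) :
    IsIso (((DerivedCategory.TStructure.t : Triangulated.TStructure (Dual.D R)).natTransTruncLTOfLE
      a (a + 1) (by omega)).app K) := by
  let t : Triangulated.TStructure (Dual.D R) := DerivedCategory.TStructure.t
  rw [DerivedCategory.isIso_iff]
  intro q
  by_cases hq : q < a
  · have h1 := Groth.Agent.H45.isIso_homologyMap_truncLTι K a q hq
    have h2 := Groth.Agent.H45.isIso_homologyMap_truncLTι K (a + 1) q (by omega)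
    have h3 := congrArg (DerivedCategory.homologyFunctor (ModuleCat.{u} R) q).map
      (t.natTransTruncLTOfLE_ι_app a (a + 1) (by omega) K)
    rw [Functor.map_comp] at h3
    exact IsIso.of_isIso_fac_right h3
  · have hs : IsZero ((DerivedCategory.homologyFunctor (ModuleCat.{u} R) q).obj
        ((t.truncLT a).obj K)) := by
      have : ((t.truncLT a).obj K).IsLE (a - 1) :=
        inferInstanceAs (t.IsLE ((t.truncLT a).obj K) (a - 1))
      exact isZero_of_isLE _ (a - 1) q (by omega)
    have ht : IsZero ((DerivedCategory.homologyFunctor (ModuleCat.{u} R) q).obj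
        ((t.truncLT (a + 1)).obj K)) := by
      by_cases h : q = a
      · subst h
        have := Groth.Agent.H45.isIso_homologyMap_truncLTι K (q + 1) q (by omega)
        exact IsZero.of_iso hH (asIso ((DerivedCategory.homologyFunctor (ModuleCat.{u} R) q).map
          ((TStructure.t.truncLTι (q + 1)).app K)))
      · have : ((t.truncLT (a + 1)).obj K).IsLE a :=
          inferInstanceAs (t.IsLE ((t.truncLT (a + 1)).obj K) a)
        exact isZero_of_isLE _ a q (by omega)
    exact ⟨0, hs.eq_of_src _ _, ht.eq_of_src _ _⟩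

end Groth.Agent.H35
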