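import Mathlib
import Groth.Agent.H35.TorAmpBounded
import Groth.Agent.H35.TruncSplit

/-!
# Tor amplitude over rings of finite global dimension (helper35)
-/

universe u

open CategoryTheory Pretriangulated Limits ZeroObject CategoryTheory.Abelian

attribute [local instance] HasDerivedCategory.standard

namespace Groth.Agent.H35.KF

open DerivedCategory

variable {R : Type u} [CommRing R]

/-- Monotonicity of tor amplitude. -/
theorem hasTorAmplitudeIn_mono (K : Dual.D R) (a b a' b' : ℤ) (ha : a' ≤ a) (hb : b ≤ b')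
    (h : DRing.HasTorAmplitudeIn R a b K) : DRing.HasTorAmplitudeIn R a' b' K := by
  obtain ⟨E, hE, hfl, ⟨e⟩⟩ := h
  exact ⟨E, fun i hi => hE i (by omega), hfl, ⟨e⟩⟩

/-- A module of projective dimension `≤ d` has tor amplitude in `[-d, 0]`. -/
theorem hasTorAmplitudeIn_of_hasProjectiveDimensionLT (M : ModuleCat.{u} R) (d : ℕ)
    (hM : HasProjectiveDimensionLT M (d + 1)) :
    DRing.HasTorAmplitudeIn R (-(d : ℤ)) 0
      ((DerivedCategory.singleFunctor (ModuleCat.{u} R) 0).obj M) := by
  have h1 : ∀ n : ℤ, (n < -(d : ℤ) - 1 ∨ 0 < n) →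
      IsZero ((DerivedCategory.homologyFunctor (ModuleCat.{u} R) n).obj
        ((DerivedCategory.singleFunctor (ModuleCat.{u} R) 0).obj M)) := by
    intro n hn
    rcases hn with hn | hn
    · exact DerivedCategory.isZero_of_isGE _ 0 n (by omega)
    · exact DerivedCategory.isZero_of_isLE _ 0 n hn
  have h2 : ∀ N : ModuleCat.{u} R, Subsingleton
      ((DerivedCategory.singleFunctor (ModuleCat.{u} R) 0).obj M ⟶
        ((DerivedCategory.singleFunctor (ModuleCat.{u} R) 0).obj N)⟦-(-(d : ℤ)) + 1⟧) := by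
    intro N
    have h0 : -(-(d : ℤ)) + 1 = ((d + 1 : ℕ) : ℤ) := by push_cast; ring
    rw [h0]
    let := HasExt.standard (ModuleCat.{u} R)
    have := hM.subsingleton' (d + 1) le_rfl (Y := N)
    exact (Equiv.subsingleton_congr Ext.homEquiv).1 this
  obtain ⟨P, hP, hproj, ⟨e⟩⟩ := Groth.Agent.H35.exists_projective_amplitude_of_ext_vanishing
    ((DerivedCategory.singleFunctor (ModuleCat.{u} R) 0).obj M) (-(d : ℤ)) 0 h1 h2
  exact ⟨P, hP, fun i => by
    have := hproj i
    infer_instance, ⟨e⟩⟩

/-- Over a ring of global dimension `≤ d`, an object with cohomology in `[a, b]` has tor amplitude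
in `[a - d, b]`. -/
theorem hasTorAmplitudeIn_of_globalDimension (d : ℕ)
    (hgl : ∀ M : ModuleCat.{u} R, HasProjectiveDimensionLT M (d + 1))
    (K : Dual.D R) (a b : ℤ)
    (hK : ∀ i : ℤ, (i < a ∨ b < i) → Subsingleton (Dual.HD R K i)) :
    DRing.HasTorAmplitudeIn R (a - d) b K := by
  refine hasTorAmplitudeIn_of_bounded_homology (a - d) b K ⟨a, b, hK⟩ ?_
  intro i
  by_cases hi : i < a ∨ b < i
  · have := hK i hi
    exact hasTorAmplitudeIn_of_isZero _
      ((DerivedCategory.singleFunctor (ModuleCat.{u} R) 0).map_isZero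
        (ModuleCat.isZero_of_subsingleton _)) _ _
  · exact hasTorAmplitudeIn_mono _ (-(d : ℤ)) 0 _ _ (by omega) (by omega)
      (hasTorAmplitudeIn_of_hasProjectiveDimensionLT _ d (hgl _))

end Groth.Agent.H35.KF
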