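import Mathlib
import Groth.Agent.H35.TorAmpD

/-!
# Tor amplitude passes to direct summands (helper35)
-/

open CategoryTheory Limits MonoidalCategory

namespace Groth.Agent.H35.KF

universe u

variable {R : Type u} [CommRing R]

open HomologicalComplex DerivedCategory

attribute [local instance] HasDerivedCategory.standard

lemma tensExactAt_of_retract {F G : CochainComplex (ModuleCat.{u} R) ℤ} (i : F ⟶ G) (r : G ⟶ F)
    (h : i ≫ r = 𝟙 F) (N : ModuleCat.{u} R) (n : ℤ) (hG : TensExactAt G N n) :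
    TensExactAt F N n := by
  rw [← exactAt_tensor_sgl_iff] at hG ⊢
  rw [exactAt_iff_isZero_homology] at hG ⊢
  rw [IsZero.iff_id_eq_zero]
  calc 𝟙 ((F ⊗ sgl N).homology n) = homologyMap (𝟙 (F ⊗ sgl N)) n := (homologyMap_id _ _).symm
    _ = homologyMap ((i ≫ r) ▷ sgl N) n := by rw [h, id_whiskerRight]
    _ = homologyMap (i ▷ sgl N) n ≫ homologyMap (r ▷ sgl N) n := by
        rw [comp_whiskerRight, homologyMap_comp]
    _ = 0 := by rw [hG.eq_of_tgt (homologyMap (i ▷ sgl N) n) 0, zero_comp]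

lemma isZero_of_retract {C : Type*} [Category C] [HasZeroMorphisms C] {X Y : C} (i : X ⟶ Y)
    (r : Y ⟶ X) (h : i ≫ r = 𝟙 X) (hY : IsZero Y) : IsZero X := by
  rw [IsZero.iff_id_eq_zero, ← h, hY.eq_of_tgt i 0, zero_comp]

lemma flat_biprod_X (P₁ P₂ : CochainComplex (ModuleCat.{u} R) ℤ) (i : ℤ)
    (h₁ : Module.Flat R (P₁.X i)) (h₂ : Module.Flat R (P₂.X i)) :
    Module.Flat R ((P₁ ⊞ P₂ : CochainComplex (ModuleCat.{u} R) ℤ).X i) :=
  isFlat_of_iso ((HomologicalComplex.eval _ _ i).mapBiprod P₁ P₂).symm (isFlat_biprod _ _ h₁ h₂)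

lemma isZero_biprod_X (P₁ P₂ : CochainComplex (ModuleCat.{u} R) ℤ) (i : ℤ)
    (h₁ : IsZero (P₁.X i)) (h₂ : IsZero (P₂.X i)) :
    IsZero ((P₁ ⊞ P₂ : CochainComplex (ModuleCat.{u} R) ℤ).X i) := by
  refine IsZero.of_iso ?_ ((HomologicalComplex.eval _ _ i).mapBiprod P₁ P₂)
  rw [IsZero.iff_id_eq_zero]
  apply biprod.hom_ext
  · exact h₁.eq_of_tgt _ _
  · exact h₂.eq_of_tgt _ _

/-- Tor amplitude passes to direct summands. -/
theorem hasTorAmplitudeIn_of_biprod (a b : ℤ) (K L : Dual.D R) [HasBinaryBiproduct K L]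
    (h : DRing.HasTorAmplitudeIn R a b (K ⊞ L)) :
    DRing.HasTorAmplitudeIn R a b K ∧ DRing.HasTorAmplitudeIn R a b L := by
  obtain ⟨E, hE, hEfl, ⟨e⟩⟩ := id h
  have hKL : ∀ n : ℤ, b < n →
      IsZero ((DerivedCategory.homologyFunctor (ModuleCat.{u} R) n).obj (K ⊞ L)) := by
    intro n hn
    refine (isZero_homology_of_exactAt E n ?_).of_iso
      ((DerivedCategory.homologyFunctor (ModuleCat.{u} R) n).mapIso e.symm)
    exact ShortComplex.exact_of_isZero_X₂ _ (hE n (Or.inr hn))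
  have hK : ∀ n : ℤ, b < n →
      IsZero ((DerivedCategory.homologyFunctor (ModuleCat.{u} R) n).obj K) := fun n hn =>
    isZero_of_retract ((DerivedCategory.homologyFunctor (ModuleCat.{u} R) n).map biprod.inl)
      ((DerivedCategory.homologyFunctor (ModuleCat.{u} R) n).map biprod.fst)
      (by rw [← Functor.map_comp, biprod.inl_fst, CategoryTheory.Functor.map_id]) (hKL n hn)
  have hL : ∀ n : ℤ, b < n →
      IsZero ((DerivedCategory.homologyFunctor (ModuleCat.{u} R) n).obj L) := fun n hn =>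
    isZero_of_retract ((DerivedCategory.homologyFunctor (ModuleCat.{u} R) n).map biprod.inr)
      ((DerivedCategory.homologyFunctor (ModuleCat.{u} R) n).map biprod.snd)
      (by rw [← Functor.map_comp, biprod.inr_snd, CategoryTheory.Functor.map_id]) (hKL n hn)
  obtain ⟨P₁, hb₁, hproj₁, ⟨e₁⟩⟩ := Groth.Agent.H35.exists_projective_rep K b hK
  obtain ⟨P₂, hb₂, hproj₂, ⟨e₂⟩⟩ := Groth.Agent.H35.exists_projective_rep L b hL
  have hfl₁ : ∀ i, Module.Flat R (P₁.X i) := fun i => by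
    have := hproj₁ i
    infer_instance
  have hfl₂ : ∀ i, Module.Flat R (P₂.X i) := fun i => by
    have := hproj₂ i
    infer_instance
  have : PreservesFiniteBiproducts (Q : _ ⥤ DerivedCategory (ModuleCat.{u} R)) := inferInstance
  have : PreservesBinaryBiproducts (Q : _ ⥤ DerivedCategory (ModuleCat.{u} R)) :=
    preservesBinaryBiproducts_of_preservesBiproducts _
  let G : CochainComplex (ModuleCat.{u} R) ℤ := P₁ ⊞ P₂
  let eG : Q.obj G ≅ K ⊞ L := Q.mapBiprod P₁ P₂ ≪≫ biprod.mapIso e₁ e₂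
  have hvG : TorVanishing G a b := torVanishing_of_hasTorAmplitudeIn (K ⊞ L) a b h G b
    (fun i hi => isZero_biprod_X P₁ P₂ i (hb₁ i hi) (hb₂ i hi))
    (fun i => flat_biprod_X P₁ P₂ i (hfl₁ i) (hfl₂ i)) eG
  constructor
  · refine hasTorAmplitudeIn_of_torVanishing K a b P₁ b hb₁ hfl₁ e₁ ?_
    intro N i hi
    exact tensExactAt_of_retract (biprod.inl : P₁ ⟶ G) biprod.fst biprod.inl_fst N i (hvG N i hi)
  · refine hasTorAmplitudeIn_of_torVanishing L a b P₂ b hb₂ hfl₂ e₂ ?_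
    intro N i hi
    exact tensExactAt_of_retract (biprod.inr : P₂ ⟶ G) biprod.snd biprod.inr_snd N i (hvG N i hi)

end Groth.Agent.H35.KF
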