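import Mathlib
import Groth.Agent.H35.RestrictFlat
import Groth.Agent.H35.TorAmpCone
import Groth.Agent.H35.TorAmpSummand
import Groth.Agent.H35.TorAmpBounded
import Groth.Agent.H35.TorAmpGlDim
import Groth.Agent.H28.PCohSum
import Groth.Agent.S6937

/-!
# `R`-perfect objects of `D(A)` form a saturated triangulated subcategory (helper35)
-/

open CategoryTheory Limits Pretriangulated

open scoped ZeroObject

namespace Groth.Agent.H35.KF

universe u

open HomologicalComplex DerivedCategory Groth.Agent.H28 Groth.Agent.H28.PCohDer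
  Groth.Agent.H28.PCohRing

attribute [local instance] HasDerivedCategory.standard

section PC

variable (A : Type u) [CommRing A]

lemma isPseudoCoherent'_of_isZero (Z : Dual.D A) (hZ : IsZero Z) : DRing.IsPseudoCoherent' A Z := by
  rw [isPseudoCoherent'_iff]
  intro m
  have h0X : ∀ i : ℤ, IsZero ((0 : CochainComplex (ModuleCat.{u} A) ℤ).X i) := fun i =>
    (HomologicalComplex.eval _ (ComplexShape.up ℤ) i).map_isZero (isZero_zero _)
  exact ⟨0, ⟨⟨0, fun i _ => h0X i⟩, fun i _ => (finFree A).prop_of_isZero (h0X i)⟩,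
    ⟨IsZero.iso (Q.map_isZero (isZero_zero _)) hZ⟩⟩

lemma isPseudoCoherent'_shift (K : Dual.D A) (n : ℤ) (h : DRing.IsPseudoCoherent' A K) :
    DRing.IsPseudoCoherent' A (K⟦n⟧) := by
  rw [isPseudoCoherent'_iff] at h ⊢
  intro m
  exact IsNPC.shift (finFree A) (h (m + n)) n m rfl

lemma isPseudoCoherent'_obj₂ (T : Triangle (Dual.D A)) (hT : T ∈ distTriang (Dual.D A))
    (h₁ : DRing.IsPseudoCoherent' A T.obj₁) (h₃ : DRing.IsPseudoCoherent' A T.obj₃) :
    DRing.IsPseudoCoherent' A T.obj₂ := by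
  rw [isPseudoCoherent'_iff] at h₁ h₃ ⊢
  intro m
  exact Groth.Agent.H28.PCohSum.isNPC_obj₂ (finFree A) (hql_finFree A) (finFree_prod A)
    (hqs_finFree A) T hT (h₁ m) (h₃ m)

lemma isPseudoCoherent'_of_iso {K L : Dual.D A} (e : K ≅ L) (h : DRing.IsPseudoCoherent' A K) :
    DRing.IsPseudoCoherent' A L := by
  obtain ⟨E, b, hb, hE, ⟨e'⟩⟩ := h
  exact ⟨E, b, hb, hE, ⟨e' ≪≫ e⟩⟩

end PC

section FT

variable {R A : Type u} [CommRing R] [CommRing A] [Algebra R A]

/-- finite tor dimension over `R` after restriction of scalars -/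
def FTD (K : Dual.D A) : Prop :=
  DRing.HasFiniteTorDimCx R ((DRing.restrictD (algebraMap R A)).obj K)

lemma ftd_of_isZero (Z : Dual.D A) (hZ : IsZero Z) : FTD (R := R) Z :=
  ⟨0, 0, hasTorAmplitudeIn_of_isZero _ ((DRing.restrictD (algebraMap R A)).map_isZero hZ) 0 0⟩

lemma ftd_shift (K : Dual.D A) (n : ℤ) (h : FTD (R := R) K) : FTD (R := R) (K⟦n⟧) := by
  obtain ⟨a, b, h⟩ := h
  exact ⟨a - n, b - n, hasTorAmplitudeIn_of_iso
    (((DRing.restrictD (algebraMap R A)).commShiftIso n).app K).symm _ _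
    (hasTorAmplitudeIn_shift _ a b n h)⟩

lemma ftd_obj₂ (T : Triangle (Dual.D A)) (hT : T ∈ distTriang (Dual.D A))
    (h₁ : FTD (R := R) T.obj₁) (h₃ : FTD (R := R) T.obj₃) : FTD (R := R) T.obj₂ := by
  obtain ⟨a₁, b₁, h₁⟩ := h₁
  obtain ⟨a₃, b₃, h₃⟩ := h₃
  have hT' := (DRing.restrictD (algebraMap R A)).map_distinguished T hT
  refine ⟨min a₁ a₃, max b₁ b₃, (hasTorAmplitudeIn_triangle (min a₁ a₃) (max b₁ b₃) _ hT').2.1
    ?_ ?_⟩
  · exact hasTorAmplitudeIn_mono _ a₁ b₁ _ _ (min_le_left _ _) (le_max_left _ _) h₁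
  · exact hasTorAmplitudeIn_mono _ a₃ b₃ _ _ (min_le_right _ _) (le_max_right _ _) h₃

lemma ftd_of_iso {K L : Dual.D A} (e : K ≅ L) (h : FTD (R := R) K) : FTD (R := R) L := by
  obtain ⟨a, b, h⟩ := h
  exact ⟨a, b, hasTorAmplitudeIn_of_iso ((DRing.restrictD (algebraMap R A)).mapIso e) _ _ h⟩

lemma ftd_of_biprod (X Y : Dual.D A) (h : FTD (R := R) (X ⊞ Y)) :
    FTD (R := R) X ∧ FTD (R := R) Y := by
  obtain ⟨a, b, h⟩ := h
  have : PreservesBinaryBiproducts (DRing.restrictD (algebraMap R A)) :=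
    preservesBinaryBiproducts_of_preservesBiproducts _
  have h' := hasTorAmplitudeIn_of_iso ((DRing.restrictD (algebraMap R A)).mapBiprod X Y) _ _ h
  have h'' := hasTorAmplitudeIn_of_biprod a b _ _ h'
  exact ⟨⟨a, b, h''.1⟩, ⟨a, b, h''.2⟩⟩

end FT

section Main

variable (R A : Type u) [CommRing R] [CommRing A] [Algebra R A]

instance isClosedUnderIsomorphisms_isRelPerfect :
    ObjectProperty.IsClosedUnderIsomorphisms (C := Dual.D A)
      (fun K => Dual2.IsRelPerfect R A K) where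
  of_iso e h := ⟨isPseudoCoherent'_of_iso A e h.1, ftd_of_iso e h.2⟩

/-- S7093 -/
theorem isRelPerfect_isTriangulated :
    ObjectProperty.IsTriangulated (C := Dual.D A) (fun K => Dual2.IsRelPerfect R A K) ∧
      ObjectProperty.IsClosedUnderIsomorphisms (C := Dual.D A)
        (fun K => Dual2.IsRelPerfect R A K) ∧
      ∀ X Y : Dual.D A, Dual2.IsRelPerfect R A (X ⊞ Y) →
        Dual2.IsRelPerfect R A X ∧ Dual2.IsRelPerfect R A Y := by
  refine ⟨?_, inferInstance, ?_⟩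
  · have h1 : ObjectProperty.ContainsZero (C := Dual.D A) (fun K => Dual2.IsRelPerfect R A K) :=
      ⟨⟨0, isZero_zero _, isPseudoCoherent'_of_isZero A _ (isZero_zero _),
        ftd_of_isZero _ (isZero_zero _)⟩⟩
    have h2 : ObjectProperty.IsStableUnderShift (C := Dual.D A)
        (fun K => Dual2.IsRelPerfect R A K) ℤ :=
      ⟨fun n => ⟨fun K hK => ⟨isPseudoCoherent'_shift A K n hK.1, ftd_shift K n hK.2⟩⟩⟩
    have h3 : ObjectProperty.IsTriangulatedClosed₂ (C := Dual.D A)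
        (fun K => Dual2.IsRelPerfect R A K) :=
      ObjectProperty.IsTriangulatedClosed₂.mk' (fun T hT h₁ h₃ =>
        ⟨isPseudoCoherent'_obj₂ A T hT h₁.1 h₃.1, ftd_obj₂ T hT h₁.2 h₃.2⟩)
    exact { }
  · intro X Y h
    have hpc := (Groth.Agent.S6937.result A 0 X Y).2 h.1
    have hft := ftd_of_biprod X Y h.2
    exact ⟨⟨hpc.1, hft.1⟩, ⟨hpc.2, hft.2⟩⟩

end Main

end Groth.Agent.H35.KF
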