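import Mathlib

/-!
# Additive functors preserving coproducts commute with total complexes (helper35)
-/

open CategoryTheory Category Limits Preadditive

namespace Groth.Agent.H35.TotalMap

variable {C D : Type*} [Category C] [Category D] [Preadditive C] [Preadditive D]
  {I₁ I₂ I₁₂ : Type*} {c₁ : ComplexShape I₁} {c₂ : ComplexShape I₂}
  (K : HomologicalComplex₂ C c₁ c₂)
  (c₁₂ : ComplexShape I₁₂) [TotalComplexShape c₁ c₂ c₁₂] [DecidableEq I₁₂]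
  (G : C ⥤ D) [G.Additive]

/-- The image of a bicomplex under an additive functor. -/
abbrev mapBicomplex : HomologicalComplex₂ D c₁ c₂ :=
  ((G.mapHomologicalComplex c₂).mapHomologicalComplex c₁).obj K

variable [K.HasTotal c₁₂]
  [∀ i₁₂ : I₁₂, PreservesColimit
    (Discrete.functor (K.toGradedObject.mapObjFun (ComplexShape.π c₁ c₂ c₁₂) i₁₂)) G]

/-- The image by `G` of the cofan defining the total complex, as a cofan for the mapped bicomplex. -/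
noncomputable def cofan (n : I₁₂) :
    (mapBicomplex K G).toGradedObject.CofanMapObjFun (ComplexShape.π c₁ c₂ c₁₂) n :=
  Cofan.mk (G.obj ((K.total c₁₂).X n))
    (fun j => G.map (K.toGradedObject.ιMapObj (ComplexShape.π c₁ c₂ c₁₂) j.1 n j.2))

/-- This cofan is a colimit. -/
noncomputable def isColimitCofan (n : I₁₂) : IsColimit (cofan K c₁₂ G n) :=
  isColimitCofanMkObjOfIsColimit G _ _
    (K.toGradedObject.isColimitCofanMapObj (ComplexShape.π c₁ c₂ c₁₂) n)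

lemma hasTotal : (mapBicomplex K G).HasTotal c₁₂ :=
  GradedObject.CofanMapObjFun.hasMap _ _ (cofan K c₁₂ G) (isColimitCofan K c₁₂ G)

variable [(mapBicomplex K G).HasTotal c₁₂]

/-- The comparison isomorphism in each degree. -/
noncomputable def xIso (n : I₁₂) :
    G.obj ((K.total c₁₂).X n) ≅ ((mapBicomplex K G).total c₁₂).X n :=
  GradedObject.CofanMapObjFun.iso (isColimitCofan K c₁₂ G n)

@[reassoc]
lemma map_ιTotal_xIso_hom (i₁ : I₁) (i₂ : I₂) (n : I₁₂)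
    (h : ComplexShape.π c₁ c₂ c₁₂ (i₁, i₂) = n) :
    G.map (K.ιTotal c₁₂ i₁ i₂ n h) ≫ (xIso K c₁₂ G n).hom =
      (mapBicomplex K G).ιTotal c₁₂ i₁ i₂ n h :=
  GradedObject.CofanMapObjFun.inj_iso_hom (isColimitCofan K c₁₂ G n) ⟨i₁, i₂⟩ h

@[reassoc]
lemma map_ιTotalOrZero_xIso_hom (i₁ : I₁) (i₂ : I₂) (n : I₁₂) :
    G.map (K.ιTotalOrZero c₁₂ i₁ i₂ n) ≫ (xIso K c₁₂ G n).hom =
      (mapBicomplex K G).ιTotalOrZero c₁₂ i₁ i₂ n := by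
  by_cases h : ComplexShape.π c₁ c₂ c₁₂ (i₁, i₂) = n
  · rw [K.ιTotalOrZero_eq c₁₂ _ _ _ h, (mapBicomplex K G).ιTotalOrZero_eq c₁₂ _ _ _ h,
      map_ιTotal_xIso_hom]
  · rw [K.ιTotalOrZero_eq_zero c₁₂ _ _ _ h, (mapBicomplex K G).ιTotalOrZero_eq_zero c₁₂ _ _ _ h,
      G.map_zero, zero_comp]
    rfl

lemma map_d₁_xIso_hom (i₁ : I₁) (i₂ : I₂) (n : I₁₂) :
    G.map (K.d₁ c₁₂ i₁ i₂ n) ≫ (xIso K c₁₂ G n).hom = (mapBicomplex K G).d₁ c₁₂ i₁ i₂ n := by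
  by_cases h : c₁.Rel i₁ (c₁.next i₁)
  · rw [K.d₁_eq' c₁₂ h, (mapBicomplex K G).d₁_eq' c₁₂ h, G.map_units_smul, G.map_comp,
      Linear.units_smul_comp, assoc, map_ιTotalOrZero_xIso_hom]
    rfl
  · rw [K.d₁_eq_zero c₁₂ _ _ _ h, (mapBicomplex K G).d₁_eq_zero c₁₂ _ _ _ h, G.map_zero, zero_comp]
    rfl

lemma map_d₂_xIso_hom (i₁ : I₁) (i₂ : I₂) (n : I₁₂) :
    G.map (K.d₂ c₁₂ i₁ i₂ n) ≫ (xIso K c₁₂ G n).hom = (mapBicomplex K G).d₂ c₁₂ i₁ i₂ n := by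
  by_cases h : c₂.Rel i₂ (c₂.next i₂)
  · rw [K.d₂_eq' c₁₂ _ h, (mapBicomplex K G).d₂_eq' c₁₂ _ h, G.map_units_smul, G.map_comp,
      Linear.units_smul_comp, assoc, map_ιTotalOrZero_xIso_hom]
    rfl
  · rw [K.d₂_eq_zero c₁₂ _ _ _ h, (mapBicomplex K G).d₂_eq_zero c₁₂ _ _ _ h, G.map_zero, zero_comp]
    rfl

lemma ιTotal_comp_d (L : HomologicalComplex₂ C c₁ c₂) [L.HasTotal c₁₂] (i j : I₁₂) (i₁ : I₁)
    (i₂ : I₂) (h : ComplexShape.π c₁ c₂ c₁₂ (i₁, i₂) = i) :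
    L.ιTotal c₁₂ i₁ i₂ i h ≫ (L.total c₁₂).d i j = L.d₁ c₁₂ i₁ i₂ j + L.d₂ c₁₂ i₁ i₂ j := by
  rw [HomologicalComplex₂.total_d, comp_add, L.ι_D₁, L.ι_D₂]

/-- An additive functor preserving the relevant coproducts commutes with the total complex. -/
noncomputable def totalMapIso :
    (G.mapHomologicalComplex c₁₂).obj (K.total c₁₂) ≅ (mapBicomplex K G).total c₁₂ :=
  HomologicalComplex.Hom.isoOfComponents (xIso K c₁₂ G) (by
    intro i j _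
    apply Cofan.IsColimit.hom_ext (isColimitCofan K c₁₂ G i)
    rintro ⟨⟨i₁, i₂⟩, h⟩
    replace h : ComplexShape.π c₁ c₂ c₁₂ (i₁, i₂) = i := h
    change G.map (K.ιTotal c₁₂ i₁ i₂ i h) ≫ (xIso K c₁₂ G i).hom ≫
        ((mapBicomplex K G).total c₁₂).d i j =
      G.map (K.ιTotal c₁₂ i₁ i₂ i h) ≫ G.map ((K.total c₁₂).d i j) ≫ (xIso K c₁₂ G j).hom
    let ι' : G.obj ((K.X i₁).X i₂) ⟶ ((mapBicomplex K G).total c₁₂).X i :=
      (mapBicomplex K G).ιTotal c₁₂ i₁ i₂ i h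
    let δ₁ : G.obj ((K.X i₁).X i₂) ⟶ ((mapBicomplex K G).total c₁₂).X j :=
      (mapBicomplex K G).d₁ c₁₂ i₁ i₂ j
    let δ₂ : G.obj ((K.X i₁).X i₂) ⟶ ((mapBicomplex K G).total c₁₂).X j :=
      (mapBicomplex K G).d₂ c₁₂ i₁ i₂ j
    have e1 : ι' ≫ ((mapBicomplex K G).total c₁₂).d i j = δ₁ + δ₂ :=
      ιTotal_comp_d c₁₂ (mapBicomplex K G) i j i₁ i₂ h
    have e2 := ιTotal_comp_d c₁₂ K i j i₁ i₂ h
    have e3 : G.map (K.ιTotal c₁₂ i₁ i₂ i h) ≫ (xIso K c₁₂ G i).hom = ι' :=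
      map_ιTotal_xIso_hom K c₁₂ G i₁ i₂ i h
    have e4 : G.map (K.d₁ c₁₂ i₁ i₂ j) ≫ (xIso K c₁₂ G j).hom = δ₁ := map_d₁_xIso_hom K c₁₂ G i₁ i₂ j
    have e5 : G.map (K.d₂ c₁₂ i₁ i₂ j) ≫ (xIso K c₁₂ G j).hom = δ₂ := map_d₂_xIso_hom K c₁₂ G i₁ i₂ j
    calc G.map (K.ιTotal c₁₂ i₁ i₂ i h) ≫ (xIso K c₁₂ G i).hom ≫
          ((mapBicomplex K G).total c₁₂).d i j
        = (G.map (K.ιTotal c₁₂ i₁ i₂ i h) ≫ (xIso K c₁₂ G i).hom) ≫
          ((mapBicomplex K G).total c₁₂).d i j := (assoc _ _ _).symm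
      _ = ι' ≫ ((mapBicomplex K G).total c₁₂).d i j :=
        congrArg (· ≫ ((mapBicomplex K G).total c₁₂).d i j) e3
      _ = δ₁ + δ₂ := e1
      _ = G.map (K.d₁ c₁₂ i₁ i₂ j) ≫ (xIso K c₁₂ G j).hom +
          G.map (K.d₂ c₁₂ i₁ i₂ j) ≫ (xIso K c₁₂ G j).hom := by
        rw [e4, e5]
      _ = G.map (K.d₁ c₁₂ i₁ i₂ j + K.d₂ c₁₂ i₁ i₂ j) ≫ (xIso K c₁₂ G j).hom := by
        rw [G.map_add, add_comp]
      _ = G.map (K.ιTotal c₁₂ i₁ i₂ i h ≫ (K.total c₁₂).d i j) ≫ (xIso K c₁₂ G j).hom := by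
        rw [e2]
      _ = _ := by rw [G.map_comp, assoc])

end Groth.Agent.H35.TotalMap
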