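import Mathlib
import Groth.Agent.H35.TotalMap
import Groth.Agent.H35.KFTotalExact

/-!
# Base change of K-flat complexes (helper35)
-/

open CategoryTheory Limits MonoidalCategory TensorProduct

universe u

namespace Groth.Agent.H35.KFBC

variable {R R' : Type u} [CommRing R] [CommRing R'] (φ : R →+* R')

/-- the projection formula morphism -/
noncomputable def proj (X : ModuleCat.{u} R') (Y : ModuleCat.{u} R) :
    (ModuleCat.restrictScalars φ).obj X ⊗ Y ⟶
      (ModuleCat.restrictScalars φ).obj (X ⊗ (ModuleCat.extendScalars φ).obj Y) :=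
  ((ModuleCat.restrictScalars φ).obj X ◁ (ModuleCat.extendRestrictScalarsAdj φ).unit.app Y) ≫
    Functor.LaxMonoidal.μ (ModuleCat.restrictScalars φ) X ((ModuleCat.extendScalars φ).obj Y)

set_option backward.isDefEq.respectTransparency false in
lemma bijective_proj (X : ModuleCat.{u} R') (Y : ModuleCat.{u} R) :
    Function.Bijective (proj φ X Y).hom := by
  let : Algebra R R' := φ.toAlgebra
  let : Module R X := Module.compHom X φ
  have : IsScalarTower R R' X := ⟨fun r s x => by
    change (φ r * s) • x = φ r • (s • x)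
    rw [mul_smul]⟩
  let e := AlgebraTensorModule.cancelBaseChange R R' R' X Y
  have h : ∀ z : (X : Type u) ⊗[R] (Y : Type u), (proj φ X Y).hom z = e.symm z := by
    intro z
    induction z using TensorProduct.induction_on with
    | zero => simp
    | tmul x y =>
      rw [AlgebraTensorModule.cancelBaseChange_symm_tmul]
      have h1 : ((ModuleCat.restrictScalars φ).obj X ◁
          (ModuleCat.extendRestrictScalarsAdj φ).unit.app Y).hom (x ⊗ₜ y) =
          x ⊗ₜ ((ModuleCat.extendRestrictScalarsAdj φ).unit.app Y).hom y :=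
        ModuleCat.MonoidalCategory.whiskerLeft_apply _ _ _ _
      have h2 := ModuleCat.restrictScalars_μ_tmul φ X ((ModuleCat.extendScalars φ).obj Y) x
        (((ModuleCat.extendRestrictScalarsAdj φ).unit.app Y).hom y)
      change (Functor.LaxMonoidal.μ (ModuleCat.restrictScalars φ) X
        ((ModuleCat.extendScalars φ).obj Y)).hom
          (((ModuleCat.restrictScalars φ).obj X ◁
            (ModuleCat.extendRestrictScalarsAdj φ).unit.app Y).hom (x ⊗ₜ y)) = _
      rw [h1]
      exact h2
    | add a b ha hb => rw [map_add, map_add, ha, hb]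
  constructor
  · intro a b hab
    rw [h a, h b] at hab
    exact e.symm.injective hab
  · intro w
    refine ⟨e w, ?_⟩
    rw [h (e w)]
    exact e.symm_apply_apply w

instance isIso_proj (X : ModuleCat.{u} R') (Y : ModuleCat.{u} R) : IsIso (proj φ X Y) :=
  (ConcreteCategory.isIso_iff_bijective _).2 (bijective_proj φ X Y)

lemma proj_naturality_left {X X' : ModuleCat.{u} R'} (f : X ⟶ X') (Y : ModuleCat.{u} R) :
    ((ModuleCat.restrictScalars φ).map f ▷ Y) ≫ proj φ X' Y =
      proj φ X Y ≫ (ModuleCat.restrictScalars φ).map (f ▷ (ModuleCat.extendScalars φ).obj Y) := by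
  dsimp only [proj]
  rw [← whisker_exchange_assoc, Category.assoc]
  congr 1
  exact Functor.LaxMonoidal.μ_natural_left (ModuleCat.restrictScalars φ) f
    ((ModuleCat.extendScalars φ).obj Y)

lemma proj_naturality_right (X : ModuleCat.{u} R') {Y Y' : ModuleCat.{u} R} (g : Y ⟶ Y') :
    ((ModuleCat.restrictScalars φ).obj X ◁ g) ≫ proj φ X Y' =
      proj φ X Y ≫ (ModuleCat.restrictScalars φ).map (X ◁ (ModuleCat.extendScalars φ).map g) := by
  dsimp only [proj]
  rw [Category.assoc, ← Functor.LaxMonoidal.μ_natural_right, ← Category.assoc, ← Category.assoc,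
    ← MonoidalCategory.whiskerLeft_comp, ← MonoidalCategory.whiskerLeft_comp]
  congr 2



section Complexes

open HomologicalComplex Groth.Agent.H35.TotalMap

variable (L : CochainComplex (ModuleCat.{u} R') ℤ) (K : CochainComplex (ModuleCat.{u} R) ℤ)

/-- termwise extension of scalars -/
noncomputable abbrev extK : CochainComplex (ModuleCat.{u} R') ℤ :=
  ((ModuleCat.extendScalars φ).mapHomologicalComplex (ComplexShape.up ℤ)).obj K

/-- termwise restriction of scalars -/
noncomputable abbrev resL : CochainComplex (ModuleCat.{u} R) ℤ :=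
  ((ModuleCat.restrictScalars φ).mapHomologicalComplex (ComplexShape.up ℤ)).obj L

/-- the bicomplex `L^p ⊗_{R'} (R' ⊗_R K^q)` -/
noncomputable abbrev bic₁ :
    HomologicalComplex₂ (ModuleCat.{u} R') (ComplexShape.up ℤ) (ComplexShape.up ℤ) :=
  (((curriedTensor (ModuleCat.{u} R')).mapBifunctorHomologicalComplex (ComplexShape.up ℤ)
    (ComplexShape.up ℤ)).obj L).obj (extK φ K)

/-- the bicomplex `L^p ⊗_R K^q` -/
noncomputable abbrev bic₂ :
    HomologicalComplex₂ (ModuleCat.{u} R) (ComplexShape.up ℤ) (ComplexShape.up ℤ) :=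
  (((curriedTensor (ModuleCat.{u} R)).mapBifunctorHomologicalComplex (ComplexShape.up ℤ)
    (ComplexShape.up ℤ)).obj (resL φ L)).obj K

/-- the comparison of bicomplexes -/
noncomputable def β : bic₂ φ L K ⟶ mapBicomplex (bic₁ φ L K) (ModuleCat.restrictScalars φ) :=
  HomologicalComplex₂.homMk (fun ⟨p, q⟩ => proj φ (L.X p) (K.X q))
    (fun p p' q _ => (proj_naturality_left φ (L.d p p') (K.X q)).symm)
    (fun p q q' _ => (proj_naturality_right φ (L.X p) (K.d q q')).symm)

instance isIso_β : IsIso (β φ L K) := by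
  have : ∀ p, IsIso ((β φ L K).f p) := fun p => by
    have : ∀ q, IsIso (((β φ L K).f p).f q) := fun q => by
      change IsIso (proj φ (L.X p) (K.X q))
      infer_instance
    exact HomologicalComplex.Hom.isIso_of_components _
  exact HomologicalComplex.Hom.isIso_of_components _

lemma exactAt_map_restrictScalars_iff (T : CochainComplex (ModuleCat.{u} R') ℤ) (i : ℤ) :
    (((ModuleCat.restrictScalars φ).mapHomologicalComplex (ComplexShape.up ℤ)).obj T).ExactAt i ↔
      T.ExactAt i :=
  ShortComplex.exact_map_iff_of_faithful (T.sc i) (ModuleCat.restrictScalars φ)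

/-- `restrict (L ⊗_{R'} (R' ⊗_R K)) ≅ restrict L ⊗_R K`. -/
noncomputable def restrictTensorIso :
    ((ModuleCat.restrictScalars φ).mapHomologicalComplex (ComplexShape.up ℤ)).obj
      (L ⊗ extK φ K) ≅ resL φ L ⊗ K :=
  totalMapIso (bic₁ φ L K) (ComplexShape.up ℤ) (ModuleCat.restrictScalars φ) ≪≫
    (HomologicalComplex₂.total.mapIso (asIso (β φ L K)) (ComplexShape.up ℤ)).symm

/-- Base change of K-flat complexes. -/
theorem isKFlat_extendScalars (hK : Groth.Agent.H35.KF.IsKFlat K) :
    Groth.Agent.H35.KF.IsKFlat (extK φ K) := by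
  intro L hL i
  have hres : ∀ j : ℤ, IsZero ((resL φ L).homology j) := fun j => by
    rw [← exactAt_iff_isZero_homology, exactAt_map_restrictScalars_iff,
      exactAt_iff_isZero_homology]
    exact hL j
  have h1 := hK (resL φ L) hres i
  rw [← exactAt_iff_isZero_homology] at h1 ⊢
  rw [← exactAt_map_restrictScalars_iff φ]
  rw [exactAt_iff_isZero_homology] at h1 ⊢
  exact h1.of_iso ((HomologicalComplex.homologyFunctor _ _ i).mapIso (restrictTensorIso φ L K))

end Complexes

end Groth.Agent.H35.KFBC
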