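import Mathlib
import Groth.Agent.H35.TensorAmp
import Groth.Agent.H35.KFBaseChange
import Groth.Agent.H35.TorAmpCone
import Groth.Agent.H28.PCohRestrict

/-!
# Tor amplitude of restrictions of scalars (helper35)
-/

open CategoryTheory Limits MonoidalCategory

universe u

namespace Groth.Agent.H35.LT

open HomologicalComplex Groth.Agent.H35.KF Groth.Agent.H35.KFBC DerivedCategory

attribute [local instance] HasDerivedCategory.standard

variable {A B : Type u} [CommRing A] [CommRing B] [Algebra A B]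

lemma exactAt_iff_of_iso' {C : Type*} [Category C] [Abelian C] {K L : CochainComplex C ℤ}
    (e : K ≅ L) (i : ℤ) : K.ExactAt i ↔ L.ExactAt i :=
  exactAt_iff_of_quasiIsoAt e.hom i

/-- S6947 -/
theorem hasTorAmplitudeIn_restrict_of_torDim (d : ℕ)
    (hB : DRing.HasTorAmplitudeIn A (-(d : ℤ)) 0 (Dual.inD A B)) (K : Dual.D B) (a b : ℤ)
    (hK : DRing.HasTorAmplitudeIn B a b K) :
    DRing.HasTorAmplitudeIn A (a - d) b ((DRing.restrictD (algebraMap A B)).obj K) := by
  obtain ⟨E, hE, hEfl, ⟨e⟩⟩ := hK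
  have hEK : IsKFlat E := isKFlat_of_bounded_flat E b (fun i hi => hE i (Or.inr hi)) hEfl
  let iso : Q.obj (resL (algebraMap A B) E) ≅ (DRing.restrictD (algebraMap A B)).obj K :=
    ((ModuleCat.restrictScalars (algebraMap A B)).mapDerivedCategoryFactors.app E).symm ≪≫
      (DRing.restrictD (algebraMap A B)).mapIso e
  refine hasTorAmplitudeIn_of_iso iso _ _ ?_
  rw [hasTorAmplitudeIn_Q_iff]
  intro N G hG g hg i hi
  rw [← exactAt_iff_of_iso' (restrictTensorIso (algebraMap A B) E G) i,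
    exactAt_map_restrictScalars_iff]
  have hB' : DRing.HasTorAmplitudeIn A (-(d : ℤ)) 0 (Q.obj (sgl (BA (algebraMap A B)))) :=
    hasTorAmplitudeIn_of_iso ((DerivedCategory.singleFunctor (ModuleCat.{u} A) 0).mapIso
      (Groth.Agent.H28.PCohRestrict.algebraRestrictIso A B)) _ _ hB
  have hY : ∀ j : ℤ, (j < -(d : ℤ) ∨ 0 < j) → (extK (algebraMap A B) G).ExactAt j := by
    intro j hj
    rw [exactAt_map_extendScalars_iff (algebraMap A B) G j, ← exactAt_tensor_sgl_iff,
      exactAt_iff_of_iso' (tensorSwapIso G (sgl (BA (algebraMap A B)))) j]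
    exact (hasTorAmplitudeIn_Q_iff _ _ _).1 hB' N G hG g hg j hj
  have h1 : (extK (algebraMap A B) G).IsGE (-(d : ℤ)) :=
    (CochainComplex.isGE_iff _ _).2 (fun j hj => hY j (Or.inl hj))
  have h2 : (extK (algebraMap A B) G).IsLE 0 :=
    (CochainComplex.isLE_iff _ _).2 (fun j hj => hY j (Or.inr hj))
  rcases hi with hi | hi
  · exact exactAt_tensor_of_lt E _ hEK a (-(d : ℤ)) (fun p hp => hE p (Or.inl hp)) i (by omega)
  · exact exactAt_tensor_of_gt E _ hEK b 0 (fun p hp => hE p (Or.inr hp)) i (by omega)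

end Groth.Agent.H35.LT
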