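import Mathlib
import Groth.Agent.H35.TorAmpRestrict
import Groth.Agent.H45.LDer.Counit
import Groth.Prelude.Def_DRing4

/-!
# The derived tensor product `- ⊗^L E` with a complex, computed on K-flat complexes (helper35)
-/

open CategoryTheory Limits MonoidalCategory

universe u

namespace Groth.Agent.H35.LT

open HomologicalComplex Groth.Agent.H35.KF Groth.Agent.H35.KFBC DerivedCategory Groth.Agent.H5

attribute [local instance] HasDerivedCategory.standard

variable {R : Type u} [CommRing R] (L : CochainComplex (ModuleCat.{u} R) ℤ)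

lemma tensorCxQ_map_eq_of_homotopy ⦃K K' : CochainComplex (ModuleCat.{u} R) ℤ⦄ (f g : K ⟶ K')
    (h : Homotopy f g) : (DRing.tensorCxQ R L).map f = (DRing.tensorCxQ R L).map g :=
  DerivedCategory.Q_map_eq_of_homotopy _
    (mapBifunctorMapHomotopy₁ h (𝟙 L) (curriedTensor (ModuleCat.{u} R)) (ComplexShape.up ℤ))

lemma isIso_tensorCxQ_map ⦃P P' : CochainComplex (ModuleCat.{u} R) ℤ⦄ (φ : P ⟶ P')
    (hP : kf R P) (hP' : kf R P') (hφ : QuasiIso φ) :
    IsIso ((DRing.tensorCxQ R L).map φ) := by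
  have : QuasiIso (φ ▷ L) := quasiIso_whiskerRight_of_isKFlat' hP hP' φ L
  exact inferInstanceAs (IsIso (DerivedCategory.Q.map (φ ▷ L)))

/-- On a K-flat complex the derived tensor product with a complex is the tensor product. -/
noncomputable def LTensorCxIso [DRing.HasLTensorCx R L]
    (P : CochainComplex (ModuleCat.{u} R) ℤ) (hP : IsKFlat P) :
    (DRing.LTensorCx R L).obj (Q.obj P) ≅ Q.obj (P ⊗ L) :=
  haveI := Groth.Agent.H45.LDer.CxCounit.isIso_counit_app (DRing.tensorCxQ R L)
    (tensorCxQ_map_eq_of_homotopy L) (DRing.LTensorCx R L)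
    ((DRing.tensorCxQ R L).totalLeftDerivedCounit DerivedCategory.Q
      (HomologicalComplex.quasiIso (ModuleCat.{u} R) (ComplexShape.up ℤ)))
    (hyp R) (isIso_tensorCxQ_map L) P hP
  asIso (((DRing.tensorCxQ R L).totalLeftDerivedCounit DerivedCategory.Q
      (HomologicalComplex.quasiIso (ModuleCat.{u} R) (ComplexShape.up ℤ))).app P)

section Restrict

variable {A B : Type u} [CommRing A] [CommRing B] [Algebra A B]

/-- S6953 -/
theorem hasTorAmplitudeIn_restrict_LTensorCx (K : Dual.D B) (a b c d : ℤ)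
    (hK : DRing.HasTorAmplitudeIn B a b K) (L : DRing.Cx B)
    (hL : DRing.HasTorAmplitudeIn A c d
      (DRing.toD ((DRing.restrictCx (algebraMap A B)).obj L)))
    [DRing.HasLTensorCx B L] :
    DRing.HasTorAmplitudeIn A (a + c) (b + d)
      ((DRing.restrictD (algebraMap A B)).obj ((DRing.LTensorCx B L).obj K)) := by
  obtain ⟨E, hE, hEfl, ⟨e⟩⟩ := hK
  have hEK : IsKFlat E := isKFlat_of_bounded_flat E b (fun i hi => hE i (Or.inr hi)) hEfl
  let iso : Q.obj (resL (algebraMap A B) (E ⊗ L)) ≅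
      (DRing.restrictD (algebraMap A B)).obj ((DRing.LTensorCx B L).obj K) :=
    ((ModuleCat.restrictScalars (algebraMap A B)).mapDerivedCategoryFactors.app (E ⊗ L)).symm ≪≫
      (DRing.restrictD (algebraMap A B)).mapIso
        ((LTensorCxIso L E hEK).symm ≪≫ (DRing.LTensorCx B L).mapIso e)
  refine hasTorAmplitudeIn_of_iso iso _ _ ?_
  rw [hasTorAmplitudeIn_Q_iff]
  intro N G hG g hg i hi
  rw [← exactAt_iff_of_iso' (restrictTensorIso (algebraMap A B) (E ⊗ L) G) i,
    exactAt_map_restrictScalars_iff,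
    exactAt_iff_of_iso' (α_ E L (extK (algebraMap A B) G)) i]
  have hL' : DRing.HasTorAmplitudeIn A c d (Q.obj (resL (algebraMap A B) L)) := hL
  have hY : ∀ j : ℤ, (j < c ∨ d < j) → (L ⊗ extK (algebraMap A B) G).ExactAt j := by
    intro j hj
    rw [← exactAt_map_restrictScalars_iff (algebraMap A B),
      exactAt_iff_of_iso' (restrictTensorIso (algebraMap A B) L G) j]
    exact (hasTorAmplitudeIn_Q_iff _ _ _).1 hL' N G hG g hg j hj
  have h1 : (L ⊗ extK (algebraMap A B) G).IsGE c :=
    (CochainComplex.isGE_iff _ _).2 (fun j hj => hY j (Or.inl hj))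
  have h2 : (L ⊗ extK (algebraMap A B) G).IsLE d :=
    (CochainComplex.isLE_iff _ _).2 (fun j hj => hY j (Or.inr hj))
  rcases hi with hi | hi
  · exact exactAt_tensor_of_lt E _ hEK a c (fun p hp => hE p (Or.inl hp)) i hi
  · exact exactAt_tensor_of_gt E _ hEK b d (fun p hp => hE p (Or.inr hp)) i hi

end Restrict

end Groth.Agent.H35.LT
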