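import Mathlib
import Groth.Agent.H35.LTensorCxLib
import Groth.Agent.H35.KFColimit
import Groth.Agent.H35.DerHom
import Groth.Agent.H35.PerfCx

/-!
# Terms of a tensor product of bounded above complexes (helper35)
-/

open CategoryTheory Limits MonoidalCategory

universe u

namespace Groth.Agent.H35.LT

open HomologicalComplex Groth.Agent.H35.KF DerivedCategory DirectSum

variable {R : Type u} [CommRing R]

section Cofan

variable {ι : Type} (Z : ι → ModuleCat.{u} R) (c : Cofan Z) (hc : IsColimit c)

/-- the point of a colimit cofan of modules is the direct sum -/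
noncomputable def cofanPtIso : c.pt ≅ ModuleCat.of R (⨁ i, Z i) := by
  classical
  exact IsColimit.coconePointUniqueUpToIso hc (ModuleCat.coproductCoconeIsColimit Z)

include hc in
lemma projective_of_isColimit_cofan (h : ∀ i, Module.Projective R (Z i)) :
    Module.Projective R c.pt :=
  Module.Projective.of_equiv (cofanPtIso Z c hc).symm.toLinearEquiv

include hc in
lemma free_of_isColimit_cofan (h : ∀ i, Module.Free R (Z i)) : Module.Free R c.pt :=
  Module.Free.of_equiv (cofanPtIso Z c hc).symm.toLinearEquiv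

lemma finite_directSum_of_finset (J : Finset ι) (hJ : ∀ i, i ∉ J → Subsingleton (Z i))
    (h : ∀ i, Module.Finite R (Z i)) : Module.Finite R (⨁ i, Z i) := by
  classical
  constructor
  have h1 : (⊤ : Submodule R (⨁ i, Z i)) =
      ⨆ i ∈ J, LinearMap.range (DirectSum.lof R ι (fun i => Z i) i) := by
    rw [eq_comm, eq_top_iff, ← DFinsupp.iSup_range_lsingle]
    refine iSup_le (fun i => ?_)
    by_cases hi : i ∈ J
    · exact le_biSup (fun i => LinearMap.range (DirectSum.lof R ι (fun i => Z i) i)) hi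
    · have := hJ i hi
      rintro x ⟨y, rfl⟩
      rw [Subsingleton.elim y 0, map_zero]
      exact Submodule.zero_mem _
  rw [h1]
  refine Submodule.fg_biSup J _ (fun i _ => ?_)
  rw [LinearMap.range_eq_map]
  exact (h i).fg_top.map _

include hc in
lemma finite_of_isColimit_cofan (J : Finset ι) (hJ : ∀ i, i ∉ J → IsZero (Z i))
    (h : ∀ i, Module.Finite R (Z i)) : Module.Finite R c.pt := by
  have := finite_directSum_of_finset Z J
    (fun i hi => ModuleCat.subsingleton_of_isZero (hJ i hi)) h
  exact Module.Finite.equiv (cofanPtIso Z c hc).symm.toLinearEquiv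

end Cofan

section Terms

variable (P P' : CochainComplex (ModuleCat.{u} R) ℤ) (n : ℤ)

/-- the summands of `(P ⊗ P')^n` -/
noncomputable abbrev summand (i : TotIdx n) : ModuleCat.{u} R :=
  (totGraded P P').mapObjFun
    (ComplexShape.π (ComplexShape.up ℤ) (ComplexShape.up ℤ) (ComplexShape.up ℤ)) n i

lemma summand_eq (i : TotIdx n) : summand P P' n i = (P.X i.1.1 ⊗ P'.X i.1.2) := rfl

lemma isZero_summand_of_left (i : TotIdx n) (h : IsZero (P.X i.1.1)) :
    IsZero (summand P P' n i) :=
  ((curriedTensor (ModuleCat.{u} R)).flip.obj (P'.X i.1.2)).map_isZero h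

lemma isZero_summand_of_right (i : TotIdx n) (h : IsZero (P'.X i.1.2)) :
    IsZero (summand P P' n i) :=
  ((curriedTensor (ModuleCat.{u} R)).obj (P.X i.1.1)).map_isZero h

/-- the finite set of indices of possibly nonzero summands -/
noncomputable def idxFinset (b b' : ℤ) : Finset (TotIdx n) := by
  classical
  exact (Finset.Icc (n - b') b).attach.image (fun p => ⟨(p.1, n - p.1), by
    change p.1 + (n - p.1) = n
    omega⟩)

lemma mem_idxFinset (b b' : ℤ) (i : TotIdx n) (h1 : i.1.1 ≤ b) (h2 : i.1.2 ≤ b') :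
    i ∈ idxFinset n b b' := by
  classical
  obtain ⟨⟨p, q⟩, hpq⟩ := i
  have hpq' : p + q = n := hpq
  simp only [idxFinset, Finset.mem_image, Finset.mem_attach, true_and, Subtype.exists,
    Finset.mem_Icc]
  refine ⟨p, ⟨by change q ≤ b' at h2; omega, h1⟩, ?_⟩
  apply Subtype.ext
  change (p, n - p) = (p, q)
  rw [show n - p = q by omega]

variable (b b' : ℤ) (hb : ∀ p : ℤ, b < p → IsZero (P.X p)) (hb' : ∀ q : ℤ, b' < q → IsZero (P'.X q))

include hb hb' in
lemma isZero_summand_of_not_mem (i : TotIdx n) (hi : i ∉ idxFinset n b b') :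
    IsZero (summand P P' n i) := by
  by_cases h1 : i.1.1 ≤ b
  · by_cases h2 : i.1.2 ≤ b'
    · exact absurd (mem_idxFinset n b b' i h1 h2) hi
    · exact isZero_summand_of_right P P' n i (hb' _ (by omega))
  · exact isZero_summand_of_left P P' n i (hb _ (by omega))

include hb hb' in
lemma finite_tensor_X (hP : ∀ i, Module.Finite R (P.X i)) (hP' : ∀ i, Module.Finite R (P'.X i)) :
    Module.Finite R ((P ⊗ P').X n) := by
  refine finite_of_isColimit_cofan (summand P P' n) (totCocone P n P') (isColimitTotCocone P n P')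
    (idxFinset n b b') (isZero_summand_of_not_mem P P' n b b' hb hb') (fun i => ?_)
  have := hP i.1.1
  have := hP' i.1.2
  change Module.Finite R (TensorProduct R (P.X i.1.1) (P'.X i.1.2))
  infer_instance

lemma free_tensor_X (hP : ∀ i, Module.Free R (P.X i)) (hP' : ∀ i, Module.Free R (P'.X i)) :
    Module.Free R ((P ⊗ P').X n) := by
  refine free_of_isColimit_cofan (summand P P' n) (totCocone P n P') (isColimitTotCocone P n P')
    (fun i => ?_)
  have := hP i.1.1
  have := hP' i.1.2
  change Module.Free R (TensorProduct R (P.X i.1.1) (P'.X i.1.2))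
  infer_instance

lemma projective_tensor_X (hP : ∀ i, Module.Projective R (P.X i))
    (hP' : ∀ i, Module.Projective R (P'.X i)) : Module.Projective R ((P ⊗ P').X n) := by
  refine projective_of_isColimit_cofan (summand P P' n) (totCocone P n P')
    (isColimitTotCocone P n P') (fun i => ?_)
  have := hP i.1.1
  have := hP' i.1.2
  change Module.Projective R (TensorProduct R (P.X i.1.1) (P'.X i.1.2))
  infer_instance

end Terms

section Main

attribute [local instance] HasDerivedCategory.standard

/-- for a bounded above complex of projectives `P'` isomorphic to `L` in the derived category and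
a K-flat complex `P`, `P ⊗^L L` is `P ⊗ P'` -/
lemma nonempty_LTensorCx_iso (L : DRing.Cx R) [DRing.HasLTensorCx R L] (K : Dual.D R)
    (P : DRing.Cx R) (hPK : IsKFlat P) (e : DRing.toD P ≅ K)
    (P' : DRing.Cx R) (b' : ℤ) (hb' : DRing.VanishesAbove P' b')
    (hproj : ∀ i : ℤ, Module.Projective R (P'.X i)) (e' : DRing.toD P' ≅ DRing.toD L) :
    Nonempty (DRing.toD (P ⊗ P') ≅ (DRing.LTensorCx R L).obj K) := by
  have hKP : P'.IsKProjective := Groth.Agent.H35.isKProjective_of_vanishesAbove P' b' hb' hproj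
  obtain ⟨g, hg⟩ := Groth.Agent.H35.Q_map_surjective_of_isKProjective L e'.hom
  have hqi : QuasiIso g := by
    rw [← DerivedCategory.isIso_Q_map_iff_quasiIso (φ := g), hg]
    exact Iso.isIso_hom e'
  have h1 : QuasiIso (P ◁ g) :=
    quasiIso_whiskerLeft_of_left_flat P (isZero_homology_tensor_left_of_isKFlat hPK) g
  have h2 : IsIso (Q.map (P ◁ g)) := (DerivedCategory.isIso_Q_map_iff_quasiIso (φ := P ◁ g)).2 h1
  exact ⟨@asIso _ _ _ _ (Q.map (P ◁ g)) h2 ≪≫ (LTensorCxIso L P hPK).symm ≪≫
    (DRing.LTensorCx R L).mapIso e⟩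

/-- S7037 -/
theorem isPseudoCoherent'_LTensorCx (K : Dual.D R) (hK : DRing.IsPseudoCoherent' R K)
    (L : DRing.Cx R) (hL : DRing.IsPseudoCoherent' R (DRing.toD L)) [DRing.HasLTensorCx R L] :
    DRing.IsPseudoCoherent' R ((DRing.LTensorCx R L).obj K) := by
  obtain ⟨P, b, hPb, hPff, ⟨e⟩⟩ := hK
  obtain ⟨P', b', hP'b, hP'ff, ⟨e'⟩⟩ := hL
  have hPK : IsKFlat P := isKFlat_of_bounded_flat P b hPb (fun i => by
    have := (hPff i).2
    infer_instance)
  obtain ⟨iso⟩ := nonempty_LTensorCx_iso L K P hPK e P' b' hP'b (fun i => by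
    have := (hP'ff i).2
    infer_instance) e'
  refine ⟨P ⊗ P', b + b', ?_, ?_, ⟨iso⟩⟩
  · intro n hn
    refine isZero_tensor_X P P' n (fun p q hpq => ?_)
    by_cases hp : b < p
    · exact Or.inl (hPb p hp)
    · exact Or.inr (hP'b q (by omega))
  · intro n
    exact ⟨finite_tensor_X P P' n b b' hPb hP'b (fun i => (hPff i).1) (fun i => (hP'ff i).1),
      free_tensor_X P P' n (fun i => (hPff i).2) (fun i => (hP'ff i).2)⟩

/-- S6959 -/
theorem isPerfect_LTensorCx (K : Dual.D R) (hK : DRing.IsPerfect R K)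
    (L : DRing.Cx R) (hL : DRing.IsPerfect R (DRing.toD L)) [DRing.HasLTensorCx R L] :
    DRing.IsPerfect R ((DRing.LTensorCx R L).obj K) := by
  obtain ⟨P, a, b, hP, hPfp, ⟨e⟩⟩ := hK
  obtain ⟨P', a', b', hP', hP'fp, ⟨e'⟩⟩ := hL
  have hPK : IsKFlat P := isKFlat_of_bounded_flat P b (fun i hi => hP i (Or.inr hi)) (fun i => by
    have := (hPfp i).2
    infer_instance)
  obtain ⟨iso⟩ := nonempty_LTensorCx_iso L K P hPK e P' b' (fun i hi => hP' i (Or.inr hi))
    (fun i => (hP'fp i).2) e'
  refine ⟨P ⊗ P', a + a', b + b', ?_, ?_, ⟨iso⟩⟩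
  · intro n hn
    refine isZero_tensor_X P P' n (fun p q hpq => ?_)
    rcases hn with hn | hn
    · by_cases hp : p < a
      · exact Or.inl (hP p (Or.inl hp))
      · exact Or.inr (hP' q (Or.inl (by omega)))
    · by_cases hp : b < p
      · exact Or.inl (hP p (Or.inr hp))
      · exact Or.inr (hP' q (Or.inr (by omega)))
  · intro n
    exact ⟨finite_tensor_X P P' n b b' (fun p hp => hP p (Or.inr hp))
        (fun q hq => hP' q (Or.inr hq)) (fun i => (hPfp i).1) (fun i => (hP'fp i).1),
      projective_tensor_X P P' n (fun i => (hPfp i).2) (fun i => (hP'fp i).2)⟩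

end Main

end Groth.Agent.H35.LT
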