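import Mathlib

/-!
# Mates of a commutation transformation: independence of the adjunctions and an
isomorphism criterion (helper35)
-/

set_option autoImplicit false

open CategoryTheory

namespace Groth.Agent.H35.MateIso

variable {D₁ D₁' D₂ D₂' : Type*} [Category D₁] [Category D₁'] [Category D₂] [Category D₂']
  {Lρ : D₁ ⥤ D₁'} {Gρ : D₁' ⥤ D₁} {Lα : D₂ ⥤ D₂'} {Gα : D₂' ⥤ D₂}
  {U : D₂ ⥤ D₁} {V : D₂' ⥤ D₁'} (c : Gα ⋙ U ⟶ V ⋙ Gρ)

/-- the mate of `c` with respect to two adjunctions, at an object -/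
def mate (adjρ : Lρ ⊣ Gρ) (adjα : Lα ⊣ Gα) (K : D₂) : Lρ.obj (U.obj K) ⟶ V.obj (Lα.obj K) :=
  (adjρ.homEquiv _ _).symm (U.map (adjα.unit.app K) ≫ c.app (Lα.obj K))

lemma mate_eq (adjρ adjρ' : Lρ ⊣ Gρ) (adjα adjα' : Lα ⊣ Gα) (K : D₂) :
    mate c adjρ' adjα' K = (Adjunction.leftAdjointUniq adjρ' adjρ).hom.app (U.obj K) ≫
      mate c adjρ adjα K ≫ V.map ((Adjunction.leftAdjointUniq adjα adjα').hom.app K) := by
  unfold mate
  rw [Adjunction.homEquiv_counit, Adjunction.homEquiv_counit,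
    ← Adjunction.unit_leftAdjointUniq_hom_app adjα adjα' K,
    ← Adjunction.leftAdjointUniq_hom_app_counit adjρ' adjρ]
  have hc := c.naturality ((Adjunction.leftAdjointUniq adjα adjα').hom.app K)
  dsimp at hc
  simp only [Functor.map_comp, Category.assoc]
  have e1 : Lρ.map (U.map (Gα.map ((Adjunction.leftAdjointUniq adjα adjα').hom.app K))) ≫
      Lρ.map (c.app (Lα.obj K)) = Lρ.map (c.app (Lα.obj K)) ≫
        Lρ.map (Gρ.map (V.map ((Adjunction.leftAdjointUniq adjα adjα').hom.app K))) := by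
    rw [← Lρ.map_comp, hc, Lρ.map_comp]
  rw [reassoc_of% e1, ← (Adjunction.leftAdjointUniq adjρ' adjρ).hom.naturality_assoc,
    ← (Adjunction.leftAdjointUniq adjρ' adjρ).hom.naturality_assoc,
    (Adjunction.leftAdjointUniq adjρ' adjρ).hom.naturality_assoc
      (Gρ.map (V.map ((Adjunction.leftAdjointUniq adjα adjα').hom.app K))),
    adjρ.counit_naturality]

lemma isIso_mate_of_isIso (adjρ adjρ' : Lρ ⊣ Gρ) (adjα adjα' : Lα ⊣ Gα) (K : D₂)
    [IsIso (mate c adjρ adjα K)] : IsIso (mate c adjρ' adjα' K) := by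
  rw [mate_eq c adjρ adjρ' adjα adjα' K]
  infer_instance

/-- isomorphism criterion -/
lemma isIso_mate (adjρ : Lρ ⊣ Gρ) (adjα : Lα ⊣ Gα) (K : D₂) {Y : D₁} (ι : Y ≅ U.obj K)
    {E₁ : D₁'} {E₂ : D₂'} (a₁ : Lρ.obj Y ≅ E₁) (a₂ : Lα.obj K ≅ E₂) (m : E₁ ≅ V.obj E₂)
    (H : adjρ.unit.app Y ≫ Gρ.map (a₁.hom ≫ m.hom) =
      ι.hom ≫ U.map (adjα.unit.app K ≫ Gα.map a₂.hom) ≫ c.app E₂) :
    IsIso (mate c adjρ adjα K) := by
  have key : Lρ.map ι.hom ≫ mate c adjρ adjα K ≫ V.map a₂.hom = a₁.hom ≫ m.hom := by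
    apply (adjρ.homEquiv _ _).injective
    rw [Adjunction.homEquiv_unit, Adjunction.homEquiv_unit, H]
    have hc := c.naturality a₂.hom
    dsimp at hc
    simp only [Functor.map_comp, Category.assoc]
    rw [adjρ.unit_naturality_assoc, hc]
    have h2 : adjρ.unit.app (U.obj K) ≫ Gρ.map (mate c adjρ adjα K) =
        U.map (adjα.unit.app K) ≫ c.app (Lα.obj K) := by
      exact (Adjunction.homEquiv_unit adjρ _ _ _).symm.trans
        ((adjρ.homEquiv _ _).apply_symm_apply _)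
    rw [reassoc_of% h2]
  have h3 : mate c adjρ adjα K = Lρ.map ι.inv ≫ (a₁.hom ≫ m.hom) ≫ V.map a₂.inv := by
    rw [← key]
    rw [Category.assoc, Category.assoc, ← V.map_comp, Iso.hom_inv_id, V.map_id, Category.comp_id,
      ← Lρ.map_comp_assoc, Iso.inv_hom_id, Lρ.map_id, Category.id_comp]
  rw [h3]
  infer_instance

lemma mate_naturality (adjρ : Lρ ⊣ Gρ) (adjα : Lα ⊣ Gα) {K K' : D₂} (f : K ⟶ K') :
    Lρ.map (U.map f) ≫ mate c adjρ adjα K' = mate c adjρ adjα K ≫ V.map (Lα.map f) := by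
  unfold mate
  rw [Adjunction.homEquiv_counit, Adjunction.homEquiv_counit]
  have hc := c.naturality (Lα.map f)
  dsimp at hc
  have hu := adjα.unit.naturality f
  dsimp at hu
  rw [Category.assoc, ← adjρ.counit_naturality, ← Lρ.map_comp_assoc, ← Lρ.map_comp_assoc]
  congr 2
  rw [Category.assoc, ← hc, ← U.map_comp_assoc, ← U.map_comp_assoc, hu]

lemma isIso_mate_of_iso (adjρ : Lρ ⊣ Gρ) (adjα : Lα ⊣ Gα) {K K' : D₂} (e : K ≅ K')
    [IsIso (mate c adjρ adjα K')] : IsIso (mate c adjρ adjα K) := by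
  have h : mate c adjρ adjα K =
      Lρ.map (U.map e.hom) ≫ mate c adjρ adjα K' ≫ V.map (Lα.map e.inv) := by
    rw [← Category.assoc, mate_naturality, Category.assoc, ← V.map_comp, ← Lα.map_comp,
      Iso.hom_inv_id, Lα.map_id, V.map_id, Category.comp_id]
  rw [h]
  infer_instance

end Groth.Agent.H35.MateIso
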