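import Mathlib
import Groth.Agent.H35.TorAmpD
import Groth.Agent.H18.TorBalance
import Groth.Agent.H9.WeakDimWE

/-!
# Tor dimension of a module versus tor amplitude of `M[0]` (helper35)
-/

open CategoryTheory Limits MonoidalCategory

universe u

namespace Groth.Agent.H35.KF

open HomologicalComplex DerivedCategory

attribute [local instance] HasDerivedCategory.standard

variable {R : Type u} [CommRing R]

/-- the three-term piece of the `ℤ`-indexed version of a projective resolution -/
noncomputable def scCochainComplexIso {M : ModuleCat.{u} R} (P : ProjectiveResolution M) (k : ℕ) :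
    P.cochainComplex.sc' (-((k : ℤ) + 2)) (-((k : ℤ) + 1)) (-(k : ℤ)) ≅
      P.complex.sc' (k + 2) (k + 1) k :=
  ShortComplex.isoMk (P.cochainComplexXIso _ _ (by push_cast; ring))
    (P.cochainComplexXIso _ _ (by push_cast; ring)) (P.cochainComplexXIso _ _ (by push_cast; ring))
    (by
      change (P.cochainComplexXIso _ _ _).hom ≫ P.complex.d _ _ =
        P.cochainComplex.d _ _ ≫ (P.cochainComplexXIso _ _ _).hom
      rw [P.cochainComplex_d (-((k : ℤ) + 2)) (-((k : ℤ) + 1)) (k + 2) (k + 1)
        (by push_cast; ring) (by push_cast; ring), Category.assoc, Category.assoc,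
        Iso.inv_hom_id, Category.comp_id])
    (by
      change (P.cochainComplexXIso _ _ _).hom ≫ P.complex.d _ _ =
        P.cochainComplex.d _ _ ≫ (P.cochainComplexXIso _ _ _).hom
      rw [P.cochainComplex_d (-((k : ℤ) + 1)) (-(k : ℤ)) (k + 1) k
        (by push_cast; ring) (by push_cast; ring), Category.assoc, Category.assoc,
        Iso.inv_hom_id, Category.comp_id])

lemma tensExactAt_cochainComplex_iff {M : ModuleCat.{u} R} (P : ProjectiveResolution M)
    (N : ModuleCat.{u} R) (k : ℕ) :
    TensExactAt P.cochainComplex N (-((k : ℤ) + 1)) ↔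
      IsZero ((Groth.Agent.H18.tensCx P N).homology (k + 1)) := by
  rw [tensExactAt_iff' _ _ (-((k : ℤ) + 2)) (-((k : ℤ) + 1)) (-(k : ℤ)) (by ring) (by ring),
    ← HomologicalComplex.exactAt_iff_isZero_homology,
    HomologicalComplex.exactAt_iff' _ (k + 2) (k + 1) k (by simp) (by simp)]
  exact ShortComplex.exact_iff_of_iso
    ((tensorRight N).mapShortComplex.mapIso (scCochainComplexIso P k))

/-- S6946, first part. -/
theorem hasTorDimLE_iff_hasTorAmplitudeIn (M : Type u) [AddCommGroup M] [Module R M] (d : ℕ) :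
    DRing.HasTorDimLE R d M ↔ DRing.HasTorAmplitudeIn R (-(d : ℤ)) 0 (Dual.inD R M) := by
  let P := projectiveResolution (ModuleCat.of R M)
  let F := P.cochainComplex
  have hc : ∀ i : ℤ, 0 < i → IsZero (F.X i) := fun i hi =>
    CochainComplex.isZero_of_isStrictlyLE F 0 i hi
  have hF : ∀ i : ℤ, Module.Flat R (F.X i) := fun i => Groth.Agent.H18.flat_of_projective _
  have : IsIso (Q.map P.π') := by
    rw [DerivedCategory.isIso_Q_map_iff_quasiIso (φ := P.π')]
    infer_instance
  let e : Q.obj F ≅ Dual.inD R M := @asIso _ _ _ _ (Q.map P.π') this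
  constructor
  · intro h
    refine hasTorAmplitudeIn_of_torVanishing _ _ _ F 0 hc hF e ?_
    intro N i hi
    rcases hi with hi | hi
    · obtain ⟨k, rfl⟩ : ∃ k : ℕ, i = -((k : ℤ) + 1) := ⟨(-i - 1).toNat, by omega⟩
      rw [tensExactAt_cochainComplex_iff]
      obtain ⟨e'⟩ := Groth.Agent.H18.tor_iso_homology_tensCx (ModuleCat.of R M) P (k + 1) N
      have h1 : Subsingleton (DRing.Tor R (k + 1) M N) := h N (k + 1) (by omega)
      exact IsZero.of_iso (ModuleCat.isZero_of_subsingleton _) e'.symm
    · exact tensExactAt_of_isZero F N i (hc i hi)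
  · intro h N _ _ p hp
    have hv := torVanishing_of_hasTorAmplitudeIn _ _ _ h F 0 hc hF e
    obtain ⟨k, rfl⟩ : ∃ k, p = k + 1 := ⟨p - 1, by omega⟩
    have h1 := hv (ModuleCat.of R N) (-((k : ℤ) + 1)) (Or.inl (by omega))
    rw [tensExactAt_cochainComplex_iff] at h1
    obtain ⟨e'⟩ := Groth.Agent.H18.tor_iso_homology_tensCx (ModuleCat.of R M) P (k + 1)
      (ModuleCat.of R N)
    exact ModuleCat.subsingleton_of_isZero (IsZero.of_iso h1 e')

/-- S6946, second part. -/
theorem hasTorDimLE_zero_iff_flat (M : Type u) [AddCommGroup M] [Module R M] :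
    DRing.HasTorDimLE R 0 M ↔ Module.Flat R M := by
  constructor
  · intro h
    exact Groth.Agent.H9.WeakDimWE.flat_of_isZero_tor_one M
      (fun N _ _ => ModuleCat.isZero_iff_subsingleton.mpr (h N 1 Nat.zero_lt_one))
  · intro h N _ _ p hp
    obtain ⟨k, rfl⟩ : ∃ k, p = k + 1 := ⟨p - 1, by omega⟩
    exact ModuleCat.subsingleton_of_isZero
      (Groth.Agent.H18.isZero_tor_succ_of_flat_left (ModuleCat.of R M) (ModuleCat.of R N) k)

end Groth.Agent.H35.KF
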