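import Mathlib
import Groth.Agent.H35.LTensorRing
import Groth.Prelude.Def_DRing2

/-!
# Derived base change of complexes with flat / projective representatives (helper35)
-/

open CategoryTheory Limits MonoidalCategory ZeroObject

namespace Groth.Agent.H35.LT

universe u

open HomologicalComplex Groth.Agent.H35.KF TensorProduct

attribute [local instance] HasDerivedCategory.standard

variable {A B : Type u} [CommRing A] [CommRing B] (φ : A →+* B)

lemma flat_extendScalars (M : ModuleCat.{u} A) [Module.Flat A M] :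
    Module.Flat B ((ModuleCat.extendScalars.{u, u, u} φ).obj M) := by
  algebraize [φ]
  change Module.Flat B (B ⊗[A] M)
  infer_instance

lemma finite_extendScalars (M : ModuleCat.{u} A) [Module.Finite A M] :
    Module.Finite B ((ModuleCat.extendScalars.{u, u, u} φ).obj M) := by
  algebraize [φ]
  change Module.Finite B (B ⊗[A] M)
  infer_instance

lemma projective_extendScalars (M : ModuleCat.{u} A) [Module.Projective A M] :
    Module.Projective B ((ModuleCat.extendScalars.{u, u, u} φ).obj M) := by
  algebraize [φ]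
  change Module.Projective B (B ⊗[A] M)
  infer_instance

lemma free_extendScalars (M : ModuleCat.{u} A) [Module.Free A M] :
    Module.Free B ((ModuleCat.extendScalars.{u, u, u} φ).obj M) := by
  algebraize [φ]
  change Module.Free B (B ⊗[A] M)
  infer_instance

/-- extension of scalars of complexes -/
noncomputable abbrev extCx :
    CochainComplex (ModuleCat.{u} A) ℤ ⥤ CochainComplex (ModuleCat.{u} B) ℤ :=
  (ModuleCat.extendScalars.{u, u, u} φ).mapHomologicalComplex (ComplexShape.up ℤ)

theorem hasTorAmplitudeIn_LBaseChange [DRing.HasLBaseChange φ] (K : Dual.D A) (a b : ℤ)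
    (hK : DRing.HasTorAmplitudeIn A a b K) :
    DRing.HasTorAmplitudeIn B a b ((DRing.LBaseChange φ).obj K) := by
  obtain ⟨E, hE, hEfl, ⟨e⟩⟩ := hK
  have hEK : IsKFlat E := isKFlat_of_bounded_flat E b (fun i hi => hE i (Or.inr hi)) hEfl
  refine ⟨(extCx φ).obj E, ?_, ?_,
    ⟨(LBaseChangeIso φ E hEK).symm ≪≫ (DRing.LBaseChange φ).mapIso e⟩⟩
  · intro i hi
    exact (ModuleCat.extendScalars.{u, u, u} φ).map_isZero (hE i hi)
  · intro i
    have := hEfl i
    exact flat_extendScalars φ (E.X i)

theorem isPerfect_LBaseChange [DRing.HasLBaseChange φ] (K : Dual.D A)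
    (hK : DRing.IsPerfect A K) : DRing.IsPerfect B ((DRing.LBaseChange φ).obj K) := by
  obtain ⟨E, a, b, hE, hEfp, ⟨e⟩⟩ := hK
  have hEK : IsKFlat E := isKFlat_of_bounded_flat E b (fun i hi => hE i (Or.inr hi))
    (fun i => by
      have := (hEfp i).2
      infer_instance)
  refine ⟨(extCx φ).obj E, a, b, ?_, ?_,
    ⟨(LBaseChangeIso φ E hEK).symm ≪≫ (DRing.LBaseChange φ).mapIso e⟩⟩
  · intro i hi
    exact (ModuleCat.extendScalars.{u, u, u} φ).map_isZero (hE i hi)
  · intro i
    have := (hEfp i).1
    have := (hEfp i).2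
    exact ⟨finite_extendScalars φ (E.X i), projective_extendScalars φ (E.X i)⟩

theorem isPseudoCoherent'_LBaseChange [DRing.HasLBaseChange φ] (K : Dual.D A)
    (hK : DRing.IsPseudoCoherent' A K) :
    DRing.IsPseudoCoherent' B ((DRing.LBaseChange φ).obj K) := by
  obtain ⟨E, b, hE, hEfp, ⟨e⟩⟩ := hK
  have hEK : IsKFlat E := isKFlat_of_bounded_flat E b (fun i hi => hE i hi)
    (fun i => by
      have := (hEfp i).2
      infer_instance)
  refine ⟨(extCx φ).obj E, b, ?_, ?_,
    ⟨(LBaseChangeIso φ E hEK).symm ≪≫ (DRing.LBaseChange φ).mapIso e⟩⟩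
  · intro i hi
    exact (ModuleCat.extendScalars.{u, u, u} φ).map_isZero (hE i hi)
  · intro i
    have := (hEfp i).1
    have := (hEfp i).2
    exact ⟨finite_extendScalars φ (E.X i), free_extendScalars φ (E.X i)⟩

end Groth.Agent.H35.LT
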