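import Mathlib
import Groth.Agent.H35.LBaseChangeLib
import Groth.Agent.H12.Bridge

/-!
# Flat base change on derived categories of modules (helper35)
-/

open CategoryTheory Limits MonoidalCategory

namespace Groth.Agent.H35.LT

universe u

open HomologicalComplex DerivedCategory TensorProduct

attribute [local instance] HasDerivedCategory.standard

variable {A B : Type u} [CommRing A] [CommRing B] [Algebra A B]

section

variable [Module.Flat A B]

instance preservesFiniteLimits_extendScalars_algebraMap :
    PreservesFiniteLimits (ModuleCat.extendScalars.{u, u, u} (algebraMap A B)) :=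
  ModuleCat.preservesFiniteLimits_extendScalars_of_flat
    ((RingHom.flat_algebraMap_iff).2 inferInstance)

/-- `B ⊗_A M` as an object of `ModuleCat B` is the extension of scalars of `M`. -/
noncomputable def extendScalarsObjIso (M : Type u) [AddCommGroup M] [Module A M] :
    (ModuleCat.extendScalars.{u, u, u} (algebraMap A B)).obj (ModuleCat.of A M) ≅
      ModuleCat.of B (B ⊗[A] M) :=
  (Groth.Agent.H12.BC.bridge (B := B) (ModuleCat.of A M)).toModuleIso

/-- For flat `A → B`, `(B ⊗_A M)[0]` is the image of `M[0]` under the exact functor `B ⊗_A -`. -/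
noncomputable def inDBaseChangeIso (M : Type u) [AddCommGroup M] [Module A M] :
    (ModuleCat.extendScalars.{u, u, u} (algebraMap A B)).mapDerivedCategory.obj (Dual.inD A M) ≅
      Dual.inD B (B ⊗[A] M) :=
  ((ModuleCat.extendScalars.{u, u, u} (algebraMap A B)).mapDerivedCategorySingleFunctor 0).app
      (ModuleCat.of A M) ≪≫
    (DerivedCategory.singleFunctor (ModuleCat.{u} B) 0).mapIso (extendScalarsObjIso M)

theorem hasTorAmplitudeIn_mapDerivedCategory_extendScalars (K : Dual.D A) (a b : ℤ)
    (h : DRing.HasTorAmplitudeIn A a b K) :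
    DRing.HasTorAmplitudeIn B a b
      ((ModuleCat.extendScalars.{u, u, u} (algebraMap A B)).mapDerivedCategory.obj K) := by
  obtain ⟨E, hE, hfl, ⟨e⟩⟩ := h
  refine ⟨(extCx (algebraMap A B)).obj E, ?_, ?_,
    ⟨((ModuleCat.extendScalars.{u, u, u} (algebraMap A B)).mapDerivedCategoryFactors.app E).symm ≪≫
      (ModuleCat.extendScalars.{u, u, u} (algebraMap A B)).mapDerivedCategory.mapIso e⟩⟩
  · intro i hi
    exact (ModuleCat.extendScalars.{u, u, u} (algebraMap A B)).map_isZero (hE i hi)
  · intro i
    have := hfl i
    exact flat_extendScalars (algebraMap A B) (E.X i)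

theorem isPerfect_mapDerivedCategory_extendScalars (K : Dual.D A)
    (h : DRing.IsPerfect A K) :
    DRing.IsPerfect B
      ((ModuleCat.extendScalars.{u, u, u} (algebraMap A B)).mapDerivedCategory.obj K) := by
  obtain ⟨E, a, b, hE, hfp, ⟨e⟩⟩ := h
  refine ⟨(extCx (algebraMap A B)).obj E, a, b, ?_, ?_,
    ⟨((ModuleCat.extendScalars.{u, u, u} (algebraMap A B)).mapDerivedCategoryFactors.app E).symm ≪≫
      (ModuleCat.extendScalars.{u, u, u} (algebraMap A B)).mapDerivedCategory.mapIso e⟩⟩
  · intro i hi
    exact (ModuleCat.extendScalars.{u, u, u} (algebraMap A B)).map_isZero (hE i hi)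
  · intro i
    have := (hfp i).1
    have := (hfp i).2
    exact ⟨finite_extendScalars (algebraMap A B) (E.X i),
      projective_extendScalars (algebraMap A B) (E.X i)⟩

theorem isPseudoCoherent'_mapDerivedCategory_extendScalars (K : Dual.D A)
    (h : DRing.IsPseudoCoherent' A K) :
    DRing.IsPseudoCoherent' B
      ((ModuleCat.extendScalars.{u, u, u} (algebraMap A B)).mapDerivedCategory.obj K) := by
  obtain ⟨E, b, hE, hfp, ⟨e⟩⟩ := h
  refine ⟨(extCx (algebraMap A B)).obj E, b, ?_, ?_,
    ⟨((ModuleCat.extendScalars.{u, u, u} (algebraMap A B)).mapDerivedCategoryFactors.app E).symm ≪≫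
      (ModuleCat.extendScalars.{u, u, u} (algebraMap A B)).mapDerivedCategory.mapIso e⟩⟩
  · intro i hi
    exact (ModuleCat.extendScalars.{u, u, u} (algebraMap A B)).map_isZero (hE i hi)
  · intro i
    have := (hfp i).1
    have := (hfp i).2
    exact ⟨finite_extendScalars (algebraMap A B) (E.X i),
      free_extendScalars (algebraMap A B) (E.X i)⟩

end

end Groth.Agent.H35.LT
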