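import Mathlib
import Groth.Agent.H35.KFBaseChange
import Groth.Agent.H35.LBaseChangeLib

/-!
# The base change square `R → A`, `R → R'`, `A' = R' ⊗_R A` (helper35)

`restrict_{R' → A'} (A' ⊗_A M) ≅ R' ⊗_R restrict_{R → A} M`, naturally in the `A`-module `M`.
-/

open CategoryTheory Limits MonoidalCategory TensorProduct

universe u

namespace Groth.Agent.H35.BCSq

open scoped ChangeOfRings

variable (R A R' : Type u) [CommRing R] [CommRing A] [CommRing R'] [Algebra R A] [Algebra R R']

/-- `a ↦ 1 ⊗ a` as a ring hom -/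
noncomputable abbrev psi : A →+* R' ⊗[R] A :=
  (Algebra.TensorProduct.includeRight : A →ₐ[R] R' ⊗[R] A).toRingHom

/-- `M ↦ A' ⊗_A M` viewed as an `R'`-module -/
noncomputable abbrev FX : ModuleCat.{u} A ⥤ ModuleCat.{u} R' :=
  ModuleCat.extendScalars.{u, u, u} (psi R A R') ⋙
    ModuleCat.restrictScalars (algebraMap R' (R' ⊗[R] A))

/-- `M ↦ R' ⊗_R M` -/
noncomputable abbrev FY : ModuleCat.{u} A ⥤ ModuleCat.{u} R' :=
  ModuleCat.restrictScalars (algebraMap R A) ⋙
    ModuleCat.extendScalars.{u, u, u} (algebraMap R R')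

variable {R A R'}

/-- the pure tensor `s ⊗ m` of `A' ⊗_A M` -/
noncomputable def xt (M : ModuleCat.{u} A) (s : R' ⊗[R] A) (m : M) : ((FX R A R').obj M : Type u) :=
  s ⊗ₜ[A, psi R A R'] m

variable (R) in
/-- the pure tensor `r' ⊗ m` of `R' ⊗_R M` -/
noncomputable def yt (M : ModuleCat.{u} A) (r' : R') (m : M) : ((FY R A R').obj M : Type u) :=
  @TensorProduct.tmul R _ R' ((ModuleCat.restrictScalars (algebraMap R A)).obj M) _ _
    (Module.compHom R' (algebraMap R R')) _ r' m

lemma xt_add_left (M : ModuleCat.{u} A) (s s' : R' ⊗[R] A) (m : M) :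
    xt M (s + s') m = xt M s m + xt M s' m :=
  @TensorProduct.add_tmul A _ (R' ⊗[R] A) M _ _ (Module.compHom _ (psi R A R')) _ s s' m

lemma xt_add_right (M : ModuleCat.{u} A) (s : R' ⊗[R] A) (m m' : M) :
    xt M s (m + m') = xt M s m + xt M s m' :=
  @TensorProduct.tmul_add A _ (R' ⊗[R] A) M _ _ (Module.compHom _ (psi R A R')) _ s m m'

lemma xt_smul (M : ModuleCat.{u} A) (a : A) (s : R' ⊗[R] A) (m : M) :
    xt M (psi R A R' a * s) m = xt M s (a • m) := by
  let _ : Module A (R' ⊗[R] A) := Module.compHom _ (psi R A R')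
  exact TensorProduct.smul_tmul (R := A) (R' := A) (M := R' ⊗[R] A) (N := M) a s m

lemma yt_add_left (M : ModuleCat.{u} A) (r' r'' : R') (m : M) :
    yt R M (r' + r'') m = yt R M r' m + yt R M r'' m :=
  @TensorProduct.add_tmul R _ R' ((ModuleCat.restrictScalars (algebraMap R A)).obj M) _ _
    (Module.compHom R' (algebraMap R R')) _ r' r'' m

lemma yt_add_right (M : ModuleCat.{u} A) (r' : R') (m m' : M) :
    yt R M r' (m + m') = yt R M r' m + yt R M r' m' :=
  @TensorProduct.tmul_add R _ R' ((ModuleCat.restrictScalars (algebraMap R A)).obj M) _ _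
    (Module.compHom R' (algebraMap R R')) _ r' m m'

lemma yt_smul (M : ModuleCat.{u} A) (r : R) (r' : R') (m : M) :
    yt R M (algebraMap R R' r * r') m = yt R M r' (algebraMap R A r • m) := by
  let _ : Module R R' := Module.compHom R' (algebraMap R R')
  exact TensorProduct.smul_tmul (N := ((ModuleCat.restrictScalars (algebraMap R A)).obj M)) r r' m

lemma psi_mul_tmul_one (r : R) (r' : R') :
    psi R A R' (algebraMap R A r) * (r' ⊗ₜ[R] (1 : A)) = (algebraMap R R' r * r') ⊗ₜ[R] (1 : A) := by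
  change ((1 : R') ⊗ₜ[R] (algebraMap R A r)) * (r' ⊗ₜ[R] (1 : A)) = _
  rw [Algebra.TensorProduct.tmul_mul_tmul, one_mul, mul_one, Algebra.algebraMap_eq_smul_one,
    ← TensorProduct.smul_tmul, Algebra.smul_def]

/-- `r' ⊗ m ↦ (r' ⊗ 1) ⊗ m` -/
noncomputable def toXAdd (M : ModuleCat.{u} A) :
    ((FY R A R').obj M : Type u) →+ ((FX R A R').obj M : Type u) :=
  TensorProduct.liftAddHom (R := R)
    (M := ↑((ModuleCat.restrictScalars (algebraMap R R')).obj (ModuleCat.of R' R')))
    (N := ↑((ModuleCat.restrictScalars (algebraMap R A)).obj M))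
    (AddMonoidHom.mk' (fun r' : R' => AddMonoidHom.mk'
        (fun m : M => xt M (r' ⊗ₜ[R] (1 : A)) m) (fun m m' => xt_add_right M _ m m'))
      (fun (r' : R') (r'' : R') => by
        refine AddMonoidHom.ext (fun (m : M) => ?_)
        change xt M ((r' + r'') ⊗ₜ[R] (1 : A)) m =
          xt M (r' ⊗ₜ[R] (1 : A)) m + xt M (r'' ⊗ₜ[R] (1 : A)) m
        rw [TensorProduct.add_tmul, xt_add_left]))
    (fun (r : R) (r' : R') (m : M) => by
      change xt M ((algebraMap R R' r * r') ⊗ₜ[R] (1 : A)) m =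
        xt M (r' ⊗ₜ[R] (1 : A)) (algebraMap R A r • m)
      rw [← xt_smul, psi_mul_tmul_one])

lemma toXAdd_yt (M : ModuleCat.{u} A) (r' : R') (m : M) :
    toXAdd M (yt R M r' m) = xt M (r' ⊗ₜ[R] (1 : A)) m := rfl

/-- for fixed `m`, `r' ⊗ a ↦ r' ⊗ a • m` -/
noncomputable def innerAdd (M : ModuleCat.{u} A) (m : M) :
    (R' ⊗[R] A) →+ ((FY R A R').obj M : Type u) :=
  TensorProduct.liftAddHom (R := R) (M := R') (N := A)
    (AddMonoidHom.mk' (fun r' : R' => AddMonoidHom.mk'
        (fun a : A => yt R M r' (a • m))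
        (fun a a' => by rw [add_smul, yt_add_right]))
      (fun r' r'' => by
        refine AddMonoidHom.ext (fun (a : A) => ?_)
        exact yt_add_left M r' r'' (a • m)))
    (fun (r : R) (r' : R') (a : A) => by
      change yt R M (r • r') (a • m) = yt R M r' ((r • a) • m)
      rw [Algebra.smul_def, Algebra.smul_def, mul_smul, yt_smul])

lemma innerAdd_tmul (M : ModuleCat.{u} A) (m : M) (r' : R') (a : A) :
    innerAdd M m (r' ⊗ₜ[R] a) = yt R M r' (a • m) := rfl

lemma innerAdd_add (M : ModuleCat.{u} A) (m m' : M) (s : R' ⊗[R] A) :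
    innerAdd M (m + m') s = innerAdd M m s + innerAdd M m' s := by
  induction s using TensorProduct.induction_on with
  | zero => simp
  | tmul r' a => rw [innerAdd_tmul, innerAdd_tmul, innerAdd_tmul, smul_add, yt_add_right]
  | add x y hx hy =>
    rw [map_add, map_add, map_add, hx, hy]
    abel

lemma innerAdd_smul (M : ModuleCat.{u} A) (m : M) (a : A) (s : R' ⊗[R] A) :
    innerAdd M m (psi R A R' a * s) = innerAdd M (a • m) s := by
  induction s using TensorProduct.induction_on with
  | zero => simp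
  | tmul r' a₀ =>
    have h : psi R A R' a * (r' ⊗ₜ[R] a₀) = r' ⊗ₜ[R] (a₀ * a) := by
      change ((1 : R') ⊗ₜ[R] a) * (r' ⊗ₜ[R] a₀) = _
      rw [Algebra.TensorProduct.tmul_mul_tmul, one_mul, mul_comm]
    rw [h, innerAdd_tmul, innerAdd_tmul, mul_smul]
  | add x y hx hy => rw [mul_add, map_add, map_add, hx, hy]

/-- `(r' ⊗ a) ⊗ m ↦ r' ⊗ a • m` -/
noncomputable def toYAdd (M : ModuleCat.{u} A) :
    ((FX R A R').obj M : Type u) →+ ((FY R A R').obj M : Type u) :=
  TensorProduct.liftAddHom (R := A)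
    (M := ↑((ModuleCat.restrictScalars (psi R A R')).obj (ModuleCat.of _ (R' ⊗[R] A))))
    (N := M)
    (AddMonoidHom.mk' (fun s : R' ⊗[R] A => AddMonoidHom.mk'
        (fun m : M => innerAdd M m s) (fun m m' => innerAdd_add M m m' s))
      (fun (s : R' ⊗[R] A) (s' : R' ⊗[R] A) => by
        refine AddMonoidHom.ext (fun (m : M) => ?_)
        exact map_add (innerAdd M m) s s'))
    (fun (a : A) (s : R' ⊗[R] A) (m : M) => innerAdd_smul M m a s)

lemma toYAdd_xt (M : ModuleCat.{u} A) (s : R' ⊗[R] A) (m : M) :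
    toYAdd M (xt M s m) = innerAdd M m s := rfl

lemma fy_induction (M : ModuleCat.{u} A) {motive : ((FY R A R').obj M : Type u) → Prop}
    (h0 : motive 0) (ht : ∀ (r' : R') (m : M), motive (yt R M r' m))
    (ha : ∀ x y, motive x → motive y → motive (x + y)) (y : ((FY R A R').obj M : Type u)) :
    motive y :=
  TensorProduct.induction_on (R := R)
    (M := ↑((ModuleCat.restrictScalars (algebraMap R R')).obj (ModuleCat.of R' R')))
    (N := ↑((ModuleCat.restrictScalars (algebraMap R A)).obj M)) (motive := motive) y h0 ht ha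

lemma fx_induction (M : ModuleCat.{u} A) {motive : ((FX R A R').obj M : Type u) → Prop}
    (h0 : motive 0) (ht : ∀ (s : R' ⊗[R] A) (m : M), motive (xt M s m))
    (ha : ∀ x y, motive x → motive y → motive (x + y)) (x : ((FX R A R').obj M : Type u)) :
    motive x :=
  TensorProduct.induction_on (R := A)
    (M := ↑((ModuleCat.restrictScalars (psi R A R')).obj (ModuleCat.of _ (R' ⊗[R] A))))
    (N := M) (motive := motive) x h0 ht ha

lemma toYAdd_toXAdd (M : ModuleCat.{u} A) (y : ((FY R A R').obj M : Type u)) :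
    toYAdd M (toXAdd M y) = y := by
  refine fy_induction M (motive := fun y => toYAdd M (toXAdd M y) = y) ?_ ?_ ?_ y
  · rw [map_zero, map_zero]
  · intro r' m
    rw [toXAdd_yt, toYAdd_xt, innerAdd_tmul, one_smul]
  · intro x y hx hy
    rw [map_add, map_add, hx, hy]

lemma xt_zero_left (M : ModuleCat.{u} A) (m : M) : xt M (0 : R' ⊗[R] A) m = 0 :=
  @TensorProduct.zero_tmul A _ (R' ⊗[R] A) M _ _ (Module.compHom _ (psi R A R')) _ m

lemma toXAdd_innerAdd (M : ModuleCat.{u} A) (m : M) (s : R' ⊗[R] A) :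
    toXAdd M (innerAdd M m s) = xt M s m := by
  induction s using TensorProduct.induction_on with
  | zero => rw [map_zero, map_zero, xt_zero_left]
  | tmul r' a =>
    rw [innerAdd_tmul, toXAdd_yt, ← xt_smul]
    congr 1
    change ((1 : R') ⊗ₜ[R] a) * (r' ⊗ₜ[R] (1 : A)) = _
    rw [Algebra.TensorProduct.tmul_mul_tmul, one_mul, mul_one]
  | add x y hx hy => rw [map_add, map_add, hx, hy, xt_add_left]

lemma toXAdd_toYAdd (M : ModuleCat.{u} A) (x : ((FX R A R').obj M : Type u)) :
    toXAdd M (toYAdd M x) = x := by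
  refine fx_induction M (motive := fun x => toXAdd M (toYAdd M x) = x) ?_ ?_ ?_ x
  · rw [map_zero, map_zero]
  · intro s m
    rw [toYAdd_xt, toXAdd_innerAdd]
  · intro x y hx hy
    rw [map_add, map_add, hx, hy]

lemma yt_smul_left (M : ModuleCat.{u} A) (s r' : R') (m : M) :
    s • yt R M r' m = yt R M (s * r') m := rfl

lemma xt_smul_left (M : ModuleCat.{u} A) (s : R') (t : R' ⊗[R] A) (m : M) :
    s • xt M t m = xt M (algebraMap R' (R' ⊗[R] A) s * t) m := rfl

lemma toXAdd_smul (M : ModuleCat.{u} A) (s : R') (y : ((FY R A R').obj M : Type u)) :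
    toXAdd M (s • y) = s • toXAdd M y := by
  refine fy_induction M (motive := fun y => toXAdd M (s • y) = s • toXAdd M y) ?_ ?_ ?_ y
  · rw [smul_zero, map_zero, smul_zero]
  · intro r' m
    rw [yt_smul_left, toXAdd_yt, toXAdd_yt, xt_smul_left]
    congr 1
    rw [Algebra.TensorProduct.algebraMap_apply, Algebra.TensorProduct.tmul_mul_tmul, mul_one]
    rfl
  · intro x y hx hy
    rw [smul_add, map_add, hx, hy, map_add, smul_add]

/-- the comparison map `R' ⊗_R M ⟶ A' ⊗_A M`, as a linear map -/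
noncomputable def thetaLin (M : ModuleCat.{u} A) :
    ((FY R A R').obj M : Type u) →ₗ[R'] ((FX R A R').obj M : Type u) where
  toFun := toXAdd M
  map_add' := map_add (toXAdd M)
  map_smul' := fun s y => toXAdd_smul M s y

/-- the comparison map `R' ⊗_R M ⟶ A' ⊗_A M` -/
noncomputable def theta (M : ModuleCat.{u} A) : (FY R A R').obj M ⟶ (FX R A R').obj M :=
  ModuleCat.ofHom (X := ((FY R A R').obj M : Type u)) (Y := ((FX R A R').obj M : Type u))
    (thetaLin M)

lemma theta_apply (M : ModuleCat.{u} A) (y : ((FY R A R').obj M : Type u)) :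
    (theta M).hom y = toXAdd M y := rfl

instance isIso_theta (M : ModuleCat.{u} A) : IsIso (theta (R := R) (R' := R') M) := by
  rw [ConcreteCategory.isIso_iff_bijective]
  constructor
  · intro y y' h
    have h' : toXAdd M y = toXAdd M y' := h
    rw [← toYAdd_toXAdd M y, ← toYAdd_toXAdd M y', h']
  · intro x
    exact ⟨toYAdd M x, toXAdd_toYAdd M x⟩

lemma theta_naturality {M M' : ModuleCat.{u} A} (h : M ⟶ M') :
    (FY R A R').map h ≫ theta M' = theta M ≫ (FX R A R').map h := by
  apply ModuleCat.ExtendScalars.hom_ext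
  intro m
  rfl

/-- the natural isomorphism `R' ⊗_R - ≅ A' ⊗_A -` -/
noncomputable def thetaIso : FY R A R' ≅ FX R A R' :=
  NatIso.ofComponents (fun M => asIso (theta M)) (fun h => theta_naturality h)

end Groth.Agent.H35.BCSq
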