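import Mathlib
import Groth.Agent.H35.BCSquare
import Groth.Agent.H35.KFSymmetry

/-!
# Flat base change for restriction of scalars, in derived categories (helper35)
-/

open CategoryTheory Limits MonoidalCategory TensorProduct

universe u

namespace Groth.Agent.H35.BCSq

open HomologicalComplex DerivedCategory Groth.Agent.H35.KF Groth.Agent.H35.KFBC Groth.Agent.H35.LT

attribute [local instance] HasDerivedCategory.standard

section RestrictKFlat

variable {R A : Type u} [CommRing R] [CommRing A] (φ : R →+* A)

lemma exactAt_extK_of_flat (hφ : φ.Flat) (Z : CochainComplex (ModuleCat.{u} R) ℤ) (i : ℤ)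
    (hZ : Z.ExactAt i) : (extK φ Z).ExactAt i := by
  have : PreservesFiniteLimits (ModuleCat.extendScalars.{u, u, u} φ) :=
    ModuleCat.preservesFiniteLimits_extendScalars_of_flat hφ
  exact ShortComplex.Exact.map hZ (ModuleCat.extendScalars.{u, u, u} φ)

/-- Restriction of scalars along a flat ring map preserves K-flatness. -/
theorem isKFlat_restrict_of_flat (hφ : φ.Flat) (F : CochainComplex (ModuleCat.{u} A) ℤ)
    (hF : IsKFlat F) : IsKFlat (resL φ F) := by
  intro Z hZ i
  have h1 : ∀ j : ℤ, IsZero ((extK φ Z).homology j) := fun j => by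
    rw [← exactAt_iff_isZero_homology]
    exact exactAt_extK_of_flat φ hφ Z j ((exactAt_iff_isZero_homology _ _).2 (hZ j))
  have h2 : IsZero ((F ⊗ extK φ Z).homology i) :=
    isZero_homology_tensor_left_of_isKFlat hF _ h1 i
  have h3 : IsZero ((resL φ F ⊗ Z).homology i) := by
    rw [← exactAt_iff_isZero_homology] at h2 ⊢
    rw [← exactAt_map_restrictScalars_iff φ] at h2
    rw [exactAt_iff_isZero_homology] at h2 ⊢
    exact h2.of_iso ((HomologicalComplex.homologyFunctor _ _ i).mapIso
      (restrictTensorIso φ F Z).symm)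
  exact h3.of_iso ((HomologicalComplex.homologyFunctor _ _ i).mapIso (tensorSwapIso Z (resL φ F)))

end RestrictKFlat

section Compat

variable (R A R' : Type u) [CommRing R] [CommRing A] [CommRing R'] [Algebra R A] [Algebra R R']

/-- Termwise: `restrict_{R' → A'} (A' ⊗_A F) ≅ R' ⊗_R restrict_{R → A} F`. -/
noncomputable def cxIso (F : CochainComplex (ModuleCat.{u} A) ℤ) :
    resL (algebraMap R' (R' ⊗[R] A)) (extK (psi R A R') F) ≅
      extK (algebraMap R R') (resL (algebraMap R A) F) :=
  HomologicalComplex.Hom.isoOfComponents (fun i => (thetaIso (R := R) (R' := R')).symm.app (F.X i))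
    (fun i j _ => ((thetaIso (R := R) (R' := R')).symm.hom.naturality (F.d i j)).symm)

/-- Flat base change: for `R → A` flat and `A' = R' ⊗_R A`, restriction to `R'` of the derived
base change to `A'` is the derived base change to `R'` of the restriction to `R`. -/
theorem nonempty_restrictD_LBaseChange_iso [Module.Flat R A]
    [DRing.HasLBaseChange (psi R A R')] [DRing.HasLBaseChange (algebraMap R R')]
    (K : Dual.D A) :
    Nonempty ((DRing.restrictD (algebraMap R' (R' ⊗[R] A))).obj
        ((DRing.LBaseChange (psi R A R')).obj K) ≅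
      (DRing.LBaseChange (algebraMap R R')).obj ((DRing.restrictD (algebraMap R A)).obj K)) := by
  obtain ⟨F, q, hF, -, hq, -⟩ := exists_isKFlat_resolution A (Q.objPreimage K)
  have : IsIso (Q.map q) := by
    rw [DerivedCategory.isIso_Q_map_iff_quasiIso (φ := q)]
    exact hq
  let e₀ : Q.obj F ≅ K := asIso (Q.map q) ≪≫ Q.objObjPreimageIso K
  have hflat : (algebraMap R A).Flat := (RingHom.flat_algebraMap_iff).2 inferInstance
  have hF' : IsKFlat (resL (algebraMap R A) F) := isKFlat_restrict_of_flat _ hflat F hF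
  let e₁ := LBaseChangeIso (psi R A R') F hF
  let e₂ : (DRing.restrictD (algebraMap R' (R' ⊗[R] A))).obj (Q.obj (extK (psi R A R') F)) ≅
      Q.obj (resL (algebraMap R' (R' ⊗[R] A)) (extK (psi R A R') F)) :=
    (ModuleCat.restrictScalars _).mapDerivedCategoryFactors.app _
  let e₃ : (DRing.restrictD (algebraMap R A)).obj (Q.obj F) ≅ Q.obj (resL (algebraMap R A) F) :=
    (ModuleCat.restrictScalars _).mapDerivedCategoryFactors.app _
  let e₄ := LBaseChangeIso (algebraMap R R') (resL (algebraMap R A) F) hF'
  exact ⟨(DRing.restrictD _).mapIso ((DRing.LBaseChange (psi R A R')).mapIso e₀.symm ≪≫ e₁) ≪≫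
    e₂ ≪≫ Q.mapIso (cxIso R A R' F) ≪≫ e₄.symm ≪≫
    (DRing.LBaseChange (algebraMap R R')).mapIso (e₃.symm ≪≫ (DRing.restrictD _).mapIso e₀)⟩

end Compat

end Groth.Agent.H35.BCSq
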