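import Mathlib
import Groth.Agent.H35.BCSquareD
import Groth.Agent.H35.KFCone

/-!
# Derived base change along `X ↦ 0 : R[X] → R` of a restricted object (helper35)

`(K|_{R[X]}) ⊗^L_{R[X]} R ≅ K ⊞ K⟦1⟧` in `D(R)`.
-/

open CategoryTheory Limits Polynomial TensorProduct

universe u

namespace Groth.Agent.H35.EvZ

open scoped ChangeOfRings

variable (R : Type u) [CommRing R]

/-- evaluation at `0` -/
noncomputable abbrev phi : R[X] →+* R := Polynomial.evalRingHom (0 : R)

/-- constants -/
noncomputable abbrev Cc : R →+* R[X] := Polynomial.C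

/-- `M ↦ R[X] ⊗_R M` -/
noncomputable abbrev extC : ModuleCat.{u} R ⥤ ModuleCat.{u} R[X] :=
  ModuleCat.extendScalars.{u, u, u} (Cc R)

/-- `M ↦ M` with `X` acting by `0` -/
noncomputable abbrev resPhi : ModuleCat.{u} R ⥤ ModuleCat.{u} R[X] :=
  ModuleCat.restrictScalars.{u} (phi R)

variable {R}

/-- the pure tensor `p ⊗ m` of `R[X] ⊗_R M` -/
noncomputable def tx (M : ModuleCat.{u} R) (p : R[X]) (m : M) : ((extC R).obj M : Type u) :=
  p ⊗ₜ[R, Cc R] m

lemma tx_add_left (M : ModuleCat.{u} R) (p q : R[X]) (m : M) :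
    tx M (p + q) m = tx M p m + tx M q m :=
  @TensorProduct.add_tmul R _ R[X] M _ _ (Module.compHom _ (Cc R)) _ p q m

lemma tx_add_right (M : ModuleCat.{u} R) (p : R[X]) (m m' : M) :
    tx M p (m + m') = tx M p m + tx M p m' :=
  @TensorProduct.tmul_add R _ R[X] M _ _ (Module.compHom _ (Cc R)) _ p m m'

lemma tx_zero_left (M : ModuleCat.{u} R) (m : M) : tx M 0 m = 0 :=
  @TensorProduct.zero_tmul R _ R[X] M _ _ (Module.compHom _ (Cc R)) _ m

lemma tx_zero_right (M : ModuleCat.{u} R) (p : R[X]) : tx M p 0 = 0 :=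
  @TensorProduct.tmul_zero R _ R[X] M _ _ (Module.compHom _ (Cc R)) _ p

/-- the carrier `R[X]` with the `R`-module structure used by `extendScalars` -/
abbrev PX (R : Type u) [CommRing R] : Type u :=
  ↑((ModuleCat.restrictScalars (Cc R)).obj (ModuleCat.of R[X] R[X]))

lemma tx_smul (M : ModuleCat.{u} R) (r : R) (p : R[X]) (m : M) :
    tx M (C r * p) m = tx M p (r • m) :=
  TensorProduct.smul_tmul (R := R) (R' := R) (M := PX R) (N := M) r p m

lemma smul_tx (M : ModuleCat.{u} R) (q p : R[X]) (m : M) :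
    q • tx M p m = tx M (q * p) m := rfl

lemma tx_induction (M : ModuleCat.{u} R) {motive : ((extC R).obj M : Type u) → Prop}
    (zero : motive 0) (tmul : ∀ p m, motive (tx M p m))
    (add : ∀ a b, motive a → motive b → motive (a + b)) (t : ((extC R).obj M : Type u)) :
    motive t :=
  TensorProduct.induction_on (R := R) (M := PX R) (N := M) (motive := motive) t zero tmul add

/-- `p ⊗ m ↦ divX p ⊗ m` -/
noncomputable def sAdd (M : ModuleCat.{u} R) :
    ((extC R).obj M : Type u) →+ ((extC R).obj M : Type u) :=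
  TensorProduct.liftAddHom (R := R) (M := PX R) (N := M)
    (AddMonoidHom.mk' (fun p : R[X] => AddMonoidHom.mk'
        (fun m : M => tx M (divX p) m) (fun m m' => tx_add_right M _ m m'))
      (fun (p : R[X]) (q : R[X]) => by
        refine AddMonoidHom.ext (fun (m : M) => ?_)
        change tx M (divX (p + q)) m = tx M (divX p) m + tx M (divX q) m
        rw [divX_add, tx_add_left]))
    (fun (r : R) (p : R[X]) (m : M) => by
      change tx M (divX (C r * p)) m = tx M (divX p) (r • m)
      rw [divX_C_mul, tx_smul])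

lemma sAdd_tx (M : ModuleCat.{u} R) (p : R[X]) (m : M) :
    sAdd M (tx M p m) = tx M (divX p) m := rfl

/-- `m ↦ 1 ⊗ m` -/
noncomputable def jAdd (M : ModuleCat.{u} R) : (M : Type u) →+ ((extC R).obj M : Type u) where
  toFun m := tx M 1 m
  map_zero' := tx_zero_right M _
  map_add' m m' := tx_add_right M _ m m'

/-- the identity `M → M`, as an `R`-linear map into the double restriction -/
noncomputable def gHom (M : ModuleCat.{u} R) :
    M ⟶ (ModuleCat.restrictScalars (Cc R)).obj ((resPhi R).obj M) :=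
  ModuleCat.ofHom (Y := (ModuleCat.restrictScalars (Cc R)).obj ((resPhi R).obj M))
    { toFun := fun m => m
      map_add' := fun _ _ => rfl
      map_smul' := fun r m => by
        have h : phi R (Cc R r) = r := by simp
        change r • m = (phi R (Cc R r)) • m
        rw [h] }

/-- `p ⊗ m ↦ p(0) • m` -/
noncomputable def evM (M : ModuleCat.{u} R) : (extC R).obj M ⟶ (resPhi R).obj M :=
  ModuleCat.ExtendRestrictScalarsAdj.HomEquiv.fromExtendScalars (Cc R) (gHom M)

/-- `evM` as a function into the carrier of `M` -/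
noncomputable def evFun (M : ModuleCat.{u} R) (t : ((extC R).obj M : Type u)) : (M : Type u) :=
  (evM M).hom t

lemma evFun_tx (M : ModuleCat.{u} R) (p : R[X]) (m : M) :
    evFun M (tx M p m) = p.eval 0 • m := by
  dsimp only [evFun, evM]
  erw [ModuleCat.ExtendRestrictScalarsAdj.HomEquiv.fromExtendScalars_hom_apply]
  rfl

lemma evFun_zero (M : ModuleCat.{u} R) : evFun M 0 = 0 := map_zero (evM M).hom

lemma evFun_add (M : ModuleCat.{u} R) (a b : ((extC R).obj M : Type u)) :
    evFun M (a + b) = evFun M a + evFun M b := map_add (evM M).hom a b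

lemma divX_X_mul' (p : R[X]) : divX (X * p) = p := by
  ext n
  simp [coeff_X_mul]

lemma sAdd_X_smul (M : ModuleCat.{u} R) (t : ((extC R).obj M : Type u)) :
    sAdd M ((X : R[X]) • t) = t := by
  refine tx_induction M (motive := fun t => sAdd M ((X : R[X]) • t) = t) ?_ ?_ ?_ t
  · rw [smul_zero, map_zero]
  · intro p m
    rw [smul_tx, sAdd_tx, divX_X_mul']
  · intro a b ha hb
    rw [smul_add, map_add, ha, hb]

lemma decomp (M : ModuleCat.{u} R) (t : ((extC R).obj M : Type u)) :
    t = (X : R[X]) • sAdd M t + jAdd M (evFun M t) := by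
  refine tx_induction M
    (motive := fun t => t = (X : R[X]) • sAdd M t + jAdd M (evFun M t)) ?_ ?_ ?_ t
  · rw [map_zero, smul_zero, evFun_zero, map_zero, add_zero]
  · intro p m
    rw [sAdd_tx, smul_tx, evFun_tx]
    change tx M p m = tx M (X * divX p) m + tx M 1 (p.eval 0 • m)
    rw [← tx_smul, mul_one, ← tx_add_left, ← coeff_zero_eq_eval_zero, X_mul_divX_add]
  · intro a b ha hb
    rw [map_add, smul_add, evFun_add, map_add]
    nth_rewrite 1 [ha, hb]
    abel

/-- multiplication by `X` on `R[X] ⊗_R M` -/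
noncomputable def mulXM (M : ModuleCat.{u} R) : (extC R).obj M ⟶ (extC R).obj M :=
  (X : R[X]) • 𝟙 _

lemma mulXM_apply (M : ModuleCat.{u} R) (t : ((extC R).obj M : Type u)) :
    (mulXM M).hom t = (X : R[X]) • t := rfl

lemma evM_X_smul (M : ModuleCat.{u} R) (t : ((extC R).obj M : Type u)) :
    (evM M).hom ((X : R[X]) • t) = 0 := by
  rw [map_smul, ModuleCat.restrictScalars.smul_def]
  have h : phi R X = 0 := by simp
  rw [h, zero_smul]
  rfl

lemma mulXM_evM (M : ModuleCat.{u} R) : mulXM M ≫ evM M = 0 := by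
  ext t
  exact evM_X_smul M (tx M 1 t)

/-- the short complex `0 → R[X] ⊗ M → R[X] ⊗ M → M → 0` -/
noncomputable def scM (M : ModuleCat.{u} R) : ShortComplex (ModuleCat.{u} R[X]) :=
  ShortComplex.mk (mulXM M) (evM M) (mulXM_evM M)

lemma scM_shortExact (M : ModuleCat.{u} R) : (scM M).ShortExact := by
  have hmono : Mono (scM M).f := by
    rw [ModuleCat.mono_iff_injective]
    intro (a : ((extC R).obj M : Type u)) (b : ((extC R).obj M : Type u)) hab
    have h : sAdd M ((X : R[X]) • a) = sAdd M ((X : R[X]) • b) := congrArg (sAdd M) hab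
    rw [sAdd_X_smul, sAdd_X_smul] at h
    exact h
  have hepi : Epi (scM M).g := by
    rw [ModuleCat.epi_iff_surjective]
    intro (m : (M : Type u))
    refine ⟨tx M 1 m, ?_⟩
    have h := evFun_tx M 1 m
    rw [eval_one, one_smul] at h
    exact h
  refine ShortComplex.ShortExact.mk' ?_ hmono hepi
  rw [ShortComplex.moduleCat_exact_iff]
  intro (t : ((extC R).obj M : Type u)) ht
  refine ⟨sAdd M t, ?_⟩
  have h := decomp M t
  have ht' : evFun M t = 0 := ht
  rw [ht', map_zero, add_zero] at h
  exact h.symm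

lemma evFun_tx_one (M : ModuleCat.{u} R) (m : M) : evFun M (tx M 1 m) = m := by
  rw [evFun_tx, eval_one, one_smul]

variable (R)

/-- multiplication by `X`, naturally in `M` -/
noncomputable def mulXNat : extC R ⟶ extC R where
  app M := mulXM M
  naturality M N f := by
    dsimp only [mulXM]
    rw [Linear.comp_smul, Linear.smul_comp, Category.comp_id, Category.id_comp]

/-- evaluation at `0`, naturally in `M` -/
noncomputable def evNat : extC R ⟶ resPhi R where
  app M := evM M
  naturality M N f := by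
    apply ModuleCat.ExtendScalars.hom_ext
    intro m
    change evFun N (tx N 1 (f.hom m)) = f.hom (evFun M (tx M 1 m))
    rw [evFun_tx_one, evFun_tx_one]

section Complexes

open Groth.Agent.H35.KFBC Groth.Agent.H35.KF

variable (F : CochainComplex (ModuleCat.{u} R) ℤ)

/-- multiplication by `X` on `R[X] ⊗_R F` -/
noncomputable def mulXc : extK (Cc R) F ⟶ extK (Cc R) F :=
  (NatTrans.mapHomologicalComplex (mulXNat R) (ComplexShape.up ℤ)).app F

/-- evaluation at `0`, `R[X] ⊗_R F ⟶ F` -/
noncomputable def evc : extK (Cc R) F ⟶ resL (phi R) F :=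
  (NatTrans.mapHomologicalComplex (evNat R) (ComplexShape.up ℤ)).app F

/-- the short exact sequence of complexes `0 → F[X] → F[X] → F → 0` -/
noncomputable def scC : ShortComplex (CochainComplex (ModuleCat.{u} R[X]) ℤ) :=
  ShortComplex.mk (mulXc R F) (evc R F) (by
    ext i : 1
    exact mulXM_evM (F.X i))

lemma scC_shortExact : (scC R F).ShortExact :=
  HomologicalComplex.shortExact_of_degreewise_shortExact _ (fun i => scM_shortExact (F.X i))

/-- the cone of multiplication by `X` -/
noncomputable abbrev coneX : CochainComplex (ModuleCat.{u} R[X]) ℤ :=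
  CochainComplex.mappingCone (mulXc R F)

/-- the quasi-isomorphism `cone(X) ⟶ F` -/
noncomputable def coneToRes : coneX R F ⟶ resL (phi R) F :=
  CochainComplex.mappingCone.descShortComplex (scC R F)

lemma quasiIso_coneToRes : QuasiIso (coneToRes R F) :=
  CochainComplex.mappingCone.quasiIso_descShortComplex (scC_shortExact R F)

end Complexes

section Derived

open HomologicalComplex DerivedCategory Groth.Agent.H35.KF Groth.Agent.H35.KFBC Groth.Agent.H35.LT
open Pretriangulated

attribute [local instance] HasDerivedCategory.standard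

lemma extendScalars_map_X_smul (N : ModuleCat.{u} R[X]) :
    (ModuleCat.extendScalars.{u, u, u} (phi R)).map ((X : R[X]) • 𝟙 N) = 0 := by
  apply ModuleCat.ExtendScalars.hom_ext
  intro n
  change (1 : R) ⊗ₜ[R[X], phi R] ((X : R[X]) • n) = 0
  have h := TensorProduct.smul_tmul (R := R[X]) (R' := R[X])
    (M := ↑((ModuleCat.restrictScalars (phi R)).obj (ModuleCat.of R R))) (N := N) X (1 : R) n
  have h0 : ((X : R[X]) • (show ↑((ModuleCat.restrictScalars (phi R)).obj (ModuleCat.of R R))
      from (1 : R))) = 0 := by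
    rw [ModuleCat.restrictScalars.smul_def]
    have h1 : phi R X = 0 := by simp
    rw [h1, zero_smul]
    rfl
  refine h.symm.trans ?_
  exact (congrArg (fun z => TensorProduct.tmul R[X]
    (M := ↑((ModuleCat.restrictScalars (phi R)).obj (ModuleCat.of R R))) (N := N) z n) h0).trans
    (TensorProduct.zero_tmul _ n)

lemma map_mulXc_eq_zero (F : CochainComplex (ModuleCat.{u} R) ℤ) :
    ((ModuleCat.extendScalars.{u, u, u} (phi R)).mapHomologicalComplex (ComplexShape.up ℤ)).map
      (mulXc R F) = 0 := by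
  ext i : 1
  exact extendScalars_map_X_smul R ((extC R).obj (F.X i))

/-- `R ⊗_{R[X]} (R[X] ⊗_R M) ≅ M` -/
noncomputable def extExtIso : extC R ⋙ ModuleCat.extendScalars.{u, u, u} (phi R) ≅ 𝟭 _ :=
  (ModuleCat.extendScalarsComp (Cc R) (phi R)).symm ≪≫
    eqToIso (by
      have h : (phi R).comp (Cc R) = RingHom.id R := by
        ext r
        simp
      rw [h]) ≪≫ ModuleCat.extendScalarsId R

/-- `R ⊗_{R[X]} (R[X] ⊗_R F) ≅ F` for complexes -/
noncomputable def extExtCxIso (F : CochainComplex (ModuleCat.{u} R) ℤ) :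
    extK (phi R) (extK (Cc R) F) ≅ F :=
  HomologicalComplex.Hom.isoOfComponents (fun i => (extExtIso R).app (F.X i))
    (fun i j _ => ((extExtIso R).hom.naturality (F.d i j)).symm)

/-- In a pretriangulated category, the cone of the zero map `Y ⟶ Y` is `Y ⊞ Y⟦1⟧`. -/
lemma nonempty_iso_biprod_of_distTriang {C : Type*} [Category C] [HasZeroObject C] [HasShift C ℤ]
    [Preadditive C] [∀ n : ℤ, (shiftFunctor C n).Additive] [Pretriangulated C]
    (T : Triangle C) (hT : T ∈ distTriang C) (h0 : T.mor₁ = 0) :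
    Nonempty (T.obj₃ ≅ T.obj₂ ⊞ (T.obj₁⟦(1 : ℤ)⟧)) := by
  have hz : T.rotate.mor₃ = 0 := by
    change -((shiftFunctor C (1 : ℤ)).map T.mor₁) = 0
    rw [h0, Functor.map_zero, neg_zero]
  obtain ⟨e, -, -⟩ := exists_iso_binaryBiproduct_of_distTriang T.rotate (rot_of_distTriang _ hT) hz
  exact ⟨e⟩

theorem nonempty_LBaseChange_restrict_iso [DRing.HasLBaseChange (phi R)] (K : Dual.D R)
    [HasBinaryBiproduct K ((shiftFunctor (Dual.D R) (1 : ℤ)).obj K)] :
    Nonempty ((DRing.LBaseChange (phi R)).obj ((DRing.restrictD (phi R)).obj K) ≅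
      K ⊞ (shiftFunctor (Dual.D R) (1 : ℤ)).obj K) := by
  obtain ⟨F, q, hF, -, hq, -⟩ := exists_isKFlat_resolution R (Q.objPreimage K)
  have : IsIso (Q.map q) := by
    rw [DerivedCategory.isIso_Q_map_iff_quasiIso (φ := q)]
    exact hq
  let e₀ : Q.obj F ≅ K := asIso (Q.map q) ≪≫ Q.objObjPreimageIso K
  have hE : IsKFlat (extK (Cc R) F) := isKFlat_extendScalars (Cc R) F hF
  have hcone : IsKFlat (coneX R F) := (isKFlat_mappingCone_two_of_three (mulXc R F)).1 hE hE
  have hqi : IsIso (Q.map (coneToRes R F)) := by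
    rw [DerivedCategory.isIso_Q_map_iff_quasiIso (φ := coneToRes R F)]
    exact quasiIso_coneToRes R F
  let e₁ : Q.obj (coneX R F) ≅ Q.obj (resL (phi R) F) := @asIso _ _ _ _ (Q.map (coneToRes R F)) hqi
  let e₂ : (DRing.restrictD (phi R)).obj (Q.obj F) ≅ Q.obj (resL (phi R) F) :=
    (ModuleCat.restrictScalars _).mapDerivedCategoryFactors.app _
  let e₃ := LBaseChangeIso (phi R) (coneX R F) hcone
  let e₄ := CochainComplex.mappingCone.mapHomologicalComplexIso (mulXc R F)
    (ModuleCat.extendScalars.{u, u, u} (phi R))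
  let T := Q.mapTriangle.obj (CochainComplex.mappingCone.triangle
    (((ModuleCat.extendScalars.{u, u, u} (phi R)).mapHomologicalComplex (ComplexShape.up ℤ)).map
      (mulXc R F)))
  have hT : T ∈ distTriang _ := DerivedCategory.mappingCone_triangle_distinguished _
  have hT0 : T.mor₁ = 0 := by
    change Q.map (((ModuleCat.extendScalars.{u, u, u} (phi R)).mapHomologicalComplex
      (ComplexShape.up ℤ)).map (mulXc R F)) = 0
    rw [map_mulXc_eq_zero, Functor.map_zero]
  obtain ⟨e₅⟩ := nonempty_iso_biprod_of_distTriang T hT hT0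
  let eY : Q.obj (extK (phi R) (extK (Cc R) F)) ≅ K := Q.mapIso (extExtCxIso R F) ≪≫ e₀
  exact ⟨(DRing.LBaseChange (phi R)).mapIso
      ((DRing.restrictD (phi R)).mapIso e₀.symm ≪≫ e₂ ≪≫ e₁.symm) ≪≫ e₃ ≪≫ Q.mapIso e₄ ≪≫ e₅ ≪≫
    biprod.mapIso eY ((shiftFunctor (Dual.D R) (1 : ℤ)).mapIso eY)⟩

end Derived

end Groth.Agent.H35.EvZ
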