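import Mathlib
import Groth.Agent.H28.PCohPoly
import Groth.Prelude.Def_DerCA

/-!
# Relative pseudo-coherence: independence of the presentation (helper35)
-/

open CategoryTheory Limits Polynomial

open scoped ZeroObject

namespace Groth.Agent.H35.RelPC

universe u

open Groth.Agent.H28 Groth.Agent.H28.PCohCore Groth.Agent.H28.PCohDer Groth.Agent.H28.PCohSum
  Groth.Agent.H28.PCohDev Groth.Agent.H28.PCohSES Groth.Agent.H28.PCohTri
  Groth.Agent.H28.PCohRing DerivedCategory

attribute [local instance] HasDerivedCategory.standard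

section EvalB

variable (B : Type u) [CommRing B] (b : B)

/-- `B` as a `B[X]`-module through evaluation at `b` -/
noncomputable abbrev Mb : ModuleCat.{u} B[X] :=
  (ModuleCat.restrictScalars (Polynomial.evalRingHom b)).obj (ModuleCat.of B B)

/-- multiplication by `X - b` -/
noncomputable def mulXb : ModuleCat.of B[X] B[X] ⟶ ModuleCat.of B[X] B[X] :=
  ModuleCat.ofHom (LinearMap.mulLeft B[X] (X - C b : B[X]))

/-- evaluation at `b` as a `B[X]`-linear map -/
noncomputable def evb : ModuleCat.of B[X] B[X] ⟶ Mb B b := by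
  let inst₂ : Module B[X] B := Module.compHom B (Polynomial.evalRingHom b)
  let f : @LinearMap B[X] B[X] _ _ (RingHom.id B[X]) B[X] B _ _ _ inst₂ :=
    @LinearMap.mk B[X] B[X] _ _ (RingHom.id B[X]) B[X] B _ _ _ inst₂
      ⟨fun p => p.eval b, fun p q => Polynomial.eval_add⟩
      (fun q p => by
        change (q * p).eval b = q.eval b * p.eval b
        exact Polynomial.eval_mul)
  exact @ModuleCat.ofHom B[X] _ B[X] B _ _ _ inst₂ f

lemma evb_apply (p : B[X]) : (evb B b).hom p = p.eval b := rfl

lemma mulXb_apply (p : B[X]) : (mulXb B b).hom p = (X - C b) * p := rfl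

lemma mulXb_evb : mulXb B b ≫ evb B b = 0 := by
  refine ModuleCat.hom_ext (LinearMap.ext fun p => ?_)
  change (((X : B[X]) - C b) * p).eval b = 0
  simp

/-- the short exact sequence `0 ⟶ B[X] ⟶ B[X] ⟶ B ⟶ 0` -/
noncomputable def scb : ShortComplex (ModuleCat.{u} B[X]) :=
  ShortComplex.mk (mulXb B b) (evb B b) (mulXb_evb B b)

lemma scb_shortExact : (scb B b).ShortExact := by
  have hmono : Mono (scb B b).f := by
    rw [ModuleCat.mono_iff_injective]
    intro p q hpq
    exact (Polynomial.monic_X_sub_C b).isRegular.left hpq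
  have hepi : Epi (scb B b).g := by
    rw [ModuleCat.epi_iff_surjective]
    intro r
    exact ⟨Polynomial.C (show B from r), Polynomial.eval_C (a := (show B from r)) (x := b)⟩
  refine ShortComplex.ShortExact.mk ?_
  rw [ShortComplex.moduleCat_exact_iff]
  intro p hp
  have hp' : (show B[X] from p).eval b = 0 := hp
  have hp'' : (X - C b) ∣ (show B[X] from p) := Polynomial.dvd_iff_isRoot.2 hp'
  obtain ⟨q, hq⟩ := hp''
  exact ⟨q, hq.symm⟩

/-- `B`, as a `B[X]`-module through `X ↦ b`, is pseudo-coherent -/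
lemma isNPC_single_Mb (a : ℤ) :
    IsNPC (finFree B[X]) a ((DerivedCategory.singleFunctor (ModuleCat.{u} B[X]) 0).obj (Mb B b)) := by
  have hX : finFree B[X] (ModuleCat.of B[X] B[X]) :=
    ⟨inferInstanceAs (Module.Finite B[X] B[X]), inferInstanceAs (Module.Free B[X] B[X])⟩
  have hS := scb_shortExact B b
  exact isNPC_obj₃ _ (hql_finFree B[X]) (finFree_prod B[X]) (hqs_finFree B[X]) hS.singleTriangle
    hS.singleTriangle_distinguished (PCohCoh.isNPC_single_of_mem _ (a + 1) _ hX)
    (PCohCoh.isNPC_single_of_mem _ a _ hX)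

end EvalB

section RingEquiv

variable {B' B : Type u} [CommRing B'] [CommRing B] (e : B' ≃+* B)

/-- `B` as a `B'`-module through a ring isomorphism is free of rank one -/
noncomputable def restrictEquivSelf :
    ((ModuleCat.restrictScalars e.toRingHom).obj (ModuleCat.of B B)) ≃ₗ[B'] B' where
  toFun x := e.symm (show B from x)
  invFun y := e y
  map_add' x y := map_add e.symm (show B from x) (show B from y)
  map_smul' a x := by
    rw [ModuleCat.restrictScalars.smul_def, RingHom.id_apply]
    change e.symm (e a * (show B from x)) = a * e.symm (show B from x)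
    rw [map_mul, RingEquiv.symm_apply_apply]
  left_inv x := e.apply_symm_apply (show B from x)
  right_inv y := e.symm_apply_apply y

lemma isNPC_single_ringEquiv (a : ℤ) :
    IsNPC (finFree B') a ((DerivedCategory.singleFunctor (ModuleCat.{u} B') 0).obj
      ((ModuleCat.restrictScalars e.toRingHom).obj (ModuleCat.of B B))) := by
  refine PCohCoh.isNPC_single_of_mem _ a _ ?_
  exact ⟨Module.Finite.equiv (restrictEquivSelf e).symm,
    Module.Free.of_equiv (restrictEquivSelf e).symm⟩

end RingEquiv

section Comp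

variable {A B C : Type u} [CommRing A] [CommRing B] [CommRing C]

/-- Restriction of scalars along a composition, on objects of the derived category. -/
lemma nonempty_restrictD_comp_iso (f : A →+* B) (g : B →+* C) (gf : A →+* C)
    (hgf : gf = g.comp f) (K : Dual.D C) :
    Nonempty ((DRing.restrictD gf).obj K ≅ (DRing.restrictD f).obj ((DRing.restrictD g).obj K)) := by
  let E := Q.objPreimage K
  let φ : Q.obj E ≅ K := Q.objObjPreimageIso K
  let e₁ : (DRing.restrictD gf).obj (Q.obj E) ≅
      Q.obj (((ModuleCat.restrictScalars gf).mapHomologicalComplex (ComplexShape.up ℤ)).obj E) :=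
    (ModuleCat.restrictScalars gf).mapDerivedCategoryFactors.app E
  let e₂ : ((ModuleCat.restrictScalars gf).mapHomologicalComplex (ComplexShape.up ℤ)).obj E ≅
      ((ModuleCat.restrictScalars f).mapHomologicalComplex (ComplexShape.up ℤ)).obj
        (((ModuleCat.restrictScalars g).mapHomologicalComplex (ComplexShape.up ℤ)).obj E) :=
    (NatIso.mapHomologicalComplex (ModuleCat.restrictScalarsComp' f g gf hgf)
      (ComplexShape.up ℤ)).app E
  let e₃ : (DRing.restrictD f).obj (Q.obj
      (((ModuleCat.restrictScalars g).mapHomologicalComplex (ComplexShape.up ℤ)).obj E)) ≅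
      Q.obj (((ModuleCat.restrictScalars f).mapHomologicalComplex (ComplexShape.up ℤ)).obj
        (((ModuleCat.restrictScalars g).mapHomologicalComplex (ComplexShape.up ℤ)).obj E)) :=
    (ModuleCat.restrictScalars f).mapDerivedCategoryFactors.app _
  let e₄ : (DRing.restrictD g).obj (Q.obj E) ≅
      Q.obj (((ModuleCat.restrictScalars g).mapHomologicalComplex (ComplexShape.up ℤ)).obj E) :=
    (ModuleCat.restrictScalars g).mapDerivedCategoryFactors.app E
  exact ⟨(DRing.restrictD gf).mapIso φ.symm ≪≫ e₁ ≪≫ Q.mapIso e₂ ≪≫ e₃.symm ≪≫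
    (DRing.restrictD f).mapIso (e₄.symm ≪≫ (DRing.restrictD g).mapIso φ)⟩

end Comp

section Via

variable {A : Type u} [CommRing A]

/-- `K ∈ D(A)` restricted along `γ : B → A` is `m`-pseudo-coherent over `B`. -/
def PCvia {B : Type u} [CommRing B] (γ : B →+* A) (m : ℤ) (K : Dual.D A) : Prop :=
  DRing.IsPseudoCoherent B m ((DRing.restrictD γ).obj K)

lemma isPseudoCoherent_of_iso {B : Type u} [CommRing B] {K L : Dual.D B} (e : K ≅ L) (m : ℤ)
    (h : DRing.IsPseudoCoherent B m K) : DRing.IsPseudoCoherent B m L := by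
  rw [isPseudoCoherent_iff_isNPC] at h ⊢
  exact IsNPC.of_iso _ h e

/-- Transfer along `ψ : B' → B` making `B` a pseudo-coherent `B'`-module. -/
lemma pcvia_comp_iff {B' B : Type u} [CommRing B'] [CommRing B] (ψ : B' →+* B)
    (hB : ∀ a : ℤ, IsNPC (finFree B') a ((DerivedCategory.singleFunctor (ModuleCat.{u} B') 0).obj
      ((ModuleCat.restrictScalars ψ).obj (ModuleCat.of B B))))
    (γ : B →+* A) (δ : B' →+* A) (h : δ = γ.comp ψ) (m : ℤ) (K : Dual.D A) :
    PCvia δ m K ↔ PCvia γ m K := by
  obtain ⟨e⟩ := nonempty_restrictD_comp_iso ψ γ δ h K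
  unfold PCvia
  rw [isPseudoCoherent_iff_isNPC, isPseudoCoherent_iff_isNPC,
    Groth.Agent.H28.PCohRestrict.isNPC_restrict_iff ψ hB m]
  exact ⟨fun h' => IsNPC.of_iso _ h' e, fun h' => IsNPC.of_iso _ h' e.symm⟩

lemma pcvia_ringEquiv {B' B : Type u} [CommRing B'] [CommRing B] (e : B' ≃+* B)
    (γ : B →+* A) (δ : B' →+* A) (h : δ = γ.comp e.toRingHom) (m : ℤ) (K : Dual.D A) :
    PCvia δ m K ↔ PCvia γ m K :=
  pcvia_comp_iff e.toRingHom (isNPC_single_ringEquiv e) γ δ h m K

lemma pcvia_polynomial {B : Type u} [CommRing B] (γ : B →+* A) (hγ : Function.Surjective γ)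
    (δ : B[X] →+* A) (h : δ.comp Polynomial.C = γ) (m : ℤ) (K : Dual.D A) :
    PCvia δ m K ↔ PCvia γ m K := by
  obtain ⟨b, hb⟩ := hγ (δ X)
  refine pcvia_comp_iff (Polynomial.evalRingHom b) (isNPC_single_Mb B b) γ δ ?_ m K
  apply Polynomial.ringHom_ext
  · intro a
    rw [RingHom.comp_apply, Polynomial.coe_evalRingHom, Polynomial.eval_C, ← h,
      RingHom.comp_apply]
  · rw [RingHom.comp_apply, Polynomial.coe_evalRingHom, Polynomial.eval_X, hb]

lemma pcvia_mvPolynomial (k : ℕ) : ∀ {B : Type u} [CommRing B] (γ : B →+* A)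
    (_ : Function.Surjective γ) (δ : MvPolynomial (Fin k) B →+* A)
    (_ : δ.comp MvPolynomial.C = γ) (m : ℤ) (K : Dual.D A), PCvia δ m K ↔ PCvia γ m K := by
  induction k with
  | zero =>
    intro B _ γ hγ δ h m K
    refine (pcvia_ringEquiv (MvPolynomial.isEmptyRingEquiv B (Fin 0)).symm δ γ ?_ m K).symm
    rw [MvPolynomial.isEmptyRingEquiv_symm_toRingHom, h]
  | succ k ih =>
    intro B _ γ hγ δ h m K
    let e : MvPolynomial (Fin (k + 1)) B ≃+* Polynomial (MvPolynomial (Fin k) B) :=
      (MvPolynomial.finSuccEquiv B k).toRingEquiv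
    let δ' : Polynomial (MvPolynomial (Fin k) B) →+* A := δ.comp e.symm.toRingHom
    let δ'' : MvPolynomial (Fin k) B →+* A := δ'.comp Polynomial.C
    have h'' : δ''.comp MvPolynomial.C = γ := by
      ext b
      change δ (e.symm (Polynomial.C (MvPolynomial.C b))) = γ b
      have h1 : (Polynomial.C (MvPolynomial.C b) : Polynomial (MvPolynomial (Fin k) B)) =
          algebraMap B _ b := by
        rw [Polynomial.algebraMap_apply, MvPolynomial.algebraMap_eq]
      have h2 : e.symm (algebraMap B _ b) = algebraMap B _ b :=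
        (MvPolynomial.finSuccEquiv B k).symm.commutes b
      rw [h1, h2, MvPolynomial.algebraMap_eq, ← h]
      rfl
    have hδ'' : Function.Surjective δ'' := by
      intro a
      obtain ⟨b, rfl⟩ := hγ a
      exact ⟨MvPolynomial.C b, by rw [← h'']; rfl⟩
    have h1 : PCvia δ m K ↔ PCvia δ' m K := by
      refine pcvia_ringEquiv e δ' δ ?_ m K
      apply RingHom.ext
      intro x
      change δ x = δ (e.symm (e x))
      rw [RingEquiv.symm_apply_apply]
    rw [h1, pcvia_polynomial δ'' hδ'' δ' rfl m K]
    exact ih γ hγ δ'' h'' m K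

end Via

section Main

variable {R A : Type u} [CommRing R] [CommRing A] [Algebra R A]

/-- S6983: relative pseudo-coherence does not depend on the presentation. -/
theorem isRelPseudoCoherentVia_iff {n k : ℕ} (α : MvPolynomial (Fin n) R →ₐ[R] A)
    (hα : Function.Surjective α) (β : MvPolynomial (Fin k) R →ₐ[R] A)
    (hβ : Function.Surjective β) (K : Dual.D A) (m : ℤ) :
    DerCA.IsRelPseudoCoherentVia α m K ↔ DerCA.IsRelPseudoCoherentVia β m K := by
  let δ : MvPolynomial (Fin k) (MvPolynomial (Fin n) R) →+* A :=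
    MvPolynomial.eval₂Hom (α : MvPolynomial (Fin n) R →+* A) (fun j => β (MvPolynomial.X j))
  let δ' : MvPolynomial (Fin n) (MvPolynomial (Fin k) R) →+* A :=
    MvPolynomial.eval₂Hom (β : MvPolynomial (Fin k) R →+* A) (fun i => α (MvPolynomial.X i))
  have hδ : δ.comp MvPolynomial.C = (α : MvPolynomial (Fin n) R →+* A) := by
    ext x <;> simp [δ]
  have hδ' : δ'.comp MvPolynomial.C = (β : MvPolynomial (Fin k) R →+* A) := by
    ext x <;> simp [δ']
  have h1 : PCvia δ m K ↔ PCvia (α : MvPolynomial (Fin n) R →+* A) m K :=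
    pcvia_mvPolynomial k _ hα δ hδ m K
  have h2 : PCvia δ' m K ↔ PCvia (β : MvPolynomial (Fin k) R →+* A) m K :=
    pcvia_mvPolynomial n _ hβ δ' hδ' m K
  have h3 : PCvia δ m K ↔ PCvia δ' m K := by
    refine pcvia_ringEquiv (MvPolynomial.commAlgEquiv R (Fin k) (Fin n)).toRingEquiv δ' δ ?_ m K
    apply MvPolynomial.ringHom_ext
    · intro p
      change δ (MvPolynomial.C p) =
        δ' (MvPolynomial.commAlgEquiv R (Fin k) (Fin n) (MvPolynomial.C p))
      rw [MvPolynomial.commAlgEquiv_C]
      have h4 : (δ'.comp (MvPolynomial.map MvPolynomial.C)) =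
          (α : MvPolynomial (Fin n) R →+* A) := by
        apply MvPolynomial.ringHom_ext
        · intro r
          simp [δ']
        · intro i
          simp [δ']
      have h5 := DFunLike.congr_fun h4 p
      rw [RingHom.comp_apply] at h5
      rw [h5]
      simp [δ]
    · intro j
      change δ (MvPolynomial.X j) =
        δ' (MvPolynomial.commAlgEquiv R (Fin k) (Fin n) (MvPolynomial.X j))
      rw [MvPolynomial.commAlgEquiv_X]
      simp [δ, δ']
  exact h1.symm.trans (h3.trans h2)

end Main

end Groth.Agent.H35.RelPC
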