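import Mathlib
import Groth.Agent.H35.KFBaseChange
import Groth.Agent.H35.LTensorAmp
import Groth.Agent.H35.LBaseChangeLib

/-!
# Change of rings for the derived tensor product with a module (helper35)

For `φ : R → R'`, an `R'`-module `M` and `K ∈ D(R)`:
`H^i((K ⊗^L_R R') ⊗^L_{R'} M) = 0 ↔ H^i(K ⊗^L_R M_R) = 0`.
-/

open CategoryTheory Limits MonoidalCategory

namespace Groth.Agent.H35.LT

universe u

open HomologicalComplex Groth.Agent.H35.KF Groth.Agent.H35.KFBC DerivedCategory

attribute [local instance] HasDerivedCategory.standard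

variable {R R' : Type u} [CommRing R] [CommRing R'] (φ : R →+* R')

/-- `restrict ((R' ⊗_R Y) ⊗_{R'} M) ≅ Y ⊗_R restrict M`, naturally in `Y`. -/
noncomputable def tensRestrictIso (M : ModuleCat.{u} R') :
    ModuleCat.extendScalars.{u, u, u} φ ⋙ tensorRight M ⋙ ModuleCat.restrictScalars φ ≅
      tensorRight ((ModuleCat.restrictScalars φ).obj M) :=
  NatIso.ofComponents (fun Y =>
    (ModuleCat.restrictScalars φ).mapIso (β_ ((ModuleCat.extendScalars φ).obj Y) M) ≪≫
      (asIso (proj φ M Y)).symm ≪≫ β_ ((ModuleCat.restrictScalars φ).obj M) Y)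
    (fun {Y Y'} g => by
      dsimp
      have h1 : (ModuleCat.restrictScalars φ).map ((ModuleCat.extendScalars φ).map g ▷ M) ≫
          (ModuleCat.restrictScalars φ).map (β_ ((ModuleCat.extendScalars φ).obj Y') M).hom =
          (ModuleCat.restrictScalars φ).map (β_ ((ModuleCat.extendScalars φ).obj Y) M).hom ≫
            (ModuleCat.restrictScalars φ).map (M ◁ (ModuleCat.extendScalars φ).map g) := by
        rw [← Functor.map_comp, ← Functor.map_comp, BraidedCategory.braiding_naturality_left]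
      have h2 : (ModuleCat.restrictScalars φ).map (M ◁ (ModuleCat.extendScalars φ).map g) ≫
          inv (proj φ M Y') = inv (proj φ M Y) ≫ ((ModuleCat.restrictScalars φ).obj M ◁ g) := by
        rw [IsIso.comp_inv_eq, Category.assoc, proj_naturality_right, IsIso.inv_hom_id_assoc]
      have h3 : ((ModuleCat.restrictScalars φ).obj M ◁ g) ≫
          (β_ ((ModuleCat.restrictScalars φ).obj M) Y').hom =
          (β_ ((ModuleCat.restrictScalars φ).obj M) Y).hom ≫
            g ▷ (ModuleCat.restrictScalars φ).obj M :=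
        BraidedCategory.braiding_naturality_right _ g
      rw [reassoc_of% h1, reassoc_of% h2, h3]
      simp only [Category.assoc])

lemma exact_map_restrictScalars_iff (S : ShortComplex (ModuleCat.{u} R')) :
    (S.map (ModuleCat.restrictScalars φ)).Exact ↔ S.Exact :=
  ShortComplex.exact_map_iff_of_faithful S (ModuleCat.restrictScalars φ)

lemma tensExactAt_extCx_iff (P : CochainComplex (ModuleCat.{u} R) ℤ) (M : ModuleCat.{u} R')
    (i : ℤ) :
    TensExactAt ((extCx φ).obj P) M i ↔ TensExactAt P ((ModuleCat.restrictScalars φ).obj M) i := by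
  have h1 : TensExactAt ((extCx φ).obj P) M i ↔
      ((P.sc' (i - 1) i (i + 1)).map (ModuleCat.extendScalars.{u, u, u} φ ⋙ tensorRight M ⋙
        ModuleCat.restrictScalars φ)).Exact :=
    (exact_map_restrictScalars_iff φ _).symm
  rw [h1]
  exact ShortComplex.exact_iff_of_iso
    ((P.sc' (i - 1) i (i + 1)).mapNatIso (tensRestrictIso φ M))

/-- Change of rings: `H^i((K ⊗^L_R R') ⊗^L_{R'} M) = 0 ↔ H^i(K ⊗^L_R M_R) = 0`. -/
theorem subsingleton_HD_LTensor_LBaseChange_iff [DRing.HasLBaseChange φ] (M : ModuleCat.{u} R')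
    [DRing.HasLTensor R' M] [DRing.HasLTensor R ((ModuleCat.restrictScalars φ).obj M)]
    (K : Dual.D R) (i : ℤ) :
    Subsingleton (Dual.HD R' ((DRing.LTensor R' M).obj ((DRing.LBaseChange φ).obj K)) i) ↔
      Subsingleton (Dual.HD R ((DRing.LTensor R ((ModuleCat.restrictScalars φ).obj M)).obj K) i) := by
  obtain ⟨K', ⟨e₀⟩⟩ : ∃ K' : CochainComplex (ModuleCat.{u} R) ℤ, Nonempty (Q.obj K' ≅ K) :=
    ⟨_, ⟨Q.objObjPreimageIso K⟩⟩
  obtain ⟨P, q, hP, -, hq, -⟩ := exists_isKFlat_resolution R K'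
  have : IsIso (Q.map q) := (DerivedCategory.isIso_Q_map_iff_quasiIso (φ := q)).2 hq
  let e : Q.obj P ≅ K := asIso (Q.map q) ≪≫ e₀
  have hP' : IsKFlat ((extCx φ).obj P) := isKFlat_extendScalars φ P hP
  let e' : Q.obj ((extCx φ).obj P) ≅ (DRing.LBaseChange φ).obj K :=
    (LBaseChangeIso φ P hP).symm ≪≫ (DRing.LBaseChange φ).mapIso e
  rw [subsingleton_HD_LTensor_iff M _ hP' _ e' i,
    subsingleton_HD_LTensor_iff _ P hP K e i]
  exact tensExactAt_extCx_iff φ P M i

end Groth.Agent.H35.LT
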