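import Mathlib
import Groth.Agent.H35.LTensorAssoc

/-!
# Dévissage along nilpotent filtrations for `H^i(P ⊗ N)` (helper35)
-/

open CategoryTheory Limits MonoidalCategory

namespace Groth.Agent.H35.LT

universe u

open HomologicalComplex Groth.Agent.H35.KF DerivedCategory

variable {R : Type u} [CommRing R]

section SES

/-- `N ↦ P ⊗ N` (termwise) as a functor to complexes. -/
noncomputable def tCx (P : CochainComplex (ModuleCat.{u} R) ℤ) :
    ModuleCat.{u} R ⥤ CochainComplex (ModuleCat.{u} R) ℤ where
  obj N := ((tensorRight N).mapHomologicalComplex (ComplexShape.up ℤ)).obj P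
  map {N N'} f :=
    { f := fun i => P.X i ◁ f
      comm' := fun i j _ => (whisker_exchange (P.d i j) f) }
  map_id N := by
    ext i : 1
    exact MonoidalCategory.whiskerLeft_id _ _
  map_comp f g := by
    ext i : 1
    exact MonoidalCategory.whiskerLeft_comp _ _ _

instance (P : CochainComplex (ModuleCat.{u} R) ℤ) : (tCx P).PreservesZeroMorphisms where
  map_zero N N' := by
    ext i : 1
    exact MonoidalPreadditive.whiskerLeft_zero

lemma shortExact_map_tensorLeft_of_flat_obj (M : ModuleCat.{u} R) [Module.Flat R M]
    (S : ShortComplex (ModuleCat.{u} R)) (hS : S.ShortExact) :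
    (S.map (tensorLeft M)).ShortExact := by
  have hpres : PreservesFiniteColimits (tensorLeft M) := inferInstance
  have hall : ∀ (S : ShortComplex (ModuleCat.{u} R)), S.ShortExact →
      (S.map (tensorLeft M)).Exact ∧ Epi ((tensorLeft M).map S.g) :=
    ((Functor.preservesFiniteColimits_tfae (tensorLeft M)).out 3 0 rfl rfl).1 hpres
  have hex : (S.map (tensorLeft M)).Exact ∧ Epi ((tensorLeft M).map S.g) := hall S hS
  have hmono : Mono ((tensorLeft M).map S.f) := by
    rw [ModuleCat.mono_iff_injective]
    have h1 : Function.Injective S.f.hom := (ModuleCat.mono_iff_injective _).1 hS.mono_f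
    exact Module.Flat.lTensor_preserves_injective_linearMap (M := M) S.f.hom h1
  exact { exact := hex.1, mono_f := hmono, epi_g := hex.2 }

lemma shortExact_map_tCx (P : CochainComplex (ModuleCat.{u} R) ℤ)
    (hP : ∀ p, Module.Flat R (P.X p)) (S : ShortComplex (ModuleCat.{u} R)) (hS : S.ShortExact) :
    (S.map (tCx P)).ShortExact := by
  apply HomologicalComplex.shortExact_of_degreewise_shortExact
  intro i
  have := hP i
  exact shortExact_map_tensorLeft_of_flat_obj (P.X i) S hS

/-- Half-exactness of `N ↦ H^i(P ⊗ N)` for termwise flat `P`. -/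
theorem tensExactAt_of_shortExact (P : CochainComplex (ModuleCat.{u} R) ℤ)
    (hP : ∀ p, Module.Flat R (P.X p)) (S : ShortComplex (ModuleCat.{u} R)) (hS : S.ShortExact)
    (i : ℤ) (h₁ : TensExactAt P S.X₁ i) (h₃ : TensExactAt P S.X₃ i) : TensExactAt P S.X₂ i := by
  rw [← exactAt_map_tensorRight_iff, exactAt_iff_isZero_homology] at h₁ h₃ ⊢
  have hS' := shortExact_map_tCx P hP S hS
  exact (hS'.homology_exact₂ i).isZero_of_both_zeros (h₁.eq_of_src _ _) (h₃.eq_of_tgt _ _)

end SES

section Nilp

variable (I : Ideal R)

/-- Dévissage: a property of modules which holds for modules killed by `I` and is stable under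
extensions holds for modules killed by a power of `I`. -/
theorem induction_killed_by_pow (Pr : ModuleCat.{u} R → Prop)
    (h1 : ∀ N : ModuleCat.{u} R, (∀ a ∈ I, ∀ x : N, a • x = 0) → Pr N)
    (hext : ∀ S : ShortComplex (ModuleCat.{u} R), S.ShortExact → Pr S.X₁ → Pr S.X₃ → Pr S.X₂)
    (n : ℕ) (N : ModuleCat.{u} R) (hN : ∀ a ∈ I ^ n, ∀ x : N, a • x = 0) : Pr N := by
  induction n generalizing N with
  | zero =>
    apply h1
    intro a _ x
    have hx : x = 0 := by
      have := hN 1 (by simp) x
      rwa [one_smul] at this
    rw [hx, smul_zero]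
  | succ n ih =>
    let N' : Submodule R N := I • (⊤ : Submodule R N)
    let S : ShortComplex (ModuleCat.{u} R) :=
      ShortComplex.mk (ModuleCat.ofHom N'.subtype) (ModuleCat.ofHom N'.mkQ) (by
        ext x
        simp)
    have hS : S.ShortExact :=
      { exact := (ShortComplex.ShortExact.moduleCat_exact_iff_function_exact S).2
          (LinearMap.exact_subtype_mkQ N')
        mono_f := (ModuleCat.mono_iff_injective _).2 N'.injective_subtype
        epi_g := (ModuleCat.epi_iff_surjective _).2 N'.mkQ_surjective }
    have h3 : Pr S.X₃ := by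
      apply h1
      intro a ha x
      obtain ⟨y, rfl⟩ := N'.mkQ_surjective x
      change a • N'.mkQ y = 0
      rw [← map_smul, Submodule.mkQ_apply, Submodule.Quotient.mk_eq_zero]
      exact Submodule.smul_mem_smul ha Submodule.mem_top
    have h1' : Pr S.X₁ := by
      apply ih
      intro a ha x
      obtain ⟨x, hx⟩ := x
      apply Subtype.ext
      change a • x = 0
      have hx' : x ∈ I • (⊤ : Submodule R N) := hx
      refine Submodule.smul_induction_on hx' ?_ ?_
      · intro b hb y _
        rw [← mul_smul]
        exact hN (a * b) (by rw [pow_succ]; exact Ideal.mul_mem_mul ha hb) y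
      · intro y z hy hz
        rw [smul_add, hy, hz, add_zero]
    exact hext S hS h1' h3

/-- A module killed by `I` is the restriction of scalars of an `R ⧸ I`-module. -/
theorem exists_restrictScalars_iso_of_killed (N : ModuleCat.{u} R)
    (hN : ∀ a ∈ I, ∀ x : N, a • x = 0) :
    ∃ M : ModuleCat.{u} (R ⧸ I),
      Nonempty ((ModuleCat.restrictScalars (Ideal.Quotient.mk I)).obj M ≅ N) := by
  have ht : Module.IsTorsionBySet R N (I : Set R) := fun x a => hN a.1 a.2 x
  let : Module (R ⧸ I) N := ht.module
  refine ⟨ModuleCat.of (R ⧸ I) N, ⟨LinearEquiv.toModuleIso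
    { toFun := fun x => x
      invFun := fun x => x
      map_add' := fun _ _ => rfl
      map_smul' := fun a x => ?_
      left_inv := fun _ => rfl
      right_inv := fun _ => rfl }⟩⟩
  exact Module.IsTorsionBySet.mk_smul ht a x

end Nilp

end Groth.Agent.H35.LT
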