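import Mathlib
import Groth.Agent.H35.EvalZero
import Groth.Agent.H35.LTensorAmp
import Groth.Agent.H35.TorAmpRestrict
import Groth.Agent.H35.TorNilp
import Groth.Agent.H35.RelPC
import Groth.Agent.H35.RestrictFlat

/-!
# Tor amplitude over a polynomial ring (helper35)

For an `R[X]`-module `N`: the short exact sequence
`0 → R[X] ⊗_R N → R[X] ⊗_R N → N → 0`, and the bound
`tor-amp_{R[X]} K ⊆ [a - 1, b]` when `tor-amp_R K ⊆ [a, b]`.
-/

open CategoryTheory Limits Polynomial TensorProduct

universe u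

namespace Groth.Agent.H35.PolyTor

open scoped ChangeOfRings
open Groth.Agent.H35.EvZ

variable {R : Type u} [CommRing R]

section ModuleLevel

variable (N : ModuleCat.{u} R[X])

/-- `N` as an `R`-module -/
noncomputable abbrev N0 : ModuleCat.{u} R := (ModuleCat.restrictScalars (Cc R)).obj N

/-- the source `R[X] ⊗_R N` -/
noncomputable abbrev EN : ModuleCat.{u} R[X] := (extC R).obj (N0 N)

/-- the pure tensor `p ⊗ n`, with `n : N` -/
noncomputable def tn (p : R[X]) (n : N) : (EN N : Type u) := tx (N0 N) p n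

lemma tn_add_left (p q : R[X]) (n : N) : tn N (p + q) n = tn N p n + tn N q n :=
  tx_add_left (N0 N) p q n

lemma tn_add_right (p : R[X]) (n n' : N) : tn N p (n + n') = tn N p n + tn N p n' :=
  tx_add_right (N0 N) p n n'

lemma tn_zero_left (n : N) : tn N 0 n = 0 := tx_zero_left (N0 N) n

lemma tn_zero_right (p : R[X]) : tn N p 0 = 0 := tx_zero_right (N0 N) p

lemma tn_smul (r : R) (p : R[X]) (n : N) : tn N (C r * p) n = tn N p (C r • n) :=
  tx_smul (N0 N) r p n

lemma smul_tn (q p : R[X]) (n : N) : q • tn N p n = tn N (q * p) n := rfl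

lemma tn_induction {motive : ↑(EN N) → Prop}
    (zero : motive 0) (tmul : ∀ p (n : N), motive (tn N p n))
    (add : ∀ a b, motive a → motive b → motive (a + b)) (t : ↑(EN N)) : motive t :=
  tx_induction (N0 N) zero tmul add t

/-- multiplication by `X` on `N`, as an `R`-linear map -/
noncomputable def xN : N0 N ⟶ N0 N :=
  ModuleCat.ofHom (X := N0 N) (Y := N0 N)
    { toFun := fun n => ((X : R[X]) • (show (N : Type u) from n) : N)
      map_add' := fun a b => smul_add _ _ _
      map_smul' := fun r n => by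
        change (X : R[X]) • (C r • (show (N : Type u) from n)) = C r • ((X : R[X]) • _)
        rw [smul_comm] }

/-- `p ⊗ n ↦ Xp ⊗ n - p ⊗ Xn` -/
noncomputable def dN : EN N ⟶ EN N := (X : R[X]) • 𝟙 _ - (extC R).map (xN N)

lemma dN_tn (p : R[X]) (n : N) :
    (dN N).hom (tn N p n) = tn N (X * p) n - tn N p ((X : R[X]) • n) := rfl

/-- `p ⊗ n ↦ p • n` -/
noncomputable def muN : EN N ⟶ N :=
  ModuleCat.ExtendRestrictScalarsAdj.Counit.map (Cc R) (Y := N)

lemma muN_tn (p : R[X]) (n : N) : (muN N).hom (tn N p n) = p • n := by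
  dsimp only [muN]
  erw [ModuleCat.ExtendRestrictScalarsAdj.Counit.map_hom_apply]
  rfl

/-- `h k n = Σ_{j<k} X^j ⊗ X^(k-1-j) n`, defined recursively -/
noncomputable def hN : ℕ → N → ↑(EN N)
  | 0, _ => 0
  | k + 1, n => tn N (X ^ k) n + hN k ((X : R[X]) • n)

lemma hN_zero (n : N) : hN N 0 n = 0 := rfl

lemma hN_succ (k : ℕ) (n : N) :
    hN N (k + 1) n = tn N (X ^ k) n + hN N k ((X : R[X]) • n) := rfl

lemma hN_zero_right (k : ℕ) : hN N k 0 = 0 := by
  induction k with
  | zero => rfl
  | succ k ih => rw [hN_succ, tn_zero_right, smul_zero, ih, add_zero]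

lemma hN_add (k : ℕ) (n n' : N) : hN N k (n + n') = hN N k n + hN N k n' := by
  induction k generalizing n n' with
  | zero => rw [hN_zero, hN_zero, hN_zero, add_zero]
  | succ k ih =>
    rw [hN_succ, hN_succ, hN_succ, tn_add_right, smul_add, ih]
    abel

/-- the retraction on pure tensors -/
noncomputable def rho0 (p : R[X]) (n : N) : ↑(EN N) :=
  p.sum (fun k a => hN N k (C a • n))

lemma rho0_add_left (p q : R[X]) (n : N) : rho0 N (p + q) n = rho0 N p n + rho0 N q n :=
  Polynomial.sum_add_index p q _ (fun k => by rw [C_0, zero_smul, hN_zero_right])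
    (fun k a b => by rw [C_add, add_smul, hN_add])

lemma rho0_add_right (p : R[X]) (n n' : N) : rho0 N p (n + n') = rho0 N p n + rho0 N p n' := by
  unfold rho0 Polynomial.sum
  rw [← Finset.sum_add_distrib]
  refine Finset.sum_congr rfl (fun k _ => ?_)
  dsimp only
  rw [smul_add, hN_add]

lemma rho0_smul (r : R) (p : R[X]) (n : N) : rho0 N (C r * p) n = rho0 N p (C r • n) := by
  rw [← smul_eq_C_mul]
  unfold rho0
  rw [Polynomial.sum_smul_index _ _ _ (fun k => by rw [C_0, zero_smul, hN_zero_right])]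
  unfold Polynomial.sum
  refine Finset.sum_congr rfl (fun k _ => ?_)
  dsimp only
  rw [C_mul, mul_comm, mul_smul]

lemma rho0_monomial (k : ℕ) (a : R) (n : N) : rho0 N (monomial k a) n = hN N k (C a • n) :=
  Polynomial.sum_monomial_index a _ (by rw [C_0, zero_smul, hN_zero_right])

lemma rho0_zero_left (n : N) : rho0 N 0 n = 0 := Polynomial.sum_zero_index _

/-- the retraction `ρ` of `d` -/
noncomputable def rho : ↑(EN N) →+ ↑(EN N) :=
  TensorProduct.liftAddHom (R := R) (M := PX R) (N := N0 N)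
    (AddMonoidHom.mk' (fun p : R[X] => AddMonoidHom.mk'
        (fun n : N => rho0 N p n) (fun n n' => rho0_add_right N p n n'))
      (fun (p : R[X]) (q : R[X]) => by
        refine AddMonoidHom.ext (fun (n : N) => ?_)
        exact rho0_add_left N p q n))
    (fun (r : R) (p : R[X]) (n : N) => rho0_smul N r p n)

lemma rho_tn (p : R[X]) (n : N) : rho N (tn N p n) = rho0 N p n := rfl

lemma rho0_X_mul_sub (p : R[X]) :
    ∀ n : N, rho0 N (X * p) n - rho0 N p ((X : R[X]) • n) = tn N p n := by
  induction p using Polynomial.induction_on' with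
  | add p q hp hq =>
    intro n
    rw [mul_add, rho0_add_left, rho0_add_left, tn_add_left, ← hp n, ← hq n]
    abel
  | monomial k a =>
    intro n
    have h1 : (X : R[X]) * monomial k a = monomial (k + 1) a := by
      rw [X_mul, monomial_mul_X]
    rw [h1, rho0_monomial, rho0_monomial, hN_succ, smul_comm (C a) (X : R[X]) n, add_sub_cancel_right,
      ← tn_smul, C_mul_X_pow_eq_monomial]

lemma rho_dN (t : ↑(EN N)) : rho N ((dN N).hom t) = t := by
  refine tn_induction N (motive := fun t => rho N ((dN N).hom t) = t) ?_ ?_ ?_ t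
  · rw [map_zero, map_zero]
  · intro p n
    rw [dN_tn, map_sub, rho_tn, rho_tn, rho0_X_mul_sub]
  · intro a b ha hb
    rw [map_add, map_add, ha, hb]

lemma hN_decomp (k : ℕ) :
    ∀ m : N, tn N (X ^ k) m = (dN N).hom (hN N k m) + tn N 1 ((X : R[X]) ^ k • m) := by
  induction k with
  | zero =>
    intro m
    rw [hN_zero, map_zero, zero_add, pow_zero, one_smul]
  | succ k ih =>
    intro m
    have h2 := ih ((X : R[X]) • m)
    rw [hN_succ, map_add, dN_tn, ← pow_succ', pow_succ, mul_smul]
    rw [h2]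
    abel

lemma rho0_decomp (p : R[X]) :
    ∀ n : N, tn N p n = (dN N).hom (rho0 N p n) + tn N 1 (p • n) := by
  induction p using Polynomial.induction_on' with
  | add p q hp hq =>
    intro n
    rw [tn_add_left, rho0_add_left, map_add, add_smul, tn_add_right]
    nth_rewrite 1 [hp n, hq n]
    abel
  | monomial k a =>
    intro n
    rw [rho0_monomial, ← C_mul_X_pow_eq_monomial, tn_smul, hN_decomp N k (C a • n), mul_comm,
      mul_smul]

lemma decompN (t : ↑(EN N)) :
    t = (dN N).hom (rho N t) + tn N 1 ((muN N).hom t) := by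
  refine tn_induction N
    (motive := fun t => t = (dN N).hom (rho N t) + tn N 1 ((muN N).hom t)) ?_ ?_ ?_ t
  · rw [map_zero, map_zero, map_zero, tn_zero_right, add_zero]
  · intro p n
    rw [rho_tn, muN_tn]
    exact rho0_decomp N p n
  · intro a b ha hb
    rw [map_add, map_add, map_add, tn_add_right]
    nth_rewrite 1 [ha, hb]
    abel

lemma dN_muN : dN N ≫ muN N = 0 := by
  apply ModuleCat.ExtendScalars.hom_ext
  intro (n : N)
  change (muN N).hom ((dN N).hom (tn N 1 n)) = 0
  rw [dN_tn, map_sub, muN_tn, muN_tn, mul_one, one_smul, sub_self]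

/-- the short complex `0 → R[X] ⊗ N → R[X] ⊗ N → N → 0` -/
noncomputable def scN : ShortComplex (ModuleCat.{u} R[X]) :=
  ShortComplex.mk (dN N) (muN N) (dN_muN N)

lemma scN_shortExact : (scN N).ShortExact := by
  have hmono : Mono (scN N).f := by
    rw [ModuleCat.mono_iff_injective]
    intro (a : ↑(EN N)) (b : ↑(EN N)) hab
    have h : rho N ((dN N).hom a) = rho N ((dN N).hom b) := congrArg (rho N) hab
    rw [rho_dN, rho_dN] at h
    exact h
  have hepi : Epi (scN N).g := by
    rw [ModuleCat.epi_iff_surjective]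
    intro (n : N)
    refine ⟨tn N 1 n, ?_⟩
    have h := muN_tn N 1 n
    rw [one_smul] at h
    exact h
  refine ShortComplex.ShortExact.mk' ?_ hmono hepi
  rw [ShortComplex.moduleCat_exact_iff]
  intro (t : ↑(EN N)) ht
  refine ⟨rho N t, ?_⟩
  have h := decompN N t
  have ht' : (muN N).hom t = 0 := ht
  rw [ht', tn_zero_right, add_zero] at h
  exact h.symm

end ModuleLevel

section TorAmp

open HomologicalComplex DerivedCategory MonoidalCategory
open Groth.Agent.H35.KF Groth.Agent.H35.KFBC Groth.Agent.H35.LT Groth.Agent.H35.BCSq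

attribute [local instance] HasDerivedCategory.standard

/-- tor amplitude read off a K-flat representative -/
lemma hasTorAmplitudeIn_iff_tensExactAt {A : Type u} [CommRing A]
    (P : CochainComplex (ModuleCat.{u} A) ℤ) (hP : IsKFlat P) (K : Dual.D A) (e : Q.obj P ≅ K)
    (a b : ℤ) :
    DRing.HasTorAmplitudeIn A a b K ↔
      ∀ (M : ModuleCat.{u} A) (i : ℤ), (i < a ∨ b < i) → TensExactAt P M i := by
  have : ∀ M : ModuleCat.{u} A, DRing.HasLTensor A M := fun M => hasLTensor M
  rw [hasTorAmplitudeIn_iff_LTensor]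
  constructor
  · intro h M i hi
    exact (subsingleton_HD_LTensor_iff M P hP K e i).1 (h M i hi)
  · intro h M i hi
    exact (subsingleton_HD_LTensor_iff M P hP K e i).2 (h M i hi)

/-- `P ⊗_{R'} (R' ⊗_R M)` is exact at `i` iff `P|_R ⊗_R M` is. -/
lemma tensExactAt_extendScalars_iff {A B : Type u} [CommRing A] [CommRing B] (φ : A →+* B)
    (P : CochainComplex (ModuleCat.{u} B) ℤ) (M : ModuleCat.{u} A) (i : ℤ) :
    TensExactAt P ((ModuleCat.extendScalars.{u, u, u} φ).obj M) i ↔
      TensExactAt (resL φ P) M i := by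
  rw [← exactAt_tensor_sgl_iff, ← exactAt_tensor_sgl_iff,
    ← exactAt_iff_of_iso' (restrictTensorIso φ P (sgl M)) i, exactAt_map_restrictScalars_iff]
  exact exactAt_iff_of_iso' (whiskerLeftIso P
    ((HomologicalComplex.singleMapHomologicalComplex (ModuleCat.extendScalars.{u, u, u} φ)
      (ComplexShape.up ℤ) 0).app M).symm) i

/-- the connecting part of the long exact sequence: `H^i(P ⊗ X₂) = 0 = H^{i+1}(P ⊗ X₁)` forces
`H^i(P ⊗ X₃) = 0`. -/
theorem tensExactAt_X₃_of_shortExact {A : Type u} [CommRing A]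
    (P : CochainComplex (ModuleCat.{u} A) ℤ)
    (hP : ∀ p, Module.Flat A (P.X p)) (S : ShortComplex (ModuleCat.{u} A)) (hS : S.ShortExact)
    (i : ℤ) (h₂ : TensExactAt P S.X₂ i) (h₁ : TensExactAt P S.X₁ (i + 1)) :
    TensExactAt P S.X₃ i := by
  rw [← exactAt_map_tensorRight_iff, exactAt_iff_isZero_homology] at h₁ h₂ ⊢
  have hS' := shortExact_map_tCx P hP S hS
  exact (hS'.homology_exact₃ i (i + 1) rfl).isZero_of_both_zeros (h₂.eq_of_src _ _)
    (h₁.eq_of_tgt _ _)

lemma flat_Cc : (Cc R).Flat := by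
  have h : Cc R = algebraMap R R[X] := by
    ext r
    simp [Polynomial.C_eq_algebraMap]
  rw [h]
  exact (RingHom.flat_algebraMap_iff).2 inferInstance

/-- If `K|_R` has tor amplitude in `[a, b]` over `R`, then `K` has tor amplitude in `[a - 1, b]`
over `R[X]`. -/
theorem hasTorAmplitudeIn_polynomial (K : Dual.D R[X]) (a b : ℤ)
    (h : DRing.HasTorAmplitudeIn R a b ((DRing.restrictD (Cc R)).obj K)) :
    DRing.HasTorAmplitudeIn R[X] (a - 1) b K := by
  obtain ⟨P, q, hP, hPfl, hq, -⟩ := exists_isKFlat_resolution R[X] (Q.objPreimage K)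
  have : IsIso (Q.map q) := (DerivedCategory.isIso_Q_map_iff_quasiIso (φ := q)).2 hq
  let e : Q.obj P ≅ K := asIso (Q.map q) ≪≫ Q.objObjPreimageIso K
  have hP₀ : IsKFlat (resL (Cc R) P) := isKFlat_restrict_of_flat (Cc R) flat_Cc P hP
  let e₀ : Q.obj (resL (Cc R) P) ≅ (DRing.restrictD (Cc R)).obj K :=
    ((ModuleCat.restrictScalars (Cc R)).mapDerivedCategoryFactors.app P).symm ≪≫
      (DRing.restrictD (Cc R)).mapIso e
  rw [hasTorAmplitudeIn_iff_tensExactAt (resL (Cc R) P) hP₀ _ e₀] at h
  rw [hasTorAmplitudeIn_iff_tensExactAt P hP K e]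
  intro N i hi
  have h1 : ∀ j : ℤ, (j < a ∨ b < j) → TensExactAt P (EN N) j := fun j hj =>
    (tensExactAt_extendScalars_iff (Cc R) P (N0 N) j).2 (h (N0 N) j hj)
  exact tensExactAt_X₃_of_shortExact P hPfl (scN N) (scN_shortExact N) i
    (h1 i (by omega)) (h1 (i + 1) (by omega))

end TorAmp

section Via

open HomologicalComplex DerivedCategory
open Groth.Agent.H35.KF Groth.Agent.H35.RelPC

attribute [local instance] HasDerivedCategory.standard

variable {A : Type u} [CommRing A]

/-- `K ∈ D(A)` restricted along `γ : B → A` has tor amplitude in `[a, b]` over `B`. -/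
def TAvia {B : Type u} [CommRing B] (γ : B →+* A) (a b : ℤ) (K : Dual.D A) : Prop :=
  DRing.HasTorAmplitudeIn B a b ((DRing.restrictD γ).obj K)

/-- restriction along a flat ring map preserves tor amplitude (ring hom version) -/
lemma hasTorAmplitudeIn_restrictD_of_flat' {B' B : Type u} [CommRing B'] [CommRing B]
    (ψ : B' →+* B) (hψ : ψ.Flat) (K : Dual.D B) (a b : ℤ) (h : DRing.HasTorAmplitudeIn B a b K) :
    DRing.HasTorAmplitudeIn B' a b ((DRing.restrictD ψ).obj K) := by
  let _ : Algebra B' B := ψ.toAlgebra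
  have : Module.Flat B' B := hψ
  exact hasTorAmplitudeIn_restrictD_of_flat (R := B') (A := B) K a b h

lemma tavia_comp_of_flat {B' B : Type u} [CommRing B'] [CommRing B] (ψ : B' →+* B) (hψ : ψ.Flat)
    (γ : B →+* A) (δ : B' →+* A) (h : δ = γ.comp ψ) (a b : ℤ) (K : Dual.D A)
    (hK : TAvia γ a b K) : TAvia δ a b K := by
  obtain ⟨e⟩ := nonempty_restrictD_comp_iso ψ γ δ h K
  exact hasTorAmplitudeIn_of_iso e.symm a b
    (hasTorAmplitudeIn_restrictD_of_flat' ψ hψ _ a b hK)

lemma flat_of_ringEquiv {B' B : Type u} [CommRing B'] [CommRing B] (e : B' ≃+* B) :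
    e.toRingHom.Flat :=
  RingHom.Flat.of_bijective e.bijective

lemma tavia_ringEquiv {B' B : Type u} [CommRing B'] [CommRing B] (e : B' ≃+* B)
    (γ : B →+* A) (δ : B' →+* A) (h : δ = γ.comp e.toRingHom) (a b : ℤ) (K : Dual.D A) :
    TAvia δ a b K ↔ TAvia γ a b K := by
  constructor
  · intro hK
    refine tavia_comp_of_flat e.symm.toRingHom (flat_of_ringEquiv e.symm) δ γ ?_ a b K hK
    rw [h]
    ext x
    simp
  · intro hK
    exact tavia_comp_of_flat e.toRingHom (flat_of_ringEquiv e) γ δ h a b K hK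

lemma tavia_polynomial {B : Type u} [CommRing B] (δ : B[X] →+* A) (a b : ℤ) (K : Dual.D A)
    (hK : TAvia (δ.comp Polynomial.C) a b K) : TAvia δ (a - 1) b K := by
  obtain ⟨e⟩ := nonempty_restrictD_comp_iso (Cc B) δ (δ.comp Polynomial.C) rfl K
  exact hasTorAmplitudeIn_polynomial _ a b (hasTorAmplitudeIn_of_iso e a b hK)

lemma tavia_mvPolynomial (k : ℕ) : ∀ {B : Type u} [CommRing B]
    (δ : MvPolynomial (Fin k) B →+* A) (a b : ℤ) (K : Dual.D A),
    TAvia (δ.comp MvPolynomial.C) a b K → TAvia δ (a - k) b K := by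
  induction k with
  | zero =>
    intro B _ δ a b K hK
    have h0 : a - ((0 : ℕ) : ℤ) = a := by simp
    rw [h0]
    refine (tavia_ringEquiv (MvPolynomial.isEmptyRingEquiv B (Fin 0)).symm δ
      (δ.comp MvPolynomial.C) ?_ a b K).1 hK
    rw [MvPolynomial.isEmptyRingEquiv_symm_toRingHom]
  | succ k ih =>
    intro B _ δ a b K hK
    let e : MvPolynomial (Fin (k + 1)) B ≃+* Polynomial (MvPolynomial (Fin k) B) :=
      (MvPolynomial.finSuccEquiv B k).toRingEquiv
    let δ' : Polynomial (MvPolynomial (Fin k) B) →+* A := δ.comp e.symm.toRingHom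
    let δ'' : MvPolynomial (Fin k) B →+* A := δ'.comp Polynomial.C
    have h'' : δ''.comp MvPolynomial.C = δ.comp MvPolynomial.C := by
      ext b
      change δ (e.symm (Polynomial.C (MvPolynomial.C b))) = δ (MvPolynomial.C b)
      have h1 : (Polynomial.C (MvPolynomial.C b) : Polynomial (MvPolynomial (Fin k) B)) =
          algebraMap B _ b := by
        rw [Polynomial.algebraMap_apply, MvPolynomial.algebraMap_eq]
      have h2 : e.symm (algebraMap B _ b) = algebraMap B _ b :=
        (MvPolynomial.finSuccEquiv B k).symm.commutes b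
      rw [h1, h2, MvPolynomial.algebraMap_eq]
    have h1 : TAvia δ'' (a - k) b K := ih δ'' a b K (by rw [h'']; exact hK)
    have h2 : TAvia δ' (a - k - 1) b K := tavia_polynomial δ' (a - k) b K h1
    have h3 : a - ((k + 1 : ℕ) : ℤ) = a - k - 1 := by push_cast; ring
    rw [h3]
    refine (tavia_ringEquiv e δ' δ ?_ (a - k - 1) b K).2 h2
    apply RingHom.ext
    intro x
    change δ x = δ (e.symm (e x))
    rw [RingEquiv.symm_apply_apply]

end Via

end Groth.Agent.H35.PolyTor
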