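import Mathlib
import Groth.Agent.H35.PolyTor
import Groth.Agent.H35.PerfectPC
import Groth.Agent.H35.TorDimAmp
import Groth.Prelude.Def_MoreMor

/-!
# Perfect ring maps via presentations (helper35, S7066)
-/

open CategoryTheory Limits

universe u

namespace Groth.Agent.H35.PolyTor

open HomologicalComplex DerivedCategory
open Groth.Agent.H35.KF Groth.Agent.H35.RelPC

attribute [local instance] HasDerivedCategory.standard

section General

variable (A B : Type u) [CommRing A] [CommRing B] [Algebra A B]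

/-- `B[0]` restricted along `A → B` is `B[0]` over `A`. -/
noncomputable def restrictInDIso :
    (DRing.restrictD (algebraMap A B)).obj (Dual.inD B B) ≅ Dual.inD A B :=
  ((ModuleCat.restrictScalars.{u} (algebraMap A B)).mapDerivedCategorySingleFunctor 0).app _ ≪≫
    (DerivedCategory.singleFunctor (ModuleCat.{u} A) 0).mapIso
      (Groth.Agent.H28.PCohRestrict.algebraRestrictIso A B).symm

end General

/-- a module whose `M[0]` has bounded tor amplitude has finite tor dimension -/
lemma hasFiniteTorDim_of_hasTorAmplitudeIn {R : Type u} [CommRing R] (M : Type u) [AddCommGroup M]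
    [Module R M] (a b : ℤ) (h : DRing.HasTorAmplitudeIn R a b (Dual.inD R M)) :
    DRing.HasFiniteTorDim R M := by
  refine ⟨(-a).toNat, ?_⟩
  rw [hasTorDimLE_iff_hasTorAmplitudeIn]
  let P := projectiveResolution (ModuleCat.of R M)
  let F := P.cochainComplex
  have hc : ∀ i : ℤ, 0 < i → IsZero (F.X i) := fun i hi =>
    CochainComplex.isZero_of_isStrictlyLE F 0 i hi
  have hF : ∀ i : ℤ, Module.Flat R (F.X i) := fun i => Groth.Agent.H18.flat_of_projective _
  have : IsIso (Q.map P.π') := by
    rw [DerivedCategory.isIso_Q_map_iff_quasiIso (φ := P.π')]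
    infer_instance
  let e : Q.obj F ≅ Dual.inD R M := @asIso _ _ _ _ (Q.map P.π') this
  have hv := torVanishing_of_hasTorAmplitudeIn _ _ _ h F 0 hc hF e
  refine hasTorAmplitudeIn_of_torVanishing _ _ _ F 0 hc hF e ?_
  intro N i hi
  rcases hi with hi | hi
  · exact hv N i (Or.inl (by omega))
  · exact tensExactAt_of_isZero F N i (hc i hi)

lemma flat_algebraMap_mvPolynomial (A : Type u) [CommRing A] (n : ℕ) :
    (algebraMap A (MvPolynomial (Fin n) A)).Flat :=
  (RingHom.flat_algebraMap_iff).2 inferInstance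

/-- S7066 -/
theorem isPerfectHom_iff (A B : Type u) [CommRing A] [CommRing B] [Algebra A B] :
    MoreMor.IsPerfectHom A B ↔
      ∃ (n : ℕ) (φ : MvPolynomial (Fin n) A →ₐ[A] B), Function.Surjective φ ∧
        letI := φ.toRingHom.toAlgebra
        DRing.IsPerfectModule (MvPolynomial (Fin n) A) B := by
  constructor
  · rintro ⟨⟨n, φ, hφ, hpc⟩, ⟨d, hd⟩⟩
    refine ⟨n, φ, hφ, ?_⟩
    let _ : Algebra (MvPolynomial (Fin n) A) B := φ.toRingHom.toAlgebra
    change DRing.IsPerfect _ _
    rw [isPerfect_iff_isPseudoCoherent'_and_hasFiniteTorDimCx]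
    refine ⟨hpc, -(d : ℤ) - n, 0, ?_⟩
    rw [hasTorDimLE_iff_hasTorAmplitudeIn] at hd
    have h1 : TAvia (algebraMap A B) (-(d : ℤ)) 0 (Dual.inD B B) :=
      hasTorAmplitudeIn_of_iso (restrictInDIso A B).symm _ _ hd
    have h2 : (φ.toRingHom).comp MvPolynomial.C = algebraMap A B := by
      ext a
      change φ (MvPolynomial.C a) = _
      rw [← MvPolynomial.algebraMap_eq, AlgHom.commutes]
    have h3 : TAvia φ.toRingHom (-(d : ℤ) - n) 0 (Dual.inD B B) :=
      tavia_mvPolynomial n φ.toRingHom _ _ _ (by rw [h2]; exact h1)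
    exact hasTorAmplitudeIn_of_iso (restrictInDIso (MvPolynomial (Fin n) A) B) _ _ h3
  · rintro ⟨n, φ, hφ, hperf⟩
    let _ : Algebra (MvPolynomial (Fin n) A) B := φ.toRingHom.toAlgebra
    have hperf' : DRing.IsPerfect (MvPolynomial (Fin n) A) (Dual.inD (MvPolynomial (Fin n) A) B) :=
      hperf
    rw [isPerfect_iff_isPseudoCoherent'_and_hasFiniteTorDimCx] at hperf'
    obtain ⟨hpc, a, b, hab⟩ := hperf'
    refine ⟨⟨n, φ, hφ, hpc⟩, ?_⟩
    have h1 : TAvia φ.toRingHom a b (Dual.inD B B) :=
      hasTorAmplitudeIn_of_iso (restrictInDIso (MvPolynomial (Fin n) A) B).symm _ _ hab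
    have h2 : algebraMap A B = (φ.toRingHom).comp (algebraMap A (MvPolynomial (Fin n) A)) := by
      ext a
      change _ = φ (algebraMap A _ a)
      rw [AlgHom.commutes]
    have h3 : TAvia (algebraMap A B) a b (Dual.inD B B) :=
      tavia_comp_of_flat (algebraMap A (MvPolynomial (Fin n) A))
        (flat_algebraMap_mvPolynomial A n) φ.toRingHom (algebraMap A B) h2 a b _ h1
    exact hasFiniteTorDim_of_hasTorAmplitudeIn B a b
      (hasTorAmplitudeIn_of_iso (restrictInDIso A B) _ _ h3)

end Groth.Agent.H35.PolyTor
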