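import Mathlib
import Groth.Agent.H35.RelPC
import Groth.Agent.H28.PCohDev2
import Groth.Agent.H28.PCohSES
import Groth.Agent.H28.PCohRing2
import Groth.Agent.S6937
import Groth.Agent.H28.PCohDescent

/-!
# Relative pseudo-coherence: basic properties via a fixed presentation (helper35)
-/

open CategoryTheory Limits Pretriangulated

open scoped ZeroObject

namespace Groth.Agent.H35.RelPC

universe u

open Groth.Agent.H28 Groth.Agent.H28.PCohCore Groth.Agent.H28.PCohDer Groth.Agent.H28.PCohSum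
  Groth.Agent.H28.PCohDev Groth.Agent.H28.PCohSES Groth.Agent.H28.PCohTri
  Groth.Agent.H28.PCohRing DerivedCategory

attribute [local instance] HasDerivedCategory.standard

variable {R A : Type u} [CommRing R] [CommRing A] [Algebra R A]

lemma exists_presentation [Algebra.FiniteType R A] :
    ∃ (n : ℕ) (α : MvPolynomial (Fin n) R →ₐ[R] A), Function.Surjective α :=
  Algebra.FiniteType.iff_quotient_mvPolynomial''.1 inferInstance

lemma isRelPseudoCoherent_iff_via {n : ℕ} (α : MvPolynomial (Fin n) R →ₐ[R] A)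
    (hα : Function.Surjective α) (m : ℤ) (K : Dual.D A) :
    DerCA.IsRelPseudoCoherent R A m K ↔ DerCA.IsRelPseudoCoherentVia α m K :=
  ⟨fun ⟨_, β, hβ, h⟩ => (isRelPseudoCoherentVia_iff β hβ α hα K m).1 h, fun h => ⟨n, α, hα, h⟩⟩

/-- Relative `m`-pseudo-coherence, in terms of helper28's `IsNPC` over the polynomial ring. -/
lemma rel_iff_isNPC {n : ℤ} {k : ℕ} (α : MvPolynomial (Fin k) R →ₐ[R] A)
    (hα : Function.Surjective α) (K : Dual.D A) :
    DerCA.IsRelPseudoCoherent R A n K ↔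
      IsNPC (finFree (MvPolynomial (Fin k) R)) n
        ((DRing.restrictD (α : MvPolynomial (Fin k) R →+* A)).obj K) :=
  (isRelPseudoCoherent_iff_via α hα n K).trans (isPseudoCoherent_iff_isNPC _ _ _)

/-- S7020 -/
theorem isRelPseudoCoherent_of_distTriang [Algebra.FiniteType R A] (m : ℤ)
    (T : Triangle (Dual.D A)) (hT : T ∈ distinguishedTriangles) :
    (DerCA.IsRelPseudoCoherent R A (m + 1) T.obj₁ → DerCA.IsRelPseudoCoherent R A m T.obj₂ →
        DerCA.IsRelPseudoCoherent R A m T.obj₃) ∧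
      (DerCA.IsRelPseudoCoherent R A m T.obj₁ → DerCA.IsRelPseudoCoherent R A m T.obj₃ →
        DerCA.IsRelPseudoCoherent R A m T.obj₂) ∧
      (DerCA.IsRelPseudoCoherent R A (m + 1) T.obj₂ → DerCA.IsRelPseudoCoherent R A m T.obj₃ →
        DerCA.IsRelPseudoCoherent R A (m + 1) T.obj₁) ∧
      ((DerCA.IsRelPseudoCoherentAll R A T.obj₁ → DerCA.IsRelPseudoCoherentAll R A T.obj₂ →
          DerCA.IsRelPseudoCoherentAll R A T.obj₃) ∧
        (DerCA.IsRelPseudoCoherentAll R A T.obj₁ → DerCA.IsRelPseudoCoherentAll R A T.obj₃ →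
          DerCA.IsRelPseudoCoherentAll R A T.obj₂) ∧
        (DerCA.IsRelPseudoCoherentAll R A T.obj₂ → DerCA.IsRelPseudoCoherentAll R A T.obj₃ →
          DerCA.IsRelPseudoCoherentAll R A T.obj₁)) := by
  obtain ⟨k, α, hα⟩ := exists_presentation (R := R) (A := A)
  have hT' := (DRing.restrictD (α : MvPolynomial (Fin k) R →+* A)).map_distinguished T hT
  have hql := hql_finFree (MvPolynomial (Fin k) R)
  have hqs := hqs_finFree (MvPolynomial (Fin k) R)
  have hsum := finFree_prod (MvPolynomial (Fin k) R)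
  have h3 : ∀ n : ℤ, DerCA.IsRelPseudoCoherent R A (n + 1) T.obj₁ →
      DerCA.IsRelPseudoCoherent R A n T.obj₂ → DerCA.IsRelPseudoCoherent R A n T.obj₃ := by
    intro n h₁ h₂
    rw [rel_iff_isNPC α hα] at h₁ h₂ ⊢
    exact isNPC_obj₃ _ hql hsum hqs _ hT' h₁ h₂
  have h2 : ∀ n : ℤ, DerCA.IsRelPseudoCoherent R A n T.obj₁ →
      DerCA.IsRelPseudoCoherent R A n T.obj₃ → DerCA.IsRelPseudoCoherent R A n T.obj₂ := by
    intro n h₁ h₃
    rw [rel_iff_isNPC α hα] at h₁ h₃ ⊢
    exact isNPC_obj₂ _ hql hsum hqs _ hT' h₁ h₃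
  have h1 : ∀ n : ℤ, DerCA.IsRelPseudoCoherent R A (n + 1) T.obj₂ →
      DerCA.IsRelPseudoCoherent R A n T.obj₃ → DerCA.IsRelPseudoCoherent R A (n + 1) T.obj₁ := by
    intro n h₂ h₃
    rw [rel_iff_isNPC α hα] at h₂ h₃ ⊢
    refine isNPC_obj₁ _ hql hsum hqs _ hT' h₂ ?_
    rw [add_sub_cancel_right]
    exact h₃
  refine ⟨h3 m, h2 m, h1 m, fun h₁ h₂ n => h3 n (h₁ (n + 1)) (h₂ n),
    fun h₁ h₃ n => h2 n (h₁ n) (h₃ n), fun h₂ h₃ n => ?_⟩
  have := h1 (n - 1) (by rw [sub_add_cancel]; exact h₂ n) (h₃ (n - 1))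
  rwa [sub_add_cancel] at this

/-- S7022 -/
theorem isRelPseudoCoherent_of_biprod [Algebra.FiniteType R A] (m : ℤ) (K L : Dual.D A)
    [HasBinaryBiproduct K L] :
    (DerCA.IsRelPseudoCoherent R A m (K ⊞ L) →
        DerCA.IsRelPseudoCoherent R A m K ∧ DerCA.IsRelPseudoCoherent R A m L) ∧
      (DerCA.IsRelPseudoCoherentAll R A (K ⊞ L) →
        DerCA.IsRelPseudoCoherentAll R A K ∧ DerCA.IsRelPseudoCoherentAll R A L) := by
  obtain ⟨k, α, hα⟩ := exists_presentation (R := R) (A := A)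
  have : PreservesBinaryBiproducts (DRing.restrictD (α : MvPolynomial (Fin k) R →+* A)) :=
    preservesBinaryBiproducts_of_preservesBiproducts _
  have key : ∀ n : ℤ, DerCA.IsRelPseudoCoherent R A n (K ⊞ L) →
      DerCA.IsRelPseudoCoherent R A n K ∧ DerCA.IsRelPseudoCoherent R A n L := by
    intro n h
    rw [isRelPseudoCoherent_iff_via α hα] at h ⊢
    rw [isRelPseudoCoherent_iff_via α hα]
    have h' := isPseudoCoherent_of_iso
      ((DRing.restrictD (α : MvPolynomial (Fin k) R →+* A)).mapBiprod K L) n h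
    exact (Groth.Agent.S6937.result _ n _ _).1 h'
  exact ⟨key m, fun h => ⟨fun n => (key n (h n)).1, fun n => (key n (h n)).2⟩⟩

/-- Restriction of scalars of a module placed in degree `0`. -/
noncomputable def restrictDSingleIso {B : Type u} [CommRing B] (φ : B →+* A) (M : ModuleCat.{u} A) :
    (DRing.restrictD φ).obj ((DerivedCategory.singleFunctor (ModuleCat.{u} A) 0).obj M) ≅
      (DerivedCategory.singleFunctor (ModuleCat.{u} B) 0).obj
        ((ModuleCat.restrictScalars φ).obj M) :=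
  ((ModuleCat.restrictScalars φ).mapDerivedCategorySingleFunctor 0).app M

/-- S7023 -/
theorem isRelPseudoCoherent_of_termwise [Algebra.FiniteType R A] (m : ℤ) (K : DRing.Cx A) (b : ℤ)
    (hb : DRing.VanishesAbove K b) :
    ((∀ i : ℤ, DerCA.IsRelPseudoCoherentModule R A (m - i) (K.X i)) →
        DerCA.IsRelPseudoCoherent R A m (DRing.toD K)) ∧
      ((∀ i : ℤ, DerCA.IsRelPseudoCoherentModuleAll R A (K.X i)) →
        DerCA.IsRelPseudoCoherentAll R A (DRing.toD K)) := by
  obtain ⟨k, α, hα⟩ := exists_presentation (R := R) (A := A)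
  have hql := hql_finFree (MvPolynomial (Fin k) R)
  have hqs := hqs_finFree (MvPolynomial (Fin k) R)
  have hsum := finFree_prod (MvPolynomial (Fin k) R)
  have key : ∀ n : ℤ, (∀ i : ℤ, DerCA.IsRelPseudoCoherentModule R A (n - i) (K.X i)) →
      DerCA.IsRelPseudoCoherent R A n (DRing.toD K) := by
    intro n h
    rw [rel_iff_isNPC α hα]
    refine IsNPC.of_iso _ ?_
      ((ModuleCat.restrictScalars
        (α : MvPolynomial (Fin k) R →+* A)).mapDerivedCategoryFactors.app K).symm
    refine isNPC_of_terms _ hql hsum hqs n _ b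
      (fun i hi => (ModuleCat.restrictScalars _).map_isZero (hb i hi)) (fun i _ => ?_)
    have h' := (rel_iff_isNPC α hα _).1 (h i)
    exact IsNPC.of_iso _ h' (restrictDSingleIso _ (K.X i))
  exact ⟨key m, fun h n => key n (fun i => h i (n - i))⟩

/-- S7024 -/
theorem isRelPseudoCoherent_of_homology [Algebra.FiniteType R A] (m : ℤ) (K : Dual.D A)
    (hb : ∃ b : ℤ, ∀ i : ℤ, b < i → Subsingleton (Dual.HD A K i)) :
    ((∀ i : ℤ, DerCA.IsRelPseudoCoherentModule R A (m - i) (Dual.HD A K i)) →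
        DerCA.IsRelPseudoCoherent R A m K) ∧
      ((∀ i : ℤ, DerCA.IsRelPseudoCoherentModuleAll R A (Dual.HD A K i)) →
        DerCA.IsRelPseudoCoherentAll R A K) := by
  obtain ⟨k, α, hα⟩ := exists_presentation (R := R) (A := A)
  obtain ⟨b, hb⟩ := hb
  have hql := hql_finFree (MvPolynomial (Fin k) R)
  have hqs := hqs_finFree (MvPolynomial (Fin k) R)
  have hsum := finFree_prod (MvPolynomial (Fin k) R)
  have key : ∀ n : ℤ, (∀ i : ℤ, DerCA.IsRelPseudoCoherentModule R A (n - i) (Dual.HD A K i)) →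
      DerCA.IsRelPseudoCoherent R A n K := by
    intro n h
    rw [rel_iff_isNPC α hα]
    refine isNPC_of_homology _ hql hsum hqs n (b - n + 1).toNat _ (fun i hi => ?_) (fun i _ => ?_)
    · have hi' : b < i := by omega
      have := hb i hi'
      refine IsZero.of_iso ?_ (Groth.Agent.H28.PCohDescent.homologyMapDerivedIso
        (ModuleCat.restrictScalars (α : MvPolynomial (Fin k) R →+* A)) K i)
      exact (ModuleCat.restrictScalars _).map_isZero (ModuleCat.isZero_of_subsingleton _)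
    · have h' := (rel_iff_isNPC α hα _).1 (h i)
      refine IsNPC.of_iso _ h' (restrictDSingleIso _ _ ≪≫
        (DerivedCategory.singleFunctor _ 0).mapIso
          (Groth.Agent.H28.PCohDescent.homologyMapDerivedIso
            (ModuleCat.restrictScalars (α : MvPolynomial (Fin k) R →+* A)) K i).symm)
  exact ⟨key m, fun h n => key n (fun i => h i (n - i))⟩

end Groth.Agent.H35.RelPC
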