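import Mathlib
import Groth.Agent.H35.RelPCLib

/-!
# Relative pseudo-coherence: modules and the Noetherian case (helper35)
-/

open CategoryTheory Limits Pretriangulated

open scoped ZeroObject

namespace Groth.Agent.H35.RelPC

universe u

open Groth.Agent.H28 Groth.Agent.H28.PCohCore Groth.Agent.H28.PCohDer Groth.Agent.H28.PCohSum
  Groth.Agent.H28.PCohDev Groth.Agent.H28.PCohSES Groth.Agent.H28.PCohTri
  Groth.Agent.H28.PCohRing DerivedCategory

attribute [local instance] HasDerivedCategory.standard

section Finite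

variable {P A : Type u} [CommRing P] [CommRing A] (φ : P →+* A)

lemma finite_restrict_of_surjective (hφ : Function.Surjective φ) (M : ModuleCat.{u} A)
    (h : Module.Finite A M) : Module.Finite P ((ModuleCat.restrictScalars φ).obj M) := by
  obtain ⟨S, hS⟩ := h
  let S' : Finset ((ModuleCat.restrictScalars φ).obj M) := S
  refine ⟨⟨S', ?_⟩⟩
  rw [eq_top_iff]
  intro x _
  have key : ∀ y : M, y ∈ Submodule.span A (S : Set M) →
      (show (ModuleCat.restrictScalars φ).obj M from y) ∈
        Submodule.span P (S' : Set ((ModuleCat.restrictScalars φ).obj M)) := by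
    intro y hy
    induction hy using Submodule.span_induction with
    | mem y hy => exact Submodule.subset_span hy
    | zero => exact Submodule.zero_mem _
    | add y z _ _ hy hz => exact Submodule.add_mem _ hy hz
    | smul a y _ hy =>
      obtain ⟨p, rfl⟩ := hφ a
      exact Submodule.smul_mem _ p hy
  exact key x (by rw [hS]; trivial)

lemma finite_restrict_iff_of_surjective (hφ : Function.Surjective φ) (M : ModuleCat.{u} A) :
    Module.Finite P ((ModuleCat.restrictScalars φ).obj M) ↔ Module.Finite A M :=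
  ⟨Groth.Agent.H28.PCohRestrict.finite_of_finite_restrict φ M,
    finite_restrict_of_surjective φ hφ M⟩

end Finite

variable {R A : Type u} [CommRing R] [CommRing A] [Algebra R A]

/-- relative pseudo-coherence of a module, via a presentation -/
lemma relModule_iff_isNPC {n : ℤ} {k : ℕ} (α : MvPolynomial (Fin k) R →ₐ[R] A)
    (hα : Function.Surjective α) (M : ModuleCat.{u} A) :
    DerCA.IsRelPseudoCoherentModule R A n M ↔
      IsNPC (finFree (MvPolynomial (Fin k) R)) n
        ((DerivedCategory.singleFunctor (ModuleCat.{u} (MvPolynomial (Fin k) R)) 0).obj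
          ((ModuleCat.restrictScalars (α : MvPolynomial (Fin k) R →+* A)).obj M)) := by
  unfold DerCA.IsRelPseudoCoherentModule
  rw [rel_iff_isNPC α hα]
  exact ⟨fun h => IsNPC.of_iso _ h (restrictDSingleIso _ M),
    fun h => IsNPC.of_iso _ h (restrictDSingleIso _ M).symm⟩

/-- S7021 -/
theorem isRelPseudoCoherentModule_zero_iff {n : ℕ} (α : MvPolynomial (Fin n) R →ₐ[R] A)
    (hα : Function.Surjective α) (M : Type u) [AddCommGroup M] [Module A M] :
    (DerCA.IsRelPseudoCoherentModule R A 0 M ↔ Module.Finite A M) ∧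
      (DerCA.IsRelPseudoCoherentModule R A (-1) M ↔
        @Module.FinitePresentation (MvPolynomial (Fin n) R) M _ _
          (Module.compHom M α.toRingHom)) := by
  constructor
  · rw [relModule_iff_isNPC α hα (ModuleCat.of A M), isNPC_zero_single_iff]
    exact finite_restrict_iff_of_surjective _ hα (ModuleCat.of A M)
  · rw [relModule_iff_isNPC α hα (ModuleCat.of A M), isNPC_negOne_single_iff]
    exact Iff.rfl

/-- S7026 -/
theorem isRelPseudoCoherent_iff_of_isNoetherianRing [IsNoetherianRing R] [Algebra.FiniteType R A]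
    (m : ℤ) (K : Dual.D A) (M : Type u) [AddCommGroup M] [Module A M] :
    (DerCA.IsRelPseudoCoherent R A m K ↔
      (∃ b : ℤ, ∀ i : ℤ, b < i → Subsingleton (Dual.HD A K i)) ∧
        ∀ i : ℤ, m ≤ i → Module.Finite A (Dual.HD A K i)) ∧
    (DerCA.IsRelPseudoCoherentAll R A K ↔
      (∃ b : ℤ, ∀ i : ℤ, b < i → Subsingleton (Dual.HD A K i)) ∧
        ∀ i : ℤ, Module.Finite A (Dual.HD A K i)) ∧
    (DerCA.IsRelPseudoCoherentModuleAll R A M ↔ Module.Finite A M) := by
  obtain ⟨k, α, hα⟩ := exists_presentation (R := R) (A := A)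
  let φ : MvPolynomial (Fin k) R →+* A := (α : MvPolynomial (Fin k) R →+* A)
  have hφ : Function.Surjective φ := hα
  have hzero : ∀ i : ℤ, IsZero ((DerivedCategory.homologyFunctor _ i).obj
      ((DRing.restrictD φ).obj K)) ↔ Subsingleton (Dual.HD A K i) := by
    intro i
    rw [(Groth.Agent.H28.PCohDescent.homologyMapDerivedIso
      (ModuleCat.restrictScalars φ) K i).isZero_iff, ModuleCat.isZero_iff_subsingleton]
    exact Iff.rfl
  have hfin : ∀ i : ℤ, Module.Finite (MvPolynomial (Fin k) R)
      ((DerivedCategory.homologyFunctor (ModuleCat.{u} (MvPolynomial (Fin k) R)) i).obj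
        ((DRing.restrictD φ).obj K)) ↔
      Module.Finite A (Dual.HD A K i) := by
    intro i
    rw [← finite_restrict_iff_of_surjective φ hφ]
    let e := (Groth.Agent.H28.PCohDescent.homologyMapDerivedIso
      (ModuleCat.restrictScalars φ) K i).toLinearEquiv
    exact ⟨fun _ => Module.Finite.equiv e, fun _ => Module.Finite.equiv e.symm⟩
  have key : ∀ n : ℤ, DerCA.IsRelPseudoCoherent R A n K ↔
      (∃ b : ℤ, ∀ i : ℤ, b < i → Subsingleton (Dual.HD A K i)) ∧
        ∀ i : ℤ, n ≤ i → Module.Finite A (Dual.HD A K i) := by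
    intro n
    rw [rel_iff_isNPC α hα, isNPC_iff_of_noetherian]
    constructor
    · rintro ⟨⟨b, hb⟩, hf⟩
      exact ⟨⟨b, fun i hi => (hzero i).1 (hb i hi)⟩, fun i hi => (hfin i).1 (hf i hi)⟩
    · rintro ⟨⟨b, hb⟩, hf⟩
      exact ⟨⟨b, fun i hi => (hzero i).2 (hb i hi)⟩, fun i hi => (hfin i).2 (hf i hi)⟩
  refine ⟨key m, ?_, ?_⟩
  · constructor
    · intro h
      exact ⟨((key 0).1 (h 0)).1, fun i => ((key i).1 (h i)).2 i le_rfl⟩
    · rintro ⟨hb, hf⟩ n
      exact (key n).2 ⟨hb, fun i _ => hf i⟩
  · constructor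
    · intro h
      have h0 : DerCA.IsRelPseudoCoherentModule R A 0 M := h 0
      exact (isRelPseudoCoherentModule_zero_iff α hα M).1.1 h0
    · intro h n
      change DerCA.IsRelPseudoCoherentModule R A n M
      rw [relModule_iff_isNPC α hα (ModuleCat.of A M)]
      exact isPC_single_of_finite_of_noetherian _ _
        (finite_restrict_of_surjective φ hφ (ModuleCat.of A M) h) n

end Groth.Agent.H35.RelPC
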