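import Mathlib
import Groth.Agent.H35.RelPCLib2
import Groth.Agent.H35.FlatBaseChangeD
import Groth.Agent.H35.RelPerfectTri

/-!
# Pseudo-coherence of `A[y]` over `P[y]` and transitivity of relative pseudo-coherence (helper35)
-/

open CategoryTheory Limits Pretriangulated

open scoped ZeroObject

namespace Groth.Agent.H35.RelPC

universe u

open Groth.Agent.H28 Groth.Agent.H28.PCohCore Groth.Agent.H28.PCohDer Groth.Agent.H28.PCohSum
  Groth.Agent.H28.PCohDev Groth.Agent.H28.PCohSES Groth.Agent.H28.PCohTri
  Groth.Agent.H28.PCohRing DerivedCategory TensorProduct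

attribute [local instance] HasDerivedCategory.standard

section PolyBC

variable {P A : Type u} [CommRing P] [CommRing A] [Algebra P A] (t : ℕ)

lemma polyTensor_smul (q : MvPolynomial (Fin t) P) (x : MvPolynomial (Fin t) P ⊗[P] A) :
    MvPolynomial.algebraTensorAlgEquiv P A (TensorProduct.comm P _ _ (q • x)) =
      MvPolynomial.map (algebraMap P A) q *
        MvPolynomial.algebraTensorAlgEquiv P A (TensorProduct.comm P _ _ x) := by
  induction x using TensorProduct.induction_on with
  | zero => simp
  | tmul q' a =>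
    rw [TensorProduct.smul_tmul', smul_eq_mul, TensorProduct.comm_tmul, TensorProduct.comm_tmul,
      MvPolynomial.algebraTensorAlgEquiv_tmul, MvPolynomial.algebraTensorAlgEquiv_tmul, map_mul,
      mul_smul_comm]
  | add x y hx hy =>
    rw [smul_add, map_add, map_add, hx, hy, map_add, map_add, mul_add]

/-- `P[y] ⊗_P A ≃ A[y]`, linear over `P[y]`. -/
noncomputable def polyTensorEquiv :
    (MvPolynomial (Fin t) P ⊗[P] A) ≃ₗ[MvPolynomial (Fin t) P]
      ((ModuleCat.restrictScalars
        (MvPolynomial.map (algebraMap P A) :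
          MvPolynomial (Fin t) P →+* MvPolynomial (Fin t) A)).obj
        (ModuleCat.of (MvPolynomial (Fin t) A) (MvPolynomial (Fin t) A))) where
  toFun x := MvPolynomial.algebraTensorAlgEquiv P A (TensorProduct.comm P _ _ x)
  invFun y := (TensorProduct.comm P _ _).symm
    ((MvPolynomial.algebraTensorAlgEquiv P A).symm (show MvPolynomial (Fin t) A from y))
  map_add' x y := by
    rw [map_add, map_add]
    rfl
  map_smul' q x := by
    refine (polyTensor_smul t q x).trans ?_
    rfl
  left_inv x := by
    change (TensorProduct.comm P _ _).symm ((MvPolynomial.algebraTensorAlgEquiv P A).symm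
      (MvPolynomial.algebraTensorAlgEquiv P A (TensorProduct.comm P _ _ x))) = x
    rw [AlgEquiv.symm_apply_apply, LinearEquiv.symm_apply_apply]
  right_inv y := by
    change MvPolynomial.algebraTensorAlgEquiv P A (TensorProduct.comm P _ _
      ((TensorProduct.comm P _ _).symm ((MvPolynomial.algebraTensorAlgEquiv P A).symm
        (show MvPolynomial (Fin t) A from y)))) = y
    rw [LinearEquiv.apply_symm_apply, AlgEquiv.apply_symm_apply]

/-- If `A` is a pseudo-coherent `P`-module, then `A[y]` is a pseudo-coherent `P[y]`-module. -/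
theorem isNPC_single_mvPolynomial_map
    (h : ∀ a : ℤ, IsNPC (finFree P) a ((DerivedCategory.singleFunctor (ModuleCat.{u} P) 0).obj
      ((ModuleCat.restrictScalars (algebraMap P A)).obj (ModuleCat.of A A))))
    (a : ℤ) :
    IsNPC (finFree (MvPolynomial (Fin t) P)) a
      ((DerivedCategory.singleFunctor (ModuleCat.{u} (MvPolynomial (Fin t) P)) 0).obj
        ((ModuleCat.restrictScalars
          (MvPolynomial.map (algebraMap P A) :
            MvPolynomial (Fin t) P →+* MvPolynomial (Fin t) A)).obj
          (ModuleCat.of (MvPolynomial (Fin t) A) (MvPolynomial (Fin t) A)))) := by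
  have h1 : DRing.IsPseudoCoherent' P (Dual.inD P A) := by
    rw [isPseudoCoherent'_iff]
    intro a
    exact IsNPC.of_iso _ (h a) ((DerivedCategory.singleFunctor _ 0).mapIso
      (Groth.Agent.H28.PCohRestrict.algebraRestrictIso P A).symm)
  have h2 := Groth.Agent.H35.LT.isPseudoCoherent'_mapDerivedCategory_extendScalars
    (A := P) (B := MvPolynomial (Fin t) P) _ h1
  have h3 : DRing.IsPseudoCoherent' (MvPolynomial (Fin t) P)
      (Dual.inD (MvPolynomial (Fin t) P) (MvPolynomial (Fin t) P ⊗[P] A)) :=
    Groth.Agent.H35.KF.isPseudoCoherent'_of_iso _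
      (Groth.Agent.H35.LT.inDBaseChangeIso (A := P) (B := MvPolynomial (Fin t) P) A) h2
  rw [isPseudoCoherent'_iff] at h3
  exact IsNPC.of_iso _ (h3 a) ((DerivedCategory.singleFunctor _ 0).mapIso
    (polyTensorEquiv t).toModuleIso)

end PolyBC

section Trans

variable {R A B : Type u} [CommRing R] [CommRing A] [CommRing B] [Algebra R A] [Algebra A B]
  [Algebra R B] [IsScalarTower R A B]

/-- S6985, one degree: transitivity of relative pseudo-coherence along `R → A → B` when `A` is
pseudo-coherent relative to `R`. -/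
theorem isRelPseudoCoherent_iff_of_intermediate [Algebra.FiniteType R A] [Algebra.FiniteType A B]
    (hA : DerCA.IsRelPseudoCoherentModuleAll R A A) (K : Dual.D B) (m : ℤ) :
    DerCA.IsRelPseudoCoherent A B m K ↔ DerCA.IsRelPseudoCoherent R B m K := by
  obtain ⟨n, α, hα⟩ := exists_presentation (R := R) (A := A)
  obtain ⟨t, β, hβ⟩ := exists_presentation (R := A) (A := B)
  let P := MvPolynomial (Fin n) R
  let _ : Algebra P A := (α : P →+* A).toAlgebra
  let μ : MvPolynomial (Fin t) P →+* MvPolynomial (Fin t) A := MvPolynomial.map (algebraMap P A)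
  have hA' : ∀ a : ℤ, IsNPC (finFree P) a
      ((DerivedCategory.singleFunctor (ModuleCat.{u} P) 0).obj
        ((ModuleCat.restrictScalars (algebraMap P A)).obj (ModuleCat.of A A))) := fun a =>
    IsNPC.of_iso _ ((rel_iff_isNPC α hα _).1 (hA a)) (restrictDSingleIso _ _)
  have hC1 := isNPC_single_mvPolynomial_map (P := P) (A := A) t hA'
  let e : MvPolynomial (Fin (t + n)) R ≃ₐ[R] MvPolynomial (Fin t) P :=
    (MvPolynomial.renameEquiv R finSumFinEquiv.symm).trans
      (MvPolynomial.sumAlgEquiv R (Fin t) (Fin n))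
  let μ' : MvPolynomial (Fin t) P →ₐ[R] MvPolynomial (Fin t) A := MvPolynomial.mapAlgHom α
  let γ : MvPolynomial (Fin (t + n)) R →ₐ[R] B :=
    ((β.restrictScalars R).comp μ').comp e.toAlgHom
  have hμ : Function.Surjective μ := MvPolynomial.map_surjective _ hα
  have hγ : Function.Surjective γ := (hβ.comp hμ).comp e.surjective
  rw [isRelPseudoCoherent_iff_via β hβ m K, isRelPseudoCoherent_iff_via γ hγ m K]
  have h1 : PCvia ((β : MvPolynomial (Fin t) A →+* B).comp μ) m K ↔
      PCvia (β : MvPolynomial (Fin t) A →+* B) m K :=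
    pcvia_comp_iff μ hC1 (β : MvPolynomial (Fin t) A →+* B) _ rfl m K
  have h2 : PCvia (γ : MvPolynomial (Fin (t + n)) R →+* B) m K ↔
      PCvia ((β : MvPolynomial (Fin t) A →+* B).comp μ) m K := by
    refine pcvia_ringEquiv e.toRingEquiv _ _ ?_ m K
    apply RingHom.ext
    intro x
    change β (μ' (e x)) = β (μ (e x))
    rfl
  exact h1.symm.trans h2.symm

end Trans

end Groth.Agent.H35.RelPC
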