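import Mathlib
import Groth.Agent.H35.RelPCPoly

/-!
# Relative pseudo-coherence and finite ring maps (helper35)
-/

open CategoryTheory Limits Polynomial

open scoped ZeroObject

namespace Groth.Agent.H35.RelPC

universe u

open Groth.Agent.H28 Groth.Agent.H28.PCohCore Groth.Agent.H28.PCohDer Groth.Agent.H28.PCohSum
  Groth.Agent.H28.PCohDev Groth.Agent.H28.PCohSES Groth.Agent.H28.PCohTri
  Groth.Agent.H28.PCohRing DerivedCategory

attribute [local instance] HasDerivedCategory.standard

section AdjoinRootPC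

variable (B : Type u) [CommRing B] (g : B[X])

/-- `AdjoinRoot g` as a `B[X]`-module -/
noncomputable abbrev Mg : ModuleCat.{u} B[X] :=
  (ModuleCat.restrictScalars (AdjoinRoot.mk g)).obj (ModuleCat.of (AdjoinRoot g) (AdjoinRoot g))

/-- multiplication by `g` -/
noncomputable def mulg : ModuleCat.of B[X] B[X] ⟶ ModuleCat.of B[X] B[X] :=
  ModuleCat.ofHom (LinearMap.mulLeft B[X] g)

/-- the quotient map as a `B[X]`-linear map -/
noncomputable def mkg : ModuleCat.of B[X] B[X] ⟶ Mg B g := by
  let inst₂ : Module B[X] (AdjoinRoot g) := Module.compHom (AdjoinRoot g) (AdjoinRoot.mk g)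
  let f : @LinearMap B[X] B[X] _ _ (RingHom.id B[X]) B[X] (AdjoinRoot g) _ _ _ inst₂ :=
    @LinearMap.mk B[X] B[X] _ _ (RingHom.id B[X]) B[X] (AdjoinRoot g) _ _ _ inst₂
      ⟨fun p => AdjoinRoot.mk g p, fun p q => map_add _ p q⟩
      (fun q p => by
        change AdjoinRoot.mk g (q * p) = AdjoinRoot.mk g q * AdjoinRoot.mk g p
        exact map_mul _ _ _)
  exact @ModuleCat.ofHom B[X] _ B[X] (AdjoinRoot g) _ _ _ inst₂ f

lemma mkg_apply (p : B[X]) : (mkg B g).hom p = AdjoinRoot.mk g p := rfl

lemma mulg_apply (p : B[X]) : (mulg B g).hom p = g * p := rfl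

lemma mulg_mkg : mulg B g ≫ mkg B g = 0 := by
  refine ModuleCat.hom_ext (LinearMap.ext fun p => ?_)
  change AdjoinRoot.mk g (g * p) = 0
  rw [AdjoinRoot.mk_eq_zero]
  exact dvd_mul_right g p

/-- the short exact sequence `0 ⟶ B[X] ⟶ B[X] ⟶ B[X]/(g) ⟶ 0` -/
noncomputable def scg : ShortComplex (ModuleCat.{u} B[X]) :=
  ShortComplex.mk (mulg B g) (mkg B g) (mulg_mkg B g)

variable {g} in
lemma scg_shortExact (hg : g.Monic) : (scg B g).ShortExact := by
  have hmono : Mono (scg B g).f := by
    rw [ModuleCat.mono_iff_injective]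
    intro p q hpq
    exact hg.isRegular.left hpq
  have hepi : Epi (scg B g).g := by
    rw [ModuleCat.epi_iff_surjective]
    intro r
    obtain ⟨p, hp⟩ := AdjoinRoot.mk_surjective (g := g) (show AdjoinRoot g from r)
    exact ⟨p, hp⟩
  refine ShortComplex.ShortExact.mk ?_
  rw [ShortComplex.moduleCat_exact_iff]
  intro p hp
  have hp' : AdjoinRoot.mk g (show B[X] from p) = 0 := hp
  rw [AdjoinRoot.mk_eq_zero] at hp'
  obtain ⟨q, hq⟩ := hp'
  exact ⟨q, hq.symm⟩

variable {g} in
/-- `B[X]/(g)` is a pseudo-coherent `B[X]`-module for `g` monic -/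
lemma isNPC_single_Mg (hg : g.Monic) (a : ℤ) :
    IsNPC (finFree B[X]) a ((DerivedCategory.singleFunctor (ModuleCat.{u} B[X]) 0).obj (Mg B g)) := by
  have hX : finFree B[X] (ModuleCat.of B[X] B[X]) :=
    ⟨inferInstanceAs (Module.Finite B[X] B[X]), inferInstanceAs (Module.Free B[X] B[X])⟩
  have hS := scg_shortExact B hg
  exact isNPC_obj₃ _ (hql_finFree B[X]) (finFree_prod B[X]) (hqs_finFree B[X]) hS.singleTriangle
    hS.singleTriangle_distinguished (PCohCoh.isNPC_single_of_mem _ (a + 1) _ hX)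
    (PCohCoh.isNPC_single_of_mem _ a _ hX)

variable {g} in
/-- `B[X]/(g)` is a finite free `B`-module for `g` monic -/
lemma isNPC_single_adjoinRoot_of (hg : g.Monic) (a : ℤ) :
    IsNPC (finFree B) a ((DerivedCategory.singleFunctor (ModuleCat.{u} B) 0).obj
      ((ModuleCat.restrictScalars (AdjoinRoot.of g)).obj
        (ModuleCat.of (AdjoinRoot g) (AdjoinRoot g)))) := by
  have h1 : finFree B (ModuleCat.of B (AdjoinRoot g)) :=
    ⟨hg.finite_adjoinRoot, hg.free_adjoinRoot⟩
  exact IsNPC.of_iso _ (PCohCoh.isNPC_single_of_mem _ a _ h1)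
    ((DerivedCategory.singleFunctor _ 0).mapIso
      (Groth.Agent.H28.PCohRestrict.algebraRestrictIso B (AdjoinRoot g)))

end AdjoinRootPC

section ViaInt

variable {A : Type u} [CommRing A]

/-- One variable: if `δ X` is integral over the image of `γ`, pseudo-coherence over `B[X]` via `δ`
and over `B` via `γ` agree. -/
lemma pcvia_polynomial_of_integral {B : Type u} [CommRing B] (γ : B →+* A)
    (δ : B[X] →+* A) (h : δ.comp Polynomial.C = γ) (hint : γ.IsIntegralElem (δ X))
    (m : ℤ) (K : Dual.D A) : PCvia δ m K ↔ PCvia γ m K := by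
  obtain ⟨g, hg, hroot⟩ := hint
  let δb : AdjoinRoot g →+* A := AdjoinRoot.lift γ (δ X) hroot
  have h1 : δ = δb.comp (AdjoinRoot.mk g) := by
    apply Polynomial.ringHom_ext
    · intro a
      rw [RingHom.comp_apply, AdjoinRoot.lift_mk, Polynomial.eval₂_C, ← h, RingHom.comp_apply]
    · rw [RingHom.comp_apply, AdjoinRoot.lift_mk, Polynomial.eval₂_X]
  have h2 : γ = δb.comp (AdjoinRoot.of g) := (AdjoinRoot.lift_comp_of _).symm
  rw [pcvia_comp_iff (AdjoinRoot.mk g) (isNPC_single_Mg B hg) δb δ h1 m K,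
    pcvia_comp_iff (AdjoinRoot.of g) (isNPC_single_adjoinRoot_of B hg) δb γ h2 m K]

lemma isIntegralElem_comp_C {B : Type u} [CommRing B] {σ : Type*}
    (δ : MvPolynomial σ B →+* A) (x : A)
    (hx : (δ.comp MvPolynomial.C).IsIntegralElem x) : δ.IsIntegralElem x := by
  obtain ⟨p, hp, hpx⟩ := hx
  refine ⟨p.map MvPolynomial.C, hp.map _, ?_⟩
  rw [Polynomial.eval₂_map]
  exact hpx

lemma pcvia_mvPolynomial_of_integral (k : ℕ) : ∀ {B : Type u} [CommRing B] (γ : B →+* A)
    (δ : MvPolynomial (Fin k) B →+* A) (_ : δ.comp MvPolynomial.C = γ)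
    (_ : ∀ i, γ.IsIntegralElem (δ (MvPolynomial.X i))) (m : ℤ) (K : Dual.D A),
    PCvia δ m K ↔ PCvia γ m K := by
  induction k with
  | zero =>
    intro B _ γ δ h _ m K
    refine (pcvia_ringEquiv (MvPolynomial.isEmptyRingEquiv B (Fin 0)).symm δ γ ?_ m K).symm
    rw [MvPolynomial.isEmptyRingEquiv_symm_toRingHom, h]
  | succ k ih =>
    intro B _ γ δ h hint m K
    let e : MvPolynomial (Fin (k + 1)) B ≃+* Polynomial (MvPolynomial (Fin k) B) :=
      (MvPolynomial.finSuccEquiv B k).toRingEquiv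
    let δ' : Polynomial (MvPolynomial (Fin k) B) →+* A := δ.comp e.symm.toRingHom
    let δ'' : MvPolynomial (Fin k) B →+* A := δ'.comp Polynomial.C
    have h'' : δ''.comp MvPolynomial.C = γ := by
      ext b
      change δ (e.symm (Polynomial.C (MvPolynomial.C b))) = γ b
      have h1 : (Polynomial.C (MvPolynomial.C b) : Polynomial (MvPolynomial (Fin k) B)) =
          algebraMap B _ b := by
        rw [Polynomial.algebraMap_apply, MvPolynomial.algebraMap_eq]
      have h2 : e.symm (algebraMap B _ b) = algebraMap B _ b :=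
        (MvPolynomial.finSuccEquiv B k).symm.commutes b
      rw [h1, h2, MvPolynomial.algebraMap_eq, ← h]
      rfl
    have hX0 : δ' Polynomial.X = δ (MvPolynomial.X 0) := by
      change δ (e.symm Polynomial.X) = _
      congr 1
      rw [RingEquiv.symm_apply_eq]
      exact (MvPolynomial.finSuccEquiv_X_zero).symm
    have hXs : ∀ i : Fin k, δ'' (MvPolynomial.X i) = δ (MvPolynomial.X i.succ) := by
      intro i
      change δ (e.symm (Polynomial.C (MvPolynomial.X i))) = _
      congr 1
      rw [RingEquiv.symm_apply_eq]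
      exact (MvPolynomial.finSuccEquiv_X_succ).symm
    have h1 : PCvia δ m K ↔ PCvia δ' m K := by
      refine pcvia_ringEquiv e δ' δ ?_ m K
      apply RingHom.ext
      intro x
      change δ x = δ (e.symm (e x))
      rw [RingEquiv.symm_apply_apply]
    have hint' : δ''.IsIntegralElem (δ' Polynomial.X) := by
      rw [hX0]
      apply isIntegralElem_comp_C
      rw [h'']
      exact hint 0
    rw [h1, pcvia_polynomial_of_integral δ'' δ' rfl hint' m K]
    refine ih γ δ'' h'' (fun i => ?_) m K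
    rw [hXs]
    exact hint i.succ

end ViaInt

section FiniteMap

variable {R A B : Type u} [CommRing R] [CommRing A] [CommRing B] [Algebra R A] [Algebra A B]
  [Algebra R B] [IsScalarTower R A B]

/-- S6984, one degree: for a finite map `A → B` of finite type `R`-algebras, relative
pseudo-coherence over `B` and over `A` agree. -/
theorem isRelPseudoCoherent_iff_restrict_of_finite [Algebra.FiniteType R A] [Module.Finite A B]
    (K : Dual.D B) (m : ℤ) :
    DerCA.IsRelPseudoCoherent R B m K ↔
      DerCA.IsRelPseudoCoherent R A m ((DRing.restrictD (algebraMap A B)).obj K) := by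
  obtain ⟨n, α, hα⟩ := exists_presentation (R := R) (A := A)
  obtain ⟨t, β, hβ⟩ := exists_presentation (R := A) (A := B)
  let P := MvPolynomial (Fin n) R
  let μ : MvPolynomial (Fin t) P →+* MvPolynomial (Fin t) A :=
    MvPolynomial.map (α : P →+* A)
  let e : MvPolynomial (Fin (t + n)) R ≃ₐ[R] MvPolynomial (Fin t) P :=
    (MvPolynomial.renameEquiv R finSumFinEquiv.symm).trans
      (MvPolynomial.sumAlgEquiv R (Fin t) (Fin n))
  let μ' : MvPolynomial (Fin t) P →ₐ[R] MvPolynomial (Fin t) A := MvPolynomial.mapAlgHom α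
  let γ : MvPolynomial (Fin (t + n)) R →ₐ[R] B :=
    ((β.restrictScalars R).comp μ').comp e.toAlgHom
  have hμ : Function.Surjective μ := MvPolynomial.map_surjective _ hα
  have hγ : Function.Surjective γ := (hβ.comp hμ).comp e.surjective
  let δ : MvPolynomial (Fin t) P →+* B := (β : MvPolynomial (Fin t) A →+* B).comp μ
  let γ₀ : P →+* B := (algebraMap A B).comp (α : P →+* A)
  have hδC : δ.comp MvPolynomial.C = γ₀ := by
    apply RingHom.ext
    intro p
    change β (MvPolynomial.map (α : P →+* A) (MvPolynomial.C p)) = algebraMap A B (α p)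
    rw [MvPolynomial.map_C, ← MvPolynomial.algebraMap_eq, AlgHom.commutes]
    rfl
  have hint : ∀ i, γ₀.IsIntegralElem (δ (MvPolynomial.X i)) := by
    intro i
    have h0 : δ (MvPolynomial.X i) = β (MvPolynomial.X i) := by
      change β (MvPolynomial.map (α : P →+* A) (MvPolynomial.X i)) = _
      rw [MvPolynomial.map_X]
    rw [h0]
    obtain ⟨q, hq, hqx⟩ := Algebra.IsIntegral.isIntegral (R := A) (β (MvPolynomial.X i))
    obtain ⟨q', hq', -, hmonic⟩ := Polynomial.lifts_and_natDegree_eq_and_monic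
      (f := (α : P →+* A)) (p := q)
      ((Polynomial.mem_lifts _).2 (Polynomial.map_surjective _ hα q)) hq
    refine ⟨q', hmonic, ?_⟩
    rw [← Polynomial.eval₂_map, hq']
    exact hqx
  have h1 : PCvia δ m K ↔ PCvia γ₀ m K := pcvia_mvPolynomial_of_integral t γ₀ δ hδC hint m K
  have h2 : PCvia (γ : MvPolynomial (Fin (t + n)) R →+* B) m K ↔ PCvia δ m K := by
    refine pcvia_ringEquiv e.toRingEquiv _ _ ?_ m K
    apply RingHom.ext
    intro x
    change β (μ' (e x)) = β (μ (e x))
    rfl
  rw [isRelPseudoCoherent_iff_via γ hγ m K, isRelPseudoCoherent_iff_via α hα m _]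
  obtain ⟨i⟩ := nonempty_restrictD_comp_iso (α : P →+* A) (algebraMap A B) γ₀ rfl K
  exact h2.trans (h1.trans
    ⟨fun h => isPseudoCoherent_of_iso i m h, fun h => isPseudoCoherent_of_iso i.symm m h⟩)

end FiniteMap

end Groth.Agent.H35.RelPC
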