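import Mathlib
import Groth.Agent.H35.RelPCInt

/-!
# `B_b = B[X]/(bX - 1)` is a pseudo-coherent `B[X]`-module (helper35)
-/

open CategoryTheory Limits Polynomial

open scoped ZeroObject

namespace Groth.Agent.H35.RelPC

universe u

open Groth.Agent.H28 Groth.Agent.H28.PCohCore Groth.Agent.H28.PCohDer Groth.Agent.H28.PCohSum
  Groth.Agent.H28.PCohDev Groth.Agent.H28.PCohSES Groth.Agent.H28.PCohTri
  Groth.Agent.H28.PCohRing DerivedCategory

attribute [local instance] HasDerivedCategory.standard

section Regular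

variable (B : Type u) [CommRing B] (g : B[X])

variable {g} in
lemma scg_shortExact_of_regular (hg : IsLeftRegular g) : (scg B g).ShortExact := by
  have hmono : Mono (scg B g).f := by
    rw [ModuleCat.mono_iff_injective]
    intro p q hpq
    exact hg hpq
  have hepi : Epi (scg B g).g := by
    rw [ModuleCat.epi_iff_surjective]
    intro r
    obtain ⟨p, hp⟩ := AdjoinRoot.mk_surjective (g := g) (show AdjoinRoot g from r)
    exact ⟨p, hp⟩
  refine ShortComplex.ShortExact.mk ?_
  rw [ShortComplex.moduleCat_exact_iff]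
  intro p hp
  have hp' : AdjoinRoot.mk g (show B[X] from p) = 0 := hp
  rw [AdjoinRoot.mk_eq_zero] at hp'
  obtain ⟨q, hq⟩ := hp'
  exact ⟨q, hq.symm⟩

variable {g} in
/-- `B[X]/(g)` is a pseudo-coherent `B[X]`-module for `g` a nonzerodivisor -/
lemma isNPC_single_Mg_of_regular (hg : IsLeftRegular g) (a : ℤ) :
    IsNPC (finFree B[X]) a ((DerivedCategory.singleFunctor (ModuleCat.{u} B[X]) 0).obj (Mg B g)) := by
  have hX : finFree B[X] (ModuleCat.of B[X] B[X]) :=
    ⟨inferInstanceAs (Module.Finite B[X] B[X]), inferInstanceAs (Module.Free B[X] B[X])⟩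
  have hS := scg_shortExact_of_regular B hg
  exact isNPC_obj₃ _ (hql_finFree B[X]) (finFree_prod B[X]) (hqs_finFree B[X]) hS.singleTriangle
    hS.singleTriangle_distinguished (PCohCoh.isNPC_single_of_mem _ (a + 1) _ hX)
    (PCohCoh.isNPC_single_of_mem _ a _ hX)

/-- `bX - 1` is a nonzerodivisor of `B[X]`. -/
lemma isLeftRegular_C_mul_X_sub_one (b : B) : IsLeftRegular (C b * X - 1 : B[X]) := by
  have key : ∀ p : B[X], (C b * X - 1) * p = 0 → p = 0 := by
    intro p hp
    have h1 : C b * (X * p) = p := by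
      have : (C b * X - 1) * p = C b * (X * p) - p := by ring
      rw [this, sub_eq_zero] at hp
      exact hp
    have h2 : ∀ k : ℕ, p.coeff k = 0 := by
      intro k
      induction k with
      | zero =>
        rw [← h1, Polynomial.coeff_C_mul, Polynomial.coeff_X_mul_zero, mul_zero]
      | succ k ih =>
        rw [← h1, Polynomial.coeff_C_mul, Polynomial.coeff_X_mul, ih, mul_zero]
    exact Polynomial.ext (fun k => by rw [h2 k, Polynomial.coeff_zero])
  intro p q hpq
  have : (C b * X - 1) * (p - q) = 0 := by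
    rw [mul_sub]
    exact sub_eq_zero.2 hpq
  exact sub_eq_zero.1 (key _ this)

/-- the canonical surjection `B[X] → B_b`, `X ↦ 1/b` -/
noncomputable def psiAway (b : B) : B[X] →+* Localization.Away b :=
  ((Localization.awayEquivAdjoin b).symm : AdjoinRoot (C b * X - 1) →+* Localization.Away b).comp
    (AdjoinRoot.mk (C b * X - 1))

lemma psiAway_surjective (b : B) : Function.Surjective (psiAway B b) :=
  (Localization.awayEquivAdjoin b).symm.surjective.comp AdjoinRoot.mk_surjective

lemma psiAway_C (b : B) (c : B) : psiAway B b (C c) = algebraMap B (Localization.Away b) c := by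
  change (Localization.awayEquivAdjoin b).symm (AdjoinRoot.mk (C b * X - 1) (C c)) = _
  have : AdjoinRoot.mk (C b * X - 1) (C c) = algebraMap B (AdjoinRoot (C b * X - 1)) c := by
    rw [AdjoinRoot.mk_C]
    rfl
  rw [this, AlgEquiv.commutes]

lemma psiAway_X_mul (b : B) :
    algebraMap B (Localization.Away b) b * psiAway B b X = 1 := by
  rw [← psiAway_C, ← map_mul]
  have h1 : (C b * X : B[X]) = (C b * X - 1) + 1 := by ring
  rw [h1, map_add, map_one]
  have h2 : psiAway B b (C b * X - 1) = 0 := by
    change (Localization.awayEquivAdjoin b).symm (AdjoinRoot.mk (C b * X - 1) (C b * X - 1)) = 0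
    rw [AdjoinRoot.mk_self, map_zero]
  rw [h2, zero_add]

end Regular

section Via

variable {A : Type u} [CommRing A]

/-- Pseudo-coherence of `K ∈ D(A)` over `B_b` and over `B[X]` (via `X ↦ 1/b`) agree. -/
lemma pcvia_away {B : Type u} [CommRing B] (b : B) (γ' : Localization.Away b →+* A)
    (δ : B[X] →+* A) (h : δ = γ'.comp (psiAway B b)) (m : ℤ) (K : Dual.D A) :
    PCvia δ m K ↔ PCvia γ' m K := by
  let e : AdjoinRoot (C b * X - 1 : B[X]) ≃+* Localization.Away b :=
    (Localization.awayEquivAdjoin b).symm.toRingEquiv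
  have h1 : PCvia δ m K ↔ PCvia (γ'.comp e.toRingHom) m K :=
    pcvia_comp_iff (AdjoinRoot.mk (C b * X - 1))
      (isNPC_single_Mg_of_regular B (isLeftRegular_C_mul_X_sub_one B b)) _ δ (by rw [h]; rfl) m K
  have h2 : PCvia (γ'.comp e.toRingHom) m K ↔ PCvia γ' m K :=
    pcvia_ringEquiv e γ' _ rfl m K
  exact h1.trans h2

end Via

end Groth.Agent.H35.RelPC
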