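import Mathlib
import Groth.Agent.H35.AwayPC
import Groth.Agent.H35.BCSquareD
import Groth.Agent.H28.PCohFlat

set_option autoImplicit false

/-!
# The base change square for localizations (helper35)

`P → A`, `P → P' = P_G`, `A → A' = A_g` (`g` the image of `G`): for an `A`-module `M`,
`P' ⊗_P M ≅ A' ⊗_A M` as `P'`-modules, naturally in `M`.
-/

open CategoryTheory Limits TensorProduct

universe u

namespace Groth.Agent.H35.LocSq

open scoped ChangeOfRings

variable {P A P' A' : Type u} [CommRing P] [CommRing A] [CommRing P'] [CommRing A']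
  (γ : P →+* A) (ι : P →+* P') (κ : A →+* A') (γ' : P' →+* A')
  (hsq : γ'.comp ι = κ.comp γ)

/-- `M ↦ P' ⊗_P M` -/
noncomputable abbrev FL : ModuleCat.{u} A ⥤ ModuleCat.{u} P' :=
  ModuleCat.restrictScalars γ ⋙ ModuleCat.extendScalars.{u, u, u} ι

/-- `M ↦ A' ⊗_A M` viewed as a `P'`-module -/
noncomputable abbrev FR : ModuleCat.{u} A ⥤ ModuleCat.{u} P' :=
  ModuleCat.extendScalars.{u, u, u} κ ⋙ ModuleCat.restrictScalars γ'

/-- `m ↦ 1 ⊗ m`, `P`-linear -/
noncomputable def uMap (M : ModuleCat.{u} A) :
    (ModuleCat.restrictScalars γ).obj M ⟶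
      (ModuleCat.restrictScalars ι).obj ((FR κ γ').obj M) :=
  (ModuleCat.restrictScalars γ).map ((ModuleCat.extendRestrictScalarsAdj κ).unit.app M) ≫
    (ModuleCat.restrictScalarsComp'App γ κ (γ'.comp ι) hsq _).inv ≫
    (ModuleCat.restrictScalarsComp'App ι γ' (γ'.comp ι) rfl _).hom

include hsq in
lemma uMap_apply (M : ModuleCat.{u} A) (m : M) :
    (uMap γ ι κ γ' hsq M).hom m = ((1 : A') ⊗ₜ[A, κ] m : (ModuleCat.extendScalars κ).obj M) := by
  rfl

/-- the comparison map `P' ⊗_P M → A' ⊗_A M` -/
noncomputable def tau (M : ModuleCat.{u} A) : (FL γ ι).obj M ⟶ (FR κ γ').obj M :=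
  ((ModuleCat.extendRestrictScalarsAdj ι).homEquiv _ _).symm (uMap γ ι κ γ' hsq M)

lemma tau_one_tmul (M : ModuleCat.{u} A) (m : M) :
    (tau γ ι κ γ' hsq M).hom ((1 : P') ⊗ₜ[P, ι] (show (ModuleCat.restrictScalars γ).obj M from m)) =
      ((1 : A') ⊗ₜ[A, κ] m : (ModuleCat.extendScalars κ).obj M) := by
  have h := ModuleCat.extendRestrictScalarsAdj_homEquiv_apply (f := ι)
    (φ := tau γ ι κ γ' hsq M) (m := (show (ModuleCat.restrictScalars γ).obj M from m))
  rw [tau, Equiv.apply_symm_apply] at h
  exact h.symm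

lemma tau_naturality {M N : ModuleCat.{u} A} (f : M ⟶ N) :
    (FL γ ι).map f ≫ tau γ ι κ γ' hsq N = tau γ ι κ γ' hsq M ≫ (FR κ γ').map f := by
  apply ModuleCat.ExtendScalars.hom_ext
  intro m
  have h2 := tau_one_tmul γ ι κ γ' hsq M m
  refine (tau_one_tmul γ ι κ γ' hsq N (f.hom m)).trans ?_
  exact (congrArg ((ModuleCat.extendScalars κ).map f).hom h2).symm

section Bij

variable (G : P)
  (hP' : @IsLocalization.Away P _ G P' _ ι.toAlgebra)
  (hA' : @IsLocalization.Away A _ (γ G) A' _ κ.toAlgebra)

lemma tau_smul (M : ModuleCat.{u} A) (s : P') (x : (FL γ ι).obj M) :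
    (tau γ ι κ γ' hsq M).hom (s • x) =
      (show (ModuleCat.extendScalars κ).obj M from
        γ' s • (show (ModuleCat.extendScalars κ).obj M from (tau γ ι κ γ' hsq M).hom x)) :=
  (tau γ ι κ γ' hsq M).hom.map_smul s x

include hP' hA' in
lemma tau_bijective (M : ModuleCat.{u} A) : Function.Bijective (tau γ ι κ γ' hsq M).hom := by
  letI algP : Algebra P P' := ι.toAlgebra
  letI algA : Algebra A A' := κ.toAlgebra
  haveI : IsLocalization.Away G P' := hP'
  haveI : IsLocalization.Away (γ G) A' := hA'
  let N : ModuleCat.{u} P := (ModuleCat.restrictScalars γ).obj M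
  have hfP : IsLocalizedModule (Submonoid.powers G) (TensorProduct.mk P P' N 1) := inferInstance
  have hfA : IsLocalizedModule (Submonoid.powers (γ G)) (TensorProduct.mk A A' M 1) := inferInstance
  have actP : ∀ (s : P) (x : (FL γ ι).obj M),
      ι s • x = (show (FL γ ι).obj M from (s • (show TensorProduct P P' N from x))) := by
    intro s x
    refine TensorProduct.induction_on
      (motive := fun x : TensorProduct P P' N =>
        ι s • (show (FL γ ι).obj M from x) = (show (FL γ ι).obj M from s • x)) x ?_ ?_ ?_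
    · exact (smul_zero (A := (FL γ ι).obj M) (ι s)).trans
        (smul_zero (A := TensorProduct P P' N) s).symm
    · intro p n
      rfl
    · intro x y hx hy
      exact (smul_add (ι s) (show (FL γ ι).obj M from x) (show (FL γ ι).obj M from y)).trans
        ((congrArg₂ (· + ·) hx hy).trans (smul_add s x y).symm)
  have actA : ∀ (a : A) (y : (ModuleCat.extendScalars κ).obj M),
      κ a • y = (show (ModuleCat.extendScalars κ).obj M from
        (a • (show TensorProduct A A' M from y))) := by
    intro a y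
    refine TensorProduct.induction_on
      (motive := fun y : TensorProduct A A' M =>
        κ a • (show (ModuleCat.extendScalars κ).obj M from y) =
          (show (ModuleCat.extendScalars κ).obj M from a • y)) y ?_ ?_ ?_
    · exact (smul_zero (A := (ModuleCat.extendScalars κ).obj M) (κ a)).trans
        (smul_zero (A := TensorProduct A A' M) a).symm
    · intro p n
      rfl
    · intro x y hx hy
      exact (smul_add (κ a) (show (ModuleCat.extendScalars κ).obj M from x)
        (show (ModuleCat.extendScalars κ).obj M from y)).trans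
        ((congrArg₂ (· + ·) hx hy).trans (smul_add a x y).symm)
  have hG : ∀ k : ℕ, IsUnit (ι (G ^ k)) := fun k =>
    IsLocalization.map_units P' (⟨G ^ k, k, rfl⟩ : Submonoid.powers G)
  have hcomm : ∀ p : P, γ' (ι p) = κ (γ p) := fun p => DFunLike.congr_fun hsq p
  constructor
  · intro x x' hxx'
    have hx : (tau γ ι κ γ' hsq M).hom (x - x') = 0 := by
      rw [map_sub, hxx', sub_self]
    suffices h0 : x - x' = 0 from sub_eq_zero.1 h0
    generalize x - x' = z at hx
    obtain ⟨⟨n, ⟨_, k, rfl⟩⟩, hs⟩ := IsLocalizedModule.surj (Submonoid.powers G)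
      (TensorProduct.mk P P' N 1) (show TensorProduct P P' N from z)
    have h1 : ι (G ^ k) • z = (show (FL γ ι).obj M from (1 : P') ⊗ₜ[P, ι] n) :=
      (actP (G ^ k) z).trans hs
    have h2 : (tau γ ι κ γ' hsq M).hom ((1 : P') ⊗ₜ[P, ι] n) = 0 := by
      have := tau_smul γ ι κ γ' hsq M (ι (G ^ k)) z
      rw [h1, hx] at this
      exact this.trans (smul_zero (A := (ModuleCat.extendScalars κ).obj M) _)
    have h2' : (TensorProduct.mk A A' M 1) (show M from n) = 0 :=
      (tau_one_tmul γ ι κ γ' hsq M n).symm.trans h2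
    obtain ⟨⟨_, j, rfl⟩, ht⟩ := (IsLocalizedModule.eq_zero_iff (Submonoid.powers (γ G))
      (TensorProduct.mk A A' M 1)).mp h2'
    have h3 : (TensorProduct.mk P P' N 1) n = 0 := by
      refine (IsLocalizedModule.eq_zero_iff (Submonoid.powers G) _).mpr
        ⟨(⟨G ^ j, j, rfl⟩ : Submonoid.powers G), ?_⟩
      change γ (G ^ j) • (show M from n) = 0
      rw [map_pow]
      exact ht
    have h4 : ι (G ^ k) • (show (ModuleCat.extendScalars ι).obj N from z) =
        ι (G ^ k) • (0 : (ModuleCat.extendScalars ι).obj N) :=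
      (h1.trans h3).trans (smul_zero (A := (ModuleCat.extendScalars ι).obj N) _).symm
    exact (hG k).smul_left_cancel.mp h4
  · intro y
    obtain ⟨⟨n, ⟨_, k, rfl⟩⟩, ht⟩ := IsLocalizedModule.surj (Submonoid.powers (γ G))
      (TensorProduct.mk A A' M 1) (show TensorProduct A A' M from y)
    obtain ⟨v, hv⟩ := (hG k).exists_left_inv
    have h1 : (show (ModuleCat.extendScalars κ).obj M from (1 : A') ⊗ₜ[A, κ] n) =
        κ (γ G ^ k) • (show (ModuleCat.extendScalars κ).obj M from y) :=
      ht.symm.trans (actA (γ G ^ k) y).symm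
    have h2 : γ' v * κ (γ G ^ k) = 1 := by
      rw [← map_pow, ← hcomm, ← map_mul, hv, map_one]
    have e1 := tau_smul γ ι κ γ' hsq M v
      (show (ModuleCat.extendScalars ι).obj N from (1 : P') ⊗ₜ[P, ι] (show N from n))
    refine ⟨_, e1.trans ?_⟩
    have e3 : (show (ModuleCat.extendScalars κ).obj M from
        (tau γ ι κ γ' hsq M).hom ((1 : P') ⊗ₜ[P, ι] (show N from n))) =
        κ (γ G ^ k) • (show (ModuleCat.extendScalars κ).obj M from y) :=
      (tau_one_tmul γ ι κ γ' hsq M n).trans h1
    have e4 : γ' v • (κ (γ G ^ k) • (show (ModuleCat.extendScalars κ).obj M from y)) =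
        (show (ModuleCat.extendScalars κ).obj M from y) := by
      rw [smul_smul, h2, one_smul]
    exact (congrArg (fun w : (ModuleCat.extendScalars κ).obj M => γ' v • w) e3).trans e4

include hP' hA' in
lemma isIso_tau (M : ModuleCat.{u} A) : IsIso (tau γ ι κ γ' hsq M) := by
  have : IsIso ((forget (ModuleCat.{u} P')).map (tau γ ι κ γ' hsq M)) :=
    (isIso_iff_bijective _).mpr (tau_bijective γ ι κ γ' hsq G hP' hA' M)
  exact isIso_of_reflects_iso _ (forget (ModuleCat.{u} P'))

/-- `P' ⊗_P M ≅ A' ⊗_A M`, naturally in the `A`-module `M`. -/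
noncomputable def tauIso : FL γ ι ≅ FR κ γ' :=
  haveI := fun M => isIso_tau γ ι κ γ' hsq G hP' hA' M
  NatIso.ofComponents (fun M => asIso (tau γ ι κ γ' hsq M))
    (fun f => tau_naturality γ ι κ γ' hsq f)

end Bij

section Derived

open HomologicalComplex DerivedCategory Groth.Agent.H35.KFBC
  Groth.Agent.H28 Groth.Agent.H28.PCohDer Groth.Agent.H28.PCohRing Groth.Agent.H28.PCohFlat
  Groth.Agent.H28.PCohDescent

attribute [local instance] HasDerivedCategory.standard

variable (G : P)
  (hP' : @IsLocalization.Away P _ G P' _ ι.toAlgebra)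
  (hA' : @IsLocalization.Away A _ (γ G) A' _ κ.toAlgebra)

/-- Termwise: `P' ⊗_P restrict K ≅ restrict (A' ⊗_A K)`. -/
noncomputable def locCxIso (K : CochainComplex (ModuleCat.{u} A) ℤ) :
    extK ι (resL γ K) ≅ resL γ' (extK κ K) :=
  HomologicalComplex.Hom.isoOfComponents
    (fun i => (tauIso γ ι κ γ' hsq G hP' hA').app (K.X i))
    (fun i j _ => ((tauIso γ ι κ γ' hsq G hP' hA').hom.naturality (K.d i j)).symm)

include hsq hP' hA' in
/-- the localization square in derived categories -/
theorem nonempty_restrictD_extK_iso (K : CochainComplex (ModuleCat.{u} A) ℤ) :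
    Nonempty ((DRing.restrictD γ').obj (Q.obj (extK κ K)) ≅ Q.obj (extK ι (resL γ K))) :=
  ⟨(ModuleCat.restrictScalars γ').mapDerivedCategoryFactors.app _ ≪≫
    Q.mapIso (locCxIso γ ι κ γ' hsq G hP' hA' K).symm⟩

include hP' in
lemma flat_of_isLocalizationAway : ι.Flat := by
  letI : Algebra P P' := ι.toAlgebra
  haveI : IsLocalization.Away G P' := hP'
  exact IsLocalization.flat P' (Submonoid.powers G)

/-- flat base change preserves `m`-pseudo-coherence of complexes -/
theorem isNPC_extK_of_flat {B C : Type u} [CommRing B] [CommRing C] (φ : B →+* C) (hφ : φ.Flat)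
    (m : ℤ) (K : CochainComplex (ModuleCat.{u} B) ℤ) (h : IsNPC (finFree B) m (Q.obj K)) :
    IsNPC (finFree C) m (Q.obj (extK φ K)) := by
  haveI : PreservesFiniteLimits (ModuleCat.extendScalars.{u, u, u} φ) :=
    ModuleCat.preservesFiniteLimits_extendScalars_of_flat hφ
  have := isNPC_mapDerived (ModuleCat.extendScalars.{u, u, u} φ) (finFree B) (hql_finFree B)
    (finFree_prod B) (hqs_finFree B) (finFree C) (hql_finFree C) (finFree_prod C) (hqs_finFree C)
    (fun E hE a => PCohCoh.isNPC_single_of_mem (finFree C) a _ (finFree_extendScalars φ E hE))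
    m (Q.obj K) h
  exact IsNPC.of_iso _ this ((ModuleCat.extendScalars.{u, u, u} φ).mapDerivedCategoryFactors.app K)

end Derived

end Groth.Agent.H35.LocSq
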