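import Mathlib
import Groth.Agent.H35.LocSquare
import Groth.Agent.H35.RelPCLib2

/-!
# Relative pseudo-coherence and principal localization (helper35)
-/

set_option autoImplicit false

open CategoryTheory Limits Polynomial

namespace Groth.Agent.H35.RelPC

universe u

open Groth.Agent.H28 Groth.Agent.H28.PCohCore Groth.Agent.H28.PCohDer
  Groth.Agent.H28.PCohRing DerivedCategory Groth.Agent.H35.KFBC Groth.Agent.H35.LocSq

attribute [local instance] HasDerivedCategory.standard

section Star

variable {R A : Type u} [CommRing R] [CommRing A] [Algebra R A] {n : ℕ}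
  (α : MvPolynomial (Fin n) R →ₐ[R] A) (hα : Function.Surjective α)
  (G : MvPolynomial (Fin n) R)

/-- `P_G → A_g` -/
noncomputable abbrev gammaLoc :
    Localization.Away G →+* Localization.Away ((α : MvPolynomial (Fin n) R →+* A) G) :=
  Localization.awayMap (α : MvPolynomial (Fin n) R →+* A) G

lemma gammaLoc_comp :
    (gammaLoc α G).comp (algebraMap (MvPolynomial (Fin n) R) (Localization.Away G)) =
      (algebraMap A (Localization.Away ((α : MvPolynomial (Fin n) R →+* A) G))).comp
        (α : MvPolynomial (Fin n) R →+* A) :=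
  IsLocalization.map_comp _

include hα in
lemma gammaLoc_surjective : Function.Surjective (gammaLoc α G) := by
  rw [Localization.awayMap_surjective_iff]
  intro a
  obtain ⟨b, hb⟩ := hα a
  exact ⟨b, 0, by rw [pow_zero, one_mul]; exact hb⟩

/-- the presentation `R[x_1, …, x_n, y] → A_g`, as a ring hom from `P[X]` -/
noncomputable abbrev deltaLoc :
    (MvPolynomial (Fin n) R)[X] →+* Localization.Away ((α : MvPolynomial (Fin n) R →+* A) G) :=
  (gammaLoc α G).comp (psiAway (MvPolynomial (Fin n) R) G)

/-- the presentation `R[x_1, …, x_n, y] → A_g` -/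
noncomputable def betaLoc : MvPolynomial (Fin (n + 1)) R →ₐ[R]
    Localization.Away ((α : MvPolynomial (Fin n) R →+* A) G) :=
  { (deltaLoc α G).comp (MvPolynomial.finSuccEquiv R n : MvPolynomial (Fin (n + 1)) R →+*
      (MvPolynomial (Fin n) R)[X]) with
    commutes' := fun r => by
      change deltaLoc α G (MvPolynomial.finSuccEquiv R n (algebraMap R _ r)) = _
      rw [AlgEquiv.commutes, Polynomial.algebraMap_apply]
      change gammaLoc α G (psiAway _ G (Polynomial.C (algebraMap R _ r))) = _
      rw [psiAway_C]
      have h := DFunLike.congr_fun (gammaLoc_comp α G) (algebraMap R _ r)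
      rw [RingHom.comp_apply, RingHom.comp_apply] at h
      rw [h]
      change algebraMap A _ (α (algebraMap R _ r)) = _
      rw [AlgHom.commutes, ← IsScalarTower.algebraMap_apply] }

lemma betaLoc_coe : (betaLoc α G : MvPolynomial (Fin (n + 1)) R →+* _) =
    (deltaLoc α G).comp ((MvPolynomial.finSuccEquiv R n).toRingEquiv.toRingHom) := rfl

include hα in
lemma betaLoc_surjective : Function.Surjective (betaLoc α G) := by
  have h1 : Function.Surjective (deltaLoc α G) :=
    (gammaLoc_surjective α hα G).comp (psiAway_surjective _ G)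
  exact h1.comp (MvPolynomial.finSuccEquiv R n).surjective

include hα in
/-- (★) relative pseudo-coherence over `R` of objects of `D(A_g)`, through `P_G → A_g`. -/
theorem pcvia_gammaLoc_iff (m : ℤ)
    (K' : Dual.D (Localization.Away ((α : MvPolynomial (Fin n) R →+* A) G))) :
    PCvia (gammaLoc α G) m K' ↔
      DerCA.IsRelPseudoCoherent R (Localization.Away ((α : MvPolynomial (Fin n) R →+* A) G)) m K' := by
  have h1 : PCvia (deltaLoc α G) m K' ↔ PCvia (gammaLoc α G) m K' :=
    pcvia_away G (gammaLoc α G) (deltaLoc α G) rfl m K'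
  have h2 : PCvia (betaLoc α G : MvPolynomial (Fin (n + 1)) R →+* _) m K' ↔
      PCvia (deltaLoc α G) m K' :=
    pcvia_ringEquiv (MvPolynomial.finSuccEquiv R n).toRingEquiv (deltaLoc α G) _
      (betaLoc_coe α G) m K'
  have h3 : DerCA.IsRelPseudoCoherent R _ m K' ↔
      PCvia (betaLoc α G : MvPolynomial (Fin (n + 1)) R →+* _) m K' :=
    isRelPseudoCoherent_iff_via (betaLoc α G) (betaLoc_surjective α hα G) m K'
  exact h1.symm.trans (h2.symm.trans h3.symm)

lemma toAlgebra_algebraMap_eq {B C : Type u} [CommRing B] [CommRing C] [inst : Algebra B C] :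
    (algebraMap B C).toAlgebra = inst :=
  Algebra.algebra_ext _ _ (fun _ => rfl)

lemma isLocalizationAway_toAlgebra {B : Type u} [CommRing B] (b : B) :
    @IsLocalization.Away B _ b (Localization.Away b) _
      (algebraMap B (Localization.Away b)).toAlgebra := by
  rw [toAlgebra_algebraMap_eq]
  infer_instance

/-- the localization square for the presentation `α` and `G ↦ g` -/
theorem nonempty_restrictD_gammaLoc_iso (K : CochainComplex (ModuleCat.{u} A) ℤ) :
    Nonempty ((DRing.restrictD (gammaLoc α G)).obj
        (Q.obj (extK (algebraMap A (Localization.Away ((α : MvPolynomial (Fin n) R →+* A) G))) K)) ≅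
      Q.obj (extK (algebraMap (MvPolynomial (Fin n) R) (Localization.Away G))
        (resL (α : MvPolynomial (Fin n) R →+* A) K))) :=
  nonempty_restrictD_extK_iso (α : MvPolynomial (Fin n) R →+* A) _ _ (gammaLoc α G)
    (gammaLoc_comp α G) G (isLocalizationAway_toAlgebra G)
    (isLocalizationAway_toAlgebra ((α : MvPolynomial (Fin n) R →+* A) G)) K

include hα in
/-- (★★) `K_g` is `m`-pseudo-coherent relative to `R` iff `(K|_P)_G` is `m`-pseudo-coherent
over `P_G`. -/
theorem isRelPseudoCoherent_extK_iff (m : ℤ) (K : CochainComplex (ModuleCat.{u} A) ℤ) :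
    DerCA.IsRelPseudoCoherent R (Localization.Away ((α : MvPolynomial (Fin n) R →+* A) G)) m
        (Q.obj (extK (algebraMap A (Localization.Away ((α : MvPolynomial (Fin n) R →+* A) G))) K)) ↔
      IsNPC (finFree (Localization.Away G)) m
        (Q.obj (extK (algebraMap (MvPolynomial (Fin n) R) (Localization.Away G))
          (resL (α : MvPolynomial (Fin n) R →+* A) K))) := by
  obtain ⟨e⟩ := nonempty_restrictD_gammaLoc_iso α G K
  rw [← pcvia_gammaLoc_iff α hα G]
  unfold PCvia
  rw [isPseudoCoherent_iff_isNPC]
  exact ⟨fun h => IsNPC.of_iso _ h e, fun h => IsNPC.of_iso _ h e.symm⟩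

include hα in
/-- (L) localization preserves relative `m`-pseudo-coherence -/
theorem isRelPseudoCoherent_extK_of_via (m : ℤ) (K : CochainComplex (ModuleCat.{u} A) ℤ)
    (h : DerCA.IsRelPseudoCoherentVia α m (Q.obj K)) :
    DerCA.IsRelPseudoCoherent R (Localization.Away ((α : MvPolynomial (Fin n) R →+* A) G)) m
      (Q.obj (extK (algebraMap A (Localization.Away ((α : MvPolynomial (Fin n) R →+* A) G))) K)) := by
  rw [isRelPseudoCoherent_extK_iff α hα G]
  refine isNPC_extK_of_flat _ (flat_of_isLocalizationAway _ G (isLocalizationAway_toAlgebra G)) m _ ?_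
  have h' : IsNPC (finFree (MvPolynomial (Fin n) R)) m
      ((DRing.restrictD (α : MvPolynomial (Fin n) R →+* A)).obj (Q.obj K)) :=
    (isPseudoCoherent_iff_isNPC _ _ _).1 h
  exact IsNPC.of_iso _ h'
    ((ModuleCat.restrictScalars (α : MvPolynomial (Fin n) R →+* A)).mapDerivedCategoryFactors.app K)

end Star

section General

variable {R A : Type u} [CommRing R] [CommRing A] [Algebra R A]

/-- (L) localization preserves relative `m`-pseudo-coherence, any `g` -/
theorem isRelPseudoCoherent_away (g : A) (m : ℤ) (K : CochainComplex (ModuleCat.{u} A) ℤ)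
    (h : DerCA.IsRelPseudoCoherent R A m (Q.obj K)) :
    DerCA.IsRelPseudoCoherent R (Localization.Away g) m
      (Q.obj (extK (algebraMap A (Localization.Away g)) K)) := by
  obtain ⟨n, α, hα, hvia⟩ := h
  obtain ⟨G, hG⟩ := hα g
  have hG' : (α : MvPolynomial (Fin n) R →+* A) G = g := hG
  subst hG'
  exact isRelPseudoCoherent_extK_of_via α hα G m K hvia

/-- auxiliary: if `α` is bijective, `A_g` is pseudo-coherent relative to `R`. -/
lemma isRelPseudoCoherentModuleAll_away_aux {n : ℕ} (α : MvPolynomial (Fin n) R →ₐ[R] A)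
    (hα : Function.Bijective α) (G : MvPolynomial (Fin n) R) (g : A)
    (hg : (α : MvPolynomial (Fin n) R →+* A) G = g) :
    DerCA.IsRelPseudoCoherentModuleAll R (Localization.Away g) (Localization.Away g) := by
  subst hg
  intro m
  rw [← pcvia_gammaLoc_iff α hα.2 G]
  unfold PCvia
  rw [isPseudoCoherent_iff_isNPC]
  have hinj : Function.Injective (gammaLoc α G) := by
    rw [Localization.awayMap_injective_iff]
    intro a ha
    have : a = 0 := hα.1 (by rw [map_zero]; exact ha)
    exact ⟨0, by rw [this, mul_zero]⟩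
  let e : Localization.Away G ≃+* Localization.Away ((α : MvPolynomial (Fin n) R →+* A) G) :=
    RingEquiv.ofBijective (gammaLoc α G) ⟨hinj, gammaLoc_surjective α hα.2 G⟩
  exact IsNPC.of_iso _ (isNPC_single_ringEquiv e m) (restrictDSingleIso (gammaLoc α G) _).symm

/-- (T) `R_f` is pseudo-coherent relative to `R`. -/
theorem isRelPseudoCoherentModuleAll_away (f : R) :
    DerCA.IsRelPseudoCoherentModuleAll R (Localization.Away f) (Localization.Away f) :=
  isRelPseudoCoherentModuleAll_away_aux (A := R)
    (MvPolynomial.isEmptyAlgEquiv R (Fin 0) : MvPolynomial (Fin 0) R →ₐ[R] R)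
    (MvPolynomial.isEmptyAlgEquiv R (Fin 0)).bijective (MvPolynomial.C f) f
    (by
      change MvPolynomial.isEmptyAlgEquiv R (Fin 0) (MvPolynomial.C f) = f
      rw [← MvPolynomial.algebraMap_eq, AlgEquiv.commutes]
      rfl)

end General

end Groth.Agent.H35.RelPC
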