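import Mathlib
import Groth.Agent.H35.RelPCLoc

/-!
# Relative pseudo-coherence is Zariski local on the source ring (helper35)
-/

set_option autoImplicit false

open CategoryTheory Limits Polynomial

namespace Groth.Agent.H35.RelPC

universe u

open Groth.Agent.H28 Groth.Agent.H28.PCohCore Groth.Agent.H28.PCohDer
  Groth.Agent.H28.PCohRing DerivedCategory Groth.Agent.H35.KFBC Groth.Agent.H35.LocSq

attribute [local instance] HasDerivedCategory.standard

section Zero

variable {B : Type u} [CommRing B] (b : B)

lemma isZero_extendScalars_of_smul_eq_zero {C : Type u} [CommRing C] (φ : B →+* C)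
    (hloc : @IsLocalization.Away B _ b C _ φ.toAlgebra) (N : ModuleCat.{u} B)
    (hN : ∀ x : N, b • x = 0) :
    IsZero ((ModuleCat.extendScalars.{u, u, u} φ).obj N) := by
  letI alg : Algebra B C := φ.toAlgebra
  haveI : IsLocalization.Away b C := hloc
  have hlm : IsLocalizedModule (Submonoid.powers b) (TensorProduct.mk B C N 1) := inferInstance
  have h0 : ∀ x : TensorProduct B C N, x = 0 := by
    intro x
    obtain ⟨⟨n, s⟩, hs⟩ := IsLocalizedModule.surj (Submonoid.powers b)
      (TensorProduct.mk B C N 1) x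
    have h1 : (TensorProduct.mk B C N 1) n = 0 :=
      (IsLocalizedModule.eq_zero_iff (Submonoid.powers b) _).mpr
        ⟨(⟨b, 1, pow_one b⟩ : Submonoid.powers b), hN n⟩
    have h2 : s • x = s • (0 : TensorProduct B C N) := by
      rw [smul_zero]
      exact hs.trans h1
    exact IsLocalizedModule.smul_injective (TensorProduct.mk B C N 1) s h2
  haveI : Subsingleton ((ModuleCat.extendScalars.{u, u, u} φ).obj N) :=
    ⟨fun x y => (h0 (show TensorProduct B C N from x)).trans
      (h0 (show TensorProduct B C N from y)).symm⟩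
  exact ModuleCat.isZero_of_subsingleton _

lemma isZero_extendScalars_away_of_smul_eq_zero (N : ModuleCat.{u} B)
    (hN : ∀ x : N, b • x = 0) :
    IsZero ((ModuleCat.extendScalars.{u, u, u} (algebraMap B (Localization.Away b))).obj N) :=
  isZero_extendScalars_of_smul_eq_zero b _ (isLocalizationAway_toAlgebra b) N hN

lemma isNPC_of_isZero_X {C : Type u} [CommRing C] (Z : CochainComplex (ModuleCat.{u} C) ℤ)
    (hZ : ∀ i, IsZero (Z.X i)) (m : ℤ) : IsNPC (finFree C) m (Q.obj Z) :=
  ⟨Z, ⟨⟨0, fun i _ => hZ i⟩, fun i _ => (finFree C).prop_of_isZero (hZ i)⟩, ⟨Iso.refl _⟩⟩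

end Zero

section Cover

variable {R A : Type u} [CommRing R] [CommRing A] [Algebra R A]

/-- (★★) for a general `g` with a chosen lift `G`. -/
theorem isRelPseudoCoherent_extK_iff' {n : ℕ} (α : MvPolynomial (Fin n) R →ₐ[R] A)
    (hα : Function.Surjective α) (G : MvPolynomial (Fin n) R) (g : A)
    (hg : (α : MvPolynomial (Fin n) R →+* A) G = g) (m : ℤ)
    (K : CochainComplex (ModuleCat.{u} A) ℤ) :
    DerCA.IsRelPseudoCoherent R (Localization.Away g) m
        (Q.obj (extK (algebraMap A (Localization.Away g)) K)) ↔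
      IsNPC (finFree (Localization.Away G)) m
        (Q.obj (extK (algebraMap (MvPolynomial (Fin n) R) (Localization.Away G))
          (resL (α : MvPolynomial (Fin n) R →+* A) K))) := by
  subst hg
  exact isRelPseudoCoherent_extK_iff α hα G m K

/-- Relative `m`-pseudo-coherence can be checked on a finite principal open cover of `A`. -/
theorem isRelPseudoCoherent_of_cover [Algebra.FiniteType R A] {r : ℕ} (f : Fin r → A)
    (hf : Ideal.span (Set.range f) = ⊤) (m : ℤ) (K : CochainComplex (ModuleCat.{u} A) ℤ)
    (h : ∀ i, DerCA.IsRelPseudoCoherent R (Localization.Away (f i)) m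
      (Q.obj (extK (algebraMap A (Localization.Away (f i))) K))) :
    DerCA.IsRelPseudoCoherent R A m (Q.obj K) := by
  obtain ⟨n, α, hα⟩ := exists_presentation (R := R) (A := A)
  choose F hF using fun i => hα (f i)
  have h1 : (1 : A) ∈ Ideal.span (Set.range f) := by rw [hf]; trivial
  obtain ⟨c, hc⟩ := (Ideal.mem_span_range_iff_exists_fun).1 h1
  choose C hC using fun i => hα (c i)
  let h₀ : MvPolynomial (Fin n) R := 1 - ∑ i, C i * F i
  have hh₀ : α h₀ = 0 := by
    change α (1 - ∑ i, C i * F i) = 0
    rw [map_sub, map_one, map_sum]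
    simp only [map_mul, hC, hF]
    rw [hc, sub_self]
  let g' : Option (Fin r) → MvPolynomial (Fin n) R := fun o => o.elim h₀ F
  have hg' : Ideal.span (Set.range g') = ⊤ := by
    rw [Ideal.eq_top_iff_one]
    have e1 : (1 : MvPolynomial (Fin n) R) = h₀ + ∑ i, C i * F i := by
      change 1 = (1 - ∑ i, C i * F i) + ∑ i, C i * F i
      ring
    rw [e1]
    refine Ideal.add_mem _ (Ideal.subset_span ⟨none, rfl⟩) (Ideal.sum_mem _ fun i _ => ?_)
    exact Ideal.mul_mem_left _ _ (Ideal.subset_span ⟨some i, rfl⟩)
  rw [rel_iff_isNPC α hα]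
  refine IsNPC.of_iso _ ?_
    ((ModuleCat.restrictScalars (α : MvPolynomial (Fin n) R →+* A)).mapDerivedCategoryFactors.app
      K).symm
  refine Groth.Agent.H28.PCohFlat.isNPC_of_isNPC_extendScalars_away g' hg'
    (B := fun o => Localization.Away (g' o))
    (fun o => algebraMap (MvPolynomial (Fin n) R) (Localization.Away (g' o)))
    (fun o => isLocalizationAway_toAlgebra (g' o)) m _ ?_
  intro o
  cases o with
  | none =>
    refine isNPC_of_isZero_X _ (fun i => ?_) m
    refine isZero_extendScalars_away_of_smul_eq_zero h₀ _ (fun x => ?_)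
    change α h₀ • (show K.X i from x) = 0
    rw [hh₀, zero_smul]
  | some i =>
    exact (isRelPseudoCoherent_extK_iff' α hα (F i) (f i) (hF i) m K).1 (h i)

end Cover

end Groth.Agent.H35.RelPC
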