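import Mathlib
import Groth.Agent.H35.RelPCLocCover
import Groth.Agent.H35.PerfectHomPres
import Groth.Agent.H12.Bridge
import Groth.Prelude.Def_MoreMor

/-!
# Pseudo-coherent ring maps form a local property (helper35)
-/

set_option autoImplicit false

open CategoryTheory Limits

namespace Groth.Agent.H35.PCHomLocal

universe u

open Groth.Agent.H28 Groth.Agent.H28.PCohCore Groth.Agent.H28.PCohDer
  Groth.Agent.H28.PCohRing DerivedCategory Groth.Agent.H35.KFBC Groth.Agent.H35.RelPC
  Groth.Agent.H35.PolyTor

attribute [local instance] HasDerivedCategory.standard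

/-- `B` is a pseudo-coherent `A`-algebra (relative form). -/
abbrev PCAlg (A B : Type u) [CommRing A] [CommRing B] [Algebra A B] : Prop :=
  DerCA.IsRelPseudoCoherentModuleAll A B B

section Translation

variable (A B : Type u) [CommRing A] [CommRing B] [Algebra A B]

theorem isPseudoCoherentHom_iff : MoreMor.IsPseudoCoherentHom A B ↔ PCAlg A B := by
  constructor
  · rintro ⟨n, φ, hφ, hpc⟩ m
    refine ⟨n, φ, hφ, ?_⟩
    let alg : Algebra (MvPolynomial (Fin n) A) B := φ.toRingHom.toAlgebra
    have h1 : DRing.IsPseudoCoherent' (MvPolynomial (Fin n) A)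
        (Dual.inD (MvPolynomial (Fin n) A) B) := hpc
    rw [isPseudoCoherent'_iff] at h1
    unfold DerCA.IsRelPseudoCoherentVia
    rw [isPseudoCoherent_iff_isNPC]
    exact IsNPC.of_iso _ (h1 m) (restrictInDIso (MvPolynomial (Fin n) A) B).symm
  · intro h
    obtain ⟨n, φ, hφ, -⟩ := h 0
    refine ⟨n, φ, hφ, ?_⟩
    let alg : Algebra (MvPolynomial (Fin n) A) B := φ.toRingHom.toAlgebra
    change DRing.IsPseudoCoherent' (MvPolynomial (Fin n) A) (Dual.inD (MvPolynomial (Fin n) A) B)
    rw [isPseudoCoherent'_iff]
    intro m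
    have h2 := (isRelPseudoCoherent_iff_via φ hφ m _).1 (h m)
    exact IsNPC.of_iso _ ((isPseudoCoherent_iff_isNPC _ _ _).1 h2)
      (restrictInDIso (MvPolynomial (Fin n) A) B)

end Translation

section Basic

variable {R A B : Type u} [CommRing R] [CommRing A] [CommRing B] [Algebra R A]

lemma finiteType_of_pcAlg (h : PCAlg R A) : Algebra.FiniteType R A := by
  obtain ⟨n, φ, hφ, -⟩ := h 0
  exact Algebra.FiniteType.of_surjective φ hφ

lemma isRelPseudoCoherent_of_iso {K L : Dual.D A} (e : K ≅ L) (m : ℤ)
    (h : DerCA.IsRelPseudoCoherent R A m K) : DerCA.IsRelPseudoCoherent R A m L := by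
  obtain ⟨n, α, hα, hvia⟩ := h
  exact ⟨n, α, hα, isPseudoCoherent_of_iso ((DRing.restrictD _).mapIso e) m hvia⟩

variable [Algebra A B] [Algebra R B] [IsScalarTower R A B]

theorem pcAlg_comp (h1 : PCAlg R A) (h2 : PCAlg A B) : PCAlg R B := by
  haveI := finiteType_of_pcAlg h1
  haveI := finiteType_of_pcAlg h2
  intro m
  exact (isRelPseudoCoherent_iff_of_intermediate h1 _ m).1 (h2 m)

theorem pcAlg_cancel (h1 : PCAlg R A) (h2 : PCAlg R B) : PCAlg A B := by
  haveI := finiteType_of_pcAlg h1
  haveI : Algebra.FiniteType R B := finiteType_of_pcAlg h2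
  haveI : Algebra.FiniteType A B := Algebra.FiniteType.of_restrictScalars_finiteType R A B
  intro m
  exact (isRelPseudoCoherent_iff_of_intermediate h1 _ m).2 (h2 m)

omit [Algebra R A] [Algebra R B] [IsScalarTower R A B] in
theorem pcAlg_of_bijective (h : Function.Bijective (algebraMap A B)) : PCAlg A B := by
  intro m
  let α : MvPolynomial (Fin 0) A →ₐ[A] B :=
    (Algebra.ofId A B).comp (MvPolynomial.isEmptyAlgEquiv A (Fin 0)).toAlgHom
  have hα : Function.Bijective α := h.comp (MvPolynomial.isEmptyAlgEquiv A (Fin 0)).bijective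
  refine ⟨0, α, hα.2, ?_⟩
  unfold DerCA.IsRelPseudoCoherentVia
  rw [isPseudoCoherent_iff_isNPC]
  let e : MvPolynomial (Fin 0) A ≃+* B :=
    RingEquiv.ofBijective (α : MvPolynomial (Fin 0) A →+* B) hα
  exact IsNPC.of_iso _ (isNPC_single_ringEquiv e m)
    (restrictDSingleIso (α : MvPolynomial (Fin 0) A →+* B) _).symm

end Basic

section Away

variable {R : Type u} [CommRing R]

/-- an abstract localization `R → S` away from `r` is pseudo-coherent -/
theorem pcAlg_of_isLocalizationAway (r : R) (S : Type u) [CommRing S] [Algebra R S]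
    [IsLocalization.Away r S] : PCAlg R S := by
  let e : Localization.Away r ≃ₐ[R] S := IsLocalization.algEquiv (Submonoid.powers r) _ _
  letI alg : Algebra (Localization.Away r) S := e.toAlgHom.toRingHom.toAlgebra
  haveI : IsScalarTower R (Localization.Away r) S :=
    IsScalarTower.of_algebraMap_eq (fun x => (e.commutes x).symm)
  exact pcAlg_comp (isRelPseudoCoherentModuleAll_away r) (pcAlg_of_bijective e.bijective)

end Away

section Single

variable {A A' : Type u} [CommRing A] [CommRing A']

/-- `Q(A' ⊗_A M[0]) ≅ (A' ⊗_A M)[0]` -/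
noncomputable def extKSingleIso (κ : A →+* A') (M : ModuleCat.{u} A) :
    Q.obj (extK κ ((HomologicalComplex.single (ModuleCat.{u} A) (ComplexShape.up ℤ) 0).obj M)) ≅
      (DerivedCategory.singleFunctor (ModuleCat.{u} A') 0).obj
        ((ModuleCat.extendScalars.{u, u, u} κ).obj M) :=
  Q.mapIso ((HomologicalComplex.singleMapHomologicalComplex
      (ModuleCat.extendScalars.{u, u, u} κ) (ComplexShape.up ℤ) 0).app M) ≪≫
    ((DerivedCategory.singleFunctorIsoCompQ (ModuleCat.{u} A') 0).app _).symm

variable [Algebra A A']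

/-- `A' ⊗_A A ≅ A'` -/
noncomputable def extendScalarsSelfIso :
    (ModuleCat.extendScalars.{u, u, u} (algebraMap A A')).obj (ModuleCat.of A A) ≅
      ModuleCat.of A' A' :=
  ((Groth.Agent.H12.BC.bridge (B := A') (ModuleCat.of A A)).trans
    (TensorProduct.AlgebraTensorModule.rid A A' A')).toModuleIso

/-- `Q(A' ⊗_A A[0]) ≅ A'[0]` -/
noncomputable def extKSelfIso :
    Q.obj (extK (algebraMap A A')
      ((HomologicalComplex.single (ModuleCat.{u} A) (ComplexShape.up ℤ) 0).obj
        (ModuleCat.of A A))) ≅ Dual.inD A' A' :=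
  extKSingleIso (algebraMap A A') (ModuleCat.of A A) ≪≫
    (DerivedCategory.singleFunctor (ModuleCat.{u} A') 0).mapIso extendScalarsSelfIso

/-- `Q(A[0]) ≅ A[0]` -/
noncomputable def singleSelfIso :
    Q.obj ((HomologicalComplex.single (ModuleCat.{u} A) (ComplexShape.up ℤ) 0).obj
      (ModuleCat.of A A)) ≅ Dual.inD A A :=
  ((DerivedCategory.singleFunctorIsoCompQ (ModuleCat.{u} A) 0).app _).symm

end Single

section LocalTarget

variable {R A : Type u} [CommRing R] [CommRing A] [Algebra R A]

theorem pcAlg_away_target (g : A) (h : PCAlg R A) : PCAlg R (Localization.Away g) := by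
  intro m
  have h1 := isRelPseudoCoherent_away g m
    ((HomologicalComplex.single (ModuleCat.{u} A) (ComplexShape.up ℤ) 0).obj (ModuleCat.of A A))
    (isRelPseudoCoherent_of_iso singleSelfIso.symm m (h m))
  exact isRelPseudoCoherent_of_iso extKSelfIso m h1

theorem pcAlg_of_cover [Algebra.FiniteType R A] {r : ℕ} (f : Fin r → A)
    (hf : Ideal.span (Set.range f) = ⊤) (h : ∀ i, PCAlg R (Localization.Away (f i))) :
    PCAlg R A := by
  intro m
  have h1 := isRelPseudoCoherent_of_cover f hf m
    ((HomologicalComplex.single (ModuleCat.{u} A) (ComplexShape.up ℤ) 0).obj (ModuleCat.of A A))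
    (fun i => isRelPseudoCoherent_of_iso extKSelfIso.symm m (h i m))
  exact isRelPseudoCoherent_of_iso singleSelfIso m h1

end LocalTarget

section RingHomProperty

/-- pseudo-coherence as a property of ring homomorphisms -/
def Qpc {R S : Type u} [CommRing R] [CommRing S] (f : R →+* S) : Prop :=
  @MoreMor.IsPseudoCoherentHom R S _ _ f.toAlgebra

lemma qpc_iff {R S : Type u} [CommRing R] [CommRing S] (f : R →+* S) :
    Qpc f ↔ @PCAlg R S _ _ f.toAlgebra :=
  @isPseudoCoherentHom_iff R S _ _ f.toAlgebra

lemma qpc_algebraMap_iff {R S : Type u} [CommRing R] [CommRing S] [Algebra R S] :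
    Qpc (algebraMap R S) ↔ PCAlg R S := by
  rw [qpc_iff, toAlgebra_algebraMap_eq]

lemma qpc_comp : RingHom.StableUnderComposition Qpc := by
  intro R S T _ _ _ f g hf hg
  letI := f.toAlgebra
  letI := g.toAlgebra
  letI := (g.comp f).toAlgebra
  haveI : IsScalarTower R S T := IsScalarTower.of_algebraMap_eq' rfl
  rw [qpc_iff] at hf hg ⊢
  exact pcAlg_comp hf hg

lemma qpc_cancel {R S T : Type u} [CommRing R] [CommRing S] [CommRing T] (f : R →+* S)
    (g : S →+* T) (hgf : Qpc (g.comp f)) (hf : Qpc f) : Qpc g := by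
  letI := f.toAlgebra
  letI := g.toAlgebra
  letI := (g.comp f).toAlgebra
  haveI : IsScalarTower R S T := IsScalarTower.of_algebraMap_eq' rfl
  rw [qpc_iff] at hf hgf ⊢
  exact pcAlg_cancel hf hgf

lemma qpc_holdsForLocalizationAway : RingHom.HoldsForLocalizationAway Qpc := by
  intro R S _ _ _ r _
  rw [qpc_algebraMap_iff]
  exact pcAlg_of_isLocalizationAway r S

lemma qpc_localizationAwayPreserves : RingHom.LocalizationAwayPreserves Qpc := by
  intro R S _ _ f r R' S' _ _ _ _ _ _ hf
  have h1 : Qpc ((algebraMap S S').comp f) :=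
    qpc_comp _ _ hf (qpc_holdsForLocalizationAway S' (f r))
  have h2 : (IsLocalization.Away.map R' S' f r).comp (algebraMap R R') =
      (algebraMap S S').comp f := IsLocalization.map_comp _
  rw [← h2] at h1
  exact qpc_cancel _ _ h1 (qpc_holdsForLocalizationAway R' r)

lemma qpc_ofLocalizationSpanTarget : RingHom.OfLocalizationSpanTarget Qpc := by
  rw [RingHom.ofLocalizationSpanTarget_iff_finite]
  intro R S _ _ f s hs H
  letI := f.toAlgebra
  have key : ∀ r : s, PCAlg R (Localization.Away (r : S)) := by
    intro r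
    have h1 := (qpc_iff _).1 (H r)
    have e : ((algebraMap S (Localization.Away (r : S))).comp f).toAlgebra =
        (inferInstance : Algebra R (Localization.Away (r : S))) :=
      Algebra.algebra_ext _ _ (fun x => (IsScalarTower.algebraMap_apply R S _ x).symm)
    rw [e] at h1
    exact h1
  haveI : Algebra.FiniteType R S := by
    have h1 : RingHom.FiniteType f := by
      refine RingHom.finiteType_ofLocalizationSpanTarget f (s : Set S) hs (fun r => ?_)
      have h2 : Algebra.FiniteType R (Localization.Away (r : S)) := finiteType_of_pcAlg (key r)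
      have e : (algebraMap S (Localization.Away (r : S))).comp f =
          algebraMap R (Localization.Away (r : S)) :=
        (IsScalarTower.algebraMap_eq R S _).symm
      rw [e]
      exact (RingHom.finiteType_algebraMap).2 h2
    exact h1
  rw [qpc_iff]
  let f' : Fin s.card → S := fun i => (s.equivFin.symm i : S)
  have hf' : Ideal.span (Set.range f') = ⊤ := by
    have : Set.range f' = (s : Set S) := by
      ext x
      constructor
      · rintro ⟨i, rfl⟩
        exact (s.equivFin.symm i).2
      · intro hx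
        exact ⟨s.equivFin ⟨x, hx⟩, by simp [f']⟩
    rw [this]
    exact hs
  exact pcAlg_of_cover f' hf' (fun i => key (s.equivFin.symm i))

theorem qpc_isLocal : RingHom.PropertyIsLocal Qpc where
  localizationAwayPreserves := qpc_localizationAwayPreserves
  ofLocalizationSpanTarget := qpc_ofLocalizationSpanTarget
  ofLocalizationSpan := qpc_ofLocalizationSpanTarget.ofLocalizationSpan
    (qpc_comp.stableUnderCompositionWithLocalizationAway qpc_holdsForLocalizationAway).1
  StableUnderCompositionWithLocalizationAwayTarget :=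
    (qpc_comp.stableUnderCompositionWithLocalizationAway qpc_holdsForLocalizationAway).2

end RingHomProperty

end Groth.Agent.H35.PCHomLocal
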