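import Mathlib
import Groth.Agent.H35.PCHomLocal
import Groth.Agent.H35.TorAmpRestrict
import Groth.Agent.H35.TorDimAmp
import Groth.Agent.H35.FlatBaseChangeD
import Groth.Agent.H28.PCohFlat
import Groth.Agent.H28.PCohDescent

/-!
# Ring maps of finite tor dimension form a local property (helper35)
-/

set_option autoImplicit false

open CategoryTheory Limits MonoidalCategory

namespace Groth.Agent.H35.FTDLocal

universe u

open HomologicalComplex Groth.Agent.H35.KF Groth.Agent.H35.KFBC Groth.Agent.H35.LT
  Groth.Agent.H35.RelPC DerivedCategory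

attribute [local instance] HasDerivedCategory.standard

/-- `B` has tor dimension `≤ d` over `A` via `φ`, tested on K-flat resolutions of modules. -/
def TorDimHom {A B : Type u} [CommRing A] [CommRing B] (φ : A →+* B) (d : ℕ) : Prop :=
  ∀ (N : ModuleCat.{u} A) (G : CochainComplex (ModuleCat.{u} A) ℤ) (_ : IsKFlat G)
    (g : G ⟶ sgl N) (_ : QuasiIso g) (i : ℤ), (i < -(d : ℤ) ∨ 0 < i) → (extK φ G).ExactAt i

section Basic

variable {A B : Type u} [CommRing A] [CommRing B] [Algebra A B]

theorem hasTorDimLE_iff_torDimHom (d : ℕ) :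
    DRing.HasTorDimLE A d B ↔ TorDimHom (algebraMap A B) d := by
  rw [hasTorDimLE_iff_hasTorAmplitudeIn]
  have e : Dual.inD A B ≅ Q.obj (sgl (BA (algebraMap A B))) :=
    (DerivedCategory.singleFunctor (ModuleCat.{u} A) 0).mapIso
      (Groth.Agent.H28.PCohRestrict.algebraRestrictIso A B)
  have key : DRing.HasTorAmplitudeIn A (-(d : ℤ)) 0 (Dual.inD A B) ↔
      DRing.HasTorAmplitudeIn A (-(d : ℤ)) 0 (Q.obj (sgl (BA (algebraMap A B)))) :=
    ⟨hasTorAmplitudeIn_of_iso e _ _, hasTorAmplitudeIn_of_iso e.symm _ _⟩
  rw [key, hasTorAmplitudeIn_Q_iff]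
  refine forall_congr' (fun N => forall_congr' (fun G => forall_congr' (fun hG =>
    forall_congr' (fun g => forall_congr' (fun hg => forall_congr' (fun i =>
      imp_congr_right (fun _ => ?_)))))))
  rw [exactAt_map_extendScalars_iff (algebraMap A B) G i, ← exactAt_tensor_sgl_iff,
    exactAt_iff_of_iso' (tensorSwapIso G (sgl (BA (algebraMap A B)))) i]

lemma torDimHom_mono {A B : Type u} [CommRing A] [CommRing B] (φ : A →+* B) {d d' : ℕ}
    (h : d ≤ d') (hd : TorDimHom φ d) : TorDimHom φ d' := by
  intro N G hG g hg i hi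
  refine hd N G hG g hg i ?_
  rcases hi with hi | hi
  · left
    have : (d : ℤ) ≤ d' := by exact_mod_cast h
    omega
  · exact Or.inr hi

end Basic

section Trans

variable {R A B : Type u} [CommRing R] [CommRing A] [CommRing B] [Algebra R A] [Algebra A B]
  [Algebra R B]

/-- restriction of scalars of `B` along `R → A` is `B` with its `R`-module structure -/
noncomputable def restrictTowerIso [IsScalarTower R A B] :
    (ModuleCat.restrictScalars (algebraMap R A)).obj (ModuleCat.of A B) ≅ ModuleCat.of R B := by
  have hsm : ∀ (r : R) (b : B), algebraMap R A r • b = r • b := fun r b => algebraMap_smul A r b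
  let inst₂ : Module R B := Module.compHom B (algebraMap R A)
  let f : @LinearMap R R _ _ (RingHom.id R) B B _ _ inst₂ Algebra.toModule :=
    @LinearMap.mk R R _ _ (RingHom.id R) B B _ _ inst₂ Algebra.toModule ⟨fun b => b, fun _ _ => rfl⟩
      (fun r b => hsm r b)
  let g : @LinearMap R R _ _ (RingHom.id R) B B _ _ Algebra.toModule inst₂ :=
    @LinearMap.mk R R _ _ (RingHom.id R) B B _ _ Algebra.toModule inst₂ ⟨fun b => b, fun _ _ => rfl⟩
      (fun r b => (hsm r b).symm)
  exact ⟨@ModuleCat.ofHom R _ B B _ inst₂ _ Algebra.toModule f,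
    @ModuleCat.ofHom R _ B B _ Algebra.toModule _ inst₂ g, rfl, rfl⟩

theorem hasFiniteTorDim_trans [IsScalarTower R A B] (h1 : DRing.HasFiniteTorDim R A) (h2 : DRing.HasFiniteTorDim A B) :
    DRing.HasFiniteTorDim R B := by
  obtain ⟨d1, h1⟩ := h1
  obtain ⟨d2, h2⟩ := h2
  rw [hasTorDimLE_iff_hasTorAmplitudeIn] at h1 h2
  have h3 := hasTorAmplitudeIn_restrict_of_torDim d1 h1 (Dual.inD A B) (-(d2 : ℤ)) 0 h2
  refine Groth.Agent.H35.PolyTor.hasFiniteTorDim_of_hasTorAmplitudeIn B _ _
    (hasTorAmplitudeIn_of_iso ?_ _ _ h3)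
  exact restrictDSingleIso (algebraMap R A) (ModuleCat.of A B) ≪≫
    (DerivedCategory.singleFunctor (ModuleCat.{u} R) 0).mapIso restrictTowerIso

end Trans

section RingHomProperty

/-- finite tor dimension as a property of ring homomorphisms -/
def Qftd {R S : Type u} [CommRing R] [CommRing S] (f : R →+* S) : Prop :=
  letI := f.toAlgebra
  DRing.HasFiniteTorDim R S

lemma qftd_algebraMap_iff {R S : Type u} [CommRing R] [CommRing S] [Algebra R S] :
    Qftd (algebraMap R S) ↔ DRing.HasFiniteTorDim R S := by
  unfold Qftd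
  rw [toAlgebra_algebraMap_eq]

lemma qftd_iff {R S : Type u} [CommRing R] [CommRing S] (f : R →+* S) :
    Qftd f ↔ ∃ d : ℕ, TorDimHom f d := by
  letI := f.toAlgebra
  change DRing.HasFiniteTorDim R S ↔ _
  exact exists_congr (fun d => hasTorDimLE_iff_torDimHom d)

lemma qftd_comp : RingHom.StableUnderComposition Qftd := by
  intro R S T _ _ _ f g hf hg
  letI := f.toAlgebra
  letI := g.toAlgebra
  letI := (g.comp f).toAlgebra
  haveI : IsScalarTower R S T := IsScalarTower.of_algebraMap_eq' rfl
  exact hasFiniteTorDim_trans hf hg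

lemma qftd_of_flat {R S : Type u} [CommRing R] [CommRing S] (f : R →+* S) (hf : f.Flat) :
    Qftd f := by
  letI := f.toAlgebra
  have : Module.Flat R S := hf
  exact ⟨0, (hasTorDimLE_zero_iff_flat S).2 this⟩

lemma qftd_holdsForLocalizationAway : RingHom.HoldsForLocalizationAway Qftd := by
  intro R S _ _ _ r _
  rw [qftd_algebraMap_iff]
  have : Module.Flat R S := IsLocalization.flat S (Submonoid.powers r)
  exact ⟨0, (hasTorDimLE_zero_iff_flat S).2 this⟩

section BaseChange

open TensorProduct

variable {R R' S S' : Type u} [CommRing R] [CommRing R'] [CommRing S] [CommRing S']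
  [Algebra R R'] [Algebra R S] [Algebra R' S'] [Algebra S S'] [Algebra R S']
  [IsScalarTower R R' S'] [IsScalarTower R S S']

/-- flat base change preserves finite tor dimension -/
theorem hasFiniteTorDim_baseChange_of_flat [Module.Flat R R'] [Algebra.IsPushout R R' S S']
    (h : DRing.HasFiniteTorDim R S) : DRing.HasFiniteTorDim R' S' := by
  obtain ⟨d, h⟩ := h
  rw [hasTorDimLE_iff_hasTorAmplitudeIn] at h
  have h1 := hasTorAmplitudeIn_mapDerivedCategory_extendScalars (A := R) (B := R')
    (Dual.inD R S) _ _ h
  have h2 := hasTorAmplitudeIn_of_iso (inDBaseChangeIso (A := R) (B := R') S) _ _ h1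
  let e : (R' ⊗[R] S) ≃ₗ[R'] S' := (Algebra.IsPushout.equiv R R' S S').toLinearEquiv
  refine Groth.Agent.H35.PolyTor.hasFiniteTorDim_of_hasTorAmplitudeIn S' _ _
    (hasTorAmplitudeIn_of_iso ?_ _ _ h2)
  exact (DerivedCategory.singleFunctor (ModuleCat.{u} R') 0).mapIso e.toModuleIso

end BaseChange

section Cover

variable {R : Type u} [CommRing R]

/-- iterated extension of scalars of complexes -/
noncomputable def extKCompIso {A B C : Type u} [CommRing A] [CommRing B] [CommRing C]
    (f : A →+* B) (g : B →+* C) (K : CochainComplex (ModuleCat.{u} A) ℤ) :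
    extK (g.comp f) K ≅ extK g (extK f K) :=
  HomologicalComplex.Hom.isoOfComponents
    (fun i => (ModuleCat.extendScalarsComp f g).app (K.X i))
    (fun i j _ => ((ModuleCat.extendScalarsComp f g).hom.naturality (K.d i j)).symm)

variable {ι : Type*} (g : ι → R) (hg : Ideal.span (Set.range g) = ⊤)
  {B : ι → Type u} [∀ i, CommRing (B i)] (φ : ∀ i, R →+* B i)
  (hloc : ∀ i, @IsLocalization.Away R _ (g i) (B i) _ (φ i).toAlgebra)

include hg hloc in
/-- exactness of a complex can be tested on a principal open cover -/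
lemma exactAt_of_exactAt_extK_away (K : CochainComplex (ModuleCat.{u} R) ℤ) (n : ℤ)
    (h : ∀ i, (extK (φ i) K).ExactAt n) : K.ExactAt n := by
  rw [HomologicalComplex.exactAt_iff_isZero_homology]
  refine Groth.Agent.H28.PCohFlat.isZero_of_isZero_extendScalars_away g hg φ hloc _ (fun i => ?_)
  have hfl : (φ i).Flat := Groth.Agent.H28.PCohFlat.flat_of_away g φ hloc i
  haveI : PreservesFiniteLimits (ModuleCat.extendScalars.{u, u, u} (φ i)) :=
    ModuleCat.preservesFiniteLimits_extendScalars_of_flat hfl
  have h1 := h i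
  rw [HomologicalComplex.exactAt_iff_isZero_homology] at h1
  exact IsZero.of_iso h1
    (Groth.Agent.H28.PCohDescent.mapHomologyIso' (ModuleCat.extendScalars.{u, u, u} (φ i)) K n).symm

end Cover

lemma qftd_localizationAwayPreserves : RingHom.LocalizationAwayPreserves Qftd := by
  intro R S _ _ f r R' S' _ _ _ _ _ _ hf
  letI := f.toAlgebra
  letI : Algebra R' S' := (IsLocalization.Away.map R' S' f r).toAlgebra
  letI : Algebra R S' := ((algebraMap S S').comp f).toAlgebra
  haveI : IsScalarTower R S S' := IsScalarTower.of_algebraMap_eq' rfl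
  have h2 : (IsLocalization.Away.map R' S' f r).comp (algebraMap R R') =
      (algebraMap S S').comp f := IsLocalization.map_comp _
  haveI : IsScalarTower R R' S' := IsScalarTower.of_algebraMap_eq' h2.symm
  haveI : IsLocalization (Algebra.algebraMapSubmonoid S (Submonoid.powers r)) S' := by
    have h0 : Algebra.algebraMapSubmonoid S (Submonoid.powers r) = Submonoid.powers (f r) :=
      Submonoid.map_powers _ _
    rw [h0]
    infer_instance
  haveI : Algebra.IsPushout R S R' S' :=
    Algebra.isPushout_of_isLocalization (Submonoid.powers r) R' S S'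
  haveI : Algebra.IsPushout R R' S S' := Algebra.IsPushout.symm inferInstance
  haveI : Module.Flat R R' := IsLocalization.flat R' (Submonoid.powers r)
  exact hasFiniteTorDim_baseChange_of_flat hf

lemma qftd_ofLocalizationSpanTarget : RingHom.OfLocalizationSpanTarget Qftd := by
  rw [RingHom.ofLocalizationSpanTarget_iff_finite]
  intro R S _ _ f s hs H
  have H' : ∀ r : s, ∃ d : ℕ,
      TorDimHom ((algebraMap S (Localization.Away (r : S))).comp f) d :=
    fun r => (qftd_iff _).1 (H r)
  choose d hd using H'
  rw [qftd_iff]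
  refine ⟨Finset.univ.sup d, ?_⟩
  intro N G hG g hg i hi
  refine exactAt_of_exactAt_extK_away (ι := s) (fun r => (r : S)) ?_
    (fun r => algebraMap S (Localization.Away (r : S))) ?_ _ i (fun r => ?_)
  · have h0 : (Set.range fun r : s => (r : S)) = (s : Set S) := Subtype.range_coe
    rw [h0]
    exact hs
  · intro r
    exact isLocalizationAway_toAlgebra (r : S)
  · rw [← exactAt_iff_of_iso' (extKCompIso f _ G) i]
    exact torDimHom_mono _ (Finset.le_sup (Finset.mem_univ r)) (hd r) N G hG g hg i hi

theorem qftd_isLocal : RingHom.PropertyIsLocal Qftd where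
  localizationAwayPreserves := qftd_localizationAwayPreserves
  ofLocalizationSpanTarget := qftd_ofLocalizationSpanTarget
  ofLocalizationSpan := qftd_ofLocalizationSpanTarget.ofLocalizationSpan
    (qftd_comp.stableUnderCompositionWithLocalizationAway qftd_holdsForLocalizationAway).1
  StableUnderCompositionWithLocalizationAwayTarget :=
    (qftd_comp.stableUnderCompositionWithLocalizationAway qftd_holdsForLocalizationAway).2

end RingHomProperty

end Groth.Agent.H35.FTDLocal
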