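import Mathlib
import Groth.Agent.H35.PCHomLocal

/-!
# Pseudo-coherent morphisms of schemes: the affine-local framework (helper35)
-/

set_option autoImplicit false

open CategoryTheory Limits AlgebraicGeometry

namespace Groth.Agent.H35.PCHomLocal

universe u

attribute [local instance] HasDerivedCategory.standard

/-- pseudo-coherent morphisms, as a morphism property -/
def Ppc : MorphismProperty Scheme.{u} := affineLocally Qpc

instance : HasRingHomProperty Ppc.{u} Qpc where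
  isLocal_ringHomProperty := qpc_isLocal
  eq_affineLocally' := rfl

theorem isPseudoCoherentMor_iff {X S : Scheme.{u}} (f : X ⟶ S) :
    MoreMor.IsPseudoCoherentMor f ↔ Ppc f := by
  rw [HasRingHomProperty.iff_appLE (P := Ppc)]
  constructor
  · intro h U V e
    exact h V.1 U.1 V.2 U.2 e
  · intro h U V hU hV hUV
    exact h ⟨V, hV⟩ ⟨U, hU⟩ hUV

lemma qpc_source : RingHom.StableUnderCompositionWithLocalizationAwaySource Qpc :=
  (qpc_comp.stableUnderCompositionWithLocalizationAway qpc_holdsForLocalizationAway).1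

/-- S7166 -/
theorem isPseudoCoherentMor_iff_exists {X S : Scheme.{u}} (f : X ⟶ S) :
    MoreMor.IsPseudoCoherentMor f ↔ ∀ x : X, ∃ (U : X.Opens) (V : S.Opens) (hUV : U ≤ f ⁻¹ᵁ V),
      IsAffineOpen U ∧ IsAffineOpen V ∧ x ∈ U ∧
      (letI := (f.appLE V U hUV).hom.toAlgebra
       MoreMor.IsPseudoCoherentHom Γ(S, V) Γ(X, U)) := by
  rw [isPseudoCoherentMor_iff, HasRingHomProperty.iff_exists_appLE (P := Ppc) qpc_source]
  constructor
  · intro h x
    obtain ⟨U, V, hx, e, hQ⟩ := h x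
    exact ⟨V.1, U.1, e, V.2, U.2, hx, hQ⟩
  · intro h x
    obtain ⟨U, V, e, hU, hV, hx, hQ⟩ := h x
    exact ⟨⟨V, hV⟩, ⟨U, hU⟩, hx, e, hQ⟩

/-- S1504 -/
theorem isPseudoCoherentMor_comp {X Y Z : Scheme.{u}} (f : X ⟶ Y) (g : Y ⟶ Z)
    (hf : MoreMor.IsPseudoCoherentMor f) (hg : MoreMor.IsPseudoCoherentMor g) :
    MoreMor.IsPseudoCoherentMor (f ≫ g) := by
  rw [isPseudoCoherentMor_iff] at hf hg ⊢
  exact (HasRingHomProperty.stableUnderComposition (P := Ppc) qpc_comp).comp_mem f g hf hg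

/-- S7169 -/
theorem isPseudoCoherentMor_of_comp {X Y S : Scheme.{u}} (f : X ⟶ Y) (g : Y ⟶ S)
    (hX : MoreMor.IsPseudoCoherentMor (f ≫ g)) (hY : MoreMor.IsPseudoCoherentMor g) :
    MoreMor.IsPseudoCoherentMor f := by
  rw [isPseudoCoherentMor_iff_exists]
  intro x
  obtain ⟨W, hW, hxW, -⟩ := exists_isAffineOpen_mem_and_subset
    (x := g (f x)) (U := ⊤) trivial
  obtain ⟨V, hV, hxV, hVW⟩ := exists_isAffineOpen_mem_and_subset
    (x := f x) (U := g ⁻¹ᵁ W) hxW
  obtain ⟨U, hU, hxU, hUV⟩ := exists_isAffineOpen_mem_and_subset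
    (x := x) (U := f ⁻¹ᵁ V) hxV
  have e₁ : V ≤ g ⁻¹ᵁ W := hVW
  have e₂ : U ≤ f ⁻¹ᵁ V := hUV
  refine ⟨U, V, e₂, hU, hV, hxU, ?_⟩
  have h1 : Qpc (g.appLE W V e₁).hom := hY V W hV hW e₁
  have h3 := Scheme.Hom.appLE_comp_appLE f g W V U e₁ e₂
  have h2 : Qpc (g.appLE W V e₁ ≫ f.appLE V U e₂).hom := by
    rw [h3]
    exact hX U W hU hW _
  rw [CommRingCat.hom_comp] at h2
  exact qpc_cancel _ _ h2 h1

end Groth.Agent.H35.PCHomLocal
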