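import Mathlib
import Groth.Agent.H35.FTDLocal
import Groth.Agent.H35.PCMorLocal

/-!
# Perfect morphisms of schemes: the affine-local framework (helper35)
-/

set_option autoImplicit false

open CategoryTheory Limits AlgebraicGeometry

namespace Groth.Agent.H35.FTDLocal

universe u

open Groth.Agent.H35.PCHomLocal

attribute [local instance] HasDerivedCategory.standard

/-- perfect ring maps as a property of ring homomorphisms -/
def Qperf {R S : Type u} [CommRing R] [CommRing S] (f : R →+* S) : Prop :=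
  Qpc f ∧ Qftd f

lemma qperf_iff {R S : Type u} [CommRing R] [CommRing S] (f : R →+* S) :
    Qperf f ↔ @MoreMor.IsPerfectHom R S _ _ f.toAlgebra := Iff.rfl

theorem qperf_isLocal : RingHom.PropertyIsLocal Qperf := qpc_isLocal.and qftd_isLocal

lemma qperf_comp : RingHom.StableUnderComposition Qperf := qpc_comp.and qftd_comp

lemma qperf_holdsForLocalizationAway : RingHom.HoldsForLocalizationAway Qperf := by
  intro R S _ _ _ r _
  exact ⟨qpc_holdsForLocalizationAway S r, qftd_holdsForLocalizationAway S r⟩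

lemma qperf_source : RingHom.StableUnderCompositionWithLocalizationAwaySource Qperf :=
  (qperf_comp.stableUnderCompositionWithLocalizationAway qperf_holdsForLocalizationAway).1

/-- perfect morphisms, as a morphism property -/
def Pperf : MorphismProperty Scheme.{u} := affineLocally Qperf

instance : HasRingHomProperty Pperf.{u} Qperf where
  isLocal_ringHomProperty := qperf_isLocal
  eq_affineLocally' := rfl

theorem isPerfectMor_iff {X S : Scheme.{u}} (f : X ⟶ S) :
    MoreMor.IsPerfectMor f ↔ Pperf f := by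
  rw [HasRingHomProperty.iff_appLE (P := Pperf)]
  constructor
  · intro h U V e
    exact h V.1 U.1 V.2 U.2 e
  · intro h U V hU hV hUV
    exact h ⟨V, hV⟩ ⟨U, hU⟩ hUV

/-- S7171 -/
theorem isPerfectMor_iff_exists {X S : Scheme.{u}} (f : X ⟶ S) :
    MoreMor.IsPerfectMor f ↔ ∀ x : X, ∃ (U : X.Opens) (V : S.Opens) (hUV : U ≤ f ⁻¹ᵁ V),
      IsAffineOpen U ∧ IsAffineOpen V ∧ x ∈ U ∧
      (letI := (f.appLE V U hUV).hom.toAlgebra
       MoreMor.IsPerfectHom Γ(S, V) Γ(X, U)) := by
  rw [isPerfectMor_iff, HasRingHomProperty.iff_exists_appLE (P := Pperf) qperf_source]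
  constructor
  · intro h x
    obtain ⟨U, V, hx, e, hQ⟩ := h x
    exact ⟨V.1, U.1, e, V.2, U.2, hx, hQ⟩
  · intro h x
    obtain ⟨U, V, e, hU, hV, hx, hQ⟩ := h x
    exact ⟨⟨V, hV⟩, ⟨U, hU⟩, hx, e, hQ⟩

/-- S1508 -/
theorem isPerfectMor_comp {X Y Z : Scheme.{u}} (f : X ⟶ Y) (g : Y ⟶ Z)
    (hf : MoreMor.IsPerfectMor f) (hg : MoreMor.IsPerfectMor g) :
    MoreMor.IsPerfectMor (f ≫ g) := by
  rw [isPerfectMor_iff] at hf hg ⊢
  exact (HasRingHomProperty.stableUnderComposition (P := Pperf) qperf_comp).comp_mem f g hf hg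

end Groth.Agent.H35.FTDLocal
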