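import Mathlib
import Groth.Agent.H35.FTDLocal
import Groth.Agent.H35.PerfMorLocal

/-!
# Flat base change of pseudo-coherent and perfect ring maps (helper35)
-/

set_option autoImplicit false

open CategoryTheory Limits

namespace Groth.Agent.H35.PCFlatBC

universe u

open DerivedCategory Groth.Agent.H35.LT TensorProduct

attribute [local instance] HasDerivedCategory.standard

lemma isPseudoCoherent'_of_iso {R : Type u} [CommRing R] {K L : Dual.D R} (e : K ≅ L)
    (h : DRing.IsPseudoCoherent' R K) : DRing.IsPseudoCoherent' R L := by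
  obtain ⟨E, b, hb, hE, ⟨e'⟩⟩ := h
  exact ⟨E, b, hb, hE, ⟨e' ≪≫ e⟩⟩

section Module

variable {P P' A A' : Type u} [CommRing P] [CommRing P'] [CommRing A] [CommRing A']
  [Algebra P P'] [Algebra P A] [Algebra P' A'] [Algebra A A'] [Algebra P A']
  [IsScalarTower P P' A'] [IsScalarTower P A A']

/-- flat base change of a pseudo-coherent module which is an algebra -/
theorem isPseudoCoherentModule'_baseChange_of_flat [Module.Flat P P']
    [Algebra.IsPushout P P' A A'] (h : DRing.IsPseudoCoherentModule' P A) :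
    DRing.IsPseudoCoherentModule' P' A' := by
  have h1 := isPseudoCoherent'_mapDerivedCategory_extendScalars (A := P) (B := P')
    (Dual.inD P A) h
  have h2 := isPseudoCoherent'_of_iso (inDBaseChangeIso (A := P) (B := P') A) h1
  let e : (P' ⊗[P] A) ≃ₗ[P'] A' := (Algebra.IsPushout.equiv P P' A A').toLinearEquiv
  exact isPseudoCoherent'_of_iso
    ((DerivedCategory.singleFunctor (ModuleCat.{u} P') 0).mapIso e.toModuleIso) h2

end Module

section Hom

variable {R R' A A' : Type u} [CommRing R] [CommRing R'] [CommRing A] [CommRing A']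
  [Algebra R R'] [Algebra R A] [Algebra R' A'] [Algebra A A'] [Algebra R A']
  [IsScalarTower R R' A'] [IsScalarTower R A A']

attribute [local instance] MvPolynomial.algebraMvPolynomial

/-- flat base change of pseudo-coherent ring maps -/
theorem isPseudoCoherentHom_baseChange_of_flat [Module.Flat R R']
    [Algebra.IsPushout R R' A A'] (h : MoreMor.IsPseudoCoherentHom R A) :
    MoreMor.IsPseudoCoherentHom R' A' := by
  obtain ⟨n, φ, hφ, hpc⟩ := h
  let φ' : MvPolynomial (Fin n) R' →ₐ[R'] A' :=
    MvPolynomial.aeval (fun i => algebraMap A A' (φ (MvPolynomial.X i)))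
  letI iPA : Algebra (MvPolynomial (Fin n) R) A := φ.toRingHom.toAlgebra
  letI iP'A' : Algebra (MvPolynomial (Fin n) R') A' := φ'.toRingHom.toAlgebra
  letI iPA' : Algebra (MvPolynomial (Fin n) R) A' :=
    ((algebraMap A A').comp φ.toRingHom).toAlgebra
  haveI t1 : IsScalarTower (MvPolynomial (Fin n) R) A A' := IsScalarTower.of_algebraMap_eq' rfl
  have hcomm : (φ'.toRingHom).comp (MvPolynomial.map (algebraMap R R')) =
      (algebraMap A A').comp φ.toRingHom := by
    apply MvPolynomial.ringHom_ext
    · intro r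
      simp only [RingHom.comp_apply, MvPolynomial.map_C, AlgHom.toRingHom_eq_coe, RingHom.coe_coe,
        φ', MvPolynomial.aeval_C]
      rw [← MvPolynomial.algebraMap_eq, φ.commutes, ← IsScalarTower.algebraMap_apply,
        ← IsScalarTower.algebraMap_apply]
    · intro i
      simp [φ']
  haveI t2 : IsScalarTower (MvPolynomial (Fin n) R) (MvPolynomial (Fin n) R') A' :=
    IsScalarTower.of_algebraMap_eq' hcomm.symm
  haveI t3 : IsScalarTower R (MvPolynomial (Fin n) R) A :=
    IsScalarTower.of_algebraMap_eq' φ.comp_algebraMap.symm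
  haveI t4 : IsScalarTower R' (MvPolynomial (Fin n) R') A' :=
    IsScalarTower.of_algebraMap_eq' φ'.comp_algebraMap.symm
  haveI t5 : IsScalarTower R (MvPolynomial (Fin n) R') A' :=
    IsScalarTower.of_algebraMap_eq' (by
      rw [IsScalarTower.algebraMap_eq R R' A', IsScalarTower.algebraMap_eq R' (MvPolynomial (Fin n) R') A',
        RingHom.comp_assoc, ← IsScalarTower.algebraMap_eq R R' (MvPolynomial (Fin n) R')])
  haveI t6 : IsScalarTower R (MvPolynomial (Fin n) R) A' :=
    IsScalarTower.of_algebraMap_eq' (by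
      rw [IsScalarTower.algebraMap_eq R A A', IsScalarTower.algebraMap_eq R (MvPolynomial (Fin n) R) A,
        ← RingHom.comp_assoc, ← IsScalarTower.algebraMap_eq (MvPolynomial (Fin n) R) A A'])
  haveI hpo1 : Algebra.IsPushout R A R' A' := Algebra.IsPushout.symm inferInstance
  haveI hpo2 : Algebra.IsPushout (MvPolynomial (Fin n) R) A (MvPolynomial (Fin n) R') A' :=
    (Algebra.IsPushout.comp_iff R (MvPolynomial (Fin n) R) R' (MvPolynomial (Fin n) R')
      (T := A) (T' := A')).1 hpo1
  haveI hpo3 : Algebra.IsPushout (MvPolynomial (Fin n) R) (MvPolynomial (Fin n) R') A A' :=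
    Algebra.IsPushout.symm hpo2
  haveI hfl : Module.Flat (MvPolynomial (Fin n) R) (MvPolynomial (Fin n) R') :=
    Module.Flat.isBaseChange R (MvPolynomial (Fin n) R) R' (MvPolynomial (Fin n) R')
      (Algebra.IsPushout.out (R := R) (S := MvPolynomial (Fin n) R) (R' := R')
        (S' := MvPolynomial (Fin n) R'))
  refine ⟨n, φ', ?_, isPseudoCoherentModule'_baseChange_of_flat hpc⟩
  -- surjectivity
  intro x
  have hbc : IsBaseChange (MvPolynomial (Fin n) R')
      (IsScalarTower.toAlgHom (MvPolynomial (Fin n) R) A A').toLinearMap := hpo3.out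
  refine hbc.inductionOn x (fun y => ∃ p, φ' p = y) ⟨0, map_zero _⟩ ?_ ?_ ?_
  · intro a
    obtain ⟨p, rfl⟩ := hφ a
    exact ⟨MvPolynomial.map (algebraMap R R') p, RingHom.congr_fun hcomm p⟩
  · rintro q y ⟨p, rfl⟩
    exact ⟨q * p, by rw [map_mul]; rfl⟩
  · rintro y z ⟨p, rfl⟩ ⟨q, rfl⟩
    exact ⟨p + q, map_add _ _ _⟩

end Hom

end Groth.Agent.H35.PCFlatBC
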