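import Mathlib
import Groth.Agent.H35.PCFlatBC

/-!
# Flat base change of pseudo-coherent and perfect morphisms (helper35)
-/

set_option autoImplicit false

open CategoryTheory Limits AlgebraicGeometry

namespace Groth.Agent.H35.PCFlatBC

universe u

open Groth.Agent.H35.PCHomLocal Groth.Agent.H35.FTDLocal

attribute [local instance] HasDerivedCategory.standard

section CommRingCat

variable {R A R' A' : CommRingCat.{u}} (φ : R ⟶ A) (ψ : R ⟶ R') (ψ' : A ⟶ A') (φ' : R' ⟶ A')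

/-- flat base change for a ring hom property, given the algebra-level statement -/
theorem of_isPushout_of_flat
    (Q : ∀ {R S : Type u} [CommRing R] [CommRing S], (R →+* S) → Prop)
    (hQ : ∀ {R R' A A' : Type u} [CommRing R] [CommRing R'] [CommRing A] [CommRing A']
      [Algebra R R'] [Algebra R A] [Algebra R' A'] [Algebra A A'] [Algebra R A']
      [IsScalarTower R R' A'] [IsScalarTower R A A'] [Module.Flat R R']
      [Algebra.IsPushout R R' A A'], Q (algebraMap R A) → Q (algebraMap R' A'))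
    (h : IsPushout φ ψ ψ' φ') (hψ : ψ.hom.Flat) (hφ : Q φ.hom) : Q φ'.hom := by
  letI := φ.hom.toAlgebra
  letI := ψ.hom.toAlgebra
  letI := ψ'.hom.toAlgebra
  letI := φ'.hom.toAlgebra
  letI : Algebra R A' := (ψ'.hom.comp φ.hom).toAlgebra
  haveI : IsScalarTower R A A' := IsScalarTower.of_algebraMap_eq' rfl
  haveI : IsScalarTower R R' A' := IsScalarTower.of_algebraMap_eq' (by
    change ψ'.hom.comp φ.hom = φ'.hom.comp ψ.hom
    rw [← CommRingCat.hom_comp, ← CommRingCat.hom_comp, h.w])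
  haveI : Module.Flat R R' := hψ
  have h' : IsPushout (CommRingCat.ofHom (algebraMap R A)) (CommRingCat.ofHom (algebraMap R R'))
      (CommRingCat.ofHom (algebraMap A A')) (CommRingCat.ofHom (algebraMap R' A')) := h
  haveI : Algebra.IsPushout R A R' A' := CommRingCat.isPushout_iff_isPushout.1 h'
  haveI : Algebra.IsPushout R R' A A' := Algebra.IsPushout.symm inferInstance
  exact hQ (R := R) (R' := R') (A := A) (A' := A') hφ

theorem qpc_of_isPushout_of_flat (h : IsPushout φ ψ ψ' φ') (hψ : ψ.hom.Flat)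
    (hφ : Qpc φ.hom) : Qpc φ'.hom := by
  refine of_isPushout_of_flat φ ψ ψ' φ' (fun f => Qpc f) ?_ h hψ hφ
  intro R R' A A' _ _ _ _ _ _ _ _ _ _ _ _ _ h1
  rw [qpc_algebraMap_iff, ← isPseudoCoherentHom_iff] at h1 ⊢
  exact isPseudoCoherentHom_baseChange_of_flat h1

theorem qftd_of_isPushout_of_flat (h : IsPushout φ ψ ψ' φ') (hψ : ψ.hom.Flat)
    (hφ : Qftd φ.hom) : Qftd φ'.hom := by
  refine of_isPushout_of_flat φ ψ ψ' φ' (fun f => Qftd f) ?_ h hψ hφ
  intro R R' A A' _ _ _ _ _ _ _ _ _ _ _ _ _ h1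
  rw [qftd_algebraMap_iff] at h1 ⊢
  exact hasFiniteTorDim_baseChange_of_flat h1

theorem qperf_of_isPushout_of_flat (h : IsPushout φ ψ ψ' φ') (hψ : ψ.hom.Flat)
    (hφ : Qperf φ.hom) : Qperf φ'.hom :=
  ⟨qpc_of_isPushout_of_flat φ ψ ψ' φ' h hψ hφ.1, qftd_of_isPushout_of_flat φ ψ ψ' φ' h hψ hφ.2⟩

end CommRingCat

section Scheme

variable {X S X' S' : Scheme.{u}} (f : X ⟶ S) (f' : X' ⟶ S') (g' : X' ⟶ X) (g : S' ⟶ S)

/-- around any point of a fibre product there are affine opens whose rings of sections form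
a pushout square -/
theorem exists_affine_isPushout (hc : IsPullback g' f' f g) (x' : X') :
    ∃ (U : X.Opens) (V : S.Opens) (U' : X'.Opens) (V' : S'.Opens) (_ : IsAffineOpen U)
      (_ : IsAffineOpen V) (_ : IsAffineOpen U') (_ : IsAffineOpen V') (hUV : U ≤ f ⁻¹ᵁ V)
      (hV'V : V' ≤ g ⁻¹ᵁ V) (hU'U : U' ≤ g' ⁻¹ᵁ U) (hU'V' : U' ≤ f' ⁻¹ᵁ V'), x' ∈ U' ∧
      IsPushout (f.appLE V U hUV) (g.appLE V V' hV'V) (g'.appLE U U' hU'U)
        (f'.appLE V' U' hU'V') := by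
  obtain ⟨V, hV, hsV, -⟩ := exists_isAffineOpen_mem_and_subset
    (x := g (f' x')) (U := ⊤) trivial
  obtain ⟨V', hV', hs'V', hV'V⟩ := exists_isAffineOpen_mem_and_subset
    (x := f' x') (U := g ⁻¹ᵁ V) hsV
  have hpt : f (g' x') = g (f' x') := by
    rw [← Scheme.Hom.comp_apply, hc.w, Scheme.Hom.comp_apply]
  obtain ⟨U, hU, hxU, hUV⟩ := exists_isAffineOpen_mem_and_subset
    (x := g' x') (U := f ⁻¹ᵁ V) (by
      change f (g' x') ∈ V
      rw [hpt]
      exact hsV)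
  have e₁ : V' ≤ g ⁻¹ᵁ V := hV'V
  have e₂ : U ≤ f ⁻¹ᵁ V := hUV
  have hiso := AlgebraicGeometry.isIso_pushoutSection_of_isAffineOpen hc e₁ e₂
    (UY := g' ⁻¹ᵁ U ⊓ f' ⁻¹ᵁ V') rfl hV hV' hU
  have hpo := (AlgebraicGeometry.isIso_pushoutSection_iff hc e₁ e₂ rfl).1 hiso
  have hU' : IsAffineOpen (g' ⁻¹ᵁ U ⊓ f' ⁻¹ᵁ V') := by
    have : IsAffine V := hV
    have : IsAffine V' := hV'
    have : IsAffine U := hU
    exact .of_isIso (Scheme.Hom.isPullback_resLE hc e₁ e₂ rfl).isoPullback.hom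
  exact ⟨U, V, g' ⁻¹ᵁ U ⊓ f' ⁻¹ᵁ V', V', hU, hV, hU', hV', e₂, e₁, inf_le_left, inf_le_right,
    ⟨hxU, hs'V'⟩, hpo⟩

/-- S7167 -/
theorem isPseudoCoherentMor_flat_baseChange [Flat g] (hc : IsPullback g' f' f g)
    (hf : MoreMor.IsPseudoCoherentMor f) : MoreMor.IsPseudoCoherentMor f' := by
  rw [isPseudoCoherentMor_iff_exists]
  intro x'
  obtain ⟨U, V, U', V', hU, hV, hU', hV', hUV, hV'V, hU'U, hU'V', hx', hpo⟩ :=
    exists_affine_isPushout f f' g' g hc x'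
  refine ⟨U', V', hU'V', hU', hV', hx', ?_⟩
  have hfl : (g.appLE V V' hV'V).hom.Flat :=
    HasRingHomProperty.appLE (P := @Flat) g inferInstance ⟨V, hV⟩ ⟨V', hV'⟩ hV'V
  exact qpc_of_isPushout_of_flat _ _ _ _ hpo hfl (hf U V hU hV hUV)

/-- S1513 -/
theorem isPerfectMor_flat_baseChange [Flat g] (hc : IsPullback g' f' f g)
    (hf : MoreMor.IsPerfectMor f) : MoreMor.IsPerfectMor f' := by
  rw [isPerfectMor_iff_exists]
  intro x'
  obtain ⟨U, V, U', V', hU, hV, hU', hV', hUV, hV'V, hU'U, hU'V', hx', hpo⟩ :=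
    exists_affine_isPushout f f' g' g hc x'
  refine ⟨U', V', hU'V', hU', hV', hx', ?_⟩
  have hfl : (g.appLE V V' hV'V).hom.Flat :=
    HasRingHomProperty.appLE (P := @Flat) g inferInstance ⟨V, hV⟩ ⟨V', hV'⟩ hV'V
  exact qperf_of_isPushout_of_flat _ _ _ _ hpo hfl (hf U V hU hV hUV)

end Scheme

end Groth.Agent.H35.PCFlatBC
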