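import Mathlib
import Groth.Agent.H35.FlatBaseChangeD
import Groth.Agent.H35.LTensorAssoc
import Groth.Agent.H35.LTensorAmp
import Groth.Agent.H35.KFBaseChange

/-!
# Descent of tor amplitude along faithfully flat maps and Zariski covers (helper35)
-/

open CategoryTheory Limits MonoidalCategory

namespace Groth.Agent.H35.LT

universe u

open HomologicalComplex DerivedCategory TensorProduct Groth.Agent.H35.KF

attribute [local instance] HasDerivedCategory.standard

variable {A B : Type u} [CommRing A] [CommRing B] [Algebra A B]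

/-- The restriction of scalars of the `B`-module `B ⊗[A] M` is the `A`-module `B ⊗[A] M`. -/
noncomputable def restrictOfTensorEquiv (M : Type u) [AddCommGroup M] [Module A M] :
    ((ModuleCat.restrictScalars (algebraMap A B)).obj (ModuleCat.of B (B ⊗[A] M))) ≃ₗ[A]
      (B ⊗[A] M) where
  toFun x := x
  invFun x := x
  map_add' _ _ := rfl
  map_smul' a x := by
    rw [ModuleCat.restrictScalars.smul_def, RingHom.id_apply]
    exact algebraMap_smul B a (show B ⊗[A] M from x)
  left_inv _ := rfl
  right_inv _ := rfl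

/-- The restriction of scalars of the `B`-module `B ⊗[A] M` is the `A`-module `B ⊗[A] M`. -/
noncomputable def restrictOfTensorIso (M : Type u) [AddCommGroup M] [Module A M] :
    (ModuleCat.restrictScalars (algebraMap A B)).obj (ModuleCat.of B (B ⊗[A] M)) ≅
      ModuleCat.of A (B ⊗[A] M) :=
  (restrictOfTensorEquiv M).toModuleIso

/-- If `K ⊗_A B` has tor amplitude in `[a, b]` over the flat `A`-algebra `B`, and `P → K` is a
K-flat resolution, then `P ⊗_A M'` is exact outside `[a, b]` for every `B`-module `M'`. -/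
theorem tensExactAt_restrict_of_hasTorAmplitudeIn_extCx [Module.Flat A B]
    (K : CochainComplex (ModuleCat.{u} A) ℤ) (a b : ℤ)
    (h : DRing.HasTorAmplitudeIn B a b (DRing.toD ((extCx (algebraMap A B)).obj K)))
    (P : CochainComplex (ModuleCat.{u} A) ℤ) (hP : IsKFlat P) (q : P ⟶ K) (hq : QuasiIso q)
    (M' : ModuleCat.{u} B) (i : ℤ) (hi : i < a ∨ b < i) :
    TensExactAt P ((ModuleCat.restrictScalars (algebraMap A B)).obj M') i := by
  rw [← tensExactAt_extCx_iff]
  have hP' := Groth.Agent.H35.KFBC.isKFlat_extendScalars (algebraMap A B) P hP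
  have hq' : QuasiIso ((extCx (algebraMap A B)).map q) := inferInstance
  have : IsIso (Q.map ((extCx (algebraMap A B)).map q)) :=
    (DerivedCategory.isIso_Q_map_iff_quasiIso (φ := (extCx (algebraMap A B)).map q)).2 hq'
  let e : Q.obj ((extCx (algebraMap A B)).obj P) ≅
      DRing.toD ((extCx (algebraMap A B)).obj K) := asIso (Q.map ((extCx (algebraMap A B)).map q))
  have : ∀ M : ModuleCat.{u} B, DRing.HasLTensor B M := fun M => hasLTensor M
  exact (subsingleton_HD_LTensor_iff M' _ hP' _ e i).1
    ((hasTorAmplitudeIn_iff_LTensor _ a b).1 h M' i hi)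

/-- The ladder `X ⊗ (B ⊗ M) ≃ B ⊗ (X ⊗ M)`. -/
lemma exact_lTensor_of_tensExactAt (P : CochainComplex (ModuleCat.{u} A) ℤ)
    (M : Type u) [AddCommGroup M] [Module A M] (i : ℤ)
    (h : TensExactAt P (ModuleCat.of A (B ⊗[A] M)) i) :
    Function.Exact (LinearMap.lTensor B (LinearMap.rTensor M (P.d (i - 1) i).hom))
      (LinearMap.lTensor B (LinearMap.rTensor M (P.d i (i + 1)).hom)) := by
  rw [tensExactAt_iff_function_exact P (B ⊗[A] M) (i - 1) i (i + 1) (by simp) (by simp)] at h
  refine (Function.Exact.iff_of_ladder_linearEquiv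
    (e₁ := TensorProduct.leftComm A (P.X (i - 1)) B M)
    (e₂ := TensorProduct.leftComm A (P.X i) B M)
    (e₃ := TensorProduct.leftComm A (P.X (i + 1)) B M) ?_ ?_).2 h
  · apply TensorProduct.ext_threefold'
    intro x y z
    rfl
  · apply TensorProduct.ext_threefold'
    intro x y z
    rfl

/-- Faithfully flat descent of tor amplitude (S6950). -/
theorem hasTorAmplitudeIn_of_faithfullyFlat_extCx [Module.FaithfullyFlat A B]
    (K : CochainComplex (ModuleCat.{u} A) ℤ) (a b : ℤ)
    (h : DRing.HasTorAmplitudeIn B a b (DRing.toD ((extCx (algebraMap A B)).obj K))) :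
    DRing.HasTorAmplitudeIn A a b (DRing.toD K) := by
  have : ∀ M : ModuleCat.{u} A, DRing.HasLTensor A M := fun M => hasLTensor M
  rw [hasTorAmplitudeIn_iff_LTensor]
  intro M i hi
  obtain ⟨P, q, hP, hPfl, hq, -⟩ := exists_isKFlat_resolution A K
  have : IsIso (Q.map q) := (DerivedCategory.isIso_Q_map_iff_quasiIso (φ := q)).2 hq
  let e : Q.obj P ≅ DRing.toD K := asIso (Q.map q)
  rw [subsingleton_HD_LTensor_iff M P hP _ e i]
  have h1 := tensExactAt_restrict_of_hasTorAmplitudeIn_extCx K a b h P hP q hq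
    (ModuleCat.of B (B ⊗[A] M)) i hi
  rw [tensExactAt_iff_of_iso P (restrictOfTensorIso (B := B) M) i] at h1
  have h2 := exact_lTensor_of_tensExactAt (B := B) P M i h1
  have h3 := Module.FaithfullyFlat.lTensor_reflects_exact A B _ _ h2
  exact (tensExactAt_iff_function_exact P M (i - 1) i (i + 1) (by simp) (by simp)).2 h3

/-- The localized map between base changes to a localization is `lTensor`. -/
lemma isLocalizedModule_map_mk_eq_lTensor {R : Type u} [CommRing R] (S : Submonoid R)
    (Rₛ : Type u) [CommRing Rₛ] [Algebra R Rₛ] [IsLocalization S Rₛ]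
    {X Y : Type u} [AddCommGroup X] [Module R X] [AddCommGroup Y] [Module R Y] (F : X →ₗ[R] Y) :
    IsLocalizedModule.map S (TensorProduct.mk R Rₛ X 1) (TensorProduct.mk R Rₛ Y 1) F =
      LinearMap.lTensor Rₛ F := by
  apply IsLocalizedModule.linearMap_ext S (TensorProduct.mk R Rₛ X 1) (TensorProduct.mk R Rₛ Y 1)
  rw [IsLocalizedModule.map_comp]
  ext x
  rfl

/-- Zariski descent of tor amplitude (S6949). -/
theorem hasTorAmplitudeIn_of_localization_away_extCx {R : Type u} [CommRing R] {r : ℕ}
    (f : Fin r → R) (hf : Ideal.span (Set.range f) = ⊤)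
    (K : CochainComplex (ModuleCat.{u} R) ℤ) (a b : ℤ)
    (h : ∀ k, DRing.HasTorAmplitudeIn (Localization.Away (f k)) a b
      (DRing.toD ((extCx (algebraMap R (Localization.Away (f k)))).obj K))) :
    DRing.HasTorAmplitudeIn R a b (DRing.toD K) := by
  have : ∀ M : ModuleCat.{u} R, DRing.HasLTensor R M := fun M => hasLTensor M
  rw [hasTorAmplitudeIn_iff_LTensor]
  intro M i hi
  obtain ⟨P, q, hP, hPfl, hq, -⟩ := exists_isKFlat_resolution R K
  have : IsIso (Q.map q) := (DerivedCategory.isIso_Q_map_iff_quasiIso (φ := q)).2 hq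
  let e : Q.obj P ≅ DRing.toD K := asIso (Q.map q)
  rw [subsingleton_HD_LTensor_iff M P hP _ e i]
  refine (tensExactAt_iff_function_exact P M (i - 1) i (i + 1) (by simp) (by simp)).2 ?_
  refine exact_of_isLocalized_span (Set.range f) hf
    (fun s => Localization.Away s.1 ⊗[R] (P.X (i - 1) ⊗[R] M))
    (fun s => TensorProduct.mk R (Localization.Away s.1) _ 1)
    (fun s => Localization.Away s.1 ⊗[R] (P.X i ⊗[R] M))
    (fun s => TensorProduct.mk R (Localization.Away s.1) _ 1)
    (fun s => Localization.Away s.1 ⊗[R] (P.X (i + 1) ⊗[R] M))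
    (fun s => TensorProduct.mk R (Localization.Away s.1) _ 1) _ _ ?_
  rintro ⟨_, k, rfl⟩
  rw [isLocalizedModule_map_mk_eq_lTensor, isLocalizedModule_map_mk_eq_lTensor]
  have h1 := tensExactAt_restrict_of_hasTorAmplitudeIn_extCx (B := Localization.Away (f k))
    K a b (h k) P hP q hq
    (ModuleCat.of (Localization.Away (f k)) (Localization.Away (f k) ⊗[R] M)) i hi
  rw [tensExactAt_iff_of_iso P (restrictOfTensorIso (B := Localization.Away (f k)) M) i] at h1
  exact exact_lTensor_of_tensExactAt (B := Localization.Away (f k)) P M i h1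

end Groth.Agent.H35.LT
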