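import Mathlib
import Groth.Agent.H35.PCMorFlatBC
import Groth.Agent.H35.TorAmpDescent

/-!
# Faithfully flat descent of pseudo-coherent and perfect ring maps (helper35)
-/

set_option autoImplicit false

open CategoryTheory Limits

namespace Groth.Agent.H35.PCFlatBC

universe u

open DerivedCategory Groth.Agent.H35.LT Groth.Agent.H35.KFBC TensorProduct
  Groth.Agent.H35.PCHomLocal Groth.Agent.H35.FTDLocal Groth.Agent.H35.RelPC
  Groth.Agent.H28 Groth.Agent.H28.PCohCore Groth.Agent.H28.PCohDer Groth.Agent.H28.PCohRing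
  Groth.Agent.H35.PolyTor Groth.Agent.H35.KF

attribute [local instance] HasDerivedCategory.standard

section Module

variable {P P' A A' : Type u} [CommRing P] [CommRing P'] [CommRing A] [CommRing A']
  [Algebra P P'] [Algebra P A] [Algebra P' A'] [Algebra A A'] [Algebra P A']
  [IsScalarTower P P' A'] [IsScalarTower P A A']

/-- the base change of `A[0]` along `P → P'` is `A'[0]` -/
noncomputable def extKSglIso [Algebra.IsPushout P P' A A'] :
    Q.obj (extK (algebraMap P P') ((HomologicalComplex.single (ModuleCat.{u} P)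
      (ComplexShape.up ℤ) 0).obj (ModuleCat.of P A))) ≅ Dual.inD P' A' :=
  extKSingleIso (algebraMap P P') (ModuleCat.of P A) ≪≫
    (DerivedCategory.singleFunctor (ModuleCat.{u} P') 0).mapIso
      (extendScalarsObjIso (A := P) (B := P') A ≪≫
        ((Algebra.IsPushout.equiv P P' A A').toLinearEquiv).toModuleIso)

/-- faithfully flat descent of pseudo-coherence of a module which is an algebra -/
theorem isPseudoCoherentModule'_of_baseChange_of_faithfullyFlat [Module.FaithfullyFlat P P']
    [Algebra.IsPushout P P' A A'] (h : DRing.IsPseudoCoherentModule' P' A') :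
    DRing.IsPseudoCoherentModule' P A := by
  have hff : (algebraMap P P').FaithfullyFlat := RingHom.faithfullyFlat_algebraMap_iff.2 inferInstance
  change DRing.IsPseudoCoherent' P (Dual.inD P A)
  rw [isPseudoCoherent'_iff]
  intro m
  have h1 : DRing.IsPseudoCoherent' P' (Dual.inD P' A') := h
  rw [isPseudoCoherent'_iff] at h1
  have h2 := Groth.Agent.H28.PCohFlat.isNPC_of_isNPC_extendScalars_family (ι := Unit)
    (fun _ => algebraMap P P') (fun _ => hff.flat)
    (fun M hM => Groth.Agent.H28.PCohFlat.isZero_of_isZero_extendScalars _ hff M (hM ()))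
    (fun M hM => Groth.Agent.H28.PCohFlat.finite_of_finite_extendScalars _ hff M (hM ())) m
    ((HomologicalComplex.single (ModuleCat.{u} P) (ComplexShape.up ℤ) 0).obj (ModuleCat.of P A))
    (fun _ => IsNPC.of_iso _ (h1 m) (extKSglIso (P := P) (P' := P') (A := A) (A' := A')).symm)
  exact IsNPC.of_iso _ h2 ((DerivedCategory.singleFunctorIsoCompQ (ModuleCat.{u} P) 0).app _).symm

/-- faithfully flat descent of finite tor dimension of an algebra -/
theorem hasFiniteTorDim_of_baseChange_of_faithfullyFlat [Module.FaithfullyFlat P P']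
    [Algebra.IsPushout P P' A A'] (h : DRing.HasFiniteTorDim P' A') :
    DRing.HasFiniteTorDim P A := by
  obtain ⟨d, h⟩ := h
  rw [hasTorDimLE_iff_hasTorAmplitudeIn] at h
  have h1 := hasTorAmplitudeIn_of_iso (extKSglIso (P := P) (P' := P') (A := A) (A' := A')).symm _ _ h
  have h2 := hasTorAmplitudeIn_of_faithfullyFlat_extCx (A := P) (B := P') _ _ _ h1
  exact hasFiniteTorDim_of_hasTorAmplitudeIn A _ _ (hasTorAmplitudeIn_of_iso
    ((DerivedCategory.singleFunctorIsoCompQ (ModuleCat.{u} P) 0).app _).symm _ _ h2)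

end Module

section Hom

/-- pseudo-coherence of a ring map can be tested on any presentation -/
theorem isPseudoCoherentModule'_of_isPseudoCoherentHom {R A : Type u} [CommRing R] [CommRing A]
    [Algebra R A] (h : MoreMor.IsPseudoCoherentHom R A) {n : ℕ}
    (φ : MvPolynomial (Fin n) R →ₐ[R] A) (hφ : Function.Surjective φ) :
    letI := φ.toRingHom.toAlgebra
    DRing.IsPseudoCoherentModule' (MvPolynomial (Fin n) R) A := by
  have h' := (isPseudoCoherentHom_iff R A).1 h
  letI alg : Algebra (MvPolynomial (Fin n) R) A := φ.toRingHom.toAlgebra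
  change DRing.IsPseudoCoherent' (MvPolynomial (Fin n) R) (Dual.inD (MvPolynomial (Fin n) R) A)
  rw [isPseudoCoherent'_iff]
  intro m
  have h2 := (isRelPseudoCoherent_iff_via φ hφ m _).1 (h' m)
  exact IsNPC.of_iso _ ((isPseudoCoherent_iff_isNPC _ _ _).1 h2)
    (restrictInDIso (MvPolynomial (Fin n) R) A)

variable {R R' A A' : Type u} [CommRing R] [CommRing R'] [CommRing A] [CommRing A']
  [Algebra R R'] [Algebra R A] [Algebra R' A'] [Algebra A A'] [Algebra R A']
  [IsScalarTower R R' A'] [IsScalarTower R A A']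

attribute [local instance] MvPolynomial.algebraMvPolynomial

/-- faithfully flat descent of pseudo-coherent ring maps -/
theorem isPseudoCoherentHom_of_baseChange_of_faithfullyFlat [Module.FaithfullyFlat R R']
    [Algebra.IsPushout R R' A A'] (h : MoreMor.IsPseudoCoherentHom R' A') :
    MoreMor.IsPseudoCoherentHom R A := by
  haveI hpo1 : Algebra.IsPushout R A R' A' := Algebra.IsPushout.symm inferInstance
  have hff : (algebraMap R R').FaithfullyFlat :=
    RingHom.faithfullyFlat_algebraMap_iff.2 inferInstance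
  have hft' : Algebra.FiniteType R' A' := finiteType_of_pcAlg ((isPseudoCoherentHom_iff _ _).1 h)
  have hft : Algebra.FiniteType R A := by
    have h1 := RingHom.FiniteType.codescendsAlong_faithfullyFlat (R := R) (S := A) (R' := R')
      (S' := A') hff (RingHom.finiteType_algebraMap.2 hft')
    exact RingHom.finiteType_algebraMap.1 h1
  obtain ⟨n, φ, hφ⟩ := Algebra.FiniteType.iff_quotient_mvPolynomial''.1 hft
  let φ' : MvPolynomial (Fin n) R' →ₐ[R'] A' :=
    MvPolynomial.aeval (fun i => algebraMap A A' (φ (MvPolynomial.X i)))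
  letI iPA : Algebra (MvPolynomial (Fin n) R) A := φ.toRingHom.toAlgebra
  letI iP'A' : Algebra (MvPolynomial (Fin n) R') A' := φ'.toRingHom.toAlgebra
  letI iPA' : Algebra (MvPolynomial (Fin n) R) A' :=
    ((algebraMap A A').comp φ.toRingHom).toAlgebra
  haveI t1 : IsScalarTower (MvPolynomial (Fin n) R) A A' := IsScalarTower.of_algebraMap_eq' rfl
  have hcomm : (φ'.toRingHom).comp (MvPolynomial.map (algebraMap R R')) =
      (algebraMap A A').comp φ.toRingHom := by
    apply MvPolynomial.ringHom_ext
    · intro r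
      simp only [RingHom.comp_apply, MvPolynomial.map_C, AlgHom.toRingHom_eq_coe, RingHom.coe_coe,
        φ', MvPolynomial.aeval_C]
      rw [← MvPolynomial.algebraMap_eq, φ.commutes, ← IsScalarTower.algebraMap_apply,
        ← IsScalarTower.algebraMap_apply]
    · intro i
      simp [φ']
  haveI t2 : IsScalarTower (MvPolynomial (Fin n) R) (MvPolynomial (Fin n) R') A' :=
    IsScalarTower.of_algebraMap_eq' hcomm.symm
  haveI t3 : IsScalarTower R (MvPolynomial (Fin n) R) A :=
    IsScalarTower.of_algebraMap_eq' φ.comp_algebraMap.symm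
  haveI t4 : IsScalarTower R' (MvPolynomial (Fin n) R') A' :=
    IsScalarTower.of_algebraMap_eq' φ'.comp_algebraMap.symm
  haveI t5 : IsScalarTower R (MvPolynomial (Fin n) R') A' :=
    IsScalarTower.of_algebraMap_eq' (by
      rw [IsScalarTower.algebraMap_eq R R' A', IsScalarTower.algebraMap_eq R' (MvPolynomial (Fin n) R') A',
        RingHom.comp_assoc, ← IsScalarTower.algebraMap_eq R R' (MvPolynomial (Fin n) R')])
  haveI t6 : IsScalarTower R (MvPolynomial (Fin n) R) A' :=
    IsScalarTower.of_algebraMap_eq' (by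
      rw [IsScalarTower.algebraMap_eq R A A', IsScalarTower.algebraMap_eq R (MvPolynomial (Fin n) R) A,
        ← RingHom.comp_assoc, ← IsScalarTower.algebraMap_eq (MvPolynomial (Fin n) R) A A'])
  haveI hpo2 : Algebra.IsPushout (MvPolynomial (Fin n) R) A (MvPolynomial (Fin n) R') A' :=
    (Algebra.IsPushout.comp_iff R (MvPolynomial (Fin n) R) R' (MvPolynomial (Fin n) R')
      (T := A) (T' := A')).1 hpo1
  haveI hpo3 : Algebra.IsPushout (MvPolynomial (Fin n) R) (MvPolynomial (Fin n) R') A A' :=
    Algebra.IsPushout.symm hpo2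
  haveI hffP : Module.FaithfullyFlat (MvPolynomial (Fin n) R) (MvPolynomial (Fin n) R') :=
    RingHom.faithfullyFlat_algebraMap_iff.1
      (RingHom.FaithfullyFlat.isStableUnderBaseChange R R' (MvPolynomial (Fin n) R)
        (MvPolynomial (Fin n) R') hff)
  have hφ' : Function.Surjective φ' := by
    intro x
    have hbc : IsBaseChange (MvPolynomial (Fin n) R')
        (IsScalarTower.toAlgHom (MvPolynomial (Fin n) R) A A').toLinearMap := hpo3.out
    refine hbc.inductionOn x (fun y => ∃ p, φ' p = y) ⟨0, map_zero _⟩ ?_ ?_ ?_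
    · intro a
      obtain ⟨p, rfl⟩ := hφ a
      exact ⟨MvPolynomial.map (algebraMap R R') p, RingHom.congr_fun hcomm p⟩
    · rintro q y ⟨p, rfl⟩
      exact ⟨q * p, by rw [map_mul]; rfl⟩
    · rintro y z ⟨p, rfl⟩ ⟨q, rfl⟩
      exact ⟨p + q, map_add _ _ _⟩
  refine ⟨n, φ, hφ, ?_⟩
  have hpc' := isPseudoCoherentModule'_of_isPseudoCoherentHom h φ' hφ'
  exact isPseudoCoherentModule'_of_baseChange_of_faithfullyFlat hpc'

end Hom

section Codescent

lemma qpc_codescendsAlong : RingHom.CodescendsAlong Qpc RingHom.FaithfullyFlat := by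
  intro R S R' S' _ _ _ _ _ _ _ _ _ _ _ hpo hff h
  rw [qpc_algebraMap_iff, ← isPseudoCoherentHom_iff] at h ⊢
  haveI : Module.FaithfullyFlat R R' := RingHom.faithfullyFlat_algebraMap_iff.1 hff
  haveI : Algebra.IsPushout R R' S S' := hpo.symm
  exact isPseudoCoherentHom_of_baseChange_of_faithfullyFlat (R := R) (R' := R') (A := S)
    (A' := S') h

lemma qftd_codescendsAlong : RingHom.CodescendsAlong Qftd RingHom.FaithfullyFlat := by
  intro R S R' S' _ _ _ _ _ _ _ _ _ _ _ hpo hff h
  rw [qftd_algebraMap_iff] at h ⊢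
  haveI : Module.FaithfullyFlat R R' := RingHom.faithfullyFlat_algebraMap_iff.1 hff
  haveI : Algebra.IsPushout R R' S S' := hpo.symm
  exact hasFiniteTorDim_of_baseChange_of_faithfullyFlat (P := R) (P' := R') (A := S) (A' := S') h

lemma qperf_codescendsAlong : RingHom.CodescendsAlong Qperf RingHom.FaithfullyFlat := by
  intro R S R' S' _ _ _ _ _ _ _ _ _ _ _ hpo hff h
  exact ⟨qpc_codescendsAlong hff h.1, qftd_codescendsAlong hff h.2⟩

end Codescent

end Groth.Agent.H35.PCFlatBC
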