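import Mathlib
import Groth.Agent.H35.BCSquareD
import Groth.Agent.H35.PCFlatDescent
import Groth.Agent.H35.KFTorInv
import Groth.Agent.H35.LTensorRing
import Groth.Agent.H35.RestrictFlat
import Groth.Agent.H35.PerfCx

/-!
# Base change of flat pseudo-coherent ring maps (Tor-independent base change) (helper35)
-/

set_option autoImplicit false

open CategoryTheory Limits ZeroObject

namespace Groth.Agent.H35.TorIndepBC

universe u

open DerivedCategory Groth.Agent.H35.LT Groth.Agent.H35.KF Groth.Agent.H35.KFBC TensorProduct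
  Groth.Agent.H35.BCSq Groth.Agent.H35.FTDLocal

attribute [local instance] HasDerivedCategory.standard

section Cone

variable {R : Type u} [CommRing R]

lemma isZero_Q_obj_iff_exactAt (Z : CochainComplex (ModuleCat.{u} R) ℤ) :
    IsZero (Q.obj Z) ↔ ∀ i, Z.ExactAt i := by
  constructor
  · intro h i
    rw [HomologicalComplex.exactAt_iff_isZero_homology]
    exact IsZero.of_iso ((DerivedCategory.homologyFunctor (ModuleCat.{u} R) i).map_isZero h)
      ((DerivedCategory.homologyFunctorFactors (ModuleCat.{u} R) i).app Z).symm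
  · intro h
    have := quasiIso_zero_of_exactAt Z h
    have hiso : IsIso (Q.map (0 : Z ⟶ (0 : CochainComplex (ModuleCat.{u} R) ℤ))) :=
      (DerivedCategory.isIso_Q_map_iff_quasiIso
        (φ := (0 : Z ⟶ (0 : CochainComplex (ModuleCat.{u} R) ℤ)))).2 this
    exact IsZero.of_iso (Q.map_isZero (isZero_zero _)) (asIso (Q.map (0 : Z ⟶ 0)))

lemma quasiIso_iff_exactAt_mappingCone {K L : CochainComplex (ModuleCat.{u} R) ℤ} (φ : K ⟶ L) :
    QuasiIso φ ↔ ∀ i, (CochainComplex.mappingCone φ).ExactAt i := by
  rw [← isZero_Q_obj_iff_exactAt, ← DerivedCategory.isIso_Q_map_iff_quasiIso]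
  exact (Pretriangulated.Triangle.isZero₃_iff_isIso₁ _
    (DerivedCategory.mappingCone_triangle_distinguished φ)).symm

end Cone

section Concrete

variable (R A R' : Type u) [CommRing R] [CommRing A] [CommRing R'] [Algebra R A] [Algebra R R']

/-- concrete core: a bounded above acyclic complex of `A`-modules which are flat over `R` stays
acyclic after base change to `R' ⊗_R A` -/
theorem exactAt_extK_psi (Z : CochainComplex (ModuleCat.{u} A) ℤ) (b : ℤ)
    (hb : ∀ i, b < i → IsZero (Z.X i))
    (hfl : ∀ i, Module.Flat R ((resL (algebraMap R A) Z).X i))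
    (hac : ∀ i, Z.ExactAt i) (i : ℤ) : (extK (psi R A R') Z).ExactAt i := by
  rw [← exactAt_map_restrictScalars_iff (algebraMap R' (R' ⊗[R] A)),
    exactAt_iff_of_iso' (cxIso R A R' Z) i, exactAt_map_extendScalars_iff]
  refine tensExactAt_of_isKFlat_of_exactAt _ ?_ ?_ _ i
  · exact isKFlat_of_bounded_flat _ b
      (fun j hj => (ModuleCat.restrictScalars _).map_isZero (hb j hj)) hfl
  · intro j
    exact (exactAt_map_restrictScalars_iff (algebraMap R A) Z j).2 (hac j)

end Concrete

section Abstract

variable {R R' A P : Type u} [CommRing R] [CommRing R'] [CommRing A] [CommRing P]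
  [Algebra R R'] [Algebra R A] [Algebra R' P] [Algebra A P] [Algebra R P]
  [IsScalarTower R R' P] [IsScalarTower R A P]

/-- the comparison ring isomorphism `R' ⊗_R A ≃ P` for a pushout square -/
noncomputable def pushoutRingHom [Algebra.IsPushout R R' A P] : R' ⊗[R] A →+* P :=
  ((Algebra.IsPushout.equiv R R' A P : (R' ⊗[R] A) ≃ₐ[R'] P) : (R' ⊗[R] A) →+* P)

lemma pushoutRingHom_bijective [Algebra.IsPushout R R' A P] :
    Function.Bijective (pushoutRingHom (R := R) (R' := R') (A := A) (P := P)) :=
  (Algebra.IsPushout.equiv R R' A P).bijective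

lemma pushoutRingHom_comp_psi [Algebra.IsPushout R R' A P] :
    (pushoutRingHom (R := R) (R' := R') (A := A) (P := P)).comp (psi R A R') =
      algebraMap A P := by
  ext a
  change (Algebra.IsPushout.equiv R R' A P) ((1 : R') ⊗ₜ[R] a) = _
  rw [Algebra.IsPushout.equiv_tmul, map_one, one_mul]

/-- a bounded above acyclic complex of `A`-modules which are flat over `R` stays acyclic after
base change along a pushout of `R → A` -/
theorem exactAt_extK_of_isPushout [Algebra.IsPushout R R' A P]
    (Z : CochainComplex (ModuleCat.{u} A) ℤ) (b : ℤ)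
    (hb : ∀ i, b < i → IsZero (Z.X i))
    (hfl : ∀ i, Module.Flat R ((resL (algebraMap R A) Z).X i))
    (hac : ∀ i, Z.ExactAt i) (i : ℤ) : (extK (algebraMap A P) Z).ExactAt i := by
  rw [← pushoutRingHom_comp_psi (R := R) (R' := R'),
    exactAt_iff_of_iso' (extKCompIso (psi R A R') pushoutRingHom Z) i]
  exact exactAt_extK_of_flat _ (RingHom.Flat.of_bijective pushoutRingHom_bijective) _ i
    (exactAt_extK_psi R A R' Z b hb hfl hac i)

end Abstract

section Lift

variable {A : Type u} [CommRing A]

/-- lifting an isomorphism in `D(A)` with K-projective source to a quasi-isomorphism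
(after helper84) -/
lemma exists_quasiIso_of_iso' (P E : CochainComplex (ModuleCat.{u} A) ℤ) [P.IsKProjective]
    (e : Q.obj P ≅ Q.obj E) : ∃ s : P ⟶ E, QuasiIso s := by
  let Hq := HomotopyCategory.quotient (ModuleCat.{u} A) (ComplexShape.up ℤ)
  let φ : DerivedCategory.Qh.obj (Hq.obj P) ⟶ DerivedCategory.Qh.obj (Hq.obj E) :=
    (DerivedCategory.quotientCompQhIso _).hom.app P ≫ e.hom ≫
      (DerivedCategory.quotientCompQhIso _).inv.app E
  obtain ⟨g, hg⟩ := (CochainComplex.IsKProjective.Qh_map_bijective P _).2 φ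
  obtain ⟨s, rfl⟩ := Hq.map_surjective g
  refine ⟨s, ?_⟩
  rw [← DerivedCategory.isIso_Q_map_iff_quasiIso]
  have h : DerivedCategory.Q.map s = e.hom := by
    have nat := (DerivedCategory.quotientCompQhIso (ModuleCat.{u} A)).hom.naturality s
    dsimp only [Functor.comp_map] at nat
    rw [hg] at nat
    simp only [φ, Category.assoc, Iso.inv_hom_id_app, Category.comp_id] at nat
    exact ((cancel_epi _).1 nat).symm
  rw [h]
  infer_instance

end Lift

section Flatness

variable {R A : Type u} [CommRing R] [CommRing A] [Algebra R A]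

lemma flat_restrict_of_iso {N N' : ModuleCat.{u} A} (e : N ≅ N')
    (h : Module.Flat R ((ModuleCat.restrictScalars (algebraMap R A)).obj N)) :
    Module.Flat R ((ModuleCat.restrictScalars (algebraMap R A)).obj N') :=
  Module.Flat.of_linearEquiv
    ((ModuleCat.restrictScalars (algebraMap R A)).mapIso e).symm.toLinearEquiv

lemma flat_restrict_of_isZero {N : ModuleCat.{u} A} (h : IsZero N) :
    Module.Flat R ((ModuleCat.restrictScalars (algebraMap R A)).obj N) := by
  have : Subsingleton ((ModuleCat.restrictScalars (algebraMap R A)).obj N) :=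
    ModuleCat.subsingleton_of_isZero ((ModuleCat.restrictScalars _).map_isZero h)
  infer_instance

lemma flat_restrict_biprod (X Y : ModuleCat.{u} A)
    (hX : Module.Flat R ((ModuleCat.restrictScalars (algebraMap R A)).obj X))
    (hY : Module.Flat R ((ModuleCat.restrictScalars (algebraMap R A)).obj Y)) :
    Module.Flat R ((ModuleCat.restrictScalars (algebraMap R A)).obj (X ⊞ Y)) := by
  haveI : PreservesBinaryBiproducts (ModuleCat.restrictScalars.{u} (algebraMap R A)) :=
    preservesBinaryBiproducts_of_preservesBinaryProducts _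
  exact isFlat_of_iso ((ModuleCat.restrictScalars (algebraMap R A)).mapBiprod X Y).symm
    (isFlat_biprod _ _ hX hY)

end Flatness

section ModuleBC

variable {R R' A P : Type u} [CommRing R] [CommRing R'] [CommRing A] [CommRing P]
  [Algebra R R'] [Algebra R A] [Algebra R' P] [Algebra A P] [Algebra R P]
  [IsScalarTower R R' P] [IsScalarTower R A P]

open Groth.Agent.H35.PCHomLocal in
/-- Tor-independent base change of pseudo-coherent modules: for a pushout `P = R' ⊗_R A` with
`A` flat over `R`, and `M` a pseudo-coherent `A`-module which is flat over `R`, the `P`-module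
`P ⊗_A M` is pseudo-coherent. -/
theorem isPseudoCoherent'_extendScalars_of_flat [Algebra.IsPushout R R' A P] [Module.Flat R A]
    (M : ModuleCat.{u} A)
    (hM : Module.Flat R ((ModuleCat.restrictScalars (algebraMap R A)).obj M))
    (h : DRing.IsPseudoCoherent' A ((DerivedCategory.singleFunctor (ModuleCat.{u} A) 0).obj M)) :
    DRing.IsPseudoCoherent' P ((DerivedCategory.singleFunctor (ModuleCat.{u} P) 0).obj
      ((ModuleCat.extendScalars.{u, u, u} (algebraMap A P)).obj M)) := by
  obtain ⟨E, b, hb, hE, ⟨e⟩⟩ := h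
  haveI : E.IsKProjective := Groth.Agent.H35.isKProjective_of_vanishesAbove E b hb (fun i => by
    have := (hE i).2
    infer_instance)
  let S := (HomologicalComplex.single (ModuleCat.{u} A) (ComplexShape.up ℤ) 0).obj M
  have e' : Q.obj E ≅ Q.obj S :=
    e ≪≫ (DerivedCategory.singleFunctorIsoCompQ (ModuleCat.{u} A) 0).app M
  obtain ⟨s, hs⟩ := exists_quasiIso_of_iso' E S e'
  have hac : ∀ i, (CochainComplex.mappingCone s).ExactAt i :=
    (quasiIso_iff_exactAt_mappingCone s).1 hs
  have hbZ : ∀ i, max b 0 < i → IsZero ((CochainComplex.mappingCone s).X i) := fun i hi =>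
    Groth.Agent.H35.mappingCone_isZero s i (hb _ (by omega))
      (HomologicalComplex.isZero_single_obj_X (ComplexShape.up ℤ) 0 M i (by omega))
  have hflZ : ∀ i, Module.Flat R
      ((resL (algebraMap R A) (CochainComplex.mappingCone s)).X i) := by
    intro i
    refine flat_restrict_of_iso (Groth.Agent.H35.mappingConeXIso s i).symm
      (flat_restrict_biprod _ _ ?_ ?_)
    · have := (hE (i + 1)).2
      exact flat_restrictScalars_of_flat (E.X (i + 1))
    · by_cases hi : i = 0
      · subst hi
        exact flat_restrict_of_iso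
          (HomologicalComplex.singleObjXSelf (ComplexShape.up ℤ) (0 : ℤ) M).symm hM
      · exact flat_restrict_of_isZero
          (HomologicalComplex.isZero_single_obj_X (ComplexShape.up ℤ) 0 M i hi)
  have hacZ := fun i => exactAt_extK_of_isPushout (R := R) (R' := R') (A := A) (P := P)
    (CochainComplex.mappingCone s) (max b 0) hbZ hflZ hac i
  have hqi : QuasiIso (((ModuleCat.extendScalars.{u, u, u} (algebraMap A P)).mapHomologicalComplex
      (ComplexShape.up ℤ)).map s) := by
    rw [quasiIso_iff_exactAt_mappingCone]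
    intro i
    exact (exactAt_iff_of_iso' (CochainComplex.mappingCone.mapHomologicalComplexIso s
      (ModuleCat.extendScalars.{u, u, u} (algebraMap A P))) i).1 (hacZ i)
  have hiso : IsIso (Q.map (((ModuleCat.extendScalars.{u, u, u}
      (algebraMap A P)).mapHomologicalComplex (ComplexShape.up ℤ)).map s)) :=
    (DerivedCategory.isIso_Q_map_iff_quasiIso (φ := ((ModuleCat.extendScalars.{u, u, u}
      (algebraMap A P)).mapHomologicalComplex (ComplexShape.up ℤ)).map s)).2 hqi
  refine ⟨extK (algebraMap A P) E, b, fun i hi => (ModuleCat.extendScalars _).map_isZero (hb i hi),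
    fun i => ?_, ⟨asIso (Q.map (((ModuleCat.extendScalars.{u, u, u}
      (algebraMap A P)).mapHomologicalComplex (ComplexShape.up ℤ)).map s)) ≪≫
        extKSingleIso (algebraMap A P) M⟩⟩
  have := (hE i).1
  have := (hE i).2
  exact ⟨finite_extendScalars (algebraMap A P) (E.X i), free_extendScalars (algebraMap A P) (E.X i)⟩

end ModuleBC

section Hom

variable {R R' A A' : Type u} [CommRing R] [CommRing R'] [CommRing A] [CommRing A']
  [Algebra R R'] [Algebra R A] [Algebra R' A'] [Algebra A A'] [Algebra R A']
  [IsScalarTower R R' A'] [IsScalarTower R A A']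

attribute [local instance] MvPolynomial.algebraMvPolynomial

open Groth.Agent.H35.PCFlatBC in
/-- arbitrary base change of a FLAT pseudo-coherent ring map is pseudo-coherent -/
theorem isPseudoCoherentHom_baseChange_of_flat_source [Module.Flat R A]
    [Algebra.IsPushout R R' A A'] (h : MoreMor.IsPseudoCoherentHom R A) :
    MoreMor.IsPseudoCoherentHom R' A' := by
  obtain ⟨n, φ, hφ, hpc⟩ := h
  let φ' : MvPolynomial (Fin n) R' →ₐ[R'] A' :=
    MvPolynomial.aeval (fun i => algebraMap A A' (φ (MvPolynomial.X i)))
  letI iPA : Algebra (MvPolynomial (Fin n) R) A := φ.toRingHom.toAlgebra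
  letI iP'A' : Algebra (MvPolynomial (Fin n) R') A' := φ'.toRingHom.toAlgebra
  letI iPA' : Algebra (MvPolynomial (Fin n) R) A' :=
    ((algebraMap A A').comp φ.toRingHom).toAlgebra
  haveI t1 : IsScalarTower (MvPolynomial (Fin n) R) A A' := IsScalarTower.of_algebraMap_eq' rfl
  have hcomm : (φ'.toRingHom).comp (MvPolynomial.map (algebraMap R R')) =
      (algebraMap A A').comp φ.toRingHom := by
    apply MvPolynomial.ringHom_ext
    · intro r
      simp only [RingHom.comp_apply, MvPolynomial.map_C, AlgHom.toRingHom_eq_coe, RingHom.coe_coe,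
        φ', MvPolynomial.aeval_C]
      rw [← MvPolynomial.algebraMap_eq, φ.commutes, ← IsScalarTower.algebraMap_apply,
        ← IsScalarTower.algebraMap_apply]
    · intro i
      simp [φ']
  haveI t2 : IsScalarTower (MvPolynomial (Fin n) R) (MvPolynomial (Fin n) R') A' :=
    IsScalarTower.of_algebraMap_eq' hcomm.symm
  haveI t3 : IsScalarTower R (MvPolynomial (Fin n) R) A :=
    IsScalarTower.of_algebraMap_eq' φ.comp_algebraMap.symm
  haveI t4 : IsScalarTower R' (MvPolynomial (Fin n) R') A' :=
    IsScalarTower.of_algebraMap_eq' φ'.comp_algebraMap.symm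
  haveI t5 : IsScalarTower R (MvPolynomial (Fin n) R') A' :=
    IsScalarTower.of_algebraMap_eq' (by
      rw [IsScalarTower.algebraMap_eq R R' A', IsScalarTower.algebraMap_eq R' (MvPolynomial (Fin n) R') A',
        RingHom.comp_assoc, ← IsScalarTower.algebraMap_eq R R' (MvPolynomial (Fin n) R')])
  haveI t6 : IsScalarTower R (MvPolynomial (Fin n) R) A' :=
    IsScalarTower.of_algebraMap_eq' (by
      rw [IsScalarTower.algebraMap_eq R A A', IsScalarTower.algebraMap_eq R (MvPolynomial (Fin n) R) A,
        ← RingHom.comp_assoc, ← IsScalarTower.algebraMap_eq (MvPolynomial (Fin n) R) A A'])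
  haveI hpo1 : Algebra.IsPushout R A R' A' := Algebra.IsPushout.symm inferInstance
  haveI hpo2 : Algebra.IsPushout (MvPolynomial (Fin n) R) A (MvPolynomial (Fin n) R') A' :=
    (Algebra.IsPushout.comp_iff R (MvPolynomial (Fin n) R) R' (MvPolynomial (Fin n) R')
      (T := A) (T' := A')).1 hpo1
  haveI hpo3 : Algebra.IsPushout (MvPolynomial (Fin n) R) (MvPolynomial (Fin n) R') A A' :=
    Algebra.IsPushout.symm hpo2
  have hφ' : Function.Surjective φ' := by
    intro x
    have hbc : IsBaseChange (MvPolynomial (Fin n) R')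
        (IsScalarTower.toAlgHom (MvPolynomial (Fin n) R) A A').toLinearMap := hpo3.out
    refine hbc.inductionOn x (fun y => ∃ p, φ' p = y) ⟨0, map_zero _⟩ ?_ ?_ ?_
    · intro a
      obtain ⟨p, rfl⟩ := hφ a
      exact ⟨MvPolynomial.map (algebraMap R R') p, RingHom.congr_fun hcomm p⟩
    · rintro q y ⟨p, rfl⟩
      exact ⟨q * p, by rw [map_mul]; rfl⟩
    · rintro y z ⟨p, rfl⟩ ⟨q, rfl⟩
      exact ⟨p + q, map_add _ _ _⟩
  refine ⟨n, φ', hφ', ?_⟩
  have hM : Module.Flat R ((ModuleCat.restrictScalars (algebraMap R (MvPolynomial (Fin n) R))).obj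
      (ModuleCat.of (MvPolynomial (Fin n) R) A)) :=
    Module.Flat.of_linearEquiv
      (restrictTowerIso (R := R) (A := MvPolynomial (Fin n) R) (B := A)).toLinearEquiv
  have h1 := isPseudoCoherent'_extendScalars_of_flat (R := R) (R' := R')
    (A := MvPolynomial (Fin n) R) (P := MvPolynomial (Fin n) R')
    (ModuleCat.of (MvPolynomial (Fin n) R) A) hM hpc
  exact isPseudoCoherent'_of_iso ((DerivedCategory.singleFunctor _ 0).mapIso
    (extendScalarsObjIso (A := MvPolynomial (Fin n) R) (B := MvPolynomial (Fin n) R') A ≪≫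
      ((Algebra.IsPushout.equiv (MvPolynomial (Fin n) R) (MvPolynomial (Fin n) R') A
        A').toLinearEquiv).toModuleIso)) h1

end Hom

end Groth.Agent.H35.TorIndepBC
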