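import Mathlib
import Groth.Agent.H35.TorIndepBC
import Groth.Agent.H35.KFCone
import Groth.Agent.H35.KFSymmetry
import Groth.Agent.H35.KFBaseChange
import Groth.Agent.H45.KFlat.Acyclic
import Groth.Agent.H35.FTDLocal
import Groth.Agent.H35.TorAmpRestrict
import Groth.Agent.H28.PCohLBC
import Groth.Agent.H35.KFRes

/-!
# Tor independent base change, complex level (helper35)

Let `φ : R → A` be a ring map and `π : Pr ⟶ T` a morphism of complexes of `R`-modules with `Pr`
K-flat whose cone stays acyclic after base change to `A` ("`A` and `T` are tor independent over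
`R`").  For a K-flat complex `F` of `A`-modules and a K-flat resolution `q : G' ⟶ F|_R` over `R`,
the complex `cone(q) ⊗_R T` is acyclic.
-/

set_option autoImplicit false

open CategoryTheory Limits MonoidalCategory

namespace Groth.Agent.H35.TIGen

universe u

open HomologicalComplex Groth.Agent.H35.KF Groth.Agent.H35.KFBC Groth.Agent.H35.LT

section Acyc

variable {R : Type u} [CommRing R]

/-- acyclicity -/
abbrev Acyc (K : CochainComplex (ModuleCat.{u} R) ℤ) : Prop := ∀ i : ℤ, IsZero (K.homology i)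

lemma acyc_of_iso {K K' : CochainComplex (ModuleCat.{u} R) ℤ} (e : K ≅ K') (h : Acyc K) :
    Acyc K' := fun i =>
  (h i).of_iso ((HomologicalComplex.homologyFunctor _ _ i).mapIso e.symm)

lemma acyc_iff_exactAt (K : CochainComplex (ModuleCat.{u} R) ℤ) :
    Acyc K ↔ ∀ i, K.ExactAt i :=
  forall_congr' fun i => (exactAt_iff_isZero_homology K i).symm

lemma acyc_tensor_shift_iff (F K : CochainComplex (ModuleCat.{u} R) ℤ) (n : ℤ) :
    Acyc (F ⊗ (K⟦n⟧)) ↔ Acyc (F ⊗ K) := by
  have e : F ⊗ (K⟦n⟧) ≅ (F ⊗ K)⟦n⟧ :=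
    CochainComplex.mapBifunctorShift₂Iso F K (curriedTensor (ModuleCat.{u} R)) n
  exact ⟨fun h => (acyclic_shift_iff (F ⊗ K) n).1 (acyc_of_iso e h),
    fun h => acyc_of_iso e.symm ((acyclic_shift_iff (F ⊗ K) n).2 h)⟩

/-- two out of three for `L ⊗ -` along a mapping cone -/
lemma acyc_tensor_cone (L : CochainComplex (ModuleCat.{u} R) ℤ)
    {K₁ K₂ : CochainComplex (ModuleCat.{u} R) ℤ} (φ : K₁ ⟶ K₂) :
    (Acyc (L ⊗ K₁) → Acyc (L ⊗ K₂) → Acyc (L ⊗ CochainComplex.mappingCone φ)) ∧
    (Acyc (L ⊗ K₁) → Acyc (L ⊗ CochainComplex.mappingCone φ) → Acyc (L ⊗ K₂)) ∧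
    (Acyc (L ⊗ K₂) → Acyc (L ⊗ CochainComplex.mappingCone φ) → Acyc (L ⊗ K₁)) := by
  have hS := shortExact_map_tensorLeft_of_splitting
    (CochainComplex.mappingCone.triangleRotateShortComplex φ)
    (CochainComplex.mappingCone.triangleRotateShortComplexSplitting φ) L
  have hs : Acyc (L ⊗ (K₁⟦(1 : ℤ)⟧)) ↔ Acyc (L ⊗ K₁) := acyc_tensor_shift_iff L K₁ 1
  refine ⟨fun h₁ h₂ => ?_, fun h₁ h₃ => ?_, fun h₂ h₃ => ?_⟩
  · exact Groth.Agent.H45.acyclic_X₂_of_shortExact _ hS h₂ (hs.2 h₁)
  · exact Groth.Agent.H45.acyclic_X₁_of_shortExact _ hS h₃ (hs.2 h₁)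
  · exact hs.1 (Groth.Agent.H45.acyclic_X₃_of_shortExact _ hS h₂ h₃)

end Acyc

section TI

variable {R A : Type u} [CommRing R] [CommRing A] (φ : R →+* A)

lemma acyc_resL_iff (T : CochainComplex (ModuleCat.{u} A) ℤ) : Acyc (resL φ T) ↔ Acyc T := by
  rw [acyc_iff_exactAt, acyc_iff_exactAt]
  exact forall_congr' fun i => exactAt_map_restrictScalars_iff φ T i

/-- TI-1: if `Z ⊗_R A` is acyclic and `F` is K-flat over `A` then `F|_R ⊗_R Z` is acyclic -/
lemma acyc_resL_tensor (F : CochainComplex (ModuleCat.{u} A) ℤ) (hF : IsKFlat F)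
    (Z : CochainComplex (ModuleCat.{u} R) ℤ) (hZ : Acyc (extK φ Z)) : Acyc (resL φ F ⊗ Z) := by
  have h1 : Acyc (F ⊗ extK φ Z) := isZero_homology_tensor_left_of_isKFlat hF (extK φ Z) hZ
  exact acyc_of_iso (restrictTensorIso φ F Z) ((acyc_resL_iff φ _).2 h1)

end TI

section Chain

variable {R : Type u} [CommRing R]

/-- TI-2/3: the abstract chain. -/
theorem acyc_cone_tensor {Pr T : CochainComplex (ModuleCat.{u} R) ℤ} (π : Pr ⟶ T)
    (hPr : IsKFlat Pr) (hZ : Acyc (CochainComplex.mappingCone π))
    (L : CochainComplex (ModuleCat.{u} R) ℤ) (hL : Acyc (L ⊗ CochainComplex.mappingCone π))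
    {G' : CochainComplex (ModuleCat.{u} R) ℤ} (hG' : IsKFlat G') (q : G' ⟶ L)
    (hq : Acyc (CochainComplex.mappingCone q)) :
    Acyc (CochainComplex.mappingCone q ⊗ T) := by
  -- `Z ⊗ cone q` is acyclic
  have h1 : Acyc (CochainComplex.mappingCone π ⊗ G') := hG' _ hZ
  have h2 : Acyc (CochainComplex.mappingCone π ⊗ L) := acyc_of_iso (tensorSwapIso _ _) hL
  have h3 : Acyc (CochainComplex.mappingCone π ⊗ CochainComplex.mappingCone q) :=
    (acyc_tensor_cone _ q).1 h1 h2
  -- `cone q ⊗ Pr` is acyclic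
  have h4 : Acyc (CochainComplex.mappingCone q ⊗ Pr) := hPr _ hq
  have h5 : Acyc (CochainComplex.mappingCone q ⊗ CochainComplex.mappingCone π) :=
    acyc_of_iso (tensorSwapIso _ _) h3
  exact (acyc_tensor_cone _ π).2.1 h4 h5

/-- module form -/
theorem tensExactAt_cone {Pr : CochainComplex (ModuleCat.{u} R) ℤ} (N : ModuleCat.{u} R)
    (π : Pr ⟶ sgl N)
    (hPr : IsKFlat Pr) (hZ : Acyc (CochainComplex.mappingCone π))
    (L : CochainComplex (ModuleCat.{u} R) ℤ) (hL : Acyc (L ⊗ CochainComplex.mappingCone π))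
    {G' : CochainComplex (ModuleCat.{u} R) ℤ} (hG' : IsKFlat G') (q : G' ⟶ L)
    (hq : Acyc (CochainComplex.mappingCone q)) (i : ℤ) :
    TensExactAt (CochainComplex.mappingCone q) N i := by
  rw [← exactAt_tensor_sgl_iff]
  exact (acyc_iff_exactAt _).1 (acyc_cone_tensor π hPr hZ L hL hG' q hq) i

end Chain

section OverR

open Groth.Agent.H35.TorIndepBC

variable {R A R' : Type u} [CommRing R] [CommRing A] [CommRing R'] (φ : R →+* A) (ρ : R →+* R')

/-- tor independence data for `φ : R → A` and the `R`-module `R'`: a K-flat resolution of `R'`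
over `R` which stays a resolution after base change to `A` -/
def TorIndepData : Prop :=
  ∃ (Pr : CochainComplex (ModuleCat.{u} R) ℤ) (π : Pr ⟶ sgl (BA ρ)), IsKFlat Pr ∧ QuasiIso π ∧
    ∀ i, (extK φ (CochainComplex.mappingCone π)).ExactAt i

variable {φ ρ}

/-- over `R`: the cone of a K-flat resolution of `F|_R` stays acyclic after base change to `R'` -/
theorem exactAt_extK_cone_of_torIndepData (h : TorIndepData φ ρ)
    (F : CochainComplex (ModuleCat.{u} A) ℤ) (hF : IsKFlat F)
    (L : CochainComplex (ModuleCat.{u} R) ℤ) (e : L ≅ resL φ F)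
    {G' : CochainComplex (ModuleCat.{u} R) ℤ} (hG' : IsKFlat G') (q : G' ⟶ L) (hq : QuasiIso q)
    (i : ℤ) : (extK ρ (CochainComplex.mappingCone q)).ExactAt i := by
  obtain ⟨Pr, π, hPr, hπ, hπA⟩ := h
  have hZ : Acyc (CochainComplex.mappingCone π) :=
    (acyc_iff_exactAt _).2 ((quasiIso_iff_exactAt_mappingCone π).1 hπ)
  have hL : Acyc (L ⊗ CochainComplex.mappingCone π) :=
    acyc_of_iso ((tensorRight _).mapIso e.symm)
      (acyc_resL_tensor φ F hF _ ((acyc_iff_exactAt _).2 hπA))
  have hC : Acyc (CochainComplex.mappingCone q) :=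
    (acyc_iff_exactAt _).2 ((quasiIso_iff_exactAt_mappingCone q).1 hq)
  exact (exactAt_map_extendScalars_iff ρ _ i).2 (tensExactAt_cone (BA ρ) π hPr hZ L hL hG' q hC i)

end OverR

section OverP

open Groth.Agent.H35.TorIndepBC Groth.Agent.H35.BCSq Groth.Agent.H35.FTDLocal TensorProduct

variable {R R' P P' A : Type u} [CommRing R] [CommRing R'] [CommRing P] [CommRing P'] [CommRing A]
  [Algebra R R'] [Algebra R P] [Algebra R' P'] [Algebra P P'] [Algebra R P']
  [IsScalarTower R R' P'] [IsScalarTower R P P'] [Algebra P A] [Algebra R A] [IsScalarTower R P A]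

/-- restriction of scalars in two steps, for complexes -/
noncomputable def resLCompIso (F : CochainComplex (ModuleCat.{u} A) ℤ) :
    resL (algebraMap R P) (resL (algebraMap P A) F) ≅ resL (algebraMap R A) F :=
  HomologicalComplex.Hom.isoOfComponents
    (fun i => ((ModuleCat.restrictScalarsComp' (algebraMap R P) (algebraMap P A) (algebraMap R A)
      (IsScalarTower.algebraMap_eq R P A)).app (F.X i)).symm)
    (fun i j _ => ((ModuleCat.restrictScalarsComp' (algebraMap R P) (algebraMap P A)
      (algebraMap R A) (IsScalarTower.algebraMap_eq R P A)).inv.naturality (F.d i j)).symm)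

/-- a complex over `P` whose restriction to `R` becomes exact after `R' ⊗_R -` becomes exact
after `P' ⊗_P -`, for a pushout `P' = R' ⊗_R P` -/
lemma exactAt_extK_of_exactAt_extK_resL [Algebra.IsPushout R R' P P']
    (C : CochainComplex (ModuleCat.{u} P) ℤ) (i : ℤ)
    (h : (extK (algebraMap R R') (resL (algebraMap R P) C)).ExactAt i) :
    (extK (algebraMap P P') C).ExactAt i := by
  have h1 : (extK (psi R P R') C).ExactAt i := by
    rw [← exactAt_map_restrictScalars_iff (algebraMap R' (R' ⊗[R] P)),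
      exactAt_iff_of_iso' (cxIso R P R' C) i]
    exact h
  rw [← pushoutRingHom_comp_psi (R := R) (R' := R'),
    exactAt_iff_of_iso' (extKCompIso (psi R P R') pushoutRingHom C) i]
  exact exactAt_extK_of_flat _ (RingHom.Flat.of_bijective pushoutRingHom_bijective) _ i h1

/-- **Tor independent base change, complex level.**  `P' = R' ⊗_R P` with `P` flat over `R`,
`A` a `P`-algebra with `A` and `R'` tor independent over `R`, `F` a K-flat complex of `A`-modules
and `q : G' ⟶ F|_P` a K-flat resolution over `P`: then `P' ⊗_P q` is a quasi-isomorphism. -/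
theorem quasiIso_extK_of_torIndepData [Algebra.IsPushout R R' P P'] [Module.Flat R P]
    (h : TorIndepData (algebraMap R A) (algebraMap R R'))
    (F : CochainComplex (ModuleCat.{u} A) ℤ) (hF : IsKFlat F)
    {G' : CochainComplex (ModuleCat.{u} P) ℤ} (hG' : IsKFlat G')
    (q : G' ⟶ resL (algebraMap P A) F) (hq : QuasiIso q) :
    QuasiIso (((ModuleCat.extendScalars.{u, u, u} (algebraMap P P')).mapHomologicalComplex
      (ComplexShape.up ℤ)).map q) := by
  have hflat : (algebraMap R P).Flat := (RingHom.flat_algebraMap_iff).2 inferInstance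
  let qR := ((ModuleCat.restrictScalars (algebraMap R P)).mapHomologicalComplex
    (ComplexShape.up ℤ)).map q
  let e1 := CochainComplex.mappingCone.mapHomologicalComplexIso q
    (ModuleCat.restrictScalars (algebraMap R P))
  have hqR : QuasiIso qR := by
    rw [quasiIso_iff_exactAt_mappingCone]
    intro i
    rw [← exactAt_iff_of_iso' e1 i, exactAt_map_restrictScalars_iff]
    exact (quasiIso_iff_exactAt_mappingCone q).1 hq i
  have hG'R : IsKFlat (resL (algebraMap R P) G') := isKFlat_restrict_of_flat _ hflat G' hG'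
  rw [quasiIso_iff_exactAt_mappingCone]
  intro i
  have h2 := exactAt_extK_cone_of_torIndepData h F hF _ (resLCompIso F) hG'R qR hqR i
  have h3 : (extK (algebraMap R R') (resL (algebraMap R P) (CochainComplex.mappingCone q))).ExactAt
      i := by
    rw [exactAt_iff_of_iso' (((ModuleCat.extendScalars.{u, u, u}
      (algebraMap R R')).mapHomologicalComplex (ComplexShape.up ℤ)).mapIso e1) i]
    exact h2
  have h4 := exactAt_extK_of_exactAt_extK_resL (R := R) (R' := R') (P := P) (P' := P')
    (CochainComplex.mappingCone q) i h3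
  exact (exactAt_iff_of_iso' (CochainComplex.mappingCone.mapHomologicalComplexIso q
    (ModuleCat.extendScalars.{u, u, u} (algebraMap P P'))) i).1 h4

end OverP

section UnitIso

variable {S S' : Type u} [CommRing S] [CommRing S'] (κ : S →+* S')

/-- for a bijective ring map `κ`, the unit `M → (S' ⊗_S M)|_S` is an isomorphism -/
noncomputable def unitIsoOfBijective (hκ : Function.Bijective κ) :
    𝟭 (ModuleCat.{u} S) ≅
      ModuleCat.extendScalars.{u, u, u} κ ⋙ ModuleCat.restrictScalars.{u} κ := by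
  haveI h1 : (ModuleCat.restrictScalars.{u} κ).IsEquivalence :=
    ModuleCat.restrictScalars_isEquivalence_of_ringEquiv (RingEquiv.ofBijective κ hκ)
  haveI h2 : (ModuleCat.extendScalars.{u, u, u} κ).IsEquivalence :=
    (ModuleCat.extendRestrictScalarsAdj.{u, u, u} κ).isEquivalence_left_of_isEquivalence_right
  exact asIso (ModuleCat.extendRestrictScalarsAdj.{u, u, u} κ).unit

/-- for a bijective ring map `κ`, `(S' ⊗_S G)|_S ≅ G` for complexes -/
noncomputable def resLExtKIsoOfBijective (hκ : Function.Bijective κ)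
    (G : CochainComplex (ModuleCat.{u} S) ℤ) : resL κ (extK κ G) ≅ G :=
  HomologicalComplex.Hom.isoOfComponents
    (fun i => ((unitIsoOfBijective κ hκ).app (G.X i)).symm)
    (fun i j _ => ((unitIsoOfBijective κ hκ).inv.naturality (G.d i j)).symm)

end UnitIso

section Pushout

open Groth.Agent.H35.TorIndepBC Groth.Agent.H35.BCSq Groth.Agent.H35.FTDLocal TensorProduct

variable {R R' A A' : Type u} [CommRing R] [CommRing R'] [CommRing A] [CommRing A']
  [Algebra R R'] [Algebra R A]

/-- auxiliary form of the pushout comparison with the two ring maps into `A'` as variables -/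
noncomputable def cxIsoPushoutAux (κ : R' ⊗[R] A →+* A') (hκ : Function.Bijective κ)
    (f : A →+* A') (g : R' →+* A') (hf : κ.comp (psi R A R') = f)
    (hg : κ.comp (algebraMap R' (R' ⊗[R] A)) = g) (F : CochainComplex (ModuleCat.{u} A) ℤ) :
    resL g (extK f F) ≅ extK (algebraMap R R') (resL (algebraMap R A) F) := by
  subst hf hg
  let ι := algebraMap R' (R' ⊗[R] A)
  let Y := extK (κ.comp (psi R A R')) F
  have e1 : resL (κ.comp ι) Y ≅ resL ι (resL κ Y) :=
    HomologicalComplex.Hom.isoOfComponents (fun i =>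
      (ModuleCat.restrictScalarsComp' ι κ (κ.comp ι) rfl).app (Y.X i)) (fun i j _ =>
        ((ModuleCat.restrictScalarsComp' ι κ (κ.comp ι) rfl).hom.naturality (Y.d i j)).symm)
  have e2 : resL ι (resL κ Y) ≅ resL ι (extK (psi R A R') F) :=
    ((ModuleCat.restrictScalars ι).mapHomologicalComplex (ComplexShape.up ℤ)).mapIso
      (((ModuleCat.restrictScalars κ).mapHomologicalComplex (ComplexShape.up ℤ)).mapIso
        (extKCompIso (psi R A R') κ F) ≪≫ resLExtKIsoOfBijective κ hκ _)
  exact e1 ≪≫ e2 ≪≫ cxIso R A R' F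

variable [Algebra R' A'] [Algebra A A'] [Algebra R A'] [IsScalarTower R R' A']
  [IsScalarTower R A A']

/-- for a pushout `A' = R' ⊗_R A`: `(A' ⊗_A F)|_{R'} ≅ R' ⊗_R (F|_R)` -/
noncomputable def cxIsoPushout [Algebra.IsPushout R R' A A']
    (F : CochainComplex (ModuleCat.{u} A) ℤ) :
    resL (algebraMap R' A') (extK (algebraMap A A') F) ≅
      extK (algebraMap R R') (resL (algebraMap R A) F) :=
  cxIsoPushoutAux (pushoutRingHom (R := R) (R' := R') (A := A) (P := A'))
    pushoutRingHom_bijective _ _ pushoutRingHom_comp_psi (by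
      apply RingHom.ext
      intro r'
      exact (Algebra.IsPushout.equiv R R' A A').commutes r') F

end Pushout

section Derived

open Groth.Agent.H28 Groth.Agent.H28.PCohCore Groth.Agent.H28.PCohDer Groth.Agent.H28.PCohRing
  DerivedCategory

attribute [local instance] HasDerivedCategory.standard

variable {R R' P P' A A' : Type u} [CommRing R] [CommRing R'] [CommRing P] [CommRing P']
  [CommRing A] [CommRing A']
  [Algebra R R'] [Algebra R P] [Algebra R' P'] [Algebra P P'] [Algebra R P']
  [IsScalarTower R R' P'] [IsScalarTower R P P'] [Algebra.IsPushout R R' P P'] [Module.Flat R P]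
  [Algebra P A] [Algebra R A] [IsScalarTower R P A]
  [Algebra P' A'] [Algebra A A'] [Algebra P A'] [IsScalarTower P P' A'] [IsScalarTower P A A']
  [Algebra.IsPushout P P' A A']

/-- **Tor independent base change of `m`-pseudo-coherence** (complex level). -/
theorem isNPC_restrict_extK_of_torIndepData
    (h : TorIndepData (algebraMap R A) (algebraMap R R'))
    (F : CochainComplex (ModuleCat.{u} A) ℤ) (hF : IsKFlat F) (m : ℤ)
    (hm : IsNPC (finFree P) m (Q.obj (resL (algebraMap P A) F))) :
    IsNPC (finFree P') m (Q.obj (resL (algebraMap P' A') (extK (algebraMap A A') F))) := by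
  haveI : DRing.HasLBaseChange (algebraMap P P') := hasLBaseChange _
  obtain ⟨G', q, hG', -, hq, -⟩ := exists_isKFlat_resolution P (resL (algebraMap P A) F)
  have hqi := quasiIso_extK_of_torIndepData (R := R) (R' := R') (P := P) (P' := P') h F hF hG' q hq
  have i1 : IsIso (Q.map q) := (DerivedCategory.isIso_Q_map_iff_quasiIso (φ := q)).2 hq
  have i2 : IsIso (Q.map (((ModuleCat.extendScalars.{u, u, u}
      (algebraMap P P')).mapHomologicalComplex (ComplexShape.up ℤ)).map q)) :=
    (DerivedCategory.isIso_Q_map_iff_quasiIso (φ := ((ModuleCat.extendScalars.{u, u, u}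
      (algebraMap P P')).mapHomologicalComplex (ComplexShape.up ℤ)).map q)).2 hqi
  have h1 := PCohLBC.isNPC_LBaseChange (algebraMap P P') _ m hm
  have e : (DRing.LBaseChange (algebraMap P P')).obj (Q.obj (resL (algebraMap P A) F)) ≅
      Q.obj (extK (algebraMap P P') (resL (algebraMap P A) F)) :=
    (DRing.LBaseChange (algebraMap P P')).mapIso (asIso (Q.map q)).symm ≪≫
      LBaseChangeIso (algebraMap P P') G' hG' ≪≫
      asIso (Q.map (((ModuleCat.extendScalars.{u, u, u}
        (algebraMap P P')).mapHomologicalComplex (ComplexShape.up ℤ)).map q))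
  exact IsNPC.of_iso _ h1 (e ≪≫ Q.mapIso
    (cxIsoPushout (R := P) (R' := P') (A := A) (A' := A') F).symm)

end Derived

end Groth.Agent.H35.TIGen
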