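import Mathlib
import Groth.Agent.H35.TorIndepGen
import Groth.Agent.H35.TorDimAmp
import Groth.Agent.H28.PCohRestrict

/-!
# Tor independence data from vanishing of Mathlib's `Tor` (helper35)
-/

set_option autoImplicit false

open CategoryTheory Limits MonoidalCategory

namespace Groth.Agent.H35.TIGen

universe u

open HomologicalComplex Groth.Agent.H35.KF Groth.Agent.H35.KFBC Groth.Agent.H35.LT
  Groth.Agent.H35.TorIndepBC

section DegreeZero

variable {C D : Type*} [Category C] [Category D] [Abelian C] [Abelian D]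
  (Φ : C ⥤ D) [Φ.Additive] [PreservesFiniteColimits Φ] {N : C} (P : ProjectiveResolution N)

/-- a right exact additive functor applied to the augmentation of a projective resolution is a
quasi-isomorphism in degree `0` -/
lemma quasiIsoAt_zero_map_π' :
    QuasiIsoAt ((Φ.mapHomologicalComplex (ComplexShape.up ℤ)).map P.π') 0 := by
  rw [quasiIsoAt_iff' _ (-1) 0 1 (by simp) (by simp)]
  have hz1 : IsZero (P.cochainComplex.X 1) :=
    CochainComplex.isZero_of_isStrictlyLE P.cochainComplex 0 1 (by omega)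
  rw [ShortComplex.quasiIso_iff_of_zeros']
  rotate_left
  · change Φ.map (P.cochainComplex.d 0 1) = 0
    rw [hz1.eq_of_tgt (P.cochainComplex.d 0 1) 0, Φ.map_zero]
  · change Φ.map (((CochainComplex.singleFunctor C 0).obj N).d (-1) 0) = 0
    rw [show ((CochainComplex.singleFunctor C 0).obj N).d (-1) 0 = 0 from
      HomologicalComplex.single_obj_d _ _ _ _ _, Φ.map_zero]
  · change Φ.map (((CochainComplex.singleFunctor C 0).obj N).d 0 1) = 0
    rw [show ((CochainComplex.singleFunctor C 0).obj N).d 0 1 = 0 from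
      HomologicalComplex.single_obj_d _ _ _ _ _, Φ.map_zero]
  -- the exact sequence `P₁ → P₀ → N → 0` and its image under `Φ`
  let S₀ : ShortComplex C := ShortComplex.mk (P.complex.d 1 0) (P.π.f 0) P.complex_d_comp_π_f_zero
  have hS₀ : S₀.Exact := P.exact₀
  have hepi : Epi S₀.g := inferInstanceAs (Epi (P.π.f 0))
  have hΦS₀ : (S₀.map Φ).Exact := hS₀.map_of_epi_of_preservesCokernel Φ hepi inferInstance
  have hΦepi : Epi (Φ.map (P.π.f 0)) := inferInstance
  let e₁ := P.cochainComplexXIso (-1) 1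
  let e₀ := P.cochainComplexXIso 0 0
  let eN := HomologicalComplex.singleObjXSelf (ComplexShape.up ℤ) (0 : ℤ) N
  have hd : P.cochainComplex.d (-1) 0 = e₁.hom ≫ P.complex.d 1 0 ≫ e₀.inv :=
    P.cochainComplex_d (-1) 0 1 0
  have hπ : P.π'.f 0 = e₀.hom ≫ P.π.f 0 ≫ eN.inv := P.π'_f_zero
  constructor
  · refine ShortComplex.exact_of_iso ?_ hΦS₀
    refine ShortComplex.isoMk (Φ.mapIso e₁.symm) (Φ.mapIso e₀.symm) (Φ.mapIso eN.symm) ?_ ?_
    · change Φ.map e₁.inv ≫ Φ.map (P.cochainComplex.d (-1) 0) = Φ.map (P.complex.d 1 0) ≫ Φ.map e₀.inv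
      rw [hd, ← Φ.map_comp, ← Φ.map_comp, Iso.inv_hom_id_assoc]
    · change Φ.map e₀.inv ≫ Φ.map (P.π'.f 0) = Φ.map (P.π.f 0) ≫ Φ.map eN.inv
      have h' : e₀.inv ≫ P.π'.f 0 = P.π.f 0 ≫ eN.inv := by
        rw [hπ]
        exact Iso.inv_hom_id_assoc e₀ _
      rw [← Φ.map_comp, h']
      exact Φ.map_comp _ _
  · change Epi (Φ.map (P.π'.f 0))
    have h' : Φ.map (P.π'.f 0) = Φ.map e₀.hom ≫ Φ.map (P.π.f 0) ≫ Φ.map eN.inv := by
      rw [hπ]
      exact (Φ.map_comp _ _).trans (congrArg (Φ.map e₀.hom ≫ ·) (Φ.map_comp _ _))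
    rw [h']
    have i1 : Epi (Φ.map e₀.hom) := inferInstance
    have i2 : Epi (Φ.map eN.inv) := inferInstance
    have i3 : Epi (Φ.map (P.π.f 0) ≫ Φ.map eN.inv) :=
      @epi_comp _ _ _ _ _ (Φ.map (P.π.f 0)) hΦepi (Φ.map eN.inv) i2
    exact @epi_comp _ _ _ _ _ (Φ.map e₀.hom) i1 _ i3

end DegreeZero

section FromTor

variable {R A R' : Type u} [CommRing R] [CommRing A] [CommRing R'] [Algebra R A] [Algebra R R']

/-- the homology of `P ⊗ A` computes Mathlib's `Tor(A, -)` (resolving the second variable) -/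
lemma isZero_homology_tensCx_of_tor {N₀ : ModuleCat.{u} R} (Pn : ProjectiveResolution N₀)
    (k : ℕ) (h : IsZero (((Tor (ModuleCat.{u} R) (k + 1)).obj (ModuleCat.of R A)).obj N₀)) :
    IsZero ((Groth.Agent.H18.tensCx Pn (BA (algebraMap R A))).homology (k + 1)) := by
  let A₀ : ModuleCat.{u} R := ModuleCat.of R A
  let F : ModuleCat.{u} R ⥤ ModuleCat.{u} R := (tensoringLeft (ModuleCat.{u} R)).obj A₀
  have h1 : IsZero ((F.leftDerived (k + 1)).obj N₀) := h
  have h2 : IsZero (((F.mapHomologicalComplex (ComplexShape.down ℕ)).obj Pn.complex).homology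
      (k + 1)) := IsZero.of_iso h1 (Pn.isoLeftDerivedObj F (k + 1)).symm
  let eA : A₀ ≅ BA (algebraMap R A) := Groth.Agent.H28.PCohRestrict.algebraRestrictIso R A
  let ν : F ≅ tensorRight (BA (algebraMap R A)) :=
    (BraidedCategory.tensorLeftIsoTensorRight A₀ : tensorLeft A₀ ≅ tensorRight A₀) ≪≫
      tensorRightIsoOfIso eA
  exact IsZero.of_iso h2 ((HomologicalComplex.homologyFunctor _ _ (k + 1)).mapIso
    ((NatIso.mapHomologicalComplex ν (ComplexShape.down ℕ)).app Pn.complex).symm)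

/-- vanishing of `Tor_p^R(A, R')` for `p > 0` gives tor independence data -/
theorem torIndepData_of_tor_vanishing
    (htor : ∀ p : ℕ, 0 < p → Subsingleton (DRing.Tor R p A R')) :
    TorIndepData (algebraMap R A) (algebraMap R R') := by
  let N₀ : ModuleCat.{u} R := ModuleCat.of R R'
  let Pn := projectiveResolution N₀
  let Pr := Pn.cochainComplex
  let eN : N₀ ≅ BA (algebraMap R R') := Groth.Agent.H28.PCohRestrict.algebraRestrictIso R R'
  let σ := (HomologicalComplex.single (ModuleCat.{u} R) (ComplexShape.up ℤ) 0).map eN.hom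
  let π : Pr ⟶ sgl (BA (algebraMap R R')) := Pn.π' ≫ σ
  have hPr : IsKFlat Pr :=
    isKFlat_of_isStrictlyLE Pr 0 (fun n => Groth.Agent.H18.flat_of_projective _)
  have hσ : IsIso σ := inferInstance
  have hσq : QuasiIso σ := quasiIso_of_isIso σ
  have hπ'q : QuasiIso Pn.π' := inferInstance
  have hπ : QuasiIso π := quasiIso_comp (hφ := hπ'q) (hφ' := hσq) Pn.π' σ
  let Φ := ModuleCat.extendScalars.{u, u, u} (algebraMap R A)
  have hΦπ' : QuasiIso ((Φ.mapHomologicalComplex (ComplexShape.up ℤ)).map Pn.π') := by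
    rw [quasiIso_iff]
    intro i
    have htgt : ∀ j : ℤ, j ≠ 0 → ((Φ.mapHomologicalComplex (ComplexShape.up ℤ)).obj
        ((CochainComplex.singleFunctor (ModuleCat.{u} R) 0).obj N₀)).ExactAt j := fun j hj =>
      ShortComplex.exact_of_isZero_X₂ _ (Φ.map_isZero
        (HomologicalComplex.isZero_single_obj_X (ComplexShape.up ℤ) 0 N₀ j hj))
    rcases lt_trichotomy i 0 with hi | hi | hi
    · obtain ⟨k, rfl⟩ : ∃ k : ℕ, i = -((k : ℤ) + 1) := ⟨(-i - 1).toNat, by omega⟩
      have hsrc : ((Φ.mapHomologicalComplex (ComplexShape.up ℤ)).obj Pr).ExactAt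
          (-((k : ℤ) + 1)) := by
        refine (exactAt_map_extendScalars_iff (algebraMap R A) Pr _).2 ?_
        refine (tensExactAt_cochainComplex_iff Pn (BA (algebraMap R A)) k).2 ?_
        have := htor (k + 1) (Nat.succ_pos k)
        exact isZero_homology_tensCx_of_tor Pn k (ModuleCat.isZero_of_subsingleton _)
      exact (quasiIsoAt_iff_exactAt _ _ hsrc).2 (htgt _ (by omega))
    · subst hi
      exact quasiIsoAt_zero_map_π' Φ Pn
    · have hsrc : ((Φ.mapHomologicalComplex (ComplexShape.up ℤ)).obj Pr).ExactAt i :=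
        ShortComplex.exact_of_isZero_X₂ _ (Φ.map_isZero
          (CochainComplex.isZero_of_isStrictlyLE Pr 0 i hi))
      exact (quasiIsoAt_iff_exactAt _ _ hsrc).2 (htgt _ (by omega))
  have hΦσ : IsIso ((Φ.mapHomologicalComplex (ComplexShape.up ℤ)).map σ) := inferInstance
  have hΦπ : QuasiIso ((Φ.mapHomologicalComplex (ComplexShape.up ℤ)).map π) := by
    have : (Φ.mapHomologicalComplex (ComplexShape.up ℤ)).map π =
        (Φ.mapHomologicalComplex (ComplexShape.up ℤ)).map Pn.π' ≫
          (Φ.mapHomologicalComplex (ComplexShape.up ℤ)).map σ := Functor.map_comp _ _ _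
    rw [this]
    have hh : QuasiIso ((Φ.mapHomologicalComplex (ComplexShape.up ℤ)).map σ) :=
      quasiIso_of_isIso _
    exact quasiIso_comp (hφ := hΦπ') (hφ' := hh) _ _
  refine ⟨Pr, π, hPr, hπ, fun i => ?_⟩
  exact (exactAt_iff_of_iso' (CochainComplex.mappingCone.mapHomologicalComplexIso π Φ) i).2
    ((quasiIso_iff_exactAt_mappingCone _).1 hΦπ i)

end FromTor

end Groth.Agent.H35.TIGen
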