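import Mathlib
import Groth.Agent.H35.MateIso
import Groth.Agent.H35.TorIndepData
import Groth.Agent.H5.LBaseChangeAdj
import Groth.Prelude.Def_TrivBC

/-!
# The base change comparison `TrivBC.cmp` is an isomorphism under tor independence (helper35)
-/

set_option autoImplicit false

open CategoryTheory Limits MonoidalCategory

namespace Groth.Agent.H35.TrivBCCmp

universe u

open DerivedCategory Groth.Agent.H35.LT Groth.Agent.H35.KF Groth.Agent.H35.KFBC
  Groth.Agent.H35.TIGen Groth.Agent.H35.MateIso Groth.Agent.H33.DerAdjU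
  Groth.Agent.H5.LBaseChangeAdj

attribute [local instance] HasDerivedCategory.standard

section Factors

variable {C₁ C₂ : Type*} [Category C₁] [Category C₂] [Abelian C₁] [Abelian C₂]
  [HasDerivedCategory C₁] [HasDerivedCategory C₂]
  (F : C₁ ⥤ C₂) [F.Additive] [PreservesFiniteLimits F] [PreservesFiniteColimits F]

lemma factorsh_hom_app_quotient (K : CochainComplex C₁ ℤ) :
    F.mapDerivedCategoryFactorsh.hom.app ((HomotopyCategory.quotient _ _).obj K) =
      F.mapDerivedCategoryFactors.hom.app K := by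
  rw [Functor.mapDerivedCategoryFactorsh_hom_app]
  change F.mapDerivedCategory.map (𝟙 _) ≫ _ ≫ 𝟙 _ ≫ DerivedCategory.Qh.map (𝟙 _) = _
  simp only [CategoryTheory.Functor.map_id, Category.comp_id, Category.id_comp]

lemma factorsh_inv_app_quotient (K : CochainComplex C₁ ℤ) :
    F.mapDerivedCategoryFactorsh.inv.app ((HomotopyCategory.quotient _ _).obj K) =
      F.mapDerivedCategoryFactors.inv.app K := by
  have h1 : F.mapDerivedCategoryFactorsh.hom.app ((HomotopyCategory.quotient _ _).obj K) ≫
      F.mapDerivedCategoryFactorsh.inv.app ((HomotopyCategory.quotient _ _).obj K) = 𝟙 _ :=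
    Iso.hom_inv_id_app _ _
  have h2 : F.mapDerivedCategoryFactors.hom.app K ≫ F.mapDerivedCategoryFactors.inv.app K = 𝟙 _ :=
    Iso.hom_inv_id_app _ _
  rw [factorsh_hom_app_quotient] at h1
  exact (cancel_epi (F.mapDerivedCategoryFactors.hom.app K)).1 (h1.trans h2.symm)

end Factors

section UnitFac

variable {R A : Type u} [CommRing R] [CommRing A] (ψ : R →+* A) [DRing.HasLBaseChange ψ]

/-- the canonical map `K ⊗^L A → K ⊗ A` -/
noncomputable def aMap (F₀ : CochainComplex (ModuleCat.{u} R) ℤ) :
    (DRing.LBaseChange ψ).obj (Q.obj F₀) ⟶ Q.obj (extK ψ F₀) :=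
  (Groth.Agent.H5.LBaseChangeAdj.α ψ).app ((HomotopyCategory.quotient _ _).obj F₀)

lemma isIso_aMap (F₀ : CochainComplex (ModuleCat.{u} R) ℤ) (hF₀ : IsKFlat F₀) :
    IsIso (aMap ψ F₀) :=
  isIso_counit (kfAcyclic_extendScalars ψ) F₀ hF₀

lemma unit_fac (F₀ : CochainComplex (ModuleCat.{u} R) ℤ) :
    (adj ψ).unit.app (Q.obj F₀) ≫ (DRing.restrictD ψ).map (aMap ψ F₀) =
      Q.map (unitC (ModuleCat.extendRestrictScalarsAdj.{u, u, u} ψ) (ComplexShape.up ℤ) F₀) ≫
        (ModuleCat.restrictScalars.{u} ψ).mapDerivedCategoryFactors.inv.app (extK ψ F₀) := by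
  have := isRightDerivedFunctor_restrictD ψ
  have := isRightDerivedFunctor_comp ψ
  have := isLeftDerivedFunctor_comp ψ
  have h := Adjunction.derivedη_fac_app
    (homotopyAdj (ModuleCat.extendRestrictScalarsAdj.{u, u, u} ψ) (ComplexShape.up ℤ))
    (HomotopyCategory.quasiIso (ModuleCat.{u} R) (ComplexShape.up ℤ))
    (Groth.Agent.H5.LBaseChangeAdj.α ψ) (βiso ψ).inv ((HomotopyCategory.quotient _ _).obj F₀)
  have hβ : (βiso ψ).inv.app (((ModuleCat.extendScalars.{u, u, u} ψ).mapHomotopyCategory
      (ComplexShape.up ℤ)).obj ((HomotopyCategory.quotient _ _).obj F₀)) =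
      (ModuleCat.restrictScalars.{u} ψ).mapDerivedCategoryFactors.inv.app (extK ψ F₀) :=
    factorsh_inv_app_quotient (ModuleCat.restrictScalars.{u} ψ) (extK ψ F₀)
  rw [hβ] at h
  exact h

end UnitFac

section ResComm

variable {R A R' A' : Type u} [CommRing R] [CommRing A] [CommRing R'] [CommRing A']
  {φ : R →+* A} {ρ : R →+* R'} {α : A →+* A'} {φ' : R' →+* A'}

/-- the termwise identification of the two restrictions of a complex -/
noncomputable def idCx (h : α.comp φ = φ'.comp ρ) (W₀ : CochainComplex (ModuleCat.{u} A') ℤ) :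
    resL φ (resL α W₀) ⟶ resL ρ (resL φ' W₀) :=
  (Functor.mapHomologicalComplexCompIso (TrivBC.resCommMod h) (ComplexShape.up ℤ)).hom.app W₀ ≫
    (Functor.mapHomologicalComplexCompIso
      (Iso.refl (ModuleCat.restrictScalars.{u} φ' ⋙ ModuleCat.restrictScalars.{u} ρ))
        (ComplexShape.up ℤ)).inv.app W₀

lemma resCommCx_hom_app (h : α.comp φ = φ'.comp ρ) (W₀ : CochainComplex (ModuleCat.{u} A') ℤ) :
    (TrivBC.resCommCx h).hom.app W₀ = Q.map (idCx h W₀) := by
  simp [TrivBC.resCommCx, idCx]

lemma resComm_hom_app_Q (h : α.comp φ = φ'.comp ρ) (W₀ : CochainComplex (ModuleCat.{u} A') ℤ) :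
    (TrivBC.resComm h).hom.app (Q.obj W₀) =
      (DRing.restrictD φ).map
          ((ModuleCat.restrictScalars.{u} α).mapDerivedCategoryFactors.hom.app W₀) ≫
        (ModuleCat.restrictScalars.{u} φ).mapDerivedCategoryFactors.hom.app (resL α W₀) ≫
        Q.map (idCx h W₀) ≫
        (ModuleCat.restrictScalars.{u} ρ).mapDerivedCategoryFactors.inv.app (resL φ' W₀) ≫
        (DRing.restrictD ρ).map
          ((ModuleCat.restrictScalars.{u} φ').mapDerivedCategoryFactors.inv.app W₀) := by
  unfold TrivBC.resComm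
  rw [Localization.liftNatIso_hom, Localization.liftNatTrans_app, resCommCx_hom_app]
  have e1 : (Localization.Lifting.iso Q (HomologicalComplex.quasiIso (ModuleCat.{u} A')
      (ComplexShape.up ℤ)) _ _ (self := TrivBC.liftingRes₂ α φ)).hom.app W₀ =
      (DRing.restrictD φ).map
          ((ModuleCat.restrictScalars.{u} α).mapDerivedCategoryFactors.hom.app W₀) ≫
        (ModuleCat.restrictScalars.{u} φ).mapDerivedCategoryFactors.hom.app (resL α W₀) := by
    change ((Functor.associator _ _ _).symm ≪≫
      Functor.isoWhiskerRight (ModuleCat.restrictScalars.{u} α).mapDerivedCategoryFactors _ ≪≫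
        Functor.associator _ _ _ ≪≫
          Functor.isoWhiskerLeft _
            (ModuleCat.restrictScalars.{u} φ).mapDerivedCategoryFactors).hom.app W₀ = _
    simp
  have e2 : (Localization.Lifting.iso Q (HomologicalComplex.quasiIso (ModuleCat.{u} A')
      (ComplexShape.up ℤ)) _ _ (self := TrivBC.liftingRes₂ φ' ρ)).inv.app W₀ =
      (ModuleCat.restrictScalars.{u} ρ).mapDerivedCategoryFactors.inv.app (resL φ' W₀) ≫
        (DRing.restrictD ρ).map
          ((ModuleCat.restrictScalars.{u} φ').mapDerivedCategoryFactors.inv.app W₀) := by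
    change ((Functor.associator _ _ _).symm ≪≫
      Functor.isoWhiskerRight (ModuleCat.restrictScalars.{u} φ').mapDerivedCategoryFactors _ ≪≫
        Functor.associator _ _ _ ≪≫
          Functor.isoWhiskerLeft _
            (ModuleCat.restrictScalars.{u} ρ).mapDerivedCategoryFactors).inv.app W₀ = _
    simp
  rw [e1, e2]
  simp only [Category.assoc]

end ResComm

section Elementwise

open Groth.Agent.H35.TorIndepBC Groth.Agent.H35.BCSq Groth.Agent.H35.FTDLocal TensorProduct
open scoped ChangeOfRings

variable {R R' A A' : Type u} [CommRing R] [CommRing R'] [CommRing A] [CommRing A']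
  [Algebra R R'] [Algebra R A]

lemma unitIso_inv_unit {S S' : Type u} [CommRing S] [CommRing S'] (κ : S →+* S')
    (hκ : Function.Bijective κ) (N : ModuleCat.{u} S) (n : N) :
    ((unitIsoOfBijective κ hκ).inv.app N).hom
      (((ModuleCat.extendRestrictScalarsAdj.{u, u, u} κ).unit.app N).hom n) = n := by
  have h1 : (unitIsoOfBijective κ hκ).hom.app N =
      (ModuleCat.extendRestrictScalarsAdj.{u, u, u} κ).unit.app N := rfl
  have h2 := (unitIsoOfBijective κ hκ).hom_inv_id_app N
  rw [h1] at h2
  exact congr(($h2).hom n)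

lemma thetaIso_inv_theta (M : ModuleCat.{u} A) (y : ((FY R A R').obj M : Type u)) :
    ((thetaIso (R := R) (R' := R')).inv.app M).hom ((theta M).hom y) = y := by
  have h1 : (thetaIso (R := R) (R' := R')).hom.app M = theta M := rfl
  have h2 := (thetaIso (R := R) (R' := R') (A := A)).hom_inv_id_app M
  rw [h1] at h2
  exact congr(($h2).hom y)

lemma cxIsoPushoutAux_hom_one_tmul (κ : R' ⊗[R] A →+* A') (hκ : Function.Bijective κ)
    (f : A →+* A') (g : R' →+* A') (hf : κ.comp (psi R A R') = f)
    (hg : κ.comp (algebraMap R' (R' ⊗[R] A)) = g) (F : CochainComplex (ModuleCat.{u} A) ℤ)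
    (i : ℤ) (x : F.X i) :
    ((cxIsoPushoutAux κ hκ f g hf hg F).hom.f i).hom ((1 : A') ⊗ₜ[A, f] x) =
      yt R (F.X i) 1 x := by
  subst hf hg
  unfold cxIsoPushoutAux
  dsimp only
  change ((thetaIso (R := R) (R' := R')).inv.app (F.X i)).hom
    (((unitIsoOfBijective κ hκ).inv.app ((ModuleCat.extendScalars.{u, u, u} (psi R A R')).obj
      (F.X i))).hom (((ModuleCat.extendScalarsComp (psi R A R') κ).hom.app (F.X i)).hom
        ((1 : A') ⊗ₜ[A, κ.comp (psi R A R')] x))) = _
  have h0 := ModuleCat.extendScalarsComp_hom_app_one_tmul (psi R A R') κ (F.X i) x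
  have h2 : ((1 : R' ⊗[R] A) ⊗ₜ[A, psi R A R'] x) = (theta (F.X i)).hom (yt R (F.X i) 1 x) := by
    rw [theta_apply, toXAdd_yt]
    rfl
  have h3 : ((unitIsoOfBijective κ hκ).inv.app ((ModuleCat.extendScalars.{u, u, u}
      (psi R A R')).obj (F.X i))).hom (((ModuleCat.extendScalarsComp (psi R A R') κ).hom.app
        (F.X i)).hom ((1 : A') ⊗ₜ[A, κ.comp (psi R A R')] x)) =
      (theta (F.X i)).hom (yt R (F.X i) 1 x) := by
    refine (congrArg _ h0).trans ?_
    refine (unitIso_inv_unit κ hκ ((ModuleCat.extendScalars.{u, u, u} (psi R A R')).obj (F.X i))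
      ((1 : R' ⊗[R] A) ⊗ₜ[A, psi R A R'] x)).trans h2
  exact (congrArg _ h3).trans (thetaIso_inv_theta _ _)

variable [Algebra R' A'] [Algebra A A'] [Algebra R A'] [IsScalarTower R R' A']
  [IsScalarTower R A A']

lemma cxIsoPushout_hom_one_tmul [Algebra.IsPushout R R' A A']
    (F : CochainComplex (ModuleCat.{u} A) ℤ) (i : ℤ) (x : F.X i) :
    ((cxIsoPushout (R := R) (R' := R') (A := A) (A' := A') F).hom.f i).hom
      ((1 : A') ⊗ₜ[A, algebraMap A A'] x) = yt R (F.X i) 1 x :=
  cxIsoPushoutAux_hom_one_tmul _ _ _ _ _ _ F i x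

/-- compatibility of the two units with the pushout comparison -/
lemma unitC_eq [Algebra.IsPushout R R' A A']
    (h : (algebraMap A A').comp (algebraMap R A) = (algebraMap R' A').comp (algebraMap R R'))
    (F : CochainComplex (ModuleCat.{u} A) ℤ) :
    unitC (ModuleCat.extendRestrictScalarsAdj.{u, u, u} (algebraMap R R')) (ComplexShape.up ℤ)
        (resL (algebraMap R A) F) =
      ((ModuleCat.restrictScalars.{u} (algebraMap R A)).mapHomologicalComplex
          (ComplexShape.up ℤ)).map
        (unitC (ModuleCat.extendRestrictScalarsAdj.{u, u, u} (algebraMap A A'))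
          (ComplexShape.up ℤ) F) ≫
        idCx h (extK (algebraMap A A') F) ≫
        ((ModuleCat.restrictScalars.{u} (algebraMap R R')).mapHomologicalComplex
          (ComplexShape.up ℤ)).map
            (cxIsoPushout (R := R) (R' := R') (A := A) (A' := A') F).hom := by
  ext i x
  change _ = ((cxIsoPushout (R := R) (R' := R') (A := A) (A' := A') F).hom.f i).hom
      ((1 : A') ⊗ₜ[A, algebraMap A A'] x)
  rw [cxIsoPushout_hom_one_tmul]
  rfl

end Elementwise

section Main

variable (R A R' A' : Type u) [CommRing R] [CommRing A] [CommRing R'] [CommRing A']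
  [Algebra R A] [Algebra R R'] [Algebra A A'] [Algebra R' A'] [Algebra R A']
  [IsScalarTower R A A'] [IsScalarTower R R' A'] [Algebra.IsPushout R A R' A']
  [DRing.HasLBaseChange (algebraMap R R')] [DRing.HasLBaseChange (algebraMap A A')]

/-- the comparison map for the standard derived adjunctions, at a K-flat complex -/
theorem isIso_cmp_std (hTI : TorIndepData (algebraMap R A) (algebraMap R R'))
    (h : ((algebraMap A A')).comp (algebraMap R A) = ((algebraMap R' A')).comp (algebraMap R R'))
    (F : CochainComplex (ModuleCat.{u} A) ℤ) (hF : IsKFlat F) :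
    IsIso (TrivBC.cmp (adj (algebraMap R R')) (adj (algebraMap A A')) h (Q.obj F)) := by
  haveI : Algebra.IsPushout R R' A A' := Algebra.IsPushout.symm inferInstance
  obtain ⟨G', q, hG', -, hq, -⟩ := exists_isKFlat_resolution R (resL (algebraMap R A) F)
  have hqi : QuasiIso ((((ModuleCat.extendScalars.{u, u, u} (algebraMap R R')).mapHomologicalComplex (ComplexShape.up ℤ))).map q) :=
    quasiIso_extK_of_torIndepData (R := R) (R' := R') (P := R) (P' := R') hTI F hF hG' q hq
  haveI i1 : IsIso (Q.map q) := (DerivedCategory.isIso_Q_map_iff_quasiIso (φ := q)).2 hq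
  haveI i2 : IsIso (Q.map ((((ModuleCat.extendScalars.{u, u, u} (algebraMap R R')).mapHomologicalComplex (ComplexShape.up ℤ))).map q)) :=
    (DerivedCategory.isIso_Q_map_iff_quasiIso
      (φ := (((ModuleCat.extendScalars.{u, u, u} (algebraMap R R')).mapHomologicalComplex (ComplexShape.up ℤ))).map q)).2 hqi
  haveI i3 := isIso_aMap (algebraMap R R') G' hG'
  haveI i4 := isIso_aMap (algebraMap A A') F hF
  let W₀ := extK (algebraMap A A') F
  let cx := cxIsoPushout (R := R) (R' := R') (A := A) (A' := A') F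
  let ι : Q.obj G' ≅ (DRing.restrictD (algebraMap R A)).obj (Q.obj F) :=
    asIso (Q.map q) ≪≫ (((ModuleCat.restrictScalars.{u} (algebraMap R A))).mapDerivedCategoryFactors.app F).symm
  let m : Q.obj (extK (algebraMap R R') G') ≅ (DRing.restrictD (algebraMap R' A')).obj (Q.obj W₀) :=
    asIso (Q.map ((((ModuleCat.extendScalars.{u, u, u} (algebraMap R R')).mapHomologicalComplex (ComplexShape.up ℤ))).map q)) ≪≫ Q.mapIso cx.symm ≪≫
      (((ModuleCat.restrictScalars.{u} (algebraMap R' A'))).mapDerivedCategoryFactors.app W₀).symm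
  refine isIso_mate (TrivBC.resComm h).hom (adj (algebraMap R R')) (adj (algebraMap A A')) (Q.obj F) ι
    (asIso (aMap (algebraMap R R') G')) (asIso (aMap (algebraMap A A') F)) m ?_
  have hm : m.hom = Q.map ((((ModuleCat.extendScalars.{u, u, u} (algebraMap R R')).mapHomologicalComplex (ComplexShape.up ℤ))).map q ≫ cx.inv) ≫
      ((ModuleCat.restrictScalars.{u} (algebraMap R' A'))).mapDerivedCategoryFactors.inv.app W₀ := by
    simp [m]
  have hι : ι.hom = Q.map q ≫ ((ModuleCat.restrictScalars.{u} (algebraMap R A))).mapDerivedCategoryFactors.inv.app F := by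
    simp [ι]
  have natρ : ∀ {X Y : CochainComplex (ModuleCat.{u} R') ℤ} (g : X ⟶ Y),
      ((ModuleCat.restrictScalars.{u} (algebraMap R R'))).mapDerivedCategoryFactors.inv.app X ≫ (DRing.restrictD (algebraMap R R')).map (Q.map g) =
        Q.map ((((ModuleCat.restrictScalars.{u} (algebraMap R R')).mapHomologicalComplex (ComplexShape.up ℤ))).map g) ≫ ((ModuleCat.restrictScalars.{u} (algebraMap R R'))).mapDerivedCategoryFactors.inv.app Y :=
    fun g => (((ModuleCat.restrictScalars.{u} (algebraMap R R'))).mapDerivedCategoryFactors.inv.naturality g).symm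
  have natφ : ∀ {X Y : CochainComplex (ModuleCat.{u} A) ℤ} (g : X ⟶ Y),
      ((ModuleCat.restrictScalars.{u} (algebraMap R A))).mapDerivedCategoryFactors.inv.app X ≫ (DRing.restrictD (algebraMap R A)).map (Q.map g) =
        Q.map ((((ModuleCat.restrictScalars.{u} (algebraMap R A)).mapHomologicalComplex (ComplexShape.up ℤ))).map g) ≫ ((ModuleCat.restrictScalars.{u} (algebraMap R A))).mapDerivedCategoryFactors.inv.app Y :=
    fun g => (((ModuleCat.restrictScalars.{u} (algebraMap R A))).mapDerivedCategoryFactors.inv.naturality g).symm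
  have hL : (adj (algebraMap R R')).unit.app (Q.obj G') ≫
      (DRing.restrictD (algebraMap R R')).map ((asIso (aMap (algebraMap R R') G')).hom ≫ m.hom) =
      Q.map (unitC (ModuleCat.extendRestrictScalarsAdj.{u, u, u} (algebraMap R R')) (ComplexShape.up ℤ) G' ≫
        (((ModuleCat.restrictScalars.{u} (algebraMap R R')).mapHomologicalComplex (ComplexShape.up ℤ))).map ((((ModuleCat.extendScalars.{u, u, u} (algebraMap R R')).mapHomologicalComplex (ComplexShape.up ℤ))).map q ≫ cx.inv)) ≫
      ((ModuleCat.restrictScalars.{u} (algebraMap R R'))).mapDerivedCategoryFactors.inv.app (resL (algebraMap R' A') W₀) ≫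
      (DRing.restrictD (algebraMap R R')).map (((ModuleCat.restrictScalars.{u} (algebraMap R' A'))).mapDerivedCategoryFactors.inv.app W₀) := by
    rw [asIso_hom, Functor.map_comp, ← Category.assoc, unit_fac, hm, Functor.map_comp,
      Category.assoc, reassoc_of% natρ, Q.map_comp, Category.assoc]
  have hR : ι.hom ≫ (DRing.restrictD (algebraMap R A)).map ((adj (algebraMap A A')).unit.app (Q.obj F) ≫
        (DRing.restrictD (algebraMap A A')).map (asIso (aMap (algebraMap A A') F)).hom) ≫
        (TrivBC.resComm h).hom.app (Q.obj W₀) =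
      Q.map (q ≫ (((ModuleCat.restrictScalars.{u} (algebraMap R A)).mapHomologicalComplex (ComplexShape.up ℤ))).map (unitC (ModuleCat.extendRestrictScalarsAdj.{u, u, u} (algebraMap A A')) (ComplexShape.up ℤ) F) ≫ idCx h W₀) ≫
      ((ModuleCat.restrictScalars.{u} (algebraMap R R'))).mapDerivedCategoryFactors.inv.app (resL (algebraMap R' A') W₀) ≫
      (DRing.restrictD (algebraMap R R')).map (((ModuleCat.restrictScalars.{u} (algebraMap R' A'))).mapDerivedCategoryFactors.inv.app W₀) := by
    rw [asIso_hom, unit_fac, resComm_hom_app_Q, hι, Functor.map_comp]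
    simp only [Category.assoc]
    rw [← Functor.map_comp_assoc (DRing.restrictD (algebraMap R A))
      (((ModuleCat.restrictScalars.{u} (algebraMap A A'))).mapDerivedCategoryFactors.inv.app W₀), Iso.inv_hom_id_app]
    rw [CategoryTheory.Functor.map_id, Category.id_comp, reassoc_of% natφ,
      Iso.inv_hom_id_app_assoc]
    simp only [Functor.map_comp, Category.assoc]
  rw [hL, hR]
  congr 2
  have hnat : unitC (ModuleCat.extendRestrictScalarsAdj.{u, u, u} (algebraMap R R')) (ComplexShape.up ℤ) G' ≫
      (((ModuleCat.restrictScalars.{u} (algebraMap R R')).mapHomologicalComplex (ComplexShape.up ℤ))).map ((((ModuleCat.extendScalars.{u, u, u} (algebraMap R R')).mapHomologicalComplex (ComplexShape.up ℤ))).map q) =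
      q ≫ unitC (ModuleCat.extendRestrictScalarsAdj.{u, u, u} (algebraMap R R')) (ComplexShape.up ℤ) (resL (algebraMap R A) F) := by
    ext i : 1
    exact ((ModuleCat.extendRestrictScalarsAdj.{u, u, u} (algebraMap R R')).unit.naturality (q.f i)).symm
  have hu := unitC_eq (R := R) (R' := R') (A := A) (A' := A') h F
  have hcx : (((ModuleCat.restrictScalars.{u} (algebraMap R R')).mapHomologicalComplex (ComplexShape.up ℤ))).map cx.hom ≫ (((ModuleCat.restrictScalars.{u} (algebraMap R R')).mapHomologicalComplex (ComplexShape.up ℤ))).map cx.inv = 𝟙 _ := by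
    rw [← Functor.map_comp, Iso.hom_inv_id, CategoryTheory.Functor.map_id]
  rw [Functor.map_comp, ← Category.assoc, hnat, Category.assoc, hu]
  simp only [Category.assoc]
  rw [hcx, Category.comp_id]

/-- **Tor independent base change**: the comparison map `(K|_R) ⊗^L_R R' ⟶ (K ⊗^L_A A')|_{R'}`
is an isomorphism for a cocartesian tor independent square (any adjunction data). -/
theorem isIso_cmp (htor : ∀ p : ℕ, 1 ≤ p → Subsingleton (DRing.Tor R p A R'))
    (adjρ : DRing.LBaseChange (algebraMap R R') ⊣ DRing.restrictD (algebraMap R R'))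
    (adjα : DRing.LBaseChange (algebraMap A A') ⊣ DRing.restrictD (algebraMap A A'))
    (h : (algebraMap A A').comp (algebraMap R A) = (algebraMap R' A').comp (algebraMap R R'))
    (K : Dual.D A) : IsIso (TrivBC.cmp adjρ adjα h K) := by
  have hTI := torIndepData_of_tor_vanishing (R := R) (A := A) (R' := R') (fun p hp => htor p hp)
  obtain ⟨F, q, hF, -, hq, -⟩ := exists_isKFlat_resolution A (Q.objPreimage K)
  haveI : IsIso (Q.map q) := (DerivedCategory.isIso_Q_map_iff_quasiIso (φ := q)).2 hq
  let e : K ≅ Q.obj F := (asIso (Q.map q) ≪≫ Q.objObjPreimageIso K).symm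
  change IsIso (mate (TrivBC.resComm h).hom adjρ adjα K)
  haveI i1 : IsIso (mate (TrivBC.resComm h).hom (adj (algebraMap R R')) (adj (algebraMap A A'))
      (Q.obj F)) := isIso_cmp_std R A R' A' hTI h F hF
  haveI i2 : IsIso (mate (TrivBC.resComm h).hom (adj (algebraMap R R')) (adj (algebraMap A A'))
      K) := isIso_mate_of_iso _ _ _ e
  exact isIso_mate_of_isIso _ (adj (algebraMap R R')) adjρ (adj (algebraMap A A')) adjα K

end Main

end Groth.Agent.H35.TrivBCCmp
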