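import Mathlib
import Groth.Prelude.Def_DRing3

/-!
# Derived completeness of modules, concretely (helper35)

For an `A`-module `M` and `f : A`, `Phi f M : (ℕ → M) → (ℕ → M)`, `(m_n) ↦ (m_n - f m_{n+1})`.
Main result: `M[0]` is derived complete w.r.t. `I` iff `Phi f M` is bijective for all `f ∈ I`.
-/

universe u

open CategoryTheory Polynomial

namespace Groth.Agent.H35

variable {A : Type u} [CommRing A]

/-- `Φ_f(m)_n = m_n - f • m_{n+1}`; its kernel is `lim (M ←f M ←f ⋯)` and its cokernel `R¹lim`. -/
def Phi (f : A) (M : Type*) [AddCommGroup M] [Module A M] : (ℕ → M) →ₗ[A] (ℕ → M) where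
  toFun m n := m n - f • m (n + 1)
  map_add' m m' := by
    funext n
    simp only [Pi.add_apply, smul_add]
    abel
  map_smul' a m := by
    funext n
    simp only [Pi.smul_apply, RingHom.id_apply, smul_sub, smul_comm a f]

@[simp] lemma Phi_apply (f : A) {M : Type*} [AddCommGroup M] [Module A M] (m : ℕ → M) (n : ℕ) :
    Phi f M m n = m n - f • m (n + 1) := rfl

/-- The polynomial `1 - f X`. -/
noncomputable def qPoly (f : A) : A[X] := 1 - C f * X

lemma qPoly_mul_monomial (f : A) (n : ℕ) :
    qPoly f * monomial n (1 : A) = monomial n 1 - f • monomial (n + 1) 1 := by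
  rw [qPoly, sub_mul, one_mul, mul_assoc, X_mul_monomial, smul_eq_C_mul]

lemma qPoly_mul_injective (f : A) : Function.Injective (fun p : A[X] => qPoly f * p) := by
  intro p p' h
  have hu : IsUnit ((qPoly f : A[X]) : PowerSeries A) := by
    rw [PowerSeries.isUnit_iff_constantCoeff]
    simp [qPoly]
  apply Polynomial.coe_injective
  have h' := congrArg (fun r : A[X] => (r : PowerSeries A)) h
  simp only [Polynomial.coe_mul] at h'
  exact hu.mul_left_cancel h'

/-- The `A`-linear surjection `A[X] → A_f`, `X ↦ 1/f`. -/
noncomputable def gLin (f : A) : A[X] →ₗ[A] Localization.Away f :=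
  (Localization.awayEquivAdjoin f).symm.toLinearMap ∘ₗ (AdjoinRoot.mkₐ (C f * X - 1)).toLinearMap

lemma gLin_surjective (f : A) : Function.Surjective (gLin f) := by
  intro y
  obtain ⟨p, hp⟩ := AdjoinRoot.mk_surjective (Localization.awayEquivAdjoin f y)
  refine ⟨p, ?_⟩
  change (Localization.awayEquivAdjoin f).symm (AdjoinRoot.mk _ p) = y
  rw [hp, AlgEquiv.symm_apply_apply]

lemma gLin_eq_zero_iff (f : A) (p : A[X]) : gLin f p = 0 ↔ ∃ r, qPoly f * r = p := by
  have : gLin f p = (Localization.awayEquivAdjoin f).symm (AdjoinRoot.mk (C f * X - 1) p) := rfl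
  rw [this, map_eq_zero_iff _ (Localization.awayEquivAdjoin f).symm.injective, AdjoinRoot.mk_eq_zero]
  constructor
  · rintro ⟨r, rfl⟩
    exact ⟨-r, by rw [qPoly]; ring⟩
  · rintro ⟨r, rfl⟩
    exact ⟨-r, by rw [qPoly]; ring⟩

/-- The free resolution `0 → A[X] → A[X] → A_f → 0`. -/
noncomputable abbrev awayResolution (f : A) : ShortComplex (ModuleCat.{u} A) where
  X₁ := ModuleCat.of A A[X]
  X₂ := ModuleCat.of A A[X]
  X₃ := ModuleCat.of A (Localization.Away f)
  f := ModuleCat.ofHom (LinearMap.mulLeft A (qPoly f))
  g := ModuleCat.ofHom (gLin f)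
  zero := by
    refine ModuleCat.hom_ext (LinearMap.ext fun p => ?_)
    change gLin f (qPoly f * p) = 0
    rw [gLin_eq_zero_iff]
    exact ⟨p, rfl⟩

lemma awayResolution_shortExact (f : A) : (awayResolution f).ShortExact := by
  refine ShortComplex.ShortExact.mk' ?_ ?_ ?_
  · rw [ShortComplex.moduleCat_exact_iff]
    intro x hx
    exact (gLin_eq_zero_iff f x).mp hx
  · rw [ModuleCat.mono_iff_injective]
    exact qPoly_mul_injective f
  · rw [ModuleCat.epi_iff_surjective]
    exact gLin_surjective f

section PhiLemmas

variable (f : A) {M N : Type*} [AddCommGroup M] [Module A M] [AddCommGroup N] [Module A N]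

lemma Phi_comp (g : M →ₗ[A] N) (m : ℕ → M) : Phi f N (fun n => g (m n)) = fun n => g (Phi f M m n) := by
  funext n
  simp only [Phi_apply, map_sub, map_smul]

/-- Five lemma for `Phi`: extensions. -/
theorem Phi_bijective_of_exact {M' M'' : Type*} [AddCommGroup M'] [Module A M'] [AddCommGroup M'']
    [Module A M''] (i : M' →ₗ[A] M) (p : M →ₗ[A] M'') (hi : Function.Injective i)
    (hp : Function.Surjective p) (hex : ∀ x, p x = 0 → ∃ y, i y = x)
    (h' : Function.Bijective (Phi f M')) (h'' : Function.Bijective (Phi f M'')) :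
    Function.Bijective (Phi f M) := by
  constructor
  · rw [injective_iff_map_eq_zero]
    intro m hm
    have h1 : (fun n => p (m n)) = 0 := by
      apply h''.1
      rw [Phi_comp, hm, map_zero]
      funext n; simp
    have h2 : ∀ n, ∃ y, i y = m n := fun n => hex _ (congrFun h1 n)
    choose m' hm' using h2
    have h3 : m' = 0 := by
      apply h'.1
      rw [map_zero]
      funext n
      apply hi
      have := congrFun (Phi_comp f i m') n
      rw [this.symm]
      have h4 : (fun n => i (m' n)) = m := funext hm'
      rw [h4, hm]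
      simp
    funext n
    rw [← hm', h3]
    simp
  · intro c
    obtain ⟨m'', hm''⟩ := h''.2 (fun n => p (c n))
    choose mt hmt using fun n => hp (m'' n)
    have h1 : ∀ n, ∃ y, i y = c n - Phi f M mt n := by
      intro n
      apply hex
      have := congrFun (Phi_comp f p mt) n
      rw [map_sub, ← this, funext hmt, hm'', sub_self]
    choose c' hc' using h1
    obtain ⟨m', hm'⟩ := h'.2 c'
    refine ⟨mt + fun n => i (m' n), ?_⟩
    rw [map_add, Phi_comp, hm']
    funext n
    rw [Pi.add_apply, hc']
    abel

/-- `Phi` is injective on a submodule when it is on the ambient module. -/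
theorem Phi_injective_of_injective (i : M →ₗ[A] N) (hi : Function.Injective i)
    (h : Function.Injective (Phi f N)) : Function.Injective (Phi f M) := by
  rw [injective_iff_map_eq_zero]
  intro m hm
  have : (fun n => i (m n)) = 0 := by
    apply h
    rw [Phi_comp, hm, map_zero]
    funext n; simp
  funext n
  apply hi
  rw [Pi.zero_apply, map_zero]
  exact congrFun this n

/-- `Phi` is surjective on a quotient when it is on the ambient module. -/
theorem Phi_surjective_of_surjective (p : M →ₗ[A] N) (hp : Function.Surjective p)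
    (h : Function.Surjective (Phi f M)) : Function.Surjective (Phi f N) := by
  intro c
  choose ct hct using fun n => hp (c n)
  obtain ⟨m, hm⟩ := h ct
  refine ⟨fun n => p (m n), ?_⟩
  rw [Phi_comp, hm]
  exact funext hct

/-- Kernel and cokernel of a map between "derived complete" modules. -/
theorem Phi_bijective_ker_coker (u : M →ₗ[A] N) (hM : Function.Bijective (Phi f M))
    (hN : Function.Bijective (Phi f N)) :
    Function.Bijective (Phi f (LinearMap.ker u)) ∧
      Function.Bijective (Phi f (N ⧸ LinearMap.range u)) := by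
  -- the image
  have hIi : Function.Injective (Phi f (LinearMap.range u)) :=
    Phi_injective_of_injective f (LinearMap.range u).subtype (Submodule.injective_subtype _) hN.1
  have hIs : Function.Surjective (Phi f (LinearMap.range u)) :=
    Phi_surjective_of_surjective f u.rangeRestrict u.surjective_rangeRestrict hM.2
  constructor
  · refine ⟨Phi_injective_of_injective f (LinearMap.ker u).subtype
      (Submodule.injective_subtype _) hM.1, ?_⟩
    intro k
    obtain ⟨m, hm⟩ := hM.2 (fun n => (k n : M))
    have hu : (fun n => u.rangeRestrict (m n)) = 0 := by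
      apply hIi
      rw [Phi_comp, hm, map_zero]
      funext n
      ext
      simp
    have hmk : ∀ n, m n ∈ LinearMap.ker u := by
      intro n
      have := congrArg Subtype.val (congrFun hu n)
      simpa using this
    refine ⟨fun n => ⟨m n, hmk n⟩, ?_⟩
    funext n
    ext
    have := congrFun hm n
    simpa using this
  · refine ⟨?_, Phi_surjective_of_surjective f (LinearMap.range u).mkQ
      (Submodule.mkQ_surjective _) hN.2⟩
    rw [injective_iff_map_eq_zero]
    intro c hc
    choose ct hct using fun n => (LinearMap.range u).mkQ_surjective (c n)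
    have h1 : ∀ n, Phi f N ct n ∈ LinearMap.range u := by
      intro n
      rw [← Submodule.Quotient.mk_eq_zero, ← Submodule.mkQ_apply]
      have := congrFun (Phi_comp f (LinearMap.range u).mkQ ct) n
      rw [← this, funext hct, hc]
      rfl
    obtain ⟨j, hj⟩ := hIs (fun n => ⟨Phi f N ct n, h1 n⟩)
    have h2 : ct = fun n => ((j n : LinearMap.range u) : N) := by
      apply hN.1
      have := Phi_comp f (LinearMap.range u).subtype j
      simp only [Submodule.subtype_apply] at this
      rw [this, hj]
    funext n
    rw [← hct, h2]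
    simp

end PhiLemmas

section HomSeq

variable (f : A) {M : Type u} [AddCommGroup M] [Module A M]

/-- The map `A[X] → M` with `X^n ↦ c n`. -/
noncomputable def seqHom (c : ℕ → M) : ModuleCat.of A A[X] ⟶ ModuleCat.of A M :=
  ModuleCat.ofHom ((Polynomial.basisMonomials A).constr A c)

/-- The sequence `ψ (X^n)`. -/
noncomputable def homSeq (ψ : ModuleCat.of A A[X] ⟶ ModuleCat.of A M) : ℕ → M :=
  fun n => ψ.hom (monomial n (1 : A))

lemma homSeq_seqHom (c : ℕ → M) : homSeq (seqHom (A := A) c) = c := by
  funext n
  have := (Polynomial.basisMonomials A).constr_basis A c n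
  rw [Polynomial.coe_basisMonomials] at this
  exact this

lemma seqHom_homSeq (ψ : ModuleCat.of A A[X] ⟶ ModuleCat.of A M) : seqHom (homSeq ψ) = ψ := by
  refine ModuleCat.hom_ext ((Polynomial.basisMonomials A).ext fun n => ?_)
  have := congrFun (homSeq_seqHom (A := A) (homSeq ψ)) n
  rw [Polynomial.coe_basisMonomials]
  exact this

lemma homSeq_injective : Function.Injective (homSeq (A := A) (M := M)) := by
  intro ψ ψ' h
  rw [← seqHom_homSeq ψ, ← seqHom_homSeq ψ', h]

lemma homSeq_zero : homSeq (0 : ModuleCat.of A A[X] ⟶ ModuleCat.of A M) = 0 := by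
  funext n
  rfl

lemma homSeq_comp (ψ : ModuleCat.of A A[X] ⟶ ModuleCat.of A M) :
    homSeq ((awayResolution f).f ≫ ψ) = Phi f M (homSeq ψ) := by
  funext n
  change ψ.hom (qPoly f * monomial n 1) = _
  rw [qPoly_mul_monomial, map_sub, map_smul]
  rfl

end HomSeq

section Ext

open CategoryTheory.Abelian

variable (f : A) (M : Type u) [AddCommGroup M] [Module A M]

instance : Projective (ModuleCat.of A A[X]) :=
  (IsProjective.iff_projective (R := A) (P := A[X])).mp inferInstance

theorem hom_subsingleton_iff_injective :
    Subsingleton (ModuleCat.of A (Localization.Away f) ⟶ ModuleCat.of A M) ↔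
      Function.Injective (Phi f M) := by
  have hS := awayResolution_shortExact f
  constructor
  · intro h
    rw [injective_iff_map_eq_zero]
    intro w hw
    have h0 : (awayResolution f).f ≫ seqHom w = 0 := by
      apply homSeq_injective
      rw [homSeq_comp, homSeq_seqHom, hw, homSeq_zero]
    have : Epi (awayResolution f).g := hS.epi_g
    have h1 : (awayResolution f).g ≫ hS.exact.desc (seqHom w) h0 = seqHom w := hS.exact.g_desc _ _
    have h2 : hS.exact.desc (seqHom w) h0 = 0 := Subsingleton.elim _ _
    rw [h2, Limits.comp_zero] at h1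
    rw [← homSeq_seqHom (A := A) w, ← h1, homSeq_zero]
  · intro h
    refine ⟨fun φ φ' => ?_⟩
    have : Epi (awayResolution f).g := hS.epi_g
    have key : ∀ φ : ModuleCat.of A (Localization.Away f) ⟶ ModuleCat.of A M,
        (awayResolution f).g ≫ φ = 0 := by
      intro φ
      apply homSeq_injective
      rw [homSeq_zero]
      apply h
      rw [← homSeq_comp, map_zero, ← Category.assoc, (awayResolution f).zero, Limits.zero_comp,
        homSeq_zero]
    rw [← cancel_epi (awayResolution f).g, key, key]

theorem ext_one_subsingleton_iff_surjective :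
    Subsingleton (Ext (ModuleCat.of A (Localization.Away f)) (ModuleCat.of A M) 1) ↔
      Function.Surjective (Phi f M) := by
  have hS := awayResolution_shortExact f
  constructor
  · intro h c
    obtain ⟨x₂, hx₂⟩ := Ext.contravariant_sequence_exact₁ hS (ModuleCat.of A M)
      (Ext.mk₀ (seqHom c)) (zero_add 1 |>.symm ▸ rfl : 1 + 0 = 1) (Subsingleton.elim _ _)
    obtain ⟨ψ, rfl⟩ := (Ext.mk₀_bijective _ _).2 x₂
    rw [Ext.mk₀_comp_mk₀] at hx₂
    have := (Ext.mk₀_bijective _ _).1 hx₂
    refine ⟨homSeq ψ, ?_⟩
    rw [← homSeq_comp, this, homSeq_seqHom]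
  · intro h
    refine ⟨fun x y => ?_⟩
    have key : ∀ x : Ext (ModuleCat.of A (Localization.Away f)) (ModuleCat.of A M) 1, x = 0 := by
      intro x
      obtain ⟨x₁, rfl⟩ := Ext.contravariant_sequence_exact₃ hS (ModuleCat.of A M) x
        (Ext.eq_zero_of_projective (P := ModuleCat.of A A[X]) _) (n₀ := 0) rfl
      obtain ⟨φ, rfl⟩ := (Ext.mk₀_bijective _ _).2 x₁
      obtain ⟨m, hm⟩ := h (homSeq φ)
      have : φ = (awayResolution f).f ≫ seqHom m := by
        apply homSeq_injective
        rw [homSeq_comp, homSeq_seqHom, hm]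
      rw [this, ← Ext.mk₀_comp_mk₀]
      exact hS.extClass_comp_assoc _
    rw [key x, key y]

theorem ext_add_two_subsingleton (n : ℕ) :
    Subsingleton (Ext (ModuleCat.of A (Localization.Away f)) (ModuleCat.of A M) (n + 2)) := by
  have hS := awayResolution_shortExact f
  refine ⟨fun x y => ?_⟩
  have key : ∀ x : Ext (ModuleCat.of A (Localization.Away f)) (ModuleCat.of A M) (n + 2),
      x = 0 := by
    intro x
    obtain ⟨x₁, rfl⟩ := Ext.contravariant_sequence_exact₃ hS (ModuleCat.of A M) x
      (Ext.eq_zero_of_projective (P := ModuleCat.of A A[X]) (n := n + 1) _) (n₀ := n + 1)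
      (by omega)
    rw [Ext.eq_zero_of_projective (P := ModuleCat.of A A[X]) (n := n) x₁, Ext.comp_zero]
  rw [key x, key y]

end Ext

section Derived

open CategoryTheory.Abelian

attribute [local instance] HasDerivedCategory.standard

variable (M : Type u) [AddCommGroup M] [Module A M]

/-- Negative Ext's between modules vanish in `D(A)`. -/
theorem subsingleton_inD_hom_shift_of_neg (N : Type u) [AddCommGroup N] [Module A N] (n : ℤ)
    (hn : n < 0) : Subsingleton (Dual.inD A N ⟶ (Dual.inD A M)⟦n⟧) := by
  refine ⟨fun x y => ?_⟩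
  have : (DerivedCategory.TStructure.t).IsGE ((Dual.inD A M)⟦n⟧) (-n) :=
    (DerivedCategory.TStructure.t).isGE_shift (Dual.inD A M) 0 n (-n) (by omega)
  rw [(DerivedCategory.TStructure.t).zero x 0 (-n) (by omega),
    (DerivedCategory.TStructure.t).zero y 0 (-n) (by omega)]

/-- Concrete form of derived completeness w.r.t. one element. -/
theorem subsingleton_away_hom_shift_iff (f : A) :
    (∀ n : ℤ, Subsingleton (Dual.inD A (Localization.Away f) ⟶ (Dual.inD A M)⟦n⟧)) ↔
      Function.Bijective (Phi f M) := by
  have hcongr : ∀ k : ℕ, Subsingleton (Dual.inD A (Localization.Away f) ⟶ (Dual.inD A M)⟦(k : ℤ)⟧) ↔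
      Subsingleton (Ext (ModuleCat.of A (Localization.Away f)) (ModuleCat.of A M) k) :=
    fun k => (Equiv.subsingleton_congr Ext.homEquiv).symm
  have h0 : Subsingleton (Ext (ModuleCat.of A (Localization.Away f)) (ModuleCat.of A M) 0) ↔
      Function.Injective (Phi f M) := by
    rw [Equiv.subsingleton_congr Ext.homEquiv₀]
    exact hom_subsingleton_iff_injective f M
  constructor
  · intro h
    exact ⟨h0.mp ((hcongr 0).mp (h 0)),
      (ext_one_subsingleton_iff_surjective f M).mp ((hcongr 1).mp (h 1))⟩
  · rintro ⟨hi, hs⟩ n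
    rcases lt_or_ge n 0 with hn | hn
    · exact subsingleton_inD_hom_shift_of_neg M _ n hn
    · obtain ⟨k, rfl⟩ := Int.eq_ofNat_of_zero_le hn
      rw [hcongr]
      match k with
      | 0 => exact h0.mpr hi
      | 1 => exact (ext_one_subsingleton_iff_surjective f M).mpr hs
      | (k + 2) => exact ext_add_two_subsingleton f M k

/-- `M[0]` is derived complete w.r.t. `I` iff `Phi f M` is bijective for every `f ∈ I`. -/
theorem isDerivedComplete_inD_iff (I : Ideal A) :
    DRing.IsDerivedComplete I (Dual.inD A M) ↔ ∀ f ∈ I, Function.Bijective (Phi f M) := by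
  constructor
  · intro h f hf
    exact (subsingleton_away_hom_shift_iff M f).mp (h f hf)
  · intro h f hf
    exact (subsingleton_away_hom_shift_iff M f).mpr (h f hf)

end Derived

end Groth.Agent.H35
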