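import Mathlib

/-!
# Hom out of the third vertex of a distinguished triangle (helper35)

For a distinguished triangle `X →q X' → Z → X⟦1⟧`, vanishing of `Hom(Z, Y⟦n⟧)` for all `n` is
equivalent to bijectivity of `q^* : Hom(X', Y⟦n⟧) → Hom(X, Y⟦n⟧)` for all `n`.
-/

open CategoryTheory Pretriangulated Limits

set_option linter.unusedSectionVars false

namespace Groth.Agent.H35

variable {D : Type*} [Category D] [Preadditive D] [HasZeroObject D] [HasShift D ℤ]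
  [∀ n : ℤ, (shiftFunctor D n).Additive] [Pretriangulated D]

variable (T : Triangle D) (hT : T ∈ distTriang D)

include hT

lemma precomp_injective_of_subsingleton (W : D) [Subsingleton (T.obj₃ ⟶ W)] :
    Function.Injective (fun φ : T.obj₂ ⟶ W => T.mor₁ ≫ φ) := by
  intro φ φ' h
  have h0 : T.mor₁ ≫ (φ - φ') = 0 := by
    rw [Preadditive.comp_sub, sub_eq_zero]; exact h
  obtain ⟨g, hg⟩ := Triangle.yoneda_exact₂ T hT (φ - φ') h0
  rw [Subsingleton.elim g 0, comp_zero, sub_eq_zero] at hg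
  exact hg

lemma precomp_surjective_of_subsingleton (W : D) [Subsingleton (T.obj₃ ⟶ W⟦(1 : ℤ)⟧)] :
    Function.Surjective (fun φ : T.obj₂ ⟶ W => T.mor₁ ≫ φ) := by
  intro φ
  have h0 : T.rotate.mor₂ ≫ φ⟦(1 : ℤ)⟧' = 0 :=
    @Subsingleton.elim (T.obj₃ ⟶ W⟦(1 : ℤ)⟧) _ _ _
  obtain ⟨g, hg⟩ := Triangle.yoneda_exact₃ T.rotate (rot_of_distTriang _ hT) (φ⟦(1 : ℤ)⟧') h0
  have hg' : φ⟦(1 : ℤ)⟧' = (-(T.mor₁⟦(1 : ℤ)⟧')) ≫ (g : (T.obj₂)⟦(1 : ℤ)⟧ ⟶ W⟦(1 : ℤ)⟧) := hg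
  obtain ⟨γ, hγ⟩ : ∃ γ : T.obj₂ ⟶ W, γ⟦(1 : ℤ)⟧' = g :=
    (shiftFunctor D (1 : ℤ)).map_surjective g
  refine ⟨-γ, ?_⟩
  apply (shiftFunctor D (1 : ℤ)).map_injective
  rw [hg', ← hγ, Functor.map_comp, Functor.map_neg, Preadditive.comp_neg, Preadditive.neg_comp]

lemma subsingleton_of_precomp (W : D)
    (hinj : Function.Injective (fun φ : T.obj₂ ⟶ W⟦(1 : ℤ)⟧ => T.mor₁ ≫ φ))
    (hsurj : Function.Surjective (fun φ : T.obj₂ ⟶ W => T.mor₁ ≫ φ)) :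
    Subsingleton (T.obj₃ ⟶ W⟦(1 : ℤ)⟧) := by
  refine ⟨fun x y => ?_⟩
  have key : ∀ x : T.obj₃ ⟶ W⟦(1 : ℤ)⟧, x = 0 := by
    intro x
    have h1 : T.mor₂ ≫ x = 0 := by
      apply hinj
      change T.mor₁ ≫ T.mor₂ ≫ x = T.mor₁ ≫ 0
      rw [← Category.assoc, comp_distTriang_mor_zero₁₂ T hT, zero_comp, comp_zero]
    obtain ⟨g, hg⟩ := Triangle.yoneda_exact₃ T hT x h1
    obtain ⟨γ, rfl⟩ := (shiftFunctor D (1 : ℤ)).map_surjective g
    obtain ⟨γ', rfl⟩ := hsurj γ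
    rw [hg, Functor.map_comp, ← Category.assoc, comp_distTriang_mor_zero₃₁ T hT, zero_comp]
  rw [key x, key y]

omit hT in
lemma precomp_injective_of_iso {X X' W W' : D} (q : X ⟶ X') (e : W ≅ W')
    (h : Function.Injective (fun φ : X' ⟶ W => q ≫ φ)) :
    Function.Injective (fun φ : X' ⟶ W' => q ≫ φ) := by
  intro φ φ' hφ
  have : φ ≫ e.inv = φ' ≫ e.inv := by
    apply h
    change q ≫ φ ≫ e.inv = q ≫ φ' ≫ e.inv
    rw [← Category.assoc, ← Category.assoc]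
    exact congrArg (· ≫ e.inv) hφ
  exact (cancel_mono e.inv).mp this

omit hT in
lemma precomp_surjective_of_iso {X X' W W' : D} (q : X ⟶ X') (e : W ≅ W')
    (h : Function.Surjective (fun φ : X' ⟶ W => q ≫ φ)) :
    Function.Surjective (fun φ : X' ⟶ W' => q ≫ φ) := by
  intro φ
  obtain ⟨ψ, hψ⟩ := h (φ ≫ e.inv)
  refine ⟨ψ ≫ e.hom, ?_⟩
  change q ≫ ψ ≫ e.hom = φ
  have hψ' : q ≫ ψ = φ ≫ e.inv := hψ
  rw [← Category.assoc, hψ', Category.assoc, e.inv_hom_id, Category.comp_id]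

omit hT in
lemma subsingleton_hom_of_iso {Z W W' : D} (e : W ≅ W') (h : Subsingleton (Z ⟶ W)) :
    Subsingleton (Z ⟶ W') := by
  refine ⟨fun x y => ?_⟩
  have : x ≫ e.inv = y ≫ e.inv := Subsingleton.elim _ _
  exact (cancel_mono e.inv).mp this

/-- Vanishing of all `Hom(Z, Y⟦n⟧)` is equivalent to bijectivity of all `q^*` on
`Hom(-, Y⟦n⟧)`. -/
theorem subsingleton_shift_iff_precomp_bijective (Y : D) :
    (∀ n : ℤ, Subsingleton (T.obj₃ ⟶ Y⟦n⟧)) ↔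
      ∀ n : ℤ, Function.Bijective (fun φ : T.obj₂ ⟶ Y⟦n⟧ => T.mor₁ ≫ φ) := by
  constructor
  · intro h n
    have := h n
    refine ⟨precomp_injective_of_subsingleton T hT _, ?_⟩
    have : Subsingleton (T.obj₃ ⟶ (Y⟦n⟧)⟦(1 : ℤ)⟧) :=
      subsingleton_hom_of_iso ((shiftFunctorAdd' D n 1 (n + 1) rfl).app Y) (h (n + 1))
    exact precomp_surjective_of_subsingleton T hT _
  · intro h n
    have e : (Y⟦n - 1⟧)⟦(1 : ℤ)⟧ ≅ Y⟦n⟧ :=
      ((shiftFunctorAdd' D (n - 1) 1 n (by omega)).app Y).symm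
    refine subsingleton_hom_of_iso e ?_
    exact subsingleton_of_precomp T hT _
      (precomp_injective_of_iso T.mor₁ e.symm (h n).1) (h (n - 1)).2

end Groth.Agent.H35
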