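import Mathlib
import Groth.Prelude.Def_DRing3
import Groth.Agent.H35.DerComplete
import Groth.Agent.H35.DerHom
import Groth.Agent.H35.TriangleHom

/-!
# Derived completeness of objects of `D(A)` in terms of cohomology (helper35)

Main result: for a cochain complex `E` of `A`-modules and `f : A`,
`Hom_{D(A)}(A_f, (Q E)⟦n⟧) = 0` for all `n` iff `Phi f (Hⁿ E)` is bijective for all `n`.
-/

universe u

open CategoryTheory Polynomial

attribute [local instance] HasDerivedCategory.standard

namespace Groth.Agent.H35

variable {A : Type u} [CommRing A]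

section PhiEquiv

variable (f : A) {M N : Type*} [AddCommGroup M] [Module A M] [AddCommGroup N] [Module A N]

lemma Phi_bijective_of_linearEquiv (e : M ≃ₗ[A] N) (h : Function.Bijective (Phi f M)) :
    Function.Bijective (Phi f N) := by
  let E : (ℕ → M) ≃ (ℕ → N) := Equiv.piCongrRight fun _ => e.toEquiv
  have hE : ∀ m, Phi f N (E m) = E (Phi f M m) := fun m => Phi_comp f e.toLinearMap m
  have : (Phi f N : (ℕ → N) → (ℕ → N)) = E ∘ Phi f M ∘ E.symm := by
    funext x
    simp only [Function.comp_apply]
    rw [← hE, Equiv.apply_symm_apply]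
  rw [this]
  exact E.bijective.comp (h.comp E.symm.bijective)

lemma Phi_bijective_iff_of_linearEquiv (e : M ≃ₗ[A] N) :
    Function.Bijective (Phi f M) ↔ Function.Bijective (Phi f N) :=
  ⟨Phi_bijective_of_linearEquiv f e, Phi_bijective_of_linearEquiv f e.symm⟩

lemma Phi_bijective_pi (ι : Type*) (h : Function.Bijective (Phi f M)) :
    Function.Bijective (Phi f (ι → M)) := by
  let σ : (ℕ → ι → M) ≃ (ι → ℕ → M) := ⟨Function.swap, Function.swap, fun _ => rfl, fun _ => rfl⟩
  have : (Phi f (ι → M) : (ℕ → ι → M) → (ℕ → ι → M)) =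
      σ.symm ∘ (Pi.map fun _ : ι => (Phi f M : (ℕ → M) → (ℕ → M))) ∘ σ := by
    funext x n i
    rfl
  rw [this]
  exact σ.symm.bijective.comp ((Function.Bijective.piMap fun _ => h).comp σ.bijective)

lemma Phi_bijective_of_finite_free [Module.Finite A N] [Module.Free A N]
    (h : Function.Bijective (Phi f A)) : Function.Bijective (Phi f N) := by
  let b := Module.Free.chooseBasis A N
  exact Phi_bijective_of_linearEquiv f b.equivFun.symm (Phi_bijective_pi f _ h)

/-- Homology of a three-term complex of `Phi`-bijective modules is `Phi`-bijective. -/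
lemma Phi_bijective_shortComplex_homology (S : ShortComplex (ModuleCat.{u} A))
    (h₁ : Function.Bijective (Phi f S.X₁)) (h₂ : Function.Bijective (Phi f S.X₂))
    (h₃ : Function.Bijective (Phi f S.X₃)) : Function.Bijective (Phi f S.homology) := by
  have hk := (Phi_bijective_ker_coker f S.g.hom h₂ h₃).1
  have hc := (Phi_bijective_ker_coker f S.moduleCatToCycles h₁ hk).2
  exact Phi_bijective_of_linearEquiv f S.moduleCatHomologyIso.toLinearEquiv.symm hc

end PhiEquiv

section HomSeqEquiv

variable (f : A) (M : Type u) [AddCommGroup M] [Module A M]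

/-- Maps `A[X] → M` are sequences in `M`. -/
noncomputable def homSeqEquiv : (ModuleCat.of A A[X] ⟶ ModuleCat.of A M) ≃ (ℕ → M) where
  toFun := homSeq
  invFun := seqHom
  left_inv := seqHom_homSeq
  right_inv := homSeq_seqHom

lemma precomp_bijective_iff_Phi :
    Function.Bijective
      (fun ψ : ModuleCat.of A A[X] ⟶ ModuleCat.of A M => (awayResolution f).f ≫ ψ) ↔
      Function.Bijective (Phi f M) := by
  have : (fun ψ : ModuleCat.of A A[X] ⟶ ModuleCat.of A M => (awayResolution f).f ≫ ψ) =
      (homSeqEquiv M).symm ∘ Phi f M ∘ homSeqEquiv M := by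
    funext ψ
    simp only [Function.comp_apply]
    rw [Equiv.eq_symm_apply]
    exact homSeq_comp f ψ
  rw [this, Equiv.comp_bijective, Equiv.bijective_comp]

end HomSeqEquiv

section Main

open DerivedCategory

variable (f : A) (E : CochainComplex (ModuleCat.{u} A) ℤ)

/-- Derived `f`-completeness of `Q E` in terms of `Phi` on cohomology. -/
theorem subsingleton_away_hom_shift_Q_iff :
    (∀ n : ℤ, Subsingleton (Dual.inD A (Localization.Away f) ⟶ (Q.obj E)⟦n⟧)) ↔
      ∀ n : ℤ, Function.Bijective (Phi f (E.homology n)) := by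
  have hT := (awayResolution_shortExact f).singleTriangle_distinguished
  refine (subsingleton_shift_iff_precomp_bijective _ hT (Q.obj E)).trans ?_
  refine forall_congr' fun n => ?_
  refine Iff.trans ?_ (precomp_bijective_iff_Phi f (E.homology n))
  exact precomp_bijective_iff E n (awayResolution f).f

/-- Derived `f`-completeness of any object of `D(A)` in terms of `Phi` on cohomology. -/
theorem subsingleton_away_hom_shift_iff_HD (K : Dual.D A) :
    (∀ n : ℤ, Subsingleton (Dual.inD A (Localization.Away f) ⟶ K⟦n⟧)) ↔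
      ∀ n : ℤ, Function.Bijective (Phi f (Dual.HD A K n)) := by
  let E := Q.objPreimage K
  let e : Q.obj E ≅ K := Q.objObjPreimageIso K
  have h1 : (∀ n : ℤ, Subsingleton (Dual.inD A (Localization.Away f) ⟶ K⟦n⟧)) ↔
      ∀ n : ℤ, Subsingleton (Dual.inD A (Localization.Away f) ⟶ (Q.obj E)⟦n⟧) := by
    refine forall_congr' fun n => ?_
    exact ⟨subsingleton_hom_of_iso ((shiftFunctor (Dual.D A) n).mapIso e.symm),
      subsingleton_hom_of_iso ((shiftFunctor (Dual.D A) n).mapIso e)⟩
  rw [h1, subsingleton_away_hom_shift_Q_iff]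
  refine forall_congr' fun n => ?_
  let l : Dual.HD A K n ≃ₗ[A] E.homology n :=
    ((homologyFunctor (ModuleCat.{u} A) n).mapIso e.symm ≪≫
      (homologyFunctorFactors (ModuleCat.{u} A) n).app E).toLinearEquiv
  exact (Phi_bijective_iff_of_linearEquiv f l).symm

/-- Derived completeness in terms of `Phi` on cohomology. -/
theorem isDerivedComplete_iff_Phi (I : Ideal A) (K : Dual.D A) :
    DRing.IsDerivedComplete I K ↔
      ∀ f ∈ I, ∀ n : ℤ, Function.Bijective (Phi f (Dual.HD A K n)) := by
  constructor
  · intro h f hf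
    exact (subsingleton_away_hom_shift_iff_HD f K).mp (h f hf)
  · intro h f hf
    exact (subsingleton_away_hom_shift_iff_HD f K).mpr (h f hf)

/-- A complex with `Phi`-bijective terms is derived complete. -/
theorem isDerivedComplete_Q_of_terms (I : Ideal A)
    (h : ∀ f ∈ I, ∀ i : ℤ, Function.Bijective (Phi f (E.X i))) :
    DRing.IsDerivedComplete I (Q.obj E) := by
  intro f hf
  rw [subsingleton_away_hom_shift_Q_iff]
  intro n
  exact Phi_bijective_shortComplex_homology f (E.sc n) (h f hf _) (h f hf _) (h f hf _)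

lemma isDerivedComplete_of_iso (I : Ideal A) {K L : Dual.D A} (e : K ≅ L)
    (h : DRing.IsDerivedComplete I K) : DRing.IsDerivedComplete I L := by
  intro f hf n
  exact subsingleton_hom_of_iso ((shiftFunctor (Dual.D A) n).mapIso e) (h f hf n)

end Main

end Groth.Agent.H35
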