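import Mathlib
import Groth.Agent.H35.DerCompleteD

/-!
# The elements `f` for which a module is derived `f`-complete form a radical ideal (helper35)

`Phi f M = 1 - f • S` on `ℕ → M` where `S` is the shift.  Key lemma: if `N` is derived
`f`-complete (`Phi f N` bijective) then `1 - f • T` is bijective for every endomorphism `T` of `N`.
-/

universe u

open CategoryTheory

namespace Groth.Agent.H35

variable {A : Type*} [CommRing A]

section KeyLemma

variable (f : A) {N : Type*} [AddCommGroup N] [Module A N]

/-- If `N` is derived `f`-complete then `1 - f T` is bijective for any endomorphism `T`. -/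
theorem one_sub_smul_bijective (h : Function.Bijective (Phi f N)) (T : Module.End A N) :
    Function.Bijective (fun x : N => x - f • T x) := by
  constructor
  · intro x x' hxx'
    rw [← sub_eq_zero]
    have hd : (x - x') - f • T (x - x') = 0 := by
      have : (x - x') - f • T (x - x') = (x - f • T x) - (x' - f • T x') := by
        rw [map_sub, smul_sub]; abel
      rw [this]
      exact sub_eq_zero.mpr hxx'
    generalize x - x' = z at hd
    have hm : (fun n : ℕ => (T ^ n) z) = 0 := by
      apply h.1
      rw [map_zero]
      funext n
      rw [Phi_apply, Pi.zero_apply, pow_succ, Module.End.mul_apply, ← map_smul, ← map_sub, hd,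
        map_zero]
    have := congrFun hm 0
    simpa using this
  · intro y
    obtain ⟨m, hm⟩ := h.2 (fun n => (T ^ n) y)
    have hshift : (fun n => m (n + 1)) = fun n => T (m n) := by
      apply h.1
      have h1 : Phi f N (fun n => m (n + 1)) = fun n => (T ^ (n + 1)) y := by
        funext n
        rw [Phi_apply]
        have := congrFun hm (n + 1)
        rw [Phi_apply] at this
        exact this
      have h2 : Phi f N (fun n => T (m n)) = fun n => (T ^ (n + 1)) y := by
        rw [Phi_comp f T m, hm]
        funext n
        rw [pow_succ', Module.End.mul_apply]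
      rw [h1, h2]
    refine ⟨m 0, ?_⟩
    have h0 := congrFun hm 0
    rw [Phi_apply] at h0
    have h1 := congrFun hshift 0
    simp only [zero_add] at h1 h0
    change m 0 - f • T (m 0) = y
    rw [← h1, h0]
    simp

end KeyLemma

section Ideal

variable (M : Type*) [AddCommGroup M] [Module A M]

/-- The shift on sequences. -/
def shiftSeq : Module.End A (ℕ → M) where
  toFun m n := m (n + 1)
  map_add' _ _ := rfl
  map_smul' _ _ := rfl

@[simp] lemma shiftSeq_apply (m : ℕ → M) (n : ℕ) : shiftSeq (A := A) M m n = m (n + 1) := rfl

lemma shiftSeq_pow_apply (k : ℕ) (m : ℕ → M) (n : ℕ) :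
    (shiftSeq (A := A) M ^ k) m n = m (n + k) := by
  induction k generalizing m n with
  | zero => simp
  | succ k ih =>
    rw [pow_succ, Module.End.mul_apply, ih, shiftSeq_apply]
    congr 1

variable {M}

lemma Phi_bijective_zero : Function.Bijective (Phi (0 : A) M) := by
  have : (Phi (0 : A) M : (ℕ → M) → (ℕ → M)) = id := by
    funext m n
    simp [Phi_apply]
  rw [this]
  exact Function.bijective_id

lemma Phi_bijective_mul (a f : A) (h : Function.Bijective (Phi f M)) :
    Function.Bijective (Phi (a * f) M) := by
  have h' := one_sub_smul_bijective f (Phi_bijective_pi f ℕ h) (a • shiftSeq M)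
  convert h' using 1
  funext m n
  simp only [Phi_apply, Pi.sub_apply, Pi.smul_apply, LinearMap.smul_apply, shiftSeq_apply]
  rw [mul_comm, mul_smul]

lemma Phi_bijective_add (f g : A) (hf : Function.Bijective (Phi f M))
    (hg : Function.Bijective (Phi g M)) : Function.Bijective (Phi (f + g) M) := by
  let e := LinearEquiv.ofBijective (Phi f M) hf
  let T : Module.End A (ℕ → M) := e.symm.toLinearMap ∘ₗ shiftSeq M
  have h' := one_sub_smul_bijective g (Phi_bijective_pi g ℕ hg) T
  have : (Phi (f + g) M : (ℕ → M) → (ℕ → M)) = Phi f M ∘ fun x => x - g • T x := by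
    funext m
    simp only [Function.comp_apply]
    rw [map_sub, map_smul]
    have : Phi f M (T m) = shiftSeq (A := A) M m := e.apply_symm_apply _
    rw [this]
    funext n
    simp only [Phi_apply, Pi.sub_apply, Pi.smul_apply, shiftSeq_apply, add_smul]
    abel
  rw [this]
  exact hf.comp h'

lemma Phi_bijective_of_pow (f : A) (k : ℕ) (h : Function.Bijective (Phi (f ^ k) M)) :
    Function.Bijective (Phi f M) := by
  have h' := one_sub_smul_bijective (f ^ k) (Phi_bijective_pi (f ^ k) ℕ h) (shiftSeq M ^ k)
  let x : Module.End A (ℕ → M) := f • shiftSeq M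
  have hx : (Phi f M : Module.End A (ℕ → M)) = 1 - x := by
    refine LinearMap.ext fun m => ?_
    funext n
    simp [x, Phi_apply]
  have hxk : (fun m : ℕ → M => m - f ^ k • (shiftSeq (A := A) M ^ k) m) = ⇑(1 - x ^ k) := by
    funext m
    simp only [x, smul_pow, LinearMap.sub_apply, Module.End.one_apply, LinearMap.smul_apply]
  rw [hxk] at h'
  rw [hx]
  constructor
  · have h1 := geom_sum_mul_neg x k
    have : Function.Injective (⇑(∑ i ∈ Finset.range k, x ^ i) ∘ ⇑(1 - x)) := by
      rw [← Module.End.coe_mul, h1]
      exact h'.1
    exact Function.Injective.of_comp this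
  · have h1 := mul_neg_geom_sum x k
    have : Function.Surjective (⇑(1 - x) ∘ ⇑(∑ i ∈ Finset.range k, x ^ i)) := by
      rw [← Module.End.coe_mul, h1]
      exact h'.2
    exact Function.Surjective.of_comp this

variable (A M)

/-- The ideal of `f` for which `M` is derived `f`-complete. -/
def PhiIdeal : Ideal A where
  carrier := {f | Function.Bijective (Phi f M)}
  zero_mem' := Phi_bijective_zero
  add_mem' := fun hf hg => Phi_bijective_add _ _ hf hg
  smul_mem' := fun a _ hf => Phi_bijective_mul a _ hf

variable {A M}

lemma mem_PhiIdeal (f : A) : f ∈ PhiIdeal A M ↔ Function.Bijective (Phi f M) := Iff.rfl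

lemma PhiIdeal_isRadical : (PhiIdeal A M).IsRadical := by
  rintro f ⟨k, hk⟩
  exact Phi_bijective_of_pow f k hk

end Ideal

end Groth.Agent.H35
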