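import Mathlib
import Groth.Prelude.Def_DRing3
import Groth.Agent.H35.DerCompleteD

/-!
# The power complex `E^ℕ` and vanishing of `Hom(E', K)` for `K` derived `f`-complete and `f`
invertible on `E'` (helper35)
-/

universe u

open CategoryTheory

attribute [local instance] HasDerivedCategory.standard

namespace Groth.Agent.H35

variable {A : Type u} [CommRing A]

/-- The functor `M ↦ (ℕ → M)`. -/
noncomputable def powFunctor : ModuleCat.{u} A ⥤ ModuleCat.{u} A where
  obj M := ModuleCat.of A (ℕ → M)
  map g := ModuleCat.ofHom (g.hom.compLeft ℕ)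
  map_id _ := rfl
  map_comp _ _ := rfl

instance : (powFunctor (A := A)).Additive where
  map_add := rfl

lemma powFunctor_map_exact (S : ShortComplex (ModuleCat.{u} A)) (hS : S.Exact) :
    (S.map powFunctor).Exact := by
  rw [ShortComplex.moduleCat_exact_iff] at hS ⊢
  intro x hx
  have : ∀ k : ℕ, ∃ y : S.X₁, S.f y = x k := fun k => hS (x k) (congrFun hx k)
  choose y hy using this
  exact ⟨y, funext hy⟩

instance : (powFunctor (A := A)).PreservesHomology :=
  ((Functor.exact_tfae (powFunctor (A := A))).out 1 2).mp powFunctor_map_exact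

/-- `Phi f` as a natural transformation. -/
noncomputable def PhiNat (f : A) : powFunctor (A := A) ⟶ powFunctor where
  app M := ModuleCat.ofHom (Phi f M)
  naturality M N g := by
    refine ModuleCat.hom_ext (LinearMap.ext fun m => ?_)
    exact Phi_comp f g.hom m

/-- The projection to the zeroth coordinate. -/
noncomputable def proj0 : powFunctor (A := A) ⟶ 𝟭 (ModuleCat.{u} A) where
  app _ := ModuleCat.ofHom (LinearMap.proj 0)
  naturality _ _ _ := rfl

section Cx

variable (E : CochainComplex (ModuleCat.{u} A) ℤ)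

/-- The power complex `E^ℕ`. -/
noncomputable abbrev powCx : CochainComplex (ModuleCat.{u} A) ℤ :=
  (powFunctor.mapHomologicalComplex _).obj E

/-- `Phi f` on the power complex. -/
noncomputable abbrev PhiCx (f : A) : powCx E ⟶ powCx E :=
  (NatTrans.mapHomologicalComplex (PhiNat f) _).app E

/-- The projection `E^ℕ → E`. -/
noncomputable abbrev proj0Cx : powCx E ⟶ E :=
  (NatTrans.mapHomologicalComplex (proj0 (A := A)) _).app E ≫
    (Functor.mapHomologicalComplexIdIso _ _).hom.app E

lemma quasiIso_PhiCx (f : A) (h : ∀ n : ℤ, Function.Bijective (Phi f (E.homology n))) :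
    QuasiIso (PhiCx E f) := by
  rw [quasiIso_iff]
  intro n
  rw [quasiIsoAt_iff, ShortComplex.quasiIso_iff]
  have h1 := NatTrans.app_homology (PhiNat f) (E.sc n)
  have h2 : IsIso ((PhiNat f).app (E.sc n).homology) := by
    rw [ConcreteCategory.isIso_iff_bijective]
    exact h n
  have h3 : ShortComplex.homologyMap ((E.sc n).mapNatTrans (PhiNat f)) =
      ((E.sc n).mapHomologyIso powFunctor).hom ≫ (PhiNat f).app (E.sc n).homology ≫
        ((E.sc n).mapHomologyIso powFunctor).inv := by
    rw [h1]
    simp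
  change IsIso (ShortComplex.homologyMap ((E.sc n).mapNatTrans (PhiNat f)))
  rw [h3]
  infer_instance

variable {E} {E' : CochainComplex (ModuleCat.{u} A) ℤ}

/-- A sequence of chain maps `E' ⟶ E` assembles to a chain map `E' ⟶ E^ℕ`. -/
noncomputable def powLift (b : ℕ → (E' ⟶ E)) : E' ⟶ powCx E where
  f i := ModuleCat.ofHom (LinearMap.pi fun k => ((b k).f i).hom)
  comm' i j _ := by
    refine ModuleCat.hom_ext (LinearMap.ext fun x => ?_)
    funext k
    exact congrArg (fun φ => φ.hom x) ((b k).comm i j)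

lemma powLift_proj0 (b : ℕ → (E' ⟶ E)) : powLift b ≫ proj0Cx E = b 0 := by
  ext i x
  rfl

lemma powLift_PhiCx (f : A) (b : ℕ → (E' ⟶ E)) :
    powLift b ≫ PhiCx E f = powLift fun k => b k - f • b (k + 1) := by
  ext i x
  rfl

lemma powLift_zero : powLift (fun _ => (0 : E' ⟶ E)) = 0 := by
  ext i x
  rfl

end Cx

section Vanish

open DerivedCategory

variable (f : A) (E' E : CochainComplex (ModuleCat.{u} A) ℤ)

/-- If `f` is invertible on the complex `E'` and `Q E` is derived `f`-complete, every chain map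
`E' ⟶ E` vanishes in the derived category. -/
lemma Q_map_eq_zero_of_isIso_smul [IsIso (f • 𝟙 E')]
    (h : ∀ n : ℤ, Function.Bijective (Phi f (E.homology n))) (a : E' ⟶ E) : Q.map a = 0 := by
  let v : E' ⟶ E' := inv (f • 𝟙 E')
  have hv : f • v = 𝟙 E' := by
    have : (f • 𝟙 E') ≫ v = 𝟙 E' := IsIso.hom_inv_id _
    rwa [Linear.smul_comp, Category.id_comp] at this
  let b : ℕ → (E' ⟶ E) := fun k => Nat.rec a (fun _ bk => v ≫ bk) k
  have hb : ∀ k, b k - f • b (k + 1) = 0 := by
    intro k
    have : b (k + 1) = v ≫ b k := rfl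
    rw [this, ← Linear.smul_comp, hv, Category.id_comp, sub_self]
  have h1 : powLift b ≫ PhiCx E f = 0 := by
    rw [powLift_PhiCx]
    simp only [hb]
    exact powLift_zero
  have hq : QuasiIso (PhiCx E f) := quasiIso_PhiCx E f h
  have hiso : IsIso (Q.map (PhiCx E f)) := (isIso_Q_map_iff_quasiIso (φ := PhiCx E f)).mpr hq
  have h2 : Q.map (powLift b) = 0 := by
    have : Q.map (powLift b) ≫ Q.map (PhiCx E f) = 0 := by
      rw [← Q.map_comp, h1, Q.map_zero]
    exact (cancel_mono (Q.map (PhiCx E f))).mp (by rw [this, Limits.zero_comp])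
  have h3 : a = powLift b ≫ proj0Cx E := by
    rw [powLift_proj0]
    rfl
  rw [h3, Q.map_comp, h2, Limits.zero_comp]

/-- If `f` is invertible on the complex `E'` and `K` is derived `f`-complete, then
`Hom_{D(A)}(E', K) = 0`. -/
theorem subsingleton_hom_of_isIso_smul [IsIso (f • 𝟙 E')] (K : Dual.D A)
    (hK : ∀ n : ℤ, Subsingleton (Dual.inD A (Localization.Away f) ⟶ K⟦n⟧)) :
    Subsingleton (Q.obj E' ⟶ K) := by
  let E₀ := Q.objPreimage K
  let e : Q.obj E₀ ≅ K := Q.objObjPreimageIso K
  refine subsingleton_hom_of_iso e ?_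
  refine subsingleton_of_forall_eq 0 fun φ => ?_
  obtain ⟨E, g, s, hs, rfl⟩ := left_fac φ
  have hE : ∀ n : ℤ, Function.Bijective (Phi f (E.homology n)) := by
    rw [← subsingleton_away_hom_shift_Q_iff]
    intro n
    have e' : K ≅ Q.obj E := e.symm ≪≫ asIso (Q.map s)
    exact subsingleton_hom_of_iso ((shiftFunctor (Dual.D A) n).mapIso e') (hK n)
  rw [Q_map_eq_zero_of_isIso_smul f E' E hE g, Limits.zero_comp]

end Vanish

end Groth.Agent.H35
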