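import Mathlib

/-!
# Exactness of adic completion under an Artin–Rees condition (helper35)

`AR I f k`: `f y ∈ I^(k+n) • ⊤ → y ∈ I^n • ⊤` for all `n`.  Under this condition the completion of `f`
is injective, and the completion of an exact sequence `K → P → Q → 0` is exact in the middle.
For a flat module `N` over a Noetherian ring and an injective map `f₀ : K → P` into a finite module,
`f₀ ⊗ N` satisfies an Artin–Rees condition.
-/

set_option autoImplicit false
universe u

open TensorProduct

namespace Groth.Agent.H35.AdicAR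

variable {R : Type u} [CommRing R] (I : Ideal R)

section General

variable {K P Q : Type u} [AddCommGroup K] [Module R K] [AddCommGroup P] [Module R P]
  [AddCommGroup Q] [Module R Q]

/-- Artin–Rees type condition -/
def AR (f : K →ₗ[R] P) (k : ℕ) : Prop :=
  ∀ (n : ℕ) (y : K), f y ∈ (I ^ (k + n) • ⊤ : Submodule R P) → y ∈ (I ^ n • ⊤ : Submodule R K)

theorem map_injective_of_AR (f : K →ₗ[R] P) (k : ℕ) (h : AR I f k) :
    Function.Injective (AdicCompletion.map I f) := by
  rw [← LinearMap.ker_eq_bot, LinearMap.ker_eq_bot']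
  intro x
  apply AdicCompletion.induction_on I K x (fun a ↦ ?_)
  intro hx
  refine AdicCompletion.mk_zero_of _ _ _ ⟨0, fun n _ ↦ ⟨k + n, by omega, n, le_rfl, ?_⟩⟩
  apply h n
  simpa using congrArg (fun x ↦ x.val (k + n)) hx

theorem map_exact_of_AR (f : K →ₗ[R] P) (g : P →ₗ[R] Q) (k : ℕ) (h : AR I f k)
    (hfg : Function.Exact f g) (hg : Function.Surjective g) :
    Function.Exact (AdicCompletion.map I f) (AdicCompletion.map I g) := by
  refine LinearMap.exact_of_comp_eq_zero_of_ker_le_range ?_ (fun y ↦ ?_)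
  · rw [AdicCompletion.map_comp, hfg.linearMap_comp_eq_zero, AdicCompletion.map_zero]
  · apply AdicCompletion.induction_on I P y (fun b ↦ ?_)
    intro hz
    have hb (n : ℕ) : g (b n) ∈ (I ^ n • ⊤ : Submodule R Q) := by
      simpa using congrArg (fun x ↦ x.val n) hz
    have h1 : ∀ n : ℕ, ∃ p : P, p ∈ (I ^ n • ⊤ : Submodule R P) ∧ ∃ a : K, f a = b n - p := by
      intro n
      have h2 : g (b n) ∈ Submodule.map g (I ^ n • ⊤ : Submodule R P) := by
        rw [Submodule.map_smul'', Submodule.map_top, LinearMap.range_eq_top.mpr hg]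
        exact hb n
      obtain ⟨p, hp, hgp⟩ := h2
      obtain ⟨a, ha⟩ := (hfg (b n - p)).mp (by rw [map_sub, hgp, sub_self])
      exact ⟨p, hp, a, ha⟩
    choose p hp a ha using h1
    have hbc : ∀ m n : ℕ, m ≤ n → b n - b m ∈ (I ^ m • ⊤ : Submodule R P) := by
      intro m n hmn
      rw [← Submodule.Quotient.eq]
      exact AdicCompletion.AdicCauchySequence.mk_eq_mk hmn b
    have hcauchy : ∀ n, a (k + n) ≡ a (k + (n + 1)) [SMOD (I ^ n • ⊤ : Submodule R K)] := by
      intro n
      rw [SModEq.sub_mem, ← Submodule.neg_mem_iff, neg_sub]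
      apply h n
      rw [map_sub, ha, ha]
      have e : b (k + (n + 1)) - p (k + (n + 1)) - (b (k + n) - p (k + n)) =
          (b (k + (n + 1)) - b (k + n)) - p (k + (n + 1)) + p (k + n) := by abel
      rw [e]
      refine Submodule.add_mem _ (Submodule.sub_mem _ (hbc _ _ (by omega)) ?_) (hp _)
      exact Submodule.smul_mono_left (Ideal.pow_le_pow_right (by omega)) (hp _)
    refine ⟨AdicCompletion.mk I K (AdicCompletion.AdicCauchySequence.mk I K (fun n ↦ a (k + n)) hcauchy), ?_⟩
    ext n
    suffices hs : Submodule.Quotient.mk (p := (I ^ n • ⊤ : Submodule R P)) (f (a (k + n))) =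
        Submodule.Quotient.mk (p := (I ^ n • ⊤ : Submodule R P)) (b n) by
      simpa using hs
    rw [Submodule.Quotient.eq, ha]
    have e : b (k + n) - p (k + n) - b n = (b (k + n) - b n) - p (k + n) := by abel
    rw [e]
    refine Submodule.sub_mem _ (hbc _ _ (by omega)) ?_
    exact Submodule.smul_mono_left (Ideal.pow_le_pow_right (by omega)) (hp _)

end General


section Flat

variable [IsNoetherianRing R] {K P : Type u} [AddCommGroup K] [Module R K] [AddCommGroup P]
  [Module R P] [Module.Finite R P] (N : Type u) [AddCommGroup N] [Module R N]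

omit [IsNoetherianRing R] [Module.Finite R P] in
/-- elements of `(I^m • ⊤) ⊗ N` land in `I^m • ⊤` -/
lemma rTensor_subtype_mem (m : ℕ) (S : Submodule R K) (hS : S ≤ (I ^ m • ⊤ : Submodule R K))
    (z : S ⊗[R] N) : (S.subtype.rTensor N) z ∈ (I ^ m • ⊤ : Submodule R (K ⊗[R] N)) := by
  induction z using TensorProduct.induction_on with
  | zero => rw [map_zero]; exact Submodule.zero_mem _
  | add x y hx hy => rw [map_add]; exact Submodule.add_mem _ hx hy
  | tmul s n =>
    rw [LinearMap.rTensor_tmul, Submodule.subtype_apply]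
    have hs : (s : K) ∈ (I ^ m • ⊤ : Submodule R K) := hS s.2
    have := Submodule.mem_map_of_mem (f := (TensorProduct.mk R K N).flip n) hs
    rw [Submodule.map_smul''] at this
    exact Submodule.smul_mono le_rfl le_top this

omit [IsNoetherianRing R] [Module.Finite R P] in
/-- `I^m • ⊤` is killed in `(P/I^m P) ⊗ N` -/
lemma rTensor_mkQ_eq_zero (m : ℕ) (w : P ⊗[R] N)
    (hw : w ∈ (I ^ m • ⊤ : Submodule R (P ⊗[R] N))) :
    ((I ^ m • ⊤ : Submodule R P).mkQ.rTensor N) w = 0 := by
  refine Submodule.smul_induction_on hw ?_ ?_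
  · intro a ha w' _
    rw [map_smul]
    generalize ((I ^ m • ⊤ : Submodule R P).mkQ.rTensor N) w' = v
    induction v using TensorProduct.induction_on with
    | zero => rw [smul_zero]
    | add x y hx hy => rw [smul_add, hx, hy, add_zero]
    | tmul q n =>
      obtain ⟨q', rfl⟩ := Submodule.Quotient.mk_surjective _ q
      rw [TensorProduct.smul_tmul', ← Submodule.Quotient.mk_smul,
        (Submodule.Quotient.mk_eq_zero _).mpr (Submodule.smul_mem_smul ha Submodule.mem_top),
        TensorProduct.zero_tmul]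
  · intro x y hx hy
    rw [map_add, hx, hy, add_zero]

/-- Artin–Rees for `f₀ ⊗ N` with `N` flat -/
theorem AR_rTensor [Module.Flat R N] (f₀ : K →ₗ[R] P) (hf₀ : Function.Injective f₀) :
    ∃ k : ℕ, AR I (f₀.rTensor N) k := by
  obtain ⟨k, hk⟩ := Ideal.exists_pow_inf_eq_pow_smul I (LinearMap.range f₀)
  refine ⟨k, fun n z hz => ?_⟩
  let S : Submodule R K := Submodule.comap f₀ (I ^ (k + n) • ⊤ : Submodule R P)
  have hS : S ≤ (I ^ n • ⊤ : Submodule R K) := by
    intro y hy
    have h1 : f₀ y ∈ (I ^ (k + n) • ⊤ : Submodule R P) ⊓ LinearMap.range f₀ := ⟨hy, ⟨y, rfl⟩⟩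
    rw [hk (k + n) (by omega), show k + n - k = n by omega] at h1
    have h2 : f₀ y ∈ I ^ n • LinearMap.range f₀ :=
      Submodule.smul_mono le_rfl inf_le_right h1
    rw [← Submodule.map_top, ← Submodule.map_smul''] at h2
    obtain ⟨y', hy', hyy'⟩ := h2
    rw [← hf₀ hyy']
    exact hy'
  let q : K →ₗ[R] P ⧸ (I ^ (k + n) • ⊤ : Submodule R P) :=
    (I ^ (k + n) • ⊤ : Submodule R P).mkQ ∘ₗ f₀
  have hex : Function.Exact S.subtype q := by
    intro y
    constructor
    · intro hy
      have : y ∈ S := by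
        show f₀ y ∈ (I ^ (k + n) • ⊤ : Submodule R P)
        rw [← Submodule.Quotient.mk_eq_zero]
        exact hy
      exact ⟨⟨y, this⟩, rfl⟩
    · rintro ⟨y', rfl⟩
      show Submodule.Quotient.mk (f₀ y') = 0
      rw [Submodule.Quotient.mk_eq_zero]
      exact y'.2
  have hex' := Module.Flat.rTensor_exact N hex
  have hq : (q.rTensor N) z = 0 := by
    have : q.rTensor N = ((I ^ (k + n) • ⊤ : Submodule R P).mkQ.rTensor N) ∘ₗ (f₀.rTensor N) :=
      LinearMap.rTensor_comp N _ _
    rw [this, LinearMap.comp_apply]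
    exact rTensor_mkQ_eq_zero I N (k + n) _ hz
  obtain ⟨z', rfl⟩ := (hex' z).1 hq
  exact rTensor_subtype_mem I N n S hS z'

end Flat

end Groth.Agent.H35.AdicAR
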