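import Mathlib
import Groth.Agent.H35.AdicAR

/-!
# Adic completion of a flat module over a Noetherian ring (helper35)

For a flat module `N` over a Noetherian ring `A` and a finite module `M` the natural map
`τ : M ⊗ N^ → (M ⊗ N)^` is bijective; consequently `N^` is flat.
-/

set_option autoImplicit false
universe u

open TensorProduct

namespace Groth.Agent.H35.AdicFlat

open Groth.Agent.H35.AdicAR

variable {A : Type u} [CommRing A] (I : Ideal A)

section MapLinear

variable {M N : Type u} [AddCommGroup M] [Module A M] [AddCommGroup N] [Module A N]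

lemma map_add_apply (f g : M →ₗ[A] N) (x : AdicCompletion I M) :
    AdicCompletion.map I (f + g) x = AdicCompletion.map I f x + AdicCompletion.map I g x := by
  apply AdicCompletion.induction_on I M x (fun a ↦ ?_)
  ext n
  simp

lemma map_smul_apply (c : A) (f : M →ₗ[A] N) (x : AdicCompletion I M) :
    AdicCompletion.map I (c • f) x = c • AdicCompletion.map I f x := by
  apply AdicCompletion.induction_on I M x (fun a ↦ ?_)
  ext n
  simp [AdicCompletion.val_smul_apply]

end MapLinear

variable (N : Type u) [AddCommGroup N] [Module A N]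

/-- the comparison map `M ⊗ N^ → (M ⊗ N)^` -/
noncomputable def τ (M : Type u) [AddCommGroup M] [Module A M] :
    M ⊗[A] AdicCompletion I N →ₗ[A] AdicCompletion I (M ⊗[A] N) :=
  TensorProduct.lift
    (LinearMap.mk₂ A (fun m y => AdicCompletion.map I (TensorProduct.mk A M N m) y)
      (fun m m' y => by rw [map_add, map_add_apply])
      (fun c m y => by rw [map_smul, map_smul_apply])
      (fun m y y' => by rw [map_add])
      (fun c m y => by rw [LinearMap.map_smul_of_tower]))

variable {M M' : Type u} [AddCommGroup M] [Module A M] [AddCommGroup M'] [Module A M']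

@[simp] lemma τ_tmul (m : M) (y : AdicCompletion I N) :
    τ I N M (m ⊗ₜ y) = AdicCompletion.map I (TensorProduct.mk A M N m) y := rfl

lemma τ_tmul_of (m : M) (n : N) :
    τ I N M (m ⊗ₜ AdicCompletion.of I N n) = AdicCompletion.of I (M ⊗[A] N) (m ⊗ₜ n) := by
  rw [τ_tmul, AdicCompletion.map_of]
  rfl

lemma τ_naturality (g : M →ₗ[A] M') (z : M ⊗[A] AdicCompletion I N) :
    AdicCompletion.map I (g.rTensor N) (τ I N M z) =
      τ I N M' (g.rTensor (AdicCompletion I N) z) := by
  induction z using TensorProduct.induction_on with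
  | zero => simp
  | add x y hx hy => rw [map_add, map_add, map_add, map_add, hx, hy]
  | tmul m y =>
    rw [τ_tmul, LinearMap.rTensor_tmul, τ_tmul, AdicCompletion.map_comp_apply]
    congr 2

section Base

lemma map_lid_τ (z : A ⊗[A] AdicCompletion I N) :
    AdicCompletion.map I (TensorProduct.lid A N : A ⊗[A] N →ₗ[A] N) (τ I N A z) =
      TensorProduct.lid A (AdicCompletion I N) z := by
  induction z using TensorProduct.induction_on with
  | zero => simp
  | add x y hx hy => rw [map_add, map_add, map_add, hx, hy]
  | tmul a y =>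
    rw [τ_tmul, AdicCompletion.map_comp_apply, TensorProduct.lid_tmul]
    have h : (TensorProduct.lid A N : A ⊗[A] N →ₗ[A] N) ∘ₗ TensorProduct.mk A A N a =
        a • LinearMap.id := by
      ext n
      simp
    rw [h, map_smul_apply, AdicCompletion.map_id]
    rfl

lemma τ_self_bijective : Function.Bijective (τ I N A) := by
  have h1 : Function.Bijective
      (AdicCompletion.map I (TensorProduct.lid A N : A ⊗[A] N →ₗ[A] N)) :=
    (AdicCompletion.congr I (TensorProduct.lid A N)).bijective
  have h2 : (AdicCompletion.map I (TensorProduct.lid A N : A ⊗[A] N →ₗ[A] N)) ∘ (τ I N A) =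
      TensorProduct.lid A (AdicCompletion I N) := funext (map_lid_τ I N)
  have h3 : Function.Bijective
      ((AdicCompletion.map I (TensorProduct.lid A N : A ⊗[A] N →ₗ[A] N)) ∘ (τ I N A)) := by
    rw [h2]
    exact (TensorProduct.lid A _).bijective
  exact (Function.Bijective.of_comp_iff' h1 _).1 h3

end Base

section SES

variable [IsNoetherianRing A] [Module.Flat A N]
variable {M₁ M₂ M₃ : Type u} [AddCommGroup M₁] [Module A M₁] [AddCommGroup M₂] [Module A M₂]
  [Module.Finite A M₂] [AddCommGroup M₃] [Module A M₃]
  (f : M₁ →ₗ[A] M₂) (g : M₂ →ₗ[A] M₃)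

lemma bottom_injective (hf : Function.Injective f) :
    Function.Injective (AdicCompletion.map I (f.rTensor N)) := by
  obtain ⟨k, hk⟩ := AR_rTensor I N f hf
  exact map_injective_of_AR I _ k hk

lemma bottom_exact (hf : Function.Injective f) (hg : Function.Surjective g)
    (hfg : Function.Exact f g) :
    Function.Exact (AdicCompletion.map I (f.rTensor N)) (AdicCompletion.map I (g.rTensor N)) := by
  obtain ⟨k, hk⟩ := AR_rTensor I N f hf
  exact map_exact_of_AR I _ _ k hk (rTensor_exact N hfg hg) (LinearMap.rTensor_surjective N hg)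

lemma τ_surjective_of_ses (hf : Function.Injective f) (hg : Function.Surjective g)
    (hfg : Function.Exact f g) (h₁ : Function.Surjective (τ I N M₁))
    (h₃ : Function.Surjective (τ I N M₃)) : Function.Surjective (τ I N M₂) := by
  intro y
  obtain ⟨z₃, hz₃⟩ := h₃ (AdicCompletion.map I (g.rTensor N) y)
  obtain ⟨z₂, rfl⟩ := LinearMap.rTensor_surjective (AdicCompletion I N) hg z₃
  have h0 : AdicCompletion.map I (g.rTensor N) (y - τ I N M₂ z₂) = 0 := by
    rw [map_sub, τ_naturality, hz₃, sub_self]
  obtain ⟨w, hw⟩ := (bottom_exact I N f g hf hg hfg _).1 h0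
  obtain ⟨z₁, rfl⟩ := h₁ w
  refine ⟨z₂ + f.rTensor _ z₁, ?_⟩
  rw [map_add, ← τ_naturality, hw]
  abel

lemma τ_injective_of_ses_right (hf : Function.Injective f) (hg : Function.Surjective g)
    (hfg : Function.Exact f g) (h₁ : Function.Surjective (τ I N M₁))
    (h₂ : Function.Injective (τ I N M₂)) : Function.Injective (τ I N M₃) := by
  rw [injective_iff_map_eq_zero]
  intro z₃ hz₃
  obtain ⟨z₂, rfl⟩ := LinearMap.rTensor_surjective (AdicCompletion I N) hg z₃
  rw [← τ_naturality] at hz₃
  obtain ⟨w, hw⟩ := (bottom_exact I N f g hf hg hfg _).1 hz₃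
  obtain ⟨z₁, rfl⟩ := h₁ w
  rw [τ_naturality] at hw
  rw [← h₂ hw]
  exact (rTensor_exact (AdicCompletion I N) hfg hg).apply_apply_eq_zero z₁

lemma τ_injective_of_ses_middle (hf : Function.Injective f) (hg : Function.Surjective g)
    (hfg : Function.Exact f g) (h₁ : Function.Injective (τ I N M₁))
    (h₃ : Function.Injective (τ I N M₃)) : Function.Injective (τ I N M₂) := by
  rw [injective_iff_map_eq_zero]
  intro z₂ hz₂
  have h0 : τ I N M₃ (g.rTensor _ z₂) = 0 := by rw [← τ_naturality, hz₂, map_zero]
  have h0' := h₃ (h0.trans (map_zero _).symm)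
  obtain ⟨z₁, rfl⟩ := (rTensor_exact (AdicCompletion I N) hfg hg _).1 h0'
  rw [← τ_naturality] at hz₂
  have h1 := bottom_injective I N f hf (hz₂.trans (map_zero _).symm)
  rw [h₁ (h1.trans (map_zero _).symm), map_zero]

end SES

section Main

variable [IsNoetherianRing A] [Module.Flat A N]

omit [IsNoetherianRing A] in
lemma subsingleton_adicCompletion (X : Type u) [AddCommGroup X] [Module A X] [Subsingleton X] :
    Subsingleton (AdicCompletion I X) := by
  refine ⟨fun x y => ?_⟩
  apply AdicCompletion.ext
  intro n
  exact Subsingleton.elim _ _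

theorem τ_surjective (M : Type u) [AddCommGroup M] [Module A M] [hM : Module.Finite A M] :
    Function.Surjective (τ I N M) := by
  induction hM using IsNoetherianRing.induction_on_isQuotientEquivQuotientPrime A with
  | subsingleton M =>
    haveI := subsingleton_adicCompletion I (M ⊗[A] N)
    exact Function.surjective_to_subsingleton _
  | quotient M p e =>
    let g : A →ₗ[A] M := e.symm.toLinearMap ∘ₗ (Submodule.mkQ p.1)
    have hg : Function.Surjective g := e.symm.surjective.comp (Submodule.mkQ_surjective _)
    intro y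
    obtain ⟨y', rfl⟩ := AdicCompletion.map_surjective I (LinearMap.rTensor_surjective N hg) y
    obtain ⟨z, rfl⟩ := (τ_self_bijective I N).2 y'
    exact ⟨_, (τ_naturality I N g z).symm⟩
  | exact M₁ M₂ M₃ f g hf hg hfg h₁ h₃ => exact τ_surjective_of_ses I N f g hf hg hfg h₁ h₃

theorem τ_injective (M : Type u) [AddCommGroup M] [Module A M] [hM : Module.Finite A M] :
    Function.Injective (τ I N M) := by
  induction hM using IsNoetherianRing.induction_on_isQuotientEquivQuotientPrime A with
  | subsingleton M =>
    exact Function.injective_of_subsingleton _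
  | quotient M p e =>
    let g : A →ₗ[A] M := e.symm.toLinearMap ∘ₗ (Submodule.mkQ p.1)
    have hg : Function.Surjective g := e.symm.surjective.comp (Submodule.mkQ_surjective _)
    have hfg : Function.Exact p.1.subtype g := by
      intro x
      have h1 := LinearMap.exact_subtype_mkQ p.1 x
      rw [← h1]
      exact e.symm.map_eq_zero_iff
    exact τ_injective_of_ses_right I N p.1.subtype g (Submodule.injective_subtype _) hg hfg
      (τ_surjective I N p.1) (τ_self_bijective I N).1
  | exact M₁ M₂ M₃ f g hf hg hfg h₁ h₃ => exact τ_injective_of_ses_middle I N f g hf hg hfg h₁ h₃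

theorem τ_bijective (M : Type u) [AddCommGroup M] [Module A M] [Module.Finite A M] :
    Function.Bijective (τ I N M) := ⟨τ_injective I N M, τ_surjective I N M⟩

/-- `M ⊗ N^ ≃ (M ⊗ N)^` for `M` finite, `N` flat over a Noetherian ring -/
noncomputable def τEquiv (M : Type u) [AddCommGroup M] [Module A M] [Module.Finite A M] :
    M ⊗[A] AdicCompletion I N ≃ₗ[A] AdicCompletion I (M ⊗[A] N) :=
  LinearEquiv.ofBijective (τ I N M) (τ_bijective I N M)

lemma τEquiv_tmul_of (M : Type u) [AddCommGroup M] [Module A M] [Module.Finite A M]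
    (m : M) (n : N) :
    τEquiv I N M (m ⊗ₜ AdicCompletion.of I N n) = AdicCompletion.of I (M ⊗[A] N) (m ⊗ₜ n) :=
  τ_tmul_of I N m n

/-- the adic completion of a flat module over a Noetherian ring is flat -/
theorem flat_adicCompletion : Module.Flat A (AdicCompletion I N) := by
  rw [Module.Flat.iff_rTensor_injective']
  intro J
  rw [injective_iff_map_eq_zero]
  intro z hz
  have h1 : AdicCompletion.map I (J.subtype.rTensor N) (τ I N J z) = 0 := by
    rw [τ_naturality, hz, map_zero]
  have h2 := bottom_injective I N J.subtype (Submodule.injective_subtype _)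
    (h1.trans (map_zero _).symm)
  exact τ_injective I N J (h2.trans (map_zero _).symm)

end Main

section Quotient

omit N in
lemma of_bijective_of_smul_top_eq_bot (X : Type u) [AddCommGroup X] [Module A X]
    (h : (I • ⊤ : Submodule A X) = ⊥) : Function.Bijective (AdicCompletion.of I X) := by
  rw [AdicCompletion.of_bijective_iff]
  have h1 : (I ^ 1 • ⊤ : Submodule A X) = ⊥ := by rw [pow_one, h]
  refine { toIsHausdorff := ⟨fun x hx => ?_⟩, toIsPrecomplete := ⟨fun f hf => ⟨f 1, fun n => ?_⟩⟩ }
  · have := hx 1
    rw [h1, SModEq.bot] at this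
    exact this
  · rcases Nat.eq_zero_or_pos n with rfl | hn
    · rw [pow_zero, Ideal.one_eq_top, Submodule.top_smul]
      exact SModEq.top
    · have := hf (m := 1) (n := n) hn
      rw [h1, SModEq.bot] at this
      rw [this]

variable (M : Type u) [AddCommGroup M] [Module A M]

lemma τ_lTensor_of (z : M ⊗[A] N) :
    τ I N M ((AdicCompletion.of I N).lTensor M z) = AdicCompletion.of I (M ⊗[A] N) z := by
  induction z using TensorProduct.induction_on with
  | zero => simp
  | add x y hx hy => rw [map_add, map_add, map_add, hx, hy]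
  | tmul m n => rw [LinearMap.lTensor_tmul, τ_tmul_of]

lemma smul_top_quotient_tensor : (I • ⊤ : Submodule A ((A ⧸ I) ⊗[A] N)) = ⊥ := by
  rw [eq_bot_iff, Submodule.smul_le]
  intro a ha z hz
  clear hz
  rw [Submodule.mem_bot]
  induction z using TensorProduct.induction_on with
  | zero => rw [smul_zero]
  | add x y hx hy => rw [smul_add, hx, hy, add_zero]
  | tmul q n =>
    obtain ⟨q', rfl⟩ := Ideal.Quotient.mk_surjective q
    rw [TensorProduct.smul_tmul', Algebra.smul_def, Ideal.Quotient.algebraMap_eq, ← map_mul,
      Ideal.Quotient.eq_zero_iff_mem.2 (I.mul_mem_right _ ha), TensorProduct.zero_tmul]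

theorem lTensor_of_bijective [IsNoetherianRing A] [Module.Flat A N] :
    Function.Bijective ((AdicCompletion.of I N).lTensor (A ⧸ I)) := by
  have h1 : Function.Bijective (τ I N (A ⧸ I)) := τ_bijective I N (A ⧸ I)
  have h2 : (τ I N (A ⧸ I)) ∘ ((AdicCompletion.of I N).lTensor (A ⧸ I)) =
      AdicCompletion.of I ((A ⧸ I) ⊗[A] N) := funext (τ_lTensor_of I N (A ⧸ I))
  have h3 : Function.Bijective ((τ I N (A ⧸ I)) ∘ ((AdicCompletion.of I N).lTensor (A ⧸ I))) := by
    rw [h2]
    exact of_bijective_of_smul_top_eq_bot I _ (smul_top_quotient_tensor I N)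
  exact (Function.Bijective.of_comp_iff' h1 _).1 h3

theorem rTensor_of_bijective [IsNoetherianRing A] [Module.Flat A N] :
    Function.Bijective ((AdicCompletion.of I N).rTensor (A ⧸ I)) := by
  have h := lTensor_of_bijective I N
  have e : ((AdicCompletion.of I N).rTensor (A ⧸ I)) =
      (TensorProduct.comm A (A ⧸ I) (AdicCompletion I N)).toLinearMap ∘ₗ
        ((AdicCompletion.of I N).lTensor (A ⧸ I)) ∘ₗ
        (TensorProduct.comm A N (A ⧸ I)).toLinearMap := by
    ext n q
    simp
  rw [e]
  exact (TensorProduct.comm A (A ⧸ I) (AdicCompletion I N)).bijective.comp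
    (h.comp (TensorProduct.comm A N (A ⧸ I)).bijective)

end Quotient

end Groth.Agent.H35.AdicFlat
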