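import Mathlib
import Groth.Agent.H9.DC.Reflect

/-!
# The left orthogonal of the `f`-complete objects, abstractly (helper35)

In an `A`-linear pretriangulated category `T` (with countable powers, `PowData`), for a list `fs`
of elements of `A`: `LeftOrth fs X` says that `X` has no nonzero maps to objects of `PerpL fs`
(helper9's "derived complete with respect to `fs`").

* `Nil f X`: a power of `f` kills `X`; such objects are in `Perp f`; cones of `g • 𝟙` preserve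
  nilpotence and the cone of `f • 𝟙` is `f`-nilpotent.
* `LeftOrth` is stable under shifts and cones.
* `leftOrth_cons_of_cone`: if the cone of `f • 𝟙 X` is in `LeftOrth fs` then `X ∈ LeftOrth (f :: fs)`.
-/

set_option autoImplicit false
universe w v u

open CategoryTheory CategoryTheory.Limits CategoryTheory.Pretriangulated

namespace Groth.Agent.H35.KosAbs

open Groth.Agent.H9.DC Groth.Agent.H35

variable {A : Type w} [CommRing A]
  {T : Type u} [Category.{v} T] [Preadditive T] [Linear A T] [HasZeroObject T] [HasShift T ℤ]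
  [∀ n : ℤ, (shiftFunctor T n).Additive] [∀ n : ℤ, (shiftFunctor T n).Linear A]
  [Pretriangulated T]

/-- a power of `f` kills `X` -/
def Nil (f : A) (X : T) : Prop := ∃ k : ℕ, (f ^ k) • 𝟙 X = 0

lemma smul_comp_eq {X Y : T} (c : A) (a : X ⟶ Y) : c • a = a ≫ (c • 𝟙 Y) := by
  rw [Linear.comp_smul, Category.comp_id]

lemma smul_comp_eq' {X Y : T} (c : A) (a : X ⟶ Y) : c • a = (c • 𝟙 X) ≫ a := by
  rw [Linear.smul_comp, Category.id_comp]

lemma inv_pow {f : A} {N : T} (h : Groth.Agent.H9.DC.Inv f N) (k : ℕ) :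
    Groth.Agent.H9.DC.Inv (f ^ k) N := by
  unfold Groth.Agent.H9.DC.Inv at h ⊢
  induction k with
  | zero => rw [pow_zero, one_smul]; infer_instance
  | succ k ih =>
    have : (f ^ (k + 1)) • 𝟙 N = ((f ^ k) • 𝟙 N) ≫ (f • 𝟙 N) := by
      rw [Linear.comp_smul, Category.comp_id, smul_smul, pow_succ, mul_comm]
    rw [this]
    infer_instance

lemma Nil.perp {f : A} {X : T} (h : Nil f X) : Perp f X := by
  obtain ⟨k, hk⟩ := h
  intro N hN a
  have h1 : (f ^ k) • a = 0 := by rw [smul_comp_eq, hk, comp_zero]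
  exact ((inv_pow hN k).smul_bijective X).injective (h1.trans (smul_zero _).symm)

/-- the cone of `f • 𝟙 X` is killed by `f ^ 2` -/
lemma nil_cone_self (f : A) {X Z : T} (g : X ⟶ Z) (h : Z ⟶ X⟦(1 : ℤ)⟧)
    (hT : Triangle.mk (f • 𝟙 X) g h ∈ distTriang T) : Nil f Z := by
  refine ⟨2, ?_⟩
  have h1 : g ≫ (f • 𝟙 Z) = 0 := by
    rw [← smul_comp_eq, smul_comp_eq']
    exact comp_distTriang_mor_zero₁₂ _ hT
  obtain ⟨(ψ : X⟦(1 : ℤ)⟧ ⟶ Z), (hψ : f • 𝟙 Z = h ≫ ψ)⟩ :=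
    Triangle.yoneda_exact₃ _ hT (f • 𝟙 Z) h1
  have h2 : (f ^ 2) • 𝟙 Z = (f • 𝟙 Z) ≫ (f • 𝟙 Z) := by
    rw [Linear.comp_smul, Category.comp_id, smul_smul, pow_two]
  rw [h2]
  nth_rw 1 [hψ]
  have h3 : ψ ≫ (f • 𝟙 Z) = (f • 𝟙 X)⟦(1 : ℤ)⟧' ≫ ψ := by
    rw [← smul_comp_eq, shift_smul_id, ← smul_comp_eq']
  show (h ≫ ψ) ≫ (f • 𝟙 Z) = 0
  rw [Category.assoc, h3, ← Category.assoc]
  have h4 : h ≫ (f • 𝟙 X)⟦(1 : ℤ)⟧' = 0 := comp_distTriang_mor_zero₃₁ _ hT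
  rw [h4, zero_comp]

/-- cones of `g • 𝟙` preserve `f`-nilpotence -/
lemma nil_cone_of_nil (f c : A) {X Z : T} (hX : Nil f X) (g : X ⟶ Z) (h : Z ⟶ X⟦(1 : ℤ)⟧)
    (hT : Triangle.mk (c • 𝟙 X) g h ∈ distTriang T) : Nil f Z := by
  obtain ⟨k, hk⟩ := hX
  refine ⟨k + k, ?_⟩
  have h1 : g ≫ ((f ^ k) • 𝟙 Z) = 0 := by
    rw [← smul_comp_eq, smul_comp_eq', hk, zero_comp]
  obtain ⟨(ψ : X⟦(1 : ℤ)⟧ ⟶ Z), (hψ : (f ^ k) • 𝟙 Z = h ≫ ψ)⟩ :=
    Triangle.yoneda_exact₃ _ hT ((f ^ k) • 𝟙 Z) h1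
  have h2 : (f ^ (k + k)) • 𝟙 Z = ((f ^ k) • 𝟙 Z) ≫ ((f ^ k) • 𝟙 Z) := by
    rw [Linear.comp_smul, Category.comp_id, smul_smul, pow_add]
  rw [h2]
  nth_rw 1 [hψ]
  have h3 : ψ ≫ ((f ^ k) • 𝟙 Z) = ((f ^ k) • 𝟙 X)⟦(1 : ℤ)⟧' ≫ ψ := by
    rw [← smul_comp_eq, shift_smul_id, ← smul_comp_eq']
  show (h ≫ ψ) ≫ ((f ^ k) • 𝟙 Z) = 0
  rw [Category.assoc, h3, hk, Functor.map_zero, zero_comp, comp_zero]

/-- left orthogonal to `PerpL fs` -/
def LeftOrth (fs : List A) (X : T) : Prop := ∀ E : T, PerpL fs E → ∀ a : X ⟶ E, a = 0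

lemma perpL_shift {fs : List A} {E : T} (h : PerpL fs E) (n : ℤ) : PerpL fs (E⟦n⟧) :=
  fun f hf => (h f hf).shift n

lemma perpL_of_iso {fs : List A} {E E' : T} (e : E ≅ E') (h : PerpL fs E) : PerpL fs E' :=
  fun f hf => (h f hf).of_iso e

lemma LeftOrth.of_iso {fs : List A} {X X' : T} (e : X ≅ X') (h : LeftOrth fs X) :
    LeftOrth fs X' := by
  intro E hE a
  have h1 : e.hom ≫ a = 0 := h E hE _
  exact (cancel_epi e.hom).1 (h1.trans comp_zero.symm)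

lemma LeftOrth.shift {fs : List A} {X : T} (h : LeftOrth fs X) (n : ℤ) : LeftOrth fs (X⟦n⟧) := by
  intro E hE a
  have h1 : (shiftShiftNeg X n).inv ≫ a⟦-n⟧' = 0 := h _ (perpL_shift hE (-n)) _
  have h2 : a⟦-n⟧' = 0 := (cancel_epi (shiftShiftNeg X n).inv).1 (h1.trans comp_zero.symm)
  exact (shiftFunctor T (-n)).map_injective (h2.trans (Functor.map_zero _ _ _).symm)

lemma LeftOrth.of_triangle {fs : List A} (Tr : Triangle T) (hT : Tr ∈ distTriang T)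
    (h₁ : LeftOrth fs Tr.obj₁) (h₂ : LeftOrth fs Tr.obj₂) : LeftOrth fs Tr.obj₃ := by
  intro E hE a
  have h0 : Tr.mor₂ ≫ a = 0 := h₂ E hE _
  obtain ⟨b, hb⟩ := Triangle.yoneda_exact₃ _ hT a h0
  rw [hb, (h₁.shift 1) E hE b, comp_zero]

lemma isZero_of_leftOrth_of_perpL {fs : List A} {X : T} (h : LeftOrth fs X) (h' : PerpL fs X) :
    IsZero X := by
  rw [IsZero.iff_id_eq_zero]
  exact h X h' _

lemma leftOrth_of_isZero {fs : List A} {X : T} (h : IsZero X) : LeftOrth fs X :=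
  fun _ _ _ => h.eq_of_src _ _

/-- `Φ` is an isomorphism on the power of an object of `Perp f` -/
lemma isIso_Φ_of_perp {E : T} (D : PowData E) (f : A) (hE : Perp f E) : IsIso (D.Φ f) := by
  obtain ⟨Z, j, δ, hT₁⟩ := distinguished_cocone_triangle (D.Φ f)
  have hZ : Groth.Agent.H9.DC.Inv f Z := inv_cone D f j δ hT₁
  have hP : Perp f D.P := perp_pow D f hE
  have hZ' : Perp f Z := Perp.of_triangle _ hT₁ hP (hP.shift 1)
  have h0 : IsZero Z := by
    rw [IsZero.iff_id_eq_zero]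
    exact hZ' Z hZ _
  exact (Triangle.isZero₃_iff_isIso₁ _ hT₁).1 h0

/-- if the cone of `f • 𝟙 X` is left orthogonal to `PerpL fs`, then `X` is left orthogonal to
`PerpL (f :: fs)` -/
theorem leftOrth_cons_of_cone (hP : ∀ X : T, Nonempty (PowData X)) (f : A) (fs : List A)
    {X Z : T} (g : X ⟶ Z) (h : Z ⟶ X⟦(1 : ℤ)⟧)
    (hT : Triangle.mk (f • 𝟙 X) g h ∈ distTriang T) (hZ : LeftOrth fs Z) :
    LeftOrth (f :: fs) X := by
  intro E hE a₀
  have hEfs : PerpL fs E := fun c hc => hE c (List.mem_cons_of_mem _ hc)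
  have hEf : Perp f E := hE f List.mem_cons_self
  -- every map `X ⟶ E` is divisible by `f`
  have hdiv : ∀ a : X ⟶ E, ∃ b : X ⟶ E, f • b = a := by
    intro a
    have h0 : (Triangle.mk (f • 𝟙 X) g h).invRotate.mor₁ ≫ a = 0 := (hZ.shift (-1)) E hEfs _
    obtain ⟨(b : X ⟶ E), (hb : a = (f • 𝟙 X) ≫ b)⟩ :=
      Triangle.yoneda_exact₂ _ (inv_rot_of_distTriang _ hT) a h0
    refine ⟨b, ?_⟩
    rw [hb, Linear.smul_comp, Category.id_comp]
  choose v hv using hdiv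
  let m : ℕ → (X ⟶ E) := fun n => Nat.rec a₀ (fun _ prev => v prev) n
  have hm : Phi f _ m = 0 := by
    funext n
    rw [Phi_apply]
    have : m (n + 1) = v (m n) := rfl
    rw [this, hv, sub_self]
    rfl
  obtain ⟨D⟩ := hP E
  haveI := isIso_Φ_of_perp D f hEf
  have h1 : D.lift m ≫ D.Φ f = 0 := by
    apply D.eq_zero_of_coord
    rw [D.coord_comp_Φ, D.coord_lift, hm]
  have h2 : D.lift m = 0 := (cancel_mono (D.Φ f)).1 (h1.trans zero_comp.symm)
  have h3 : a₀ = D.lift m ≫ D.π 0 := (D.lift_π m 0).symm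
  rw [h3, h2, zero_comp]

end Groth.Agent.H35.KosAbs
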