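import Mathlib
import Groth.Agent.H35.KosAbs
import Groth.Agent.H9.DC.Concrete
import Groth.Agent.H9.DC.LocEq

/-!
# A Koszul criterion for the left orthogonal of derived complete objects (helper35)

For a complex `Y` and a list `fs`, `kosCx fs Y` is the iterated mapping cone of the multiplications
by the elements of `fs`.  Main result: `Q(kosCx fs Y) = 0` iff `Q(Y)` has no nonzero map to an
object which is derived complete with respect to `fs` (`LeftOrth fs`).  Also the relation with
local equivalences: in a distinguished triangle `X ⟶ X' ⟶ C ⟶`, the first map is a local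
equivalence for `PerpL fs` iff `C` is in `LeftOrth fs`.
-/

set_option autoImplicit false
universe u

open CategoryTheory CategoryTheory.Limits CategoryTheory.Pretriangulated DerivedCategory

attribute [local instance] HasDerivedCategory.standard

namespace Groth.Agent.H35.KosCrit

open Groth.Agent.H9.DC Groth.Agent.H35.KosAbs

variable {A : Type u} [CommRing A]

/-- mapping cone of multiplication by `f` -/
noncomputable def coneF (f : A) (Y : DRing.Cx A) : DRing.Cx A :=
  CochainComplex.mappingCone (f • 𝟙 Y)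

/-- iterated cones of multiplications -/
noncomputable def kosCx : List A → DRing.Cx A → DRing.Cx A
  | [], Y => Y
  | f :: fs, Y => kosCx fs (coneF f Y)

@[simp] lemma kosCx_nil (Y : DRing.Cx A) : kosCx [] Y = Y := rfl
@[simp] lemma kosCx_cons (f : A) (fs : List A) (Y : DRing.Cx A) :
    kosCx (f :: fs) Y = kosCx fs (coneF f Y) := rfl

lemma exists_triangle_coneF (f : A) (Y : DRing.Cx A) :
    ∃ (g : Q.obj Y ⟶ Q.obj (coneF f Y)) (h : Q.obj (coneF f Y) ⟶ (Q.obj Y)⟦(1 : ℤ)⟧),
      Triangle.mk (f • 𝟙 (Q.obj Y)) g h ∈ distTriang (Dual.D A) := by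
  have hT' : Q.mapTriangle.obj (CochainComplex.mappingCone.triangle (f • 𝟙 Y)) ∈
      distTriang (Dual.D A) := by
    rw [mem_distTriang_iff]
    exact ⟨_, _, _, ⟨Iso.refl _⟩⟩
  have hmap : Q.map (f • 𝟙 Y) = f • 𝟙 (Q.obj Y) := by
    rw [Functor.map_smul, CategoryTheory.Functor.map_id]
  refine ⟨(Q.mapTriangle.obj (CochainComplex.mappingCone.triangle (f • 𝟙 Y))).mor₂,
    (Q.mapTriangle.obj (CochainComplex.mappingCone.triangle (f • 𝟙 Y))).mor₃, ?_⟩
  rw [← hmap]
  exact hT'

lemma nil_kosCx_of_nil (fs : List A) : ∀ (Y : DRing.Cx A) (c : A),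
    Nil c (Q.obj Y) → Nil c (Q.obj (kosCx fs Y)) := by
  induction fs with
  | nil => intro Y c h; exact h
  | cons f fs ih =>
    intro Y c h
    obtain ⟨g, h', hT⟩ := exists_triangle_coneF f Y
    exact ih _ c (nil_cone_of_nil c f h g h' hT)

lemma nil_kosCx (fs : List A) : ∀ (Y : DRing.Cx A), ∀ c ∈ fs, Nil c (Q.obj (kosCx fs Y)) := by
  induction fs with
  | nil => intro Y c hc; exact absurd hc List.not_mem_nil
  | cons f fs ih =>
    intro Y c hc
    rcases List.mem_cons.1 hc with rfl | hc'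
    · obtain ⟨g, h', hT⟩ := exists_triangle_coneF c Y
      exact nil_kosCx_of_nil fs _ c (nil_cone_self c g h' hT)
    · exact ih _ c hc'

lemma perpL_kosCx (fs : List A) (Y : DRing.Cx A) : PerpL fs (Q.obj (kosCx fs Y)) :=
  fun c hc => (nil_kosCx fs Y c hc).perp

lemma leftOrth_coneF (fs' : List A) (f : A) (Y : DRing.Cx A) (h : LeftOrth fs' (Q.obj Y)) :
    LeftOrth fs' (Q.obj (coneF f Y)) := by
  obtain ⟨g, h', hT⟩ := exists_triangle_coneF f Y
  exact LeftOrth.of_triangle _ hT h h

lemma leftOrth_kosCx (fs' fs : List A) : ∀ (Y : DRing.Cx A),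
    LeftOrth fs' (Q.obj Y) → LeftOrth fs' (Q.obj (kosCx fs Y)) := by
  induction fs with
  | nil => intro Y h; exact h
  | cons f fs ih => intro Y h; exact ih _ (leftOrth_coneF fs' f Y h)

/-- **Koszul criterion** -/
theorem isZero_kosCx_iff (fs : List A) : ∀ (Y : DRing.Cx A),
    IsZero (Q.obj (kosCx fs Y)) ↔ LeftOrth fs (Q.obj Y) := by
  intro Y
  constructor
  · induction fs generalizing Y with
    | nil => intro h; exact leftOrth_of_isZero h
    | cons f fs ih =>
      intro h
      obtain ⟨g, h', hT⟩ := exists_triangle_coneF f Y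
      exact leftOrth_cons_of_cone (A := A) nonempty_powData f fs g h' hT (ih _ h)
  · intro h
    exact isZero_of_leftOrth_of_perpL (leftOrth_kosCx fs fs Y h) (perpL_kosCx fs Y)

/-- in a distinguished triangle, the first map is a local equivalence iff the cone is left
orthogonal -/
theorem locEq_iff_leftOrth (fs : List A) {X X' C : Dual.D A} (φ : X ⟶ X') (g : X' ⟶ C)
    (h : C ⟶ X⟦(1 : ℤ)⟧) (hT : Triangle.mk φ g h ∈ distTriang (Dual.D A)) :
    LocEq (PerpL (T := Dual.D A) fs) φ ↔ LeftOrth fs C := by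
  constructor
  · intro hφ E hE a
    have h1 : g ≫ a = 0 := by
      apply (hφ E hE).1
      show φ ≫ g ≫ a = φ ≫ 0
      have z12 : φ ≫ g = 0 := comp_distTriang_mor_zero₁₂ _ hT
      rw [← Category.assoc, z12, zero_comp, comp_zero]
    obtain ⟨(b : X⟦(1 : ℤ)⟧ ⟶ E), (hb : a = h ≫ b)⟩ := Triangle.yoneda_exact₃ _ hT a h1
    obtain ⟨c, hc⟩ := ((hφ.shift (P := PerpL (T := Dual.D A) fs)
      (fun M hM n => perpL_shift (fs := fs) hM n) 1) E hE).2 b
    have hc' : φ⟦(1 : ℤ)⟧' ≫ c = b := hc
    have z31 : h ≫ φ⟦(1 : ℤ)⟧' = 0 := comp_distTriang_mor_zero₃₁ _ hT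
    rw [hb, ← hc', ← Category.assoc, z31, zero_comp]
  · intro hC E hE
    constructor
    · intro a a' haa
      have h0 : φ ≫ (a - a') = 0 := by
        rw [Preadditive.comp_sub, sub_eq_zero]
        exact haa
      obtain ⟨ψ, hψ⟩ := Triangle.yoneda_exact₂ _ hT (a - a') h0
      have hψ0 : ψ = 0 := hC E hE ψ
      rw [hψ0, comp_zero] at hψ
      exact sub_eq_zero.1 hψ
    · intro k
      have hk : (Triangle.mk φ g h).invRotate.mor₁ ≫ k = 0 := (hC.shift (-1)) E hE _
      obtain ⟨b, hb⟩ := Triangle.yoneda_exact₂ _ (inv_rot_of_distTriang _ hT) k hk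
      exact ⟨b, hb.symm⟩

end Groth.Agent.H35.KosCrit
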