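import Mathlib
import Groth.Agent.H35.KosCrit
import Groth.Agent.H35.LTensorAmp
import Groth.Agent.H35.TorIndepBC

/-!
# Tensoring preserves the left orthogonal of the derived complete objects (helper35)

* `LTensorIso_naturality`: naturality of the computation of `- ⊗^L M` on K-flat complexes.
* `leftOrth_tensor`: if `P` is K-flat and `Q(P)` is left orthogonal to the objects derived complete
  with respect to `fs`, so is `Q(P ⊗ M)` for every module `M`.
-/

set_option autoImplicit false
universe u

open CategoryTheory CategoryTheory.Limits CategoryTheory.Pretriangulated DerivedCategory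
  MonoidalCategory

attribute [local instance] HasDerivedCategory.standard

namespace Groth.Agent.H35.DCTensor

open Groth.Agent.H9.DC Groth.Agent.H35.KosAbs Groth.Agent.H35.KosCrit Groth.Agent.H35.KF
  Groth.Agent.H35.LT

variable {A : Type u} [CommRing A]

/-- termwise tensor product with a module -/
noncomputable abbrev Tn (M : ModuleCat.{u} A) : DRing.Cx A ⥤ DRing.Cx A :=
  (tensorRight M).mapHomologicalComplex (ComplexShape.up ℤ)

lemma Tn_map_smul_id (M : ModuleCat.{u} A) (f : A) (P : DRing.Cx A) :
    (Tn M).map (f • 𝟙 P) = f • 𝟙 ((Tn M).obj P) := by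
  ext n
  simp [Tn]

/-- tensoring commutes with the cone of a multiplication -/
noncomputable def coneFTensorIso (M : ModuleCat.{u} A) (f : A) (P : DRing.Cx A) :
    (Tn M).obj (coneF f P) ≅ coneF f ((Tn M).obj P) :=
  CochainComplex.mappingCone.mapHomologicalComplexIso (f • 𝟙 P) (tensorRight M) ≪≫
    eqToIso (by unfold coneF; rw [Tn_map_smul_id])

lemma isKFlat_coneF (f : A) (P : DRing.Cx A) (hP : IsKFlat P) : IsKFlat (coneF f P) :=
  (isKFlat_mappingCone_two_of_three (f • 𝟙 P)).1 hP hP

lemma isKFlat_kosCx (fs : List A) : ∀ (P : DRing.Cx A), IsKFlat P → IsKFlat (kosCx fs P) := by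
  induction fs with
  | nil => intro P hP; exact hP
  | cons f fs ih => intro P hP; exact ih _ (isKFlat_coneF f P hP)

lemma exactAt_Tn_of_isKFlat (M : ModuleCat.{u} A) (P : DRing.Cx A) (hP : IsKFlat P)
    (h : ∀ i, P.ExactAt i) : ∀ i, ((Tn M).obj P).ExactAt i :=
  fun i => (exactAt_map_tensorRight_iff P M i).2 (tensExactAt_of_isKFlat_of_exactAt P hP h M i)

theorem isZero_kosCx_tensor (M : ModuleCat.{u} A) (fs : List A) : ∀ (P : DRing.Cx A), IsKFlat P →
    IsZero (Q.obj (kosCx fs P)) → IsZero (Q.obj (kosCx fs ((Tn M).obj P))) := by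
  induction fs with
  | nil =>
    intro P hP h
    rw [kosCx_nil, Groth.Agent.H35.TorIndepBC.isZero_Q_obj_iff_exactAt] at h ⊢
    exact exactAt_Tn_of_isKFlat M P hP h
  | cons f fs ih =>
    intro P hP h
    have h1 := ih (coneF f P) (isKFlat_coneF f P hP) h
    rw [isZero_kosCx_iff] at h1
    rw [kosCx_cons, isZero_kosCx_iff]
    exact h1.of_iso (Q.mapIso (coneFTensorIso M f P))

/-- **tensoring preserves the left orthogonal** -/
theorem leftOrth_tensor (M : ModuleCat.{u} A) (fs : List A) (P : DRing.Cx A) (hP : IsKFlat P)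
    (h : LeftOrth fs (Q.obj P)) : LeftOrth fs (Q.obj ((Tn M).obj P)) :=
  (isZero_kosCx_iff fs _).1 (isZero_kosCx_tensor M fs P hP ((isZero_kosCx_iff fs P).2 h))


section Naturality

universe u' v' w'

variable {R : Type u} [CommRing R]
  {B : Type u'} [Category.{v'} B] [Abelian B] [HasDerivedCategory.{w'} B]
  {F : ModuleCat.{u} R ⥤ B} [F.Additive]

/-- naturality of `derivedIso` -/
lemma derivedIso_naturality (hF : KFAcyclic F)
    [(Gf F).HasLeftDerivedFunctor
      (HomotopyCategory.quasiIso (ModuleCat.{u} R) (ComplexShape.up ℤ))]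
    {K K' : CochainComplex (ModuleCat.{u} R) ℤ} (a : K ⟶ K') (hK : IsKFlat K) (hK' : IsKFlat K') :
    ((Gf F).totalLeftDerived DerivedCategory.Qh
      (HomotopyCategory.quasiIso (ModuleCat.{u} R) (ComplexShape.up ℤ))).map
        (DerivedCategory.Q.map a) ≫ (derivedIso hF K' hK').hom =
      (derivedIso hF K hK).hom ≫
        DerivedCategory.Q.map ((F.mapHomologicalComplex (ComplexShape.up ℤ)).map a) := by
  set LF := (Gf F).totalLeftDerived DerivedCategory.Qh
      (HomotopyCategory.quasiIso (ModuleCat.{u} R) (ComplexShape.up ℤ)) with hLF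
  set ε := (Gf F).totalLeftDerivedCounit DerivedCategory.Qh
      (HomotopyCategory.quasiIso (ModuleCat.{u} R) (ComplexShape.up ℤ)) with hε
  have h1 : DerivedCategory.Q.map a ≫
      ((DerivedCategory.quotientCompQhIso (ModuleCat.{u} R)).app K').inv =
      ((DerivedCategory.quotientCompQhIso (ModuleCat.{u} R)).app K).inv ≫
        DerivedCategory.Qh.map ((HomotopyCategory.quotient _ _).map a) :=
    (DerivedCategory.quotientCompQhIso (ModuleCat.{u} R)).inv.naturality a
  have h2 : LF.map (DerivedCategory.Qh.map ((HomotopyCategory.quotient _ _).map a)) ≫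
      ε.app ((HomotopyCategory.quotient _ _).obj K') =
      ε.app ((HomotopyCategory.quotient _ _).obj K) ≫
        (Gf F).map ((HomotopyCategory.quotient _ _).map a) :=
    ε.naturality ((HomotopyCategory.quotient _ _).map a)
  have h3 : (F.mapHomotopyCategory (ComplexShape.up ℤ)).map ((HomotopyCategory.quotient _ _).map a) ≫
      ((F.mapHomotopyCategoryFactors (ComplexShape.up ℤ)).app K').hom =
      ((F.mapHomotopyCategoryFactors (ComplexShape.up ℤ)).app K).hom ≫
        (HomotopyCategory.quotient _ _).map ((F.mapHomologicalComplex (ComplexShape.up ℤ)).map a) :=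
    (F.mapHomotopyCategoryFactors (ComplexShape.up ℤ)).hom.naturality a
  have h4 : DerivedCategory.Qh.map ((HomotopyCategory.quotient _ _).map
        ((F.mapHomologicalComplex (ComplexShape.up ℤ)).map a)) ≫
      ((DerivedCategory.quotientCompQhIso B).app _).hom =
      ((DerivedCategory.quotientCompQhIso B).app _).hom ≫
        DerivedCategory.Q.map ((F.mapHomologicalComplex (ComplexShape.up ℤ)).map a) :=
    (DerivedCategory.quotientCompQhIso B).hom.naturality _
  unfold derivedIso
  simp only [Iso.trans_hom, Functor.mapIso_hom, Iso.symm_hom, asIso_hom, Category.assoc]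
  rw [← Functor.map_comp_assoc, h1, Functor.map_comp_assoc]
  rw [← hε, reassoc_of% h2]
  have h5 : (Gf F).map ((HomotopyCategory.quotient _ _).map a) =
      DerivedCategory.Qh.map ((F.mapHomotopyCategory (ComplexShape.up ℤ)).map
        ((HomotopyCategory.quotient _ _).map a)) := rfl
  rw [← DerivedCategory.Qh.map_comp_assoc, h3, DerivedCategory.Qh.map_comp_assoc, h4]

end Naturality

/-- naturality of `LTensorIso` -/
lemma LTensorIso_naturality (M : ModuleCat.{u} A) [DRing.HasLTensor A M]
    {K K' : DRing.Cx A} (a : K ⟶ K') (hK : IsKFlat K) (hK' : IsKFlat K') :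
    (DRing.LTensor A M).map (Q.map a) ≫ (LTensorIso M K' hK').hom =
      (LTensorIso M K hK).hom ≫ Q.map ((Tn M).map a) :=
  derivedIso_naturality (kfAcyclic_tensorRight M) a hK hK'

end Groth.Agent.H35.DCTensor
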