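import Mathlib
import Groth.Prelude.Def_DRing3
import Groth.Prelude.Def_DDual2
import Groth.Agent.H35.DerCompleteIdeal

/-!
# Derived completeness and restriction of scalars (helper35)
-/

universe u

open CategoryTheory

attribute [local instance] HasDerivedCategory.standard

namespace Groth.Agent.H35

open DerivedCategory

section

variable {A : Type u} [CommRing A]

theorem isDerivedComplete_Q_iff (I : Ideal A) (E : CochainComplex (ModuleCat.{u} A) ℤ) :
    DRing.IsDerivedComplete I (Q.obj E) ↔
      ∀ f ∈ I, ∀ n : ℤ, Function.Bijective (Phi f (E.homology n)) := by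
  constructor
  · intro h f hf
    exact (subsingleton_away_hom_shift_Q_iff f E).mp (h f hf)
  · intro h f hf
    exact (subsingleton_away_hom_shift_Q_iff f E).mpr (h f hf)

theorem isDerivedComplete_iff_of_iso (I : Ideal A) {K L : Dual.D A} (e : K ≅ L) :
    DRing.IsDerivedComplete I K ↔ DRing.IsDerivedComplete I L :=
  ⟨isDerivedComplete_of_iso I e, isDerivedComplete_of_iso I e.symm⟩

end

section Restrict

variable {A B : Type u} [CommRing A] [CommRing B] (φ : A →+* B)

lemma Phi_restrictScalars (f : A) (N : ModuleCat.{u} B) :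
    (Phi f ((ModuleCat.restrictScalars.{u} φ).obj N) : (ℕ → N) → (ℕ → N)) = Phi (φ f) N := by
  funext m n
  rfl

/-- Derived completeness of a complex of `B`-modules w.r.t. `I B` and of its restriction w.r.t.
`I`. -/
theorem isDerivedComplete_map_Q_iff (I : Ideal A) (E : CochainComplex (ModuleCat.{u} B) ℤ) :
    DRing.IsDerivedComplete (I.map φ) (Q.obj E) ↔
      DRing.IsDerivedComplete I
        (Q.obj (((ModuleCat.restrictScalars.{u} φ).mapHomologicalComplex _).obj E)) := by
  rw [isDerivedComplete_Q_iff, isDerivedComplete_Q_iff]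
  have h1 : (∀ g ∈ I.map φ, ∀ n : ℤ, Function.Bijective (Phi g (E.homology n))) ↔
      ∀ f ∈ I, ∀ n : ℤ, Function.Bijective (Phi (φ f) (E.homology n)) := by
    have : (∀ g ∈ I.map φ, ∀ n : ℤ, Function.Bijective (Phi g (E.homology n))) ↔
        I.map φ ≤ ⨅ n : ℤ, PhiIdeal B (E.homology n) := by
      constructor
      · intro h g hg
        rw [Ideal.mem_iInf]
        exact fun n => h g hg n
      · intro h g hg n
        exact (Ideal.mem_iInf.mp (h hg)) n
    rw [this, Ideal.map_le_iff_le_comap]
    constructor
    · intro h f hf n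
      exact (Ideal.mem_iInf.mp (h hf)) n
    · intro h f hf
      rw [Ideal.mem_comap, Ideal.mem_iInf]
      exact fun n => h f hf n
  rw [h1]
  refine forall_congr' fun f => forall_congr' fun _ => forall_congr' fun n => ?_
  let l : (((ModuleCat.restrictScalars.{u} φ).mapHomologicalComplex _).obj E).homology n ≃ₗ[A]
      (ModuleCat.restrictScalars.{u} φ).obj (E.homology n) :=
    ((E.sc n).mapHomologyIso (ModuleCat.restrictScalars.{u} φ)).toLinearEquiv
  rw [Phi_bijective_iff_of_linearEquiv f l, Phi_restrictScalars]
  exact Iff.rfl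

end Restrict

end Groth.Agent.H35
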