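import Mathlib
import Groth.Agent.H35.LTensorRing
import Groth.Agent.H35.RelPCPoly
import Groth.Agent.H28.PCohSES
import Groth.Agent.H28.PCohCoh
import Groth.Agent.H28.PCohRing2
import Groth.Agent.H28.PCohFun
import Groth.Agent.H28.PCohDev

/-!
# Tensoring a bounded above flat complex with a pseudo-coherent module (helper35)

For a ring map `ν : Q → S`, a bounded above complex `F` of flat `S`-modules whose restriction to
`Q` is `m`-pseudo-coherent, and a pseudo-coherent `S`-module `N`, the complex `F ⊗_S N` restricted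
to `Q` is again `m`-pseudo-coherent.
-/

set_option autoImplicit false

open CategoryTheory Limits MonoidalCategory

namespace Groth.Agent.H35.TensSyz

universe u

open Groth.Agent.H28 Groth.Agent.H28.PCohCore Groth.Agent.H28.PCohDer Groth.Agent.H28.PCohSum
  Groth.Agent.H28.PCohDev Groth.Agent.H28.PCohSES Groth.Agent.H28.PCohRing DerivedCategory

attribute [local instance] HasDerivedCategory.standard

section Functoriality

variable {S : Type u} [CommRing S]

/-- the natural transformation `- ⊗ N ⟶ - ⊗ N'` induced by `f : N ⟶ N'` -/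
noncomputable def tensorRightMap {N N' : ModuleCat.{u} S} (f : N ⟶ N') :
    tensorRight N ⟶ tensorRight N' where
  app X := X ◁ f
  naturality X Y g := by
    dsimp
    exact (whisker_exchange g f).symm

/-- the complex `F ⊗ N` -/
noncomputable abbrev tensCx (F : CochainComplex (ModuleCat.{u} S) ℤ) (N : ModuleCat.{u} S) :
    CochainComplex (ModuleCat.{u} S) ℤ :=
  ((tensorRight N).mapHomologicalComplex (ComplexShape.up ℤ)).obj F

/-- functoriality of `F ⊗ N` in `N` -/
noncomputable def tensCxMap (F : CochainComplex (ModuleCat.{u} S) ℤ) {N N' : ModuleCat.{u} S}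
    (f : N ⟶ N') : tensCx F N ⟶ tensCx F N' :=
  (NatTrans.mapHomologicalComplex (tensorRightMap f) (ComplexShape.up ℤ)).app F

@[simp]
lemma tensCxMap_f (F : CochainComplex (ModuleCat.{u} S) ℤ) {N N' : ModuleCat.{u} S}
    (f : N ⟶ N') (i : ℤ) : (tensCxMap F f).f i = F.X i ◁ f := rfl

lemma tensCxMap_comp (F : CochainComplex (ModuleCat.{u} S) ℤ) {N N' N'' : ModuleCat.{u} S}
    (f : N ⟶ N') (g : N' ⟶ N'') : tensCxMap F (f ≫ g) = tensCxMap F f ≫ tensCxMap F g := by
  ext i : 1
  rw [HomologicalComplex.comp_f, tensCxMap_f, tensCxMap_f, tensCxMap_f,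
    MonoidalCategory.whiskerLeft_comp]
  rfl

lemma tensCxMap_zero (F : CochainComplex (ModuleCat.{u} S) ℤ) (N N' : ModuleCat.{u} S) :
    tensCxMap F (0 : N ⟶ N') = 0 := by
  ext i : 1
  rw [tensCxMap_f, HomologicalComplex.zero_f, MonoidalPreadditive.whiskerLeft_zero]
  rfl

/-- the short complex of complexes `F ⊗ T` for a short complex `T` of modules -/
noncomputable def tensSC (F : CochainComplex (ModuleCat.{u} S) ℤ)
    (T : ShortComplex (ModuleCat.{u} S)) : ShortComplex (CochainComplex (ModuleCat.{u} S) ℤ) :=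
  ShortComplex.mk (tensCxMap F T.f) (tensCxMap F T.g) (by
    rw [← tensCxMap_comp, T.zero, tensCxMap_zero])

lemma tensSC_shortExact (F : CochainComplex (ModuleCat.{u} S) ℤ)
    (hF : ∀ i, Module.Flat S (F.X i)) (T : ShortComplex (ModuleCat.{u} S)) (hT : T.ShortExact) :
    (tensSC F T).ShortExact := by
  refine HomologicalComplex.shortExact_of_degreewise_shortExact _ (fun i => ?_)
  have := hF i
  have hinj : Function.Injective T.f.hom := (ModuleCat.mono_iff_injective _).1 hT.mono_f
  have hsurj : Function.Surjective T.g.hom := (ModuleCat.epi_iff_surjective _).1 hT.epi_g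
  have hex : Function.Exact T.f.hom T.g.hom :=
    (ShortComplex.ShortExact.moduleCat_exact_iff_function_exact T).1 hT.exact
  have hex' : ((tensSC F T).map (HomologicalComplex.eval _ _ i)).Exact := by
    rw [ShortComplex.ShortExact.moduleCat_exact_iff_function_exact]
    exact Module.Flat.lTensor_exact (F.X i) hex
  refine ShortComplex.ShortExact.mk' hex' ?_ ?_
  · rw [ModuleCat.mono_iff_injective]
    exact Module.Flat.lTensor_preserves_injective_linearMap (M := F.X i) T.f.hom hinj
  · rw [ModuleCat.epi_iff_surjective]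
    exact LinearMap.lTensor_surjective (F.X i) hsurj

end Functoriality

section Core

variable {P S : Type u} [CommRing P] [CommRing S] (ν : P →+* S)
  (F : CochainComplex (ModuleCat.{u} S) ℤ)

/-- the object `(F ⊗_S N)|_P` of `D(P)` -/
noncomputable abbrev GG (N : ModuleCat.{u} S) : Dual.D P :=
  (DRing.restrictD ν).obj (Q.obj (tensCx F N))

lemma tensCxMap_id (N : ModuleCat.{u} S) : tensCxMap F (𝟙 N) = 𝟙 _ := by
  ext i : 1
  rw [tensCxMap_f, HomologicalComplex.id_f, MonoidalCategory.whiskerLeft_id]
  rfl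

/-- `F ⊗ N` only depends on `N` up to isomorphism -/
noncomputable def tensCxIso {N N' : ModuleCat.{u} S} (e : N ≅ N') : tensCx F N ≅ tensCx F N' where
  hom := tensCxMap F e.hom
  inv := tensCxMap F e.inv
  hom_inv_id := by rw [← tensCxMap_comp, e.hom_inv_id, tensCxMap_id]
  inv_hom_id := by rw [← tensCxMap_comp, e.inv_hom_id, tensCxMap_id]

noncomputable def GGIso {N N' : ModuleCat.{u} S} (e : N ≅ N') : GG ν F N ≅ GG ν F N' :=
  (DRing.restrictD ν).mapIso (Q.mapIso (tensCxIso F e))

/-- `F ⊗ S ≅ F` -/
noncomputable def tensCxUnitIso : tensCx F (𝟙_ (ModuleCat.{u} S)) ≅ F :=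
  (NatIso.mapHomologicalComplex (rightUnitorNatIso (ModuleCat.{u} S)) (ComplexShape.up ℤ)).app F ≪≫
    (Functor.mapHomologicalComplexIdIso (ModuleCat.{u} S) (ComplexShape.up ℤ)).app F

lemma isZero_tensCx {N : ModuleCat.{u} S} (hN : IsZero N) : IsZero (tensCx F N) := by
  rw [IsZero.iff_id_eq_zero]
  ext i : 1
  rw [HomologicalComplex.id_f, HomologicalComplex.zero_f]
  have : IsZero ((tensCx F N).X i) := (tensorLeft (F.X i)).map_isZero hN
  exact this.eq_of_src _ _

lemma isNPC_GG_of_isZero {N : ModuleCat.{u} S} (hN : IsZero N) (n : ℤ) :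
    IsNPC (finFree P) n (GG ν F N) :=
  PCohDev.isNPC_of_isZero _ n _
    ((DRing.restrictD ν).map_isZero (Q.map_isZero (isZero_tensCx F hN)))

variable (hF : ∀ i, Module.Flat S (F.X i))

include hF in
lemma exists_distTriang (T : ShortComplex (ModuleCat.{u} S)) (hT : T.ShortExact) :
    ∃ (f : GG ν F T.X₁ ⟶ GG ν F T.X₂) (g : GG ν F T.X₂ ⟶ GG ν F T.X₃)
      (h : GG ν F T.X₃ ⟶ (GG ν F T.X₁)⟦(1 : ℤ)⟧),
      Pretriangulated.Triangle.mk f g h ∈ Pretriangulated.distinguishedTriangles := by
  have h1 := DerivedCategory.triangleOfSES_distinguished (tensSC_shortExact F hF T hT)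
  have h2 := (DRing.restrictD ν).map_distinguished _ h1
  exact ⟨_, _, _, h2⟩

include hF in
lemma isNPC_GG_X₂ (T : ShortComplex (ModuleCat.{u} S)) (hT : T.ShortExact) (n : ℤ)
    (h₁ : IsNPC (finFree P) n (GG ν F T.X₁)) (h₃ : IsNPC (finFree P) n (GG ν F T.X₃)) :
    IsNPC (finFree P) n (GG ν F T.X₂) := by
  obtain ⟨f, g, h, hd⟩ := exists_distTriang ν F hF T hT
  exact isNPC_obj₂ _ (hql_finFree P) (finFree_prod P) (hqs_finFree P) _ hd h₁ h₃

include hF in
lemma isNPC_GG_X₃ (T : ShortComplex (ModuleCat.{u} S)) (hT : T.ShortExact) (n : ℤ)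
    (h₁ : IsNPC (finFree P) (n + 1) (GG ν F T.X₁)) (h₂ : IsNPC (finFree P) n (GG ν F T.X₂)) :
    IsNPC (finFree P) n (GG ν F T.X₃) := by
  obtain ⟨f, g, h, hd⟩ := exists_distTriang ν F hF T hT
  exact isNPC_obj₃ _ (hql_finFree P) (finFree_prod P) (hqs_finFree P) _ hd h₁ h₂

end Core

section Main

variable {P S : Type u} [CommRing P] [CommRing S] (ν : P →+* S)
  (F : CochainComplex (ModuleCat.{u} S) ℤ) (hF : ∀ i, Module.Flat S (F.X i))

/-- the split short exact sequence `0 → S → S × M → M → 0` -/
noncomputable def prodSC (M : Type u) [AddCommGroup M] [Module S M] :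
    ShortComplex (ModuleCat.{u} S) :=
  ShortComplex.mk (ModuleCat.ofHom (LinearMap.inl S S M)) (ModuleCat.ofHom (LinearMap.snd S S M))
    (by ext x; simp)

lemma prodSC_shortExact (M : Type u) [AddCommGroup M] [Module S M] :
    (prodSC (S := S) M).ShortExact := by
  refine ShortComplex.ShortExact.mk' ?_ ?_ ?_
  · rw [ShortComplex.ShortExact.moduleCat_exact_iff_function_exact]
    exact Function.Exact.inl_snd (R := S) (M := S) (N := M)
  · rw [ModuleCat.mono_iff_injective]
    exact (LinearMap.inl_injective : Function.Injective (LinearMap.inl S S M))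
  · rw [ModuleCat.epi_iff_surjective]
    exact (LinearMap.snd_surjective : Function.Surjective (LinearMap.snd S S M))

include hF in
lemma isNPC_GG_pi (m : ℤ) (h1 : IsNPC (finFree P) m (GG ν F (ModuleCat.of S S))) (r : ℕ) :
    IsNPC (finFree P) m (GG ν F (ModuleCat.of S (Fin r → S))) := by
  induction r with
  | zero =>
    exact isNPC_GG_of_isZero ν F (ModuleCat.isZero_of_subsingleton _) m
  | succ r ih =>
    have h2 := isNPC_GG_X₂ ν F hF (prodSC (S := S) (Fin r → S)) (prodSC_shortExact _) m h1 ih
    exact IsNPC.of_iso _ h2 (GGIso ν F (Fin.consLinearEquiv S (fun _ : Fin (r + 1) => S)).toModuleIso)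

include hF in
/-- **Core lemma**: if `F` is a bounded above complex of flat `S`-modules with `F|_P`
`m`-pseudo-coherent, and `N` is a pseudo-coherent `S`-module, then `(F ⊗_S N)|_P` is
`m`-pseudo-coherent. -/
theorem isNPC_GG_of_pc (b : ℤ) (hb : ∀ i, b < i → IsZero (F.X i)) (m : ℤ)
    (hm : IsNPC (finFree P) m ((DRing.restrictD ν).obj (Q.obj F)))
    (N : ModuleCat.{u} S)
    (hN : ∀ k : ℤ, IsNPC (finFree S) k ((DerivedCategory.singleFunctor (ModuleCat.{u} S) 0).obj N)) :
    IsNPC (finFree P) m (GG ν F N) := by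
  have h1 : IsNPC (finFree P) m (GG ν F (ModuleCat.of S S)) :=
    IsNPC.of_iso _ hm ((DRing.restrictD ν).mapIso (Q.mapIso (tensCxUnitIso F))).symm
  have key : ∀ j : ℕ, ∀ N : ModuleCat.{u} S,
      (∀ k : ℤ, IsNPC (finFree S) k ((DerivedCategory.singleFunctor (ModuleCat.{u} S) 0).obj N)) →
      IsNPC (finFree P) (max m (b + 1 - j)) (GG ν F N) := by
    intro j
    induction j with
    | zero =>
      intro N _
      have hz : ∀ i : ℤ, b < i → IsZero
          ((((ModuleCat.restrictScalars ν).mapHomologicalComplex (ComplexShape.up ℤ)).obj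
            (tensCx F N)).X i) := fun i hi =>
        (ModuleCat.restrictScalars ν).map_isZero ((tensorRight N).map_isZero (hb i hi))
      have h0 : IsNPC (finFree P) (b + 1) (GG ν F N) :=
        ⟨_, ⟨⟨b, hz⟩, fun i hi => (finFree P).prop_of_isZero (hz i (by omega))⟩,
          ⟨((ModuleCat.restrictScalars ν).mapDerivedCategoryFactors.app (tensCx F N)).symm⟩⟩
      exact PCohFun.isNPC_of_le _ (by simp) h0
    | succ j ih =>
      intro N hN
      by_cases hlt : b - j < m
      · have e : max m (b + 1 - ((j + 1 : ℕ) : ℤ)) = max m (b + 1 - (j : ℤ)) := by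
          push_cast
          rw [max_eq_left (by omega), max_eq_left (by omega)]
        rw [e]
        exact ih N hN
      · have e : max m (b + 1 - ((j + 1 : ℕ) : ℤ)) = b - j := by
          push_cast
          rw [max_eq_right (by omega)]
          ring
        rw [e]
        have hfin : Module.Finite S N := (PCohRing.isNPC_zero_single_iff S N).mp (hN 0)
        obtain ⟨r, f, hf⟩ := Module.Finite.exists_fin' S N
        let X : ModuleCat.{u} S := ModuleCat.of S (Fin r → S)
        have hX : finFree S X := ⟨inferInstanceAs (Module.Finite S (Fin r → S)),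
          inferInstanceAs (Module.Free S (Fin r → S))⟩
        let g : X ⟶ N := ModuleCat.ofHom f
        have hg : Epi g := (ModuleCat.epi_iff_surjective g).mpr hf
        let T : ShortComplex (ModuleCat.{u} S) :=
          ShortComplex.mk (kernel.ι g) g (kernel.condition g)
        have hT : T.ShortExact :=
          { exact := ShortComplex.exact_of_f_is_kernel _ (kernelIsKernel g)
            mono_f := by dsimp [T]; infer_instance
            epi_g := hg }
        have hK : ∀ k : ℤ, IsNPC (finFree S) k
            ((DerivedCategory.singleFunctor (ModuleCat.{u} S) 0).obj (kernel g)) :=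
          fun k => isPC_single_X₁ (finFree S) (hql_finFree S) (finFree_prod S) (hqs_finFree S)
            T hT (fun k => PCohCoh.isNPC_single_of_mem _ k X hX) hN k
        have h₁ : IsNPC (finFree P) (b - j + 1) (GG ν F (kernel g)) := by
          have := ih (kernel g) hK
          rwa [max_eq_right (by omega), show b + 1 - (j : ℤ) = b - j + 1 by ring] at this
        have h₂ : IsNPC (finFree P) (b - j) (GG ν F X) :=
          PCohFun.isNPC_of_le _ (by omega) (isNPC_GG_pi ν F hF m h1 r)
        exact isNPC_GG_X₃ ν F hF T hT (b - j) h₁ h₂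
  rcases le_or_gt m (b + 1) with h | h
  · have := key (b + 1 - m).toNat N hN
    rwa [Int.toNat_of_nonneg (by omega), max_eq_left (by omega)] at this
  · have := key 0 N hN
    rwa [max_eq_left (by push_cast; omega)] at this

end Main

end Groth.Agent.H35.TensSyz
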