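import Mathlib
import Groth.Agent.H35.DerCompleteD
import Groth.Agent.H35.TorNilp
import Groth.Agent.H35.TensSyz

/-!
# Derived completeness of `P ⊗ M` for finite `M` over a Noetherian ring (helper35)

`Phi f` five-lemmas, and: if `P` is a bounded above complex of flat modules whose cohomology modules
are derived `f`-complete (`Phi f` bijective), then so are the cohomology modules of `P ⊗ M` for every
finite module `M` over the Noetherian ring `A`.
-/

set_option autoImplicit false
set_option linter.style.haveILetI false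
universe u

open CategoryTheory CategoryTheory.Limits MonoidalCategory

namespace Groth.Agent.H35.PhiTensor

open Groth.Agent.H35 Groth.Agent.H35.LT

variable {A : Type u} [CommRing A]

section Five

variable (f : A) {H1 H2 H3 H4 H5 : Type*}
  [AddCommGroup H1] [Module A H1] [AddCommGroup H2] [Module A H2] [AddCommGroup H3] [Module A H3]
  [AddCommGroup H4] [Module A H4] [AddCommGroup H5] [Module A H5]

/-- extensions, surjectivity only -/
theorem Phi_surjective_of_exact (i : H2 →ₗ[A] H3) (p : H3 →ₗ[A] H4)
    (hp : Function.Surjective p) (hex : ∀ x, p x = 0 → ∃ y, i y = x)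
    (h' : Function.Surjective (Phi f H2)) (h'' : Function.Surjective (Phi f H4)) :
    Function.Surjective (Phi f H3) := by
  intro c
  obtain ⟨m'', hm''⟩ := h'' (fun n => p (c n))
  choose mt hmt using fun n => hp (m'' n)
  have h1 : ∀ n, ∃ y, i y = c n - Phi f H3 mt n := by
    intro n
    apply hex
    have := congrFun (Phi_comp f p mt) n
    rw [map_sub, ← this, funext hmt, hm'', sub_self]
  choose c' hc' using h1
  obtain ⟨m', hm'⟩ := h' c'
  refine ⟨mt + fun n => i (m' n), ?_⟩
  rw [map_add, Phi_comp, hm']
  funext n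
  rw [Pi.add_apply, hc']
  abel

/-- kernels: surjectivity -/
theorem Phi_surjective_ker (u : H4 →ₗ[A] H5) (h4 : Function.Surjective (Phi f H4))
    (h5 : Function.Injective (Phi f H5)) : Function.Surjective (Phi f (LinearMap.ker u)) := by
  intro c
  obtain ⟨m, hm⟩ := h4 (fun n => (c n : H4))
  have h1 : (fun n => u (m n)) = 0 := by
    apply h5
    rw [Phi_comp, hm, map_zero]
    funext n
    exact (c n).2
  refine ⟨fun n => ⟨m n, congrFun h1 n⟩, ?_⟩
  funext n
  apply Subtype.ext
  have := congrFun hm n
  simpa [Phi_apply] using this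

/-- middle term of a four term exact sequence: surjectivity -/
theorem Phi_surjective_middle (α : H2 →ₗ[A] H3) (γ : H3 →ₗ[A] H4) (δ : H4 →ₗ[A] H5)
    (h23 : Function.Exact α γ) (h34 : Function.Exact γ δ)
    (h2 : Function.Surjective (Phi f H2)) (h4 : Function.Surjective (Phi f H4))
    (h5 : Function.Injective (Phi f H5)) : Function.Surjective (Phi f H3) := by
  have hmem : ∀ x, γ x ∈ LinearMap.ker δ := fun x => (h34 (γ x)).2 ⟨x, rfl⟩
  let p : H3 →ₗ[A] LinearMap.ker δ := γ.codRestrict (LinearMap.ker δ) hmem
  have hp : Function.Surjective p := by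
    rintro ⟨y, hy⟩
    obtain ⟨x, hx⟩ := (h34 y).1 hy
    exact ⟨x, Subtype.ext hx⟩
  have hex : ∀ x, p x = 0 → ∃ y, α y = x := by
    intro x hx
    have : γ x = 0 := congrArg Subtype.val hx
    exact (h23 x).1 this
  exact Phi_surjective_of_exact f α p hp hex h2 (Phi_surjective_ker f δ h4 h5)

/-- middle term of a five term exact sequence: bijectivity -/
theorem Phi_bijective_middle (β : H1 →ₗ[A] H2) (α : H2 →ₗ[A] H3) (γ : H3 →ₗ[A] H4)
    (δ : H4 →ₗ[A] H5) (h12 : Function.Exact β α) (h23 : Function.Exact α γ)
    (h34 : Function.Exact γ δ)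
    (h1 : Function.Surjective (Phi f H1)) (h2 : Function.Bijective (Phi f H2))
    (h4 : Function.Bijective (Phi f H4)) (h5 : Function.Bijective (Phi f H5)) :
    Function.Bijective (Phi f H3) := by
  refine ⟨?_, Phi_surjective_middle f α γ δ h23 h34 h2.2 h4.2 h5.1⟩
  -- injectivity
  rw [injective_iff_map_eq_zero]
  intro m hm
  -- γ m = 0
  have hγ : (fun n => γ (m n)) = 0 := by
    apply h4.1
    rw [Phi_comp, hm, map_zero]
    funext n; simp
  have hlift : ∀ n, ∃ y, α y = m n := fun n => (h23 (m n)).1 (congrFun hγ n)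
  choose y hy using hlift
  -- Phi y lies in the range of β
  have h6 : ∀ n, ∃ z, β z = Phi f H2 y n := by
    intro n
    apply (h12 _).1
    have := congrFun (Phi_comp f α y) n
    rw [← this, funext hy, hm]
    rfl
  choose z hz using h6
  obtain ⟨w, hw⟩ := h1 z
  have h7 : y = fun n => β (w n) := by
    apply h2.1
    rw [Phi_comp, hw]
    funext n
    exact (hz n).symm
  funext n
  rw [← hy n, h7]
  show α (β (w n)) = 0
  exact (h12 _).2 ⟨w n, rfl⟩

end Five


section Complex

open HomologicalComplex

variable (f : A) (P : DRing.Cx A)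

/-- cohomology of `P ⊗ N` -/
noncomputable abbrev Hn (N : ModuleCat.{u} A) (n : ℤ) : ModuleCat.{u} A :=
  ((tCx P).obj N).homology n

lemma bij_of_iso {N N' : ModuleCat.{u} A} (e : N ≅ N') (n : ℤ)
    (h : Function.Bijective (Phi f (Hn P N n))) : Function.Bijective (Phi f (Hn P N' n)) := by
  let e' : Hn P N n ≅ Hn P N' n :=
    (HomologicalComplex.homologyFunctor _ _ n).mapIso ((tCx P).mapIso e)
  exact Phi_bijective_of_linearEquiv f e'.toLinearEquiv h

lemma bij_of_isZero {N : ModuleCat.{u} A} (hN : IsZero N) (n : ℤ) :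
    Function.Bijective (Phi f (Hn P N n)) := by
  have h1 : IsZero (((tCx P).obj N).X n) := (tensorLeft (P.X n)).map_isZero hN
  have h2 : IsZero (Hn P N n) := ShortComplex.isZero_homology_of_isZero_X₂ _ h1
  haveI : Subsingleton (Hn P N n) := ModuleCat.subsingleton_of_isZero h2
  exact ⟨fun a b _ => Subsingleton.elim _ _, fun y => ⟨0, Subsingleton.elim _ _⟩⟩

lemma bij_of_isZero_X (N : ModuleCat.{u} A) (n : ℤ) (h : IsZero (P.X n)) :
    Function.Bijective (Phi f (Hn P N n)) := by
  have h1 : IsZero (((tCx P).obj N).X n) := (tensorRight N).map_isZero h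
  have h2 : IsZero (Hn P N n) := ShortComplex.isZero_homology_of_isZero_X₂ _ h1
  haveI : Subsingleton (Hn P N n) := ModuleCat.subsingleton_of_isZero h2
  exact ⟨fun a b _ => Subsingleton.elim _ _, fun y => ⟨0, Subsingleton.elim _ _⟩⟩

variable (hPfl : ∀ i, Module.Flat A (P.X i))

include hPfl

/-- extensions: bijectivity in all degrees -/
theorem ext_bij (S : ShortComplex (ModuleCat.{u} A)) (hS : S.ShortExact)
    (h₁ : ∀ n, Function.Bijective (Phi f (Hn P S.X₁ n)))
    (h₃ : ∀ n, Function.Bijective (Phi f (Hn P S.X₃ n))) :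
    ∀ n, Function.Bijective (Phi f (Hn P S.X₂ n)) := by
  intro n
  have hS' := shortExact_map_tCx P hPfl S hS
  have e1 := (ShortComplex.ShortExact.moduleCat_exact_iff_function_exact _).1
    (hS'.homology_exact₁ (n - 1) n (by simp))
  have e2 := (ShortComplex.ShortExact.moduleCat_exact_iff_function_exact _).1
    (hS'.homology_exact₂ n)
  have e3 := (ShortComplex.ShortExact.moduleCat_exact_iff_function_exact _).1
    (hS'.homology_exact₃ n (n + 1) rfl)
  exact Phi_bijective_middle f (hS'.δ (n - 1) n (by simp)).hom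
    (HomologicalComplex.homologyMap (S.map (tCx P)).f n).hom
    (HomologicalComplex.homologyMap (S.map (tCx P)).g n).hom
    (hS'.δ n (n + 1) rfl).hom e1 e2 e3 (h₃ (n - 1)).2 (h₁ n) (h₃ n) (h₁ (n + 1))

/-- quotients: surjectivity -/
theorem quot_surj (S : ShortComplex (ModuleCat.{u} A)) (hS : S.ShortExact) (n : ℤ)
    (h2 : Function.Surjective (Phi f (Hn P S.X₂ n)))
    (h1' : Function.Surjective (Phi f (Hn P S.X₁ (n + 1))))
    (h2' : Function.Injective (Phi f (Hn P S.X₂ (n + 1)))) :
    Function.Surjective (Phi f (Hn P S.X₃ n)) := by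
  have hS' := shortExact_map_tCx P hPfl S hS
  have e3 := (ShortComplex.ShortExact.moduleCat_exact_iff_function_exact _).1
    (hS'.homology_exact₃ n (n + 1) rfl)
  have e1 := (ShortComplex.ShortExact.moduleCat_exact_iff_function_exact _).1
    (hS'.homology_exact₁ n (n + 1) rfl)
  exact Phi_surjective_middle f
    (HomologicalComplex.homologyMap (S.map (tCx P)).g n).hom
    (hS'.δ n (n + 1) rfl).hom
    (HomologicalComplex.homologyMap (S.map (tCx P)).f (n + 1)).hom e3 e1 h2 h1' h2'

/-- quotients: bijectivity -/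
theorem quot_bij (S : ShortComplex (ModuleCat.{u} A)) (hS : S.ShortExact) (n : ℤ)
    (h1 : Function.Surjective (Phi f (Hn P S.X₁ n)))
    (h2 : Function.Bijective (Phi f (Hn P S.X₂ n)))
    (h1' : Function.Bijective (Phi f (Hn P S.X₁ (n + 1))))
    (h2' : Function.Bijective (Phi f (Hn P S.X₂ (n + 1)))) :
    Function.Bijective (Phi f (Hn P S.X₃ n)) := by
  have hS' := shortExact_map_tCx P hPfl S hS
  have e2 := (ShortComplex.ShortExact.moduleCat_exact_iff_function_exact _).1
    (hS'.homology_exact₂ n)
  have e3 := (ShortComplex.ShortExact.moduleCat_exact_iff_function_exact _).1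
    (hS'.homology_exact₃ n (n + 1) rfl)
  have e1 := (ShortComplex.ShortExact.moduleCat_exact_iff_function_exact _).1
    (hS'.homology_exact₁ n (n + 1) rfl)
  exact Phi_bijective_middle f
    (HomologicalComplex.homologyMap (S.map (tCx P)).f n).hom
    (HomologicalComplex.homologyMap (S.map (tCx P)).g n).hom
    (hS'.δ n (n + 1) rfl).hom
    (HomologicalComplex.homologyMap (S.map (tCx P)).f (n + 1)).hom e2 e3 e1 h1 h2 h1' h2'


omit hPfl in
/-- `P ⊗ A ≅ P` -/
lemma bij_unit (hP : ∀ n, Function.Bijective (Phi f (P.homology n))) (n : ℤ) :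
    Function.Bijective (Phi f (Hn P (ModuleCat.of A A) n)) := by
  let e0 : (tCx P).obj (𝟙_ (ModuleCat.{u} A)) ≅ P :=
    (NatIso.mapHomologicalComplex (rightUnitorNatIso (ModuleCat.{u} A)) (ComplexShape.up ℤ)).app P ≪≫
      (Functor.mapHomologicalComplexIdIso (ModuleCat.{u} A) (ComplexShape.up ℤ)).app P
  let e' : Hn P (𝟙_ (ModuleCat.{u} A)) n ≅ P.homology n :=
    (HomologicalComplex.homologyFunctor _ _ n).mapIso e0
  exact Phi_bijective_of_linearEquiv f e'.toLinearEquiv.symm (hP n)

/-- the short exact sequence `0 → A → A^{r+1} → A^r → 0` -/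
noncomputable def finSC (r : ℕ) : ShortComplex (ModuleCat.{u} A) :=
  ShortComplex.mk (ModuleCat.ofHom (LinearMap.single A (fun _ : Fin (r + 1) => A) 0))
    (ModuleCat.ofHom (LinearMap.funLeft A A (Fin.succ : Fin r → Fin (r + 1)))) (by
      ext x
      show Pi.single (M := fun _ : Fin (r + 1) => A) (0 : Fin (r + 1)) (1 : A) (Fin.succ x) = 0
      exact Pi.single_eq_of_ne (Fin.succ_ne_zero x) _)

omit hPfl in
lemma finSC_shortExact (r : ℕ) : (finSC (A := A) r).ShortExact where
  exact := by
    rw [ShortComplex.ShortExact.moduleCat_exact_iff_function_exact]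
    intro (v : Fin (r + 1) → A)
    constructor
    · intro hv
      have hv' : ∀ j : Fin r, v j.succ = 0 := fun j => congrFun hv j
      refine ⟨v 0, ?_⟩
      show Pi.single (M := fun _ : Fin (r + 1) => A) (0 : Fin (r + 1)) (v 0) = v
      funext i
      refine Fin.cases ?_ (fun j => ?_) i
      · exact Pi.single_eq_same _ _
      · rw [Pi.single_eq_of_ne (Fin.succ_ne_zero j)]
        exact (hv' j).symm
    · rintro ⟨(x : A), rfl⟩
      funext j
      show Pi.single (M := fun _ : Fin (r + 1) => A) (0 : Fin (r + 1)) x j.succ = 0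
      exact Pi.single_eq_of_ne (Fin.succ_ne_zero j) _
  mono_f := by
    rw [ModuleCat.mono_iff_injective]
    exact Pi.single_injective (M := fun _ : Fin (r + 1) => A) (0 : Fin (r + 1))
  epi_g := by
    rw [ModuleCat.epi_iff_surjective]
    intro (w : Fin r → A)
    refine ⟨(Fin.cons 0 w : Fin (r + 1) → A), ?_⟩
    funext j
    show (Fin.cons 0 w : Fin (r + 1) → A) j.succ = w j
    simp

/-- finite free modules -/
theorem bij_fin (hP : ∀ n, Function.Bijective (Phi f (P.homology n))) (r : ℕ) :
    ∀ n, Function.Bijective (Phi f (Hn P (ModuleCat.of A (Fin r → A)) n)) := by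
  induction r with
  | zero =>
    intro n
    apply bij_of_isZero
    haveI : Subsingleton (ModuleCat.of A (Fin 0 → A)) :=
      inferInstanceAs (Subsingleton (Fin 0 → A))
    exact ModuleCat.isZero_of_subsingleton _
  | succ r ih =>
    exact ext_bij f P hPfl (finSC r) (finSC_shortExact r) (bij_unit f P hP) ih

variable [IsNoetherianRing A]

/-- one step of the descending induction -/
theorem step (hP : ∀ n, Function.Bijective (Phi f (P.homology n))) (n : ℤ)
    (h : ∀ (M : Type u) [AddCommGroup M] [Module A M] [Module.Finite A M],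
      Function.Bijective (Phi f (Hn P (ModuleCat.of A M) (n + 1)))) :
    ∀ (M : Type u) [AddCommGroup M] [Module A M] [Module.Finite A M],
      Function.Bijective (Phi f (Hn P (ModuleCat.of A M) n)) := by
  -- presentations
  have pres : ∀ (M : Type u) [AddCommGroup M] [Module A M] [Module.Finite A M],
      ∃ (r : ℕ) (S : ShortComplex (ModuleCat.{u} A)), S.ShortExact ∧
        S.X₂ = ModuleCat.of A (Fin r → A) ∧ S.X₃ = ModuleCat.of A M ∧
        ∃ (K : Type u) (_ : AddCommGroup K) (_ : Module A K) (_ : Module.Finite A K),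
          S.X₁ = ModuleCat.of A K := by
    intro M _ _ _
    obtain ⟨r, g, hg⟩ := Module.Finite.exists_fin' A M
    let S : ShortComplex (ModuleCat.{u} A) :=
      ShortComplex.mk (ModuleCat.ofHom (LinearMap.ker g).subtype) (ModuleCat.ofHom g) (by
        ext x
        exact x.2)
    have hS : S.ShortExact :=
      { exact := (ShortComplex.ShortExact.moduleCat_exact_iff_function_exact S).2
          (LinearMap.exact_subtype_ker_map g)
        mono_f := (ModuleCat.mono_iff_injective _).2 (LinearMap.ker g).injective_subtype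
        epi_g := (ModuleCat.epi_iff_surjective _).2 hg }
    exact ⟨r, S, hS, rfl, rfl, LinearMap.ker g, inferInstance, inferInstance, inferInstance, rfl⟩
  have hsurj : ∀ (M : Type u) [AddCommGroup M] [Module A M] [Module.Finite A M],
      Function.Surjective (Phi f (Hn P (ModuleCat.of A M) n)) := by
    intro M _ _ _
    obtain ⟨r, S, hS, h2, h3, K, _, _, _, h1⟩ := pres M
    have := quot_surj f P hPfl S hS n (by rw [h2]; exact (bij_fin f P hPfl hP r n).2)
      (by rw [h1]; exact (h K).2) (by rw [h2]; exact (bij_fin f P hPfl hP r (n + 1)).1)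
    rw [h3] at this
    exact this
  intro M _ _ _
  obtain ⟨r, S, hS, h2, h3, K, _, _, _, h1⟩ := pres M
  have := quot_bij f P hPfl S hS n (by rw [h1]; exact hsurj K)
    (by rw [h2]; exact bij_fin f P hPfl hP r n) (by rw [h1]; exact h K)
    (by rw [h2]; exact bij_fin f P hPfl hP r (n + 1))
  rw [h3] at this
  exact this

/-- **Main theorem**: cohomology of `P ⊗ M` is derived `f`-complete -/
theorem bij_tensor_finite (hP : ∀ n, Function.Bijective (Phi f (P.homology n))) (b : ℤ)
    (hPb : ∀ i, b < i → IsZero (P.X i))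
    (M : Type u) [AddCommGroup M] [Module A M] [Module.Finite A M] (n : ℤ) :
    Function.Bijective (Phi f (Hn P (ModuleCat.of A M) n)) := by
  have key : ∀ (k : ℕ) (n : ℤ), b - k < n →
      ∀ (M : Type u) [AddCommGroup M] [Module A M] [Module.Finite A M],
        Function.Bijective (Phi f (Hn P (ModuleCat.of A M) n)) := by
    intro k
    induction k with
    | zero =>
      intro n hn M _ _ _
      exact bij_of_isZero_X f P _ n (hPb n (by simpa using hn))
    | succ k ih =>
      intro n hn
      by_cases h1 : b - k < n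
      · exact ih n h1
      · have hn' : n = b - k - 1 + 0 ∨ True := Or.inr trivial
        have h2 : b - k < n + 1 := by push_cast at hn; omega
        exact step f P hPfl hP n (ih (n + 1) h2)
  obtain ⟨k, hk⟩ : ∃ k : ℕ, b - k < n := ⟨(b - n + 1).toNat, by omega⟩
  exact key k n hk M

end Complex

end Groth.Agent.H35.PhiTensor
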