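import Mathlib
import Groth.Agent.H35.DCTensor
import Groth.Agent.H35.PhiTensor
import Groth.Agent.H35.ProjAmpTFAE
import Groth.Agent.H35.DerCompleteRestrict
import Groth.Agent.H9.DC.Cone
import Groth.Agent.H9.DC.GMEps

/-!
# `K^∧ ⊗^L M` is the derived completion of `K ⊗^L M` for finite `M` (helper35)
-/

set_option autoImplicit false
set_option linter.style.haveILetI false
universe u

open CategoryTheory CategoryTheory.Limits CategoryTheory.Pretriangulated DerivedCategory
  MonoidalCategory

attribute [local instance] HasDerivedCategory.standard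

namespace Groth.Agent.H35.DCTensorMain

open Groth.Agent.H9.DC Groth.Agent.H35 Groth.Agent.H35.KosAbs Groth.Agent.H35.KosCrit
  Groth.Agent.H35.KF Groth.Agent.H35.LT Groth.Agent.H35.DCTensor Groth.Agent.H35.PhiTensor

variable {A : Type u} [CommRing A]

/-- local equivalences are stable under tensoring with a module (on K-flat representatives) -/
theorem locEq_Q_map_tensor (M : ModuleCat.{u} A) (fs : List A) {E₁ E₂ : DRing.Cx A}
    (a : E₁ ⟶ E₂) (h₁ : IsKFlat E₁) (h₂ : IsKFlat E₂)
    (ha : LocEq (PerpL (T := Dual.D A) fs) (Q.map a)) :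
    LocEq (PerpL (T := Dual.D A) fs) (Q.map ((Tn M).map a)) := by
  have hT : Q.mapTriangle.obj (CochainComplex.mappingCone.triangle a) ∈
      distTriang (Dual.D A) := by
    rw [mem_distTriang_iff]
    exact ⟨_, _, _, ⟨Iso.refl _⟩⟩
  have hT' : Q.mapTriangle.obj (CochainComplex.mappingCone.triangle ((Tn M).map a)) ∈
      distTriang (Dual.D A) := by
    rw [mem_distTriang_iff]
    exact ⟨_, _, _, ⟨Iso.refl _⟩⟩
  have h1 : LeftOrth fs (Q.obj (CochainComplex.mappingCone a)) :=
    (locEq_iff_leftOrth fs (Q.map a) _ _ hT).1 ha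
  have hkf : IsKFlat (CochainComplex.mappingCone a) :=
    (isKFlat_mappingCone_two_of_three a).1 h₁ h₂
  have h2 : LeftOrth fs (Q.obj ((Tn M).obj (CochainComplex.mappingCone a))) :=
    leftOrth_tensor M fs _ hkf h1
  have h3 : LeftOrth fs (Q.obj (CochainComplex.mappingCone ((Tn M).map a))) :=
    h2.of_iso (Q.mapIso (CochainComplex.mappingCone.mapHomologicalComplexIso a (tensorRight M)))
  exact (locEq_iff_leftOrth fs (Q.map ((Tn M).map a)) _ _ hT').2 h3

variable [IsNoetherianRing A]

/-- **S7095** -/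
theorem derivedCompletion_LTensor_finite (I : Ideal A) [DRing.HasDerivedCompletion I]
    (M : Type u) [AddCommGroup M] [Module A M] [Module.Finite A M]
    [DRing.HasLTensor A (ModuleCat.of A M)] (K : Dual.D A) (b : ℤ)
    (hK : ∀ i : ℤ, b < i → Subsingleton (Dual.HD A K i)) :
    DRing.IsDerivedComplete I
        ((DRing.LTensor A (ModuleCat.of A M)).obj ((DRing.derivedCompletion I).obj K).obj) ∧
      ∀ E : Dual.D A, DRing.IsDerivedComplete I E →
        Function.Bijective
          (fun φ : (DRing.LTensor A (ModuleCat.of A M)).obj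
              ((DRing.derivedCompletion I).obj K).obj ⟶ E =>
            (DRing.LTensor A (ModuleCat.of A M)).map (DRing.toDerivedCompletion I K) ≫ φ) := by
  classical
  obtain ⟨s, hs⟩ := (IsNoetherian.noetherian I : I.FG)
  have hfs : Ideal.span {x | x ∈ s.toList} = I := by
    rw [← hs]
    congr 1
    ext x
    simp
  subst hfs
  set fs := s.toList with hfsdef
  set I := Ideal.span {x | x ∈ fs} with hI
  set Kc := ((DRing.derivedCompletion I).obj K).obj with hKc
  set η := DRing.toDerivedCompletion I K with hη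
  set M' := ModuleCat.of A M with hM'
  set LT := DRing.LTensor A M' with hLT
  -- bounds
  have hKcb : ∀ i : ℤ, b < i → Subsingleton (Dual.HD A Kc i) := by
    intro i hi
    rw [subsingleton_HD_iff]
    apply completion_bounds I fs rfl K (Dual.inD A A) i
    intro k hk _
    rw [← subsingleton_HD_iff]
    exact hK k (by omega)
  have hK' : ∀ n : ℤ, b < n →
      IsZero ((DerivedCategory.homologyFunctor (ModuleCat.{u} A) n).obj K) := fun n hn => by
    haveI := hK n hn
    exact ModuleCat.isZero_of_subsingleton _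
  have hKc' : ∀ n : ℤ, b < n →
      IsZero ((DerivedCategory.homologyFunctor (ModuleCat.{u} A) n).obj Kc) := fun n hn => by
    haveI := hKcb n hn
    exact ModuleCat.isZero_of_subsingleton _
  obtain ⟨E₁, hE₁b, hE₁p, ⟨e₁⟩⟩ := exists_projective_rep K b hK'
  obtain ⟨E₂, hE₂b, hE₂p, ⟨e₂⟩⟩ := exists_projective_rep Kc b hKc'
  haveI : E₁.IsKProjective := isKProjective_of_vanishesAbove E₁ b hE₁b hE₁p
  have hE₁fl : ∀ i, Module.Flat A (E₁.X i) := fun i => by
    have := hE₁p i
    infer_instance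
  have hE₂fl : ∀ i, Module.Flat A (E₂.X i) := fun i => by
    have := hE₂p i
    infer_instance
  have hE₁kf : IsKFlat E₁ := isKFlat_of_bounded_flat E₁ b hE₁b hE₁fl
  have hE₂kf : IsKFlat E₂ := isKFlat_of_bounded_flat E₂ b hE₂b hE₂fl
  obtain ⟨a, ha⟩ := Q_map_surjective_of_isKProjective E₂ (e₁.hom ≫ η ≫ e₂.inv)
  -- part (a)
  have hdc2 : DRing.IsDerivedComplete I (Q.obj E₂) :=
    isDerivedComplete_of_iso I e₂.symm ((DRing.derivedCompletion I).obj K).property
  have hΦ₂ := (isDerivedComplete_Q_iff I E₂).1 hdc2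
  have hdcT : DRing.IsDerivedComplete I (Q.obj ((Tn M').obj E₂)) := by
    rw [isDerivedComplete_Q_iff]
    intro f hf n
    exact bij_tensor_finite f E₂ hE₂fl (hΦ₂ f hf) b hE₂b M n
  let eT₁ : LT.obj K ≅ Q.obj ((Tn M').obj E₁) := LT.mapIso e₁.symm ≪≫ LTensorIso M' E₁ hE₁kf
  let eT₂ : LT.obj Kc ≅ Q.obj ((Tn M').obj E₂) := LT.mapIso e₂.symm ≪≫ LTensorIso M' E₂ hE₂kf
  refine ⟨isDerivedComplete_of_iso I eT₂.symm hdcT, ?_⟩
  -- part (b)
  have hloc : LocEq (PerpL (T := Dual.D A) fs) η := fun E hE =>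
    (locEq_toDerivedCompletion I K) E ((isDerivedComplete_iff_perpL fs E).2 hE)
  have hlocA : LocEq (PerpL (T := Dual.D A) fs) (Q.map a) := by
    rw [ha]
    exact (LocEq.of_isIso _ e₁.hom).comp (hloc.comp (LocEq.of_isIso _ e₂.inv))
  have hlocT := locEq_Q_map_tensor M' fs a hE₁kf hE₂kf hlocA
  have hnat := LTensorIso_naturality M' a hE₁kf hE₂kf
  have hfac : LT.map η = eT₁.hom ≫ Q.map ((Tn M').map a) ≫ eT₂.inv := by
    have h1 : LT.map (Q.map a) = LT.map e₁.hom ≫ LT.map η ≫ LT.map e₂.inv := by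
      rw [ha, Functor.map_comp, Functor.map_comp]
    have h2 : LT.map η = LT.map e₁.inv ≫ LT.map (Q.map a) ≫ LT.map e₂.hom := by
      rw [h1]
      simp only [Category.assoc, ← Functor.map_comp, Iso.inv_hom_id, Iso.inv_hom_id_assoc,
        Category.comp_id]
    rw [h2]
    simp only [eT₁, eT₂, Iso.trans_hom, Iso.trans_inv, Functor.mapIso_hom, Functor.mapIso_inv,
      Iso.symm_hom, Iso.symm_inv, Category.assoc]
    congr 1
    rw [← Category.assoc (LTensorIso M' E₁ hE₁kf).hom, ← hnat]
    simp only [Category.assoc, Iso.hom_inv_id_assoc]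
    rfl
  have hlocF : LocEq (PerpL (T := Dual.D A) fs) (LT.map η) := by
    rw [hfac]
    exact (LocEq.of_isIso _ eT₁.hom).comp (hlocT.comp (LocEq.of_isIso _ eT₂.inv))
  intro E hE
  exact hlocF E ((isDerivedComplete_iff_perpL fs E).1 hE)

end Groth.Agent.H35.DCTensorMain
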