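import Mathlib
import Groth.Agent.H35.DerComplete

/-!
# More on derived complete modules (helper35): surjectivity onto the adic completion
-/

universe u

namespace Groth.Agent.H35

variable {A : Type u} [CommRing A]

section Limit

variable {M : Type*} [AddCommGroup M] [Module A M]

lemma Phi_partial_sum (f : A) (t b : ℕ → M) (h : Phi f M t = b) (n : ℕ) :
    t 0 - ∑ k ∈ Finset.range n, f ^ k • b k = f ^ n • t n := by
  induction n with
  | zero => simp
  | succ n ih =>
    rw [Finset.sum_range_succ, ← sub_sub, ih, ← h, Phi_apply, smul_sub, pow_succ, mul_smul]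
    abel

lemma telescope_mem (I : Ideal A) (x : ℕ → M)
    (hx : ∀ n, x (n + 1) - x n ∈ I ^ n • (⊤ : Submodule A M)) {a b : ℕ} (hab : a ≤ b) :
    x b - x a ∈ I ^ a • (⊤ : Submodule A M) := by
  obtain ⟨d, rfl⟩ := Nat.exists_eq_add_of_le hab
  induction d with
  | zero => simp
  | succ d ih =>
    have : x (a + (d + 1)) - x a = (x (a + d + 1) - x (a + d)) + (x (a + d) - x a) := by
      rw [← add_assoc]; abel
    rw [this]
    refine Submodule.add_mem _ ?_ (ih (Nat.le_add_right _ _))
    exact Submodule.smul_mono_left (Ideal.pow_le_pow_right (Nat.le_add_right a d)) (hx _)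

/-- If `Phi f M` is surjective for all `f` in a finite set `s`, then every `(span s)`-adic Cauchy
sequence in `M` has a limit. -/
theorem exists_limit_of_Phi_surjective (s : Finset A)
    (hΦ : ∀ f ∈ s, Function.Surjective (Phi f M)) :
    ∀ x : ℕ → M, (∀ n, x (n + 1) - x n ∈ (Ideal.span (s : Set A)) ^ n • (⊤ : Submodule A M)) →
      ∃ m, ∀ n, m - x n ∈ (Ideal.span (s : Set A)) ^ n • (⊤ : Submodule A M) := by
  classical
  induction s using Finset.induction_on with
  | empty =>
    intro x hx
    refine ⟨x 1, fun n => ?_⟩
    rcases Nat.eq_zero_or_pos n with rfl | hn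
    · simp
    · have := telescope_mem _ x hx (show 1 ≤ n from hn)
      rw [Finset.coe_empty, Ideal.span_empty, pow_one, Submodule.bot_smul, Submodule.mem_bot,
        sub_eq_zero] at this
      rw [this, sub_self]
      exact Submodule.zero_mem _
  | insert g s' _ ih =>
    intro x hx
    have ih' := ih (fun f hf => hΦ f (Finset.mem_insert_of_mem hf))
    set I := Ideal.span ((insert g s' : Finset A) : Set A) with hI
    set I' := Ideal.span (s' : Set A) with hI'
    have hII' : I = Ideal.span {g} ⊔ I' := by
      rw [hI, Finset.coe_insert, Ideal.span_insert]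
    -- decompose the differences of the subsequence `x (2n)`
    have hdec : ∀ n, ∃ b : M, ∃ a ∈ I' ^ n • (⊤ : Submodule A M),
        x (2 * (n + 1)) - x (2 * n) = g ^ n • b + a := by
      intro n
      have h1 : x (2 * (n + 1)) - x (2 * n) ∈ I ^ (2 * n) • (⊤ : Submodule A M) :=
        telescope_mem I x hx (by omega)
      have h2 : I ^ (2 * n) ≤ Ideal.span {g} ^ n ⊔ I' ^ n := by
        rw [hII', two_mul]
        exact Ideal.sup_pow_add_le_pow_sup_pow
      have h3 := Submodule.smul_mono_left (N := (⊤ : Submodule A M)) h2 h1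
      rw [Submodule.sup_smul, Ideal.span_singleton_pow, Submodule.ideal_span_singleton_smul,
        Submodule.mem_sup] at h3
      obtain ⟨y, hy, a, ha, hya⟩ := h3
      rw [Submodule.mem_smul_pointwise_iff_exists] at hy
      obtain ⟨b, -, rfl⟩ := hy
      exact ⟨b, a, ha, hya.symm⟩
    choose b a ha hba using hdec
    obtain ⟨t, ht⟩ := hΦ g (Finset.mem_insert_self g s') b
    let y : ℕ → M := fun n => x (2 * n) - ∑ k ∈ Finset.range n, g ^ k • b k
    have hy : ∀ n, y (n + 1) - y n ∈ I' ^ n • (⊤ : Submodule A M) := by
      intro n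
      have : y (n + 1) - y n = a n := by
        simp only [y]
        rw [Finset.sum_range_succ]
        have := hba n
        rw [sub_eq_iff_eq_add] at this
        rw [this]
        abel
      rw [this]
      exact ha n
    obtain ⟨y₀, hy₀⟩ := ih' y hy
    refine ⟨y₀ + t 0, fun n => ?_⟩
    have h1 : y₀ + t 0 - x (2 * n) = (y₀ - y n) + g ^ n • t n := by
      rw [← Phi_partial_sum g t b ht n]
      simp only [y]
      abel
    have h2 : y₀ + t 0 - x n = (y₀ + t 0 - x (2 * n)) + (x (2 * n) - x n) := by abel
    rw [h2, h1]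
    refine Submodule.add_mem _ (Submodule.add_mem _ ?_ ?_) (telescope_mem I x hx (by omega))
    · refine Submodule.smul_mono_left (Ideal.pow_right_mono ?_ n) (hy₀ n)
      rw [hII']
      exact le_sup_right
    · refine Submodule.smul_mem_smul (Ideal.pow_mem_pow ?_ n) Submodule.mem_top
      rw [hII']
      exact Ideal.mem_sup_left (Ideal.mem_span_singleton_self g)

/-- A module on which `Phi f` is surjective for a finite set of generators of `I` surjects onto
its `I`-adic completion. -/
theorem adicCompletion_of_surjective_of_Phi (s : Finset A)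
    (hΦ : ∀ f ∈ s, Function.Surjective (Phi f M)) :
    Function.Surjective (AdicCompletion.of (Ideal.span (s : Set A)) M) := by
  intro ξ
  choose x hx using fun n => Submodule.mkQ_surjective _ (ξ.val n)
  have hcompat : ∀ n, x (n + 1) - x n ∈
      (Ideal.span (s : Set A)) ^ n • (⊤ : Submodule A M) := by
    intro n
    have h1 := ξ.property (Nat.le_succ n)
    rw [← hx (n + 1), ← hx n] at h1
    rw [← Submodule.Quotient.mk_eq_zero, Submodule.Quotient.mk_sub, sub_eq_zero]
    exact h1
  obtain ⟨m, hm⟩ := exists_limit_of_Phi_surjective s hΦ x hcompat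
  refine ⟨m, AdicCompletion.ext fun n => ?_⟩
  rw [AdicCompletion.of_apply, ← hx n, Submodule.mkQ_apply, Submodule.mkQ_apply,
    ← sub_eq_zero, ← Submodule.Quotient.mk_sub, Submodule.Quotient.mk_eq_zero]
  exact hm n

end Limit

end Groth.Agent.H35

namespace Groth.Agent.H35

variable {A : Type u} [CommRing A]

section Intersection

/-- `⋂ fⁿA` kills `⋂ fⁿM` when `Phi f M` is injective. -/
theorem iInf_smul_iInf_eq_bot_of_Phi_injective (f : A) (M : Type*) [AddCommGroup M] [Module A M]
    (hinj : Function.Injective (Phi f M)) :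
    (⨅ n : ℕ, Ideal.span {f ^ n}) • (⨅ n : ℕ, (Ideal.span {f ^ n}) • (⊤ : Submodule A M)) =
      (⊥ : Submodule A M) := by
  rw [eq_bot_iff, Submodule.smul_le]
  intro g hg x hx
  rw [Submodule.mem_bot]
  have hg' : ∀ n, ∃ a, a * f ^ n = g := fun n =>
    Ideal.mem_span_singleton'.mp ((Ideal.mem_iInf.mp hg) n)
  have hx' : ∀ n, ∃ y : M, f ^ n • y = x := by
    intro n
    have := (Submodule.mem_iInf _).mp hx n
    rw [Submodule.ideal_span_singleton_smul, Submodule.mem_smul_pointwise_iff_exists] at this
    obtain ⟨y, -, hy⟩ := this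
    exact ⟨y, hy⟩
  choose a ha using hg'
  choose y hy using hx'
  have hw : Phi f M (fun n => a n • x) = 0 := by
    funext n
    simp only [Phi_apply, Pi.zero_apply]
    rw [← mul_smul, ← sub_smul]
    conv_lhs => rw [← hy n]
    rw [← mul_smul]
    have : (a n - f * a (n + 1)) * f ^ n = 0 := by
      have h1 := ha n
      have h2 := ha (n + 1)
      rw [pow_succ] at h2
      rw [sub_mul, h1]
      have : f * a (n + 1) * f ^ n = a (n + 1) * (f ^ n * f) := by ring
      rw [this, h2, sub_self]
    rw [this, zero_smul]
  have := hinj (hw.trans (map_zero _).symm)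
  have h0 := congrFun this 0
  simp only [Pi.zero_apply] at h0
  have ha0 : a 0 = g := by simpa using ha 0
  rw [← ha0]
  exact h0

/-- `Phi f` is bijective on `A ⧸ (g)` when it is on `A`. -/
theorem Phi_bijective_quotient_span_singleton (f g : A) (h : Function.Bijective (Phi f A)) :
    Function.Bijective (Phi f (A ⧸ Ideal.span {g})) := by
  have hr : LinearMap.range (LinearMap.mulLeft A g) = Ideal.span {g} := by
    ext x
    rw [LinearMap.mem_range, Ideal.mem_span_singleton']
    constructor
    · rintro ⟨a, rfl⟩; exact ⟨a, mul_comm _ _⟩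
    · rintro ⟨a, rfl⟩; exact ⟨a, mul_comm _ _⟩
  have := (Phi_bijective_ker_coker f (LinearMap.mulLeft A g) h h).2
  rw [hr] at this
  exact this

theorem iInf_pow_pow_eq_bot_aux (r : ℕ) : ∀ (A : Type u) [CommRing A] (s : Finset A), s.card ≤ r →
    (∀ f ∈ Ideal.span (s : Set A), Function.Bijective (Phi f A)) →
    (⨅ n : ℕ, (Ideal.span (s : Set A)) ^ n) ^ (2 ^ r) = ⊥ := by
  classical
  induction r with
  | zero =>
    intro A _ s hs _
    have : s = ∅ := Finset.card_eq_zero.mp (Nat.le_zero.mp hs)
    subst this
    rw [Finset.coe_empty, Ideal.span_empty, pow_zero, pow_one, eq_bot_iff]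
    refine (iInf_le _ 1).trans ?_
    rw [pow_one]
  | succ r ih =>
    intro A _ s hs hΦ
    rcases Nat.lt_or_ge s.card (r + 1) with hlt | hge
    · have := ih A s (Nat.lt_succ_iff.mp hlt) hΦ
      rw [pow_succ, pow_mul, this, ← Ideal.zero_eq_bot]
      exact zero_pow (by norm_num)
    · have hcard : s.card = r + 1 := le_antisymm hs hge
      obtain ⟨g, hg⟩ : s.Nonempty := Finset.card_pos.mp (by omega)
      set s' := s.erase g with hs'
      have hs'card : s'.card = r := by rw [hs', Finset.card_erase_of_mem hg, hcard]; rfl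
      have hins : s = insert g s' := (Finset.insert_erase hg).symm
      set I := Ideal.span (s : Set A) with hI
      set I' := Ideal.span (s' : Set A) with hI'
      have hII' : I = Ideal.span {g} ⊔ I' := by
        rw [hI, hins, Finset.coe_insert, Ideal.span_insert]
      set J := ⨅ n : ℕ, I ^ n with hJ
      set K : Ideal A := ⨅ n : ℕ, Ideal.span {g ^ n} with hK
      have hgI : g ∈ I := Ideal.subset_span hg
      have hKK : K * K = ⊥ := by
        have := iInf_smul_iInf_eq_bot_of_Phi_injective g A (hΦ g hgI).1
        simp only [smul_eq_mul, Ideal.mul_top] at this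
        exact this
      have hJK : J ^ (2 ^ r) ≤ K := by
        rw [hK]
        refine le_iInf fun n => ?_
        -- work in the quotient ring `A ⧸ (gⁿ)`
        let π := Ideal.Quotient.mk (Ideal.span {g ^ n})
        have hπ : Function.Surjective π := Ideal.Quotient.mk_surjective
        have hΦn : ∀ fb ∈ Ideal.span ((s'.image π : Finset _) : Set (A ⧸ Ideal.span {g ^ n})),
            Function.Bijective (Phi fb (A ⧸ Ideal.span {g ^ n})) := by
          intro fb hfb
          rw [Finset.coe_image, ← Ideal.map_span] at hfb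
          obtain ⟨f, hf, rfl⟩ := (Ideal.mem_map_iff_of_surjective π hπ).mp hfb
          have hfI : f ∈ I := by rw [hII']; exact Ideal.mem_sup_right hf
          have := Phi_bijective_quotient_span_singleton f (g ^ n) (hΦ f hfI)
          have heq : (Phi (π f) (A ⧸ Ideal.span {g ^ n}) :
              (ℕ → A ⧸ Ideal.span {g ^ n}) → (ℕ → A ⧸ Ideal.span {g ^ n})) =
              (Phi f (A ⧸ Ideal.span {g ^ n})) := by
            funext m k
            rfl
          rw [heq]
          exact this
        have hn := ih (A ⧸ Ideal.span {g ^ n}) (s'.image π)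
          (Finset.card_image_le.trans hs'card.le) hΦn
        have hJn : Ideal.map π J ≤
            ⨅ m : ℕ, (Ideal.span ((s'.image π : Finset _) : Set (A ⧸ Ideal.span {g ^ n}))) ^ m := by
          refine le_iInf fun m => ?_
          have h1 : Ideal.map π J ≤ Ideal.map π (I ^ (n + m)) := Ideal.map_mono (iInf_le _ _)
          refine h1.trans ?_
          rw [Ideal.map_pow, hII', Ideal.map_sup, Ideal.map_span, Set.image_singleton,
            Finset.coe_image, ← Ideal.map_span]
          refine Ideal.sup_pow_add_le_pow_sup_pow.trans ?_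
          rw [Ideal.span_singleton_pow, ← map_pow]
          have : π (g ^ n) = 0 :=
            Ideal.Quotient.eq_zero_iff_mem.mpr (Ideal.mem_span_singleton_self _)
          rw [this, Ideal.span_singleton_zero, bot_sup_eq]
        have h2 : Ideal.map π (J ^ (2 ^ r)) = ⊥ := by
          rw [Ideal.map_pow, eq_bot_iff, ← hn]
          exact Ideal.pow_right_mono hJn _
        intro x hx
        have : π x ∈ Ideal.map π (J ^ (2 ^ r)) := Ideal.mem_map_of_mem π hx
        rw [h2, Ideal.mem_bot] at this
        exact Ideal.Quotient.eq_zero_iff_mem.mp this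
      rw [pow_succ, pow_mul, pow_two, eq_bot_iff, ← hKK]
      exact Ideal.mul_mono hJK hJK

end Intersection

end Groth.Agent.H35
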