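import Mathlib
import Groth.Agent.H35.TorNilp

/-!
# Vanishing of `H^i(K ⊗^L N)` for modules killed by a power of an ideal (helper35)
-/

open CategoryTheory Limits MonoidalCategory

namespace Groth.Agent.H35.LT

universe u

open HomologicalComplex Groth.Agent.H35.KF DerivedCategory

attribute [local instance] HasDerivedCategory.standard

section Invariance

variable {R : Type u} [CommRing R]

/-- K-flat complexes which are isomorphic in `D(R)` have the same exactness properties after
tensoring with a module. -/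
theorem tensExactAt_iff_of_iso_Q_of_isKFlat {F F' : CochainComplex (ModuleCat.{u} R) ℤ}
    (hF : IsKFlat F) (hF' : IsKFlat F') (e : Q.obj F ≅ Q.obj F') (N : ModuleCat.{u} R) (i : ℤ) :
    TensExactAt F N i ↔ TensExactAt F' N i := by
  have := hasLTensor N
  rw [← subsingleton_HD_LTensor_iff N F hF (Q.obj F') e i,
    ← subsingleton_HD_LTensor_iff N F' hF' (Q.obj F') (Iso.refl _) i]

/-- If `P` is K-flat with `H^j(P) = 0` for `j > b`, then `H^j(P ⊗ N) = 0` for `j > b`. -/
theorem tensExactAt_of_isKFlat_of_exactAt_above (P : CochainComplex (ModuleCat.{u} R) ℤ)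
    (hP : IsKFlat P) (b : ℤ) (hb : ∀ j, b < j → P.ExactAt j) (N : ModuleCat.{u} R) (i : ℤ)
    (hi : b < i) : TensExactAt P N i := by
  obtain ⟨P₂, hP₂b, hP₂proj, ⟨e₂⟩⟩ := Groth.Agent.H35.exists_projective_rep (Q.obj P) b
    (fun n hn => isZero_homology_of_exactAt P n (hb n hn))
  have hP₂flat : ∀ i, Module.Flat R (P₂.X i) := fun i => by
    have := hP₂proj i
    infer_instance
  have hP₂K : IsKFlat P₂ := isKFlat_of_bounded_flat P₂ b hP₂b hP₂flat
  rw [← tensExactAt_iff_of_iso_Q_of_isKFlat hP₂K hP e₂ N i]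
  exact tensExactAt_of_isZero P₂ N i (hP₂b i hi)

end Invariance

section Quotient

variable {R : Type u} [CommRing R] (I : Ideal R)

/-- `R ⧸ I` as an `R`-module is the restriction of scalars of `R ⧸ I`. -/
noncomputable def BAQuotientIso :
    BA (Ideal.Quotient.mk I) ≅ ModuleCat.of R (R ⧸ I) :=
  LinearEquiv.toModuleIso
    { toFun := fun x => x
      invFun := fun x => x
      map_add' := fun _ _ => rfl
      map_smul' := fun a x => by
        obtain ⟨x, rfl⟩ := Ideal.Quotient.mk_surjective x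
        rfl
      left_inv := fun _ => rfl
      right_inv := fun _ => rfl }

/-- If `H^i(P ⊗ R/I) = 0` for `i > b` (`P` K-flat with flat terms), then `H^i(P ⊗ N) = 0` for
`i > b` and every module `N` killed by a power of `I`. -/
theorem tensExactAt_of_killed_by_pow (P : CochainComplex (ModuleCat.{u} R) ℤ) (hP : IsKFlat P)
    (hPfl : ∀ p, Module.Flat R (P.X p)) (b : ℤ)
    (h : ∀ j, b < j → TensExactAt P (ModuleCat.of R (R ⧸ I)) j)
    (n : ℕ) (N : ModuleCat.{u} R) (hN : ∀ a ∈ I ^ n, ∀ x : N, a • x = 0) (i : ℤ) (hi : b < i) :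
    TensExactAt P N i := by
  let φ := Ideal.Quotient.mk I
  have hP' : IsKFlat ((extCx φ).obj P) := Groth.Agent.H35.KFBC.isKFlat_extendScalars φ P hP
  have hex : ∀ j, b < j → ((extCx φ).obj P).ExactAt j := by
    intro j hj
    rw [exactAt_map_extendScalars_iff, tensExactAt_iff_of_iso P (BAQuotientIso I) j]
    exact h j hj
  refine induction_killed_by_pow I (fun N => ∀ i, b < i → TensExactAt P N i) ?_ ?_ n N hN i hi
  · intro N' hN' i hi
    obtain ⟨M', ⟨eM⟩⟩ := exists_restrictScalars_iso_of_killed I N' hN'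
    rw [← tensExactAt_iff_of_iso P eM i, ← tensExactAt_extCx_iff]
    exact tensExactAt_of_isKFlat_of_exactAt_above _ hP' b hex M' i hi
  · intro S hS h₁ h₃ i hi
    exact tensExactAt_of_shortExact P hPfl S hS i (h₁ i hi) (h₃ i hi)

/-- S7084: if `K ⊗^L R/I` has no cohomology in degrees `> b`, neither has `K ⊗^L N` for `N` killed
by a power of `I`. -/
theorem subsingleton_HD_LTensor_of_killed_by_pow
    [DRing.HasLTensor R (ModuleCat.of R (R ⧸ I))] (K : Dual.D R) (b : ℤ)
    (hK : ∀ i : ℤ, b < i →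
      Subsingleton (Dual.HD R ((DRing.LTensor R (ModuleCat.of R (R ⧸ I))).obj K) i))
    (N : ModuleCat.{u} R) (n : ℕ) (hN : ∀ a ∈ I ^ n, ∀ x : N, a • x = 0)
    [DRing.HasLTensor R N] (i : ℤ) (hi : b < i) :
    Subsingleton (Dual.HD R ((DRing.LTensor R N).obj K) i) := by
  obtain ⟨K', ⟨e₀⟩⟩ : ∃ K' : CochainComplex (ModuleCat.{u} R) ℤ, Nonempty (Q.obj K' ≅ K) :=
    ⟨_, ⟨Q.objObjPreimageIso K⟩⟩
  obtain ⟨P, q, hP, hPfl, hq, -⟩ := exists_isKFlat_resolution R K'
  have : IsIso (Q.map q) := (DerivedCategory.isIso_Q_map_iff_quasiIso (φ := q)).2 hq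
  let e : Q.obj P ≅ K := asIso (Q.map q) ≪≫ e₀
  rw [subsingleton_HD_LTensor_iff N P hP K e i]
  refine tensExactAt_of_killed_by_pow I P hP hPfl b ?_ n N hN i hi
  intro j hj
  rw [← subsingleton_HD_LTensor_iff _ P hP K e j]
  exact hK j hj

end Quotient

end Groth.Agent.H35.LT
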