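import Mathlib
import Groth.Agent.H35.DCTensorMain
import Groth.Agent.H35.DerNakayama

/-!
# A Tor criterion for being left orthogonal to the derived complete objects (helper35)

If `Y` is K-flat and `Y ⊗ A/(fs)` is acyclic, then `Q(Y)` has no nonzero maps to objects derived
complete with respect to `fs`.  Consequently a map of K-flat complexes which becomes a
quasi-isomorphism after `- ⊗ A/(fs)` is a local equivalence for derived complete objects.
-/

set_option autoImplicit false
set_option linter.style.haveILetI false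
universe u

open CategoryTheory CategoryTheory.Limits CategoryTheory.Pretriangulated DerivedCategory
  MonoidalCategory

attribute [local instance] HasDerivedCategory.standard

namespace Groth.Agent.H35.TorCrit

open Groth.Agent.H9.DC Groth.Agent.H35 Groth.Agent.H35.KosAbs Groth.Agent.H35.KosCrit
  Groth.Agent.H35.KF Groth.Agent.H35.LT Groth.Agent.H35.DCTensor

variable {A : Type u} [CommRing A]

lemma isZero_coneF (f : A) (Y : DRing.Cx A) (h : IsZero (Q.obj Y)) :
    IsZero (Q.obj (coneF f Y)) := by
  obtain ⟨g, h', hT⟩ := exists_triangle_coneF f Y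
  have : IsIso (f • 𝟙 (Q.obj Y)) := ⟨0, h.eq_of_src _ _, h.eq_of_src _ _⟩
  exact (Triangle.isZero₃_iff_isIso₁ _ hT).2 this

lemma isZero_Tn_kosCx (M : ModuleCat.{u} A) (fs : List A) : ∀ P : DRing.Cx A,
    IsZero (Q.obj ((Tn M).obj P)) → IsZero (Q.obj ((Tn M).obj (kosCx fs P))) := by
  induction fs with
  | nil => intro P h; exact h
  | cons f fs ih =>
    intro P h
    rw [kosCx_cons]
    apply ih
    exact (isZero_coneF f _ h).of_iso (Q.mapIso (coneFTensorIso M f P))

/-- **Tor criterion** -/
theorem leftOrth_of_isZero_tensor_quotient (fs : List A) (Y : DRing.Cx A) (hY : IsKFlat Y)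
    (h : IsZero (Q.obj ((Tn (ModuleCat.of A (A ⧸ Ideal.span {x | x ∈ fs}))).obj Y))) :
    LeftOrth fs (Q.obj Y) := by
  classical
  rw [← isZero_kosCx_iff]
  haveI : DRing.HasLTensor A (ModuleCat.of A (A ⧸ Ideal.span {x | x ∈ fs})) := hasLTensor _
  have hZ := isKFlat_kosCx fs Y hY
  have hdc : DRing.IsDerivedComplete (Ideal.span {x | x ∈ fs}) (Q.obj (kosCx fs Y)) :=
    (isDerivedComplete_iff_perpL fs _).2 (perpL_kosCx fs Y)
  have hI : (Ideal.span {x | x ∈ fs}).FG := ⟨fs.toFinset, by congr 1; ext x; simp⟩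
  apply isZero_of_isDerivedComplete_of_LTensor_quotient _ hI _ hdc
  exact (isZero_Tn_kosCx _ fs Y h).of_iso (LTensorIso _ _ hZ)

/-- a map of K-flat complexes which is a quasi-isomorphism modulo `fs` is a local equivalence -/
theorem locEq_of_isIso_tensor_quotient (fs : List A) {E₁ E₂ : DRing.Cx A} (a : E₁ ⟶ E₂)
    (h₁ : IsKFlat E₁) (h₂ : IsKFlat E₂)
    (h : IsIso (Q.map ((Tn (ModuleCat.of A (A ⧸ Ideal.span {x | x ∈ fs}))).map a))) :
    LocEq (PerpL (T := Dual.D A) fs) (Q.map a) := by
  have hT : Q.mapTriangle.obj (CochainComplex.mappingCone.triangle a) ∈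
      distTriang (Dual.D A) := by
    rw [mem_distTriang_iff]
    exact ⟨_, _, _, ⟨Iso.refl _⟩⟩
  rw [locEq_iff_leftOrth fs (Q.map a) _ _ hT]
  have hkf : IsKFlat (CochainComplex.mappingCone a) :=
    (isKFlat_mappingCone_two_of_three a).1 h₁ h₂
  apply leftOrth_of_isZero_tensor_quotient fs _ hkf
  set T := ModuleCat.of A (A ⧸ Ideal.span {x | x ∈ fs})
  have h3 : IsZero (Q.obj (CochainComplex.mappingCone ((Tn T).map a))) :=
    (Triangle.isZero₃_iff_isIso₁ _
      (DerivedCategory.mappingCone_triangle_distinguished ((Tn T).map a))).2 h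
  exact h3.of_iso (Q.mapIso (CochainComplex.mappingCone.mapHomologicalComplexIso a (tensorRight T)))

end Groth.Agent.H35.TorCrit
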