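import Mathlib
import Groth.Agent.H35.TorCrit
import Groth.Agent.H35.AdicFlat
import Groth.Agent.H9.DCF.Heart

/-!
# Derived completion of `M ⊗ N` for `M` finite and `N` flat (helper35)
-/

set_option autoImplicit false
set_option linter.style.haveILetI false
universe u

open CategoryTheory CategoryTheory.Limits CategoryTheory.Pretriangulated DerivedCategory
  MonoidalCategory TensorProduct

attribute [local instance] HasDerivedCategory.standard

namespace Groth.Agent.H35.DCFlatMain

open Groth.Agent.H9.DC Groth.Agent.H9.DCF Groth.Agent.H35 Groth.Agent.H35.KosAbs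
  Groth.Agent.H35.KosCrit Groth.Agent.H35.KF Groth.Agent.H35.LT Groth.Agent.H35.DCTensor
  Groth.Agent.H35.DCTensorMain Groth.Agent.H35.TorCrit Groth.Agent.H35.AdicFlat

variable {A : Type u} [CommRing A]

/-- a module as a complex in degree `0` -/
noncomputable abbrev sgl : ModuleCat.{u} A ⥤ DRing.Cx A :=
  HomologicalComplex.single (ModuleCat.{u} A) (ComplexShape.up ℤ) 0

lemma isKFlat_sgl (X : ModuleCat.{u} A) (hX : Module.Flat A X) : IsKFlat (sgl.obj X) := by
  refine isKFlat_of_isZero_of_isFlat _ 0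
    (fun q hq => HomologicalComplex.isZero_single_obj_X (ComplexShape.up ℤ) 0 X q hq) ?_
  exact isFlat_of_iso (HomologicalComplex.singleObjXSelf (ComplexShape.up ℤ) 0 X).symm hX

/-- tensoring a module in degree `0` -/
noncomputable def sglTensorIso (M : ModuleCat.{u} A) :
    sgl ⋙ Tn M ≅ tensorRight M ⋙ sgl :=
  HomologicalComplex.singleMapHomologicalComplex (tensorRight M) (ComplexShape.up ℤ) 0

lemma Tn_map_sgl (M : ModuleCat.{u} A) {X Y : ModuleCat.{u} A} (f : X ⟶ Y) :
    (Tn M).map (sgl.map f) =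
      (sglTensorIso M).hom.app X ≫ sgl.map (f ▷ M) ≫ (sglTensorIso M).inv.app Y := by
  have h1 : (Tn M).map (sgl.map f) ≫ (sglTensorIso M).hom.app Y =
      (sglTensorIso M).hom.app X ≫ sgl.map (f ▷ M) := (sglTensorIso M).hom.naturality f
  rw [← Category.assoc, ← h1, Category.assoc, Iso.hom_inv_id_app]
  exact (Category.comp_id _).symm

lemma sgl_map_whiskerRight (M : ModuleCat.{u} A) {X Y : ModuleCat.{u} A} (f : X ⟶ Y) :
    sgl.map (f ▷ M) =
      (sglTensorIso M).inv.app X ≫ (Tn M).map (sgl.map f) ≫ (sglTensorIso M).hom.app Y := by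
  rw [Tn_map_sgl]
  simp

section Main

variable [IsNoetherianRing A]
  (N : Type u) [AddCommGroup N] [Module A N] [Module.Flat A N]

/-- `N[0] → N^[0]` on the level of complexes -/
noncomputable def aN (I : Ideal A) :
    sgl.obj (ModuleCat.of A N) ⟶ sgl.obj (ModuleCat.of A (AdicCompletion I N)) :=
  sgl.map (ModuleCat.ofHom (AdicCompletion.of I N))

lemma isIso_whiskerRight_of (I : Ideal A) :
    IsIso ((ModuleCat.ofHom (AdicCompletion.of I N)) ▷ (ModuleCat.of A (A ⧸ I))) := by
  rw [ConcreteCategory.isIso_iff_bijective]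
  exact rTensor_of_bijective I N

theorem locEq_aN (fs : List A) :
    LocEq (PerpL (T := Dual.D A) fs) (Q.map (aN N (Ideal.span {x | x ∈ fs}))) := by
  set I := Ideal.span {x | x ∈ fs}
  haveI := flat_adicCompletion I N
  apply locEq_of_isIso_tensor_quotient fs _ (isKFlat_sgl _ inferInstance)
    (isKFlat_sgl _ inferInstance)
  unfold aN
  rw [Tn_map_sgl]
  haveI := isIso_whiskerRight_of N I
  infer_instance

variable (M : Type u) [AddCommGroup M] [Module A M] [Module.Finite A M]

theorem locEq_sgl_tensor (fs : List A) :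
    LocEq (PerpL (T := Dual.D A) fs)
      (Q.map (sgl.map ((ModuleCat.ofHom (AdicCompletion.of (Ideal.span {x | x ∈ fs}) N)) ▷
        (ModuleCat.of A M)))) := by
  set I := Ideal.span {x | x ∈ fs}
  haveI := flat_adicCompletion I N
  have h := locEq_Q_map_tensor (ModuleCat.of A M) fs (aN N I) (isKFlat_sgl _ inferInstance)
    (isKFlat_sgl _ inferInstance) (locEq_aN N fs)
  rw [sgl_map_whiskerRight, Functor.map_comp, Functor.map_comp]
  exact (LocEq.of_isIso _ _).comp (h.comp (LocEq.of_isIso _ _))

/-- the map `X[0] → X^[0]` in `D(A)`, for any module -/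
noncomputable def cX (I : Ideal A) (X : Type u) [AddCommGroup X] [Module A X] :
    Dual.inD A X ⟶ Dual.inD A (AdicCompletion I X) :=
  (DerivedCategory.singleFunctor (ModuleCat.{u} A) 0).map
    (ModuleCat.ofHom (AdicCompletion.of I X))

theorem locEq_cX_tensor (fs : List A) :
    LocEq (PerpL (T := Dual.D A) fs) (cX (Ideal.span {x | x ∈ fs}) (M ⊗[A] N)) := by
  set I := Ideal.span {x | x ∈ fs}
  let e₁ : ModuleCat.of A (M ⊗[A] N) ≅ ModuleCat.of A N ⊗ ModuleCat.of A M :=
    (TensorProduct.comm A M N).toModuleIso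
  let e₂ : ModuleCat.of A (AdicCompletion I N) ⊗ ModuleCat.of A M ≅
      ModuleCat.of A (AdicCompletion I (M ⊗[A] N)) :=
    ((TensorProduct.comm A (AdicCompletion I N) M).trans (τEquiv I N M)).toModuleIso
  have hfac : ModuleCat.ofHom (AdicCompletion.of I (M ⊗[A] N)) =
      e₁.hom ≫ ((ModuleCat.ofHom (AdicCompletion.of I N)) ▷ (ModuleCat.of A M)) ≫ e₂.hom := by
    apply ModuleCat.hom_ext
    apply TensorProduct.ext'
    intro m n
    show AdicCompletion.of I (M ⊗[A] N) (m ⊗ₜ n) =
      τEquiv I N M ((TensorProduct.comm A _ M) ((AdicCompletion.of I N n) ⊗ₜ m))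
    rw [TensorProduct.comm_tmul, τEquiv_tmul_of]
  unfold cX
  rw [hfac, Functor.map_comp, Functor.map_comp]
  refine (LocEq.of_isIso _ _).comp (LocEq.comp ?_ (LocEq.of_isIso _ _))
  exact locEq_sgl_tensor N M fs

theorem isDC_cX_tensor (I : Ideal A) : IsDC I (cX I (M ⊗[A] N)) := by
  classical
  obtain ⟨s, hs⟩ := (IsNoetherian.noetherian I : I.FG)
  have hfs : Ideal.span {x | x ∈ s.toList} = I := by
    rw [← hs]
    congr 1
    ext x
    simp
  subst hfs
  haveI : IsAdicComplete (Ideal.span {x | x ∈ s.toList})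
      (AdicCompletion (Ideal.span {x | x ∈ s.toList}) (M ⊗[A] N)) :=
    AdicCompletion.isAdicComplete (IsNoetherian.noetherian _)
  refine ⟨Groth.Agent.S7048.result _ _, ?_⟩
  intro E hE
  exact locEq_cX_tensor N M s.toList E ((isDerivedComplete_iff_perpL _ E).1 hE)

lemma complAt_cX (I : Ideal A) (X : Type u) [AddCommGroup X] [Module A X] (k : ℤ) :
    ComplAt I (cX I X) k := by
  by_cases hk : k = 0
  · subst hk
    let e := singleFunctorCompHomologyFunctorIso (ModuleCat.{u} A) 0
    have nat := e.hom.naturality (ModuleCat.ofHom (AdicCompletion.of I X))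
    refine IsComplHom.of_square (e.hom.app (ModuleCat.of A X))
      (e.hom.app (ModuleCat.of A (AdicCompletion I X))) ?_ (isComplHom_of X)
    exact nat
  · haveI := subsingleton_HD_inD (A := A) X k hk
    haveI := subsingleton_HD_inD (A := A) (AdicCompletion I X) k hk
    exact IsComplHom.of_subsingleton _

theorem PC_inD_tensor (I : Ideal A) : PC I (Dual.inD A (M ⊗[A] N)) :=
  PC_of_one _ (isDC_cX_tensor N M I) (complAt_cX I _)

end Main

end Groth.Agent.H35.DCFlatMain
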