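import Mathlib
import Groth.Agent.Lead.RegularGlDim
import Groth.Agent.H29.GlDim
import Groth.Agent.H72.LeftDerivedVanish
import Groth.Prelude.Def_DRing2

/-!
# Global dimension of regular rings of finite Krull dimension (helper35)
-/

set_option autoImplicit false
universe u
open CategoryTheory

namespace Groth.Agent.H35.RegGlDim

variable (A : Type u) [CommRing A] [IsRegularRing A]

/-- finite modules over a regular ring of dimension `≤ d` have projective dimension `≤ d` -/
theorem hasProjectiveDimensionLE_of_finite (d : ℕ) (hd : ringKrullDim A ≤ d)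
    (M : ModuleCat.{u} A) [Module.Finite A M] : HasProjectiveDimensionLE M d := by
  rw [ModuleCat.hasProjectiveDimensionLE_iff_forall_maximalSpectrum]
  intro m
  obtain ⟨e, he, -⟩ :=
    Groth.Agent.Lead.RLR.exists_ringKrullDim_eq (Localization.AtPrime m.asIdeal)
  have hle : e ≤ d := by
    have h1 : ringKrullDim (Localization.AtPrime m.asIdeal) ≤ ringKrullDim A := by
      rw [IsLocalization.AtPrime.ringKrullDim_eq_height m.asIdeal]
      exact Ideal.height_le_ringKrullDim_of_isPrime
    rw [he] at h1
    exact_mod_cast h1.trans hd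
  have h2 := Groth.Agent.Lead.RLR.hasProjectiveDimensionLT (Localization.AtPrime m.asIdeal) e he
    (M.localizedModule m.asIdeal.primeCompl)
  exact hasProjectiveDimensionLT_of_ge _ (e + 1) (d + 1) (by omega)

/-- every module over a regular ring of dimension `≤ d` has injective dimension `≤ d` -/
theorem hasInjectiveDimensionLT (d : ℕ) (hd : ringKrullDim A ≤ d) (L : ModuleCat.{u} A) :
    HasInjectiveDimensionLT L (d + 1) :=
  Groth.Agent.H29.InjDimL.hasInjectiveDimensionLT_of_ext A d L (fun I => by
    have : HasProjectiveDimensionLT (ModuleCat.of A (A ⧸ I)) (d + 1) :=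
      hasProjectiveDimensionLE_of_finite A d hd (ModuleCat.of A (A ⧸ I))
    exact HasProjectiveDimensionLT.subsingleton (ModuleCat.of A (A ⧸ I)) (d + 1) (d + 1) le_rfl L)

/-- every module over a regular ring of dimension `≤ d` has projective dimension `≤ d` -/
theorem hasProjectiveDimensionLT (d : ℕ) (hd : ringKrullDim A ≤ d) (M : ModuleCat.{u} A) :
    HasProjectiveDimensionLT M (d + 1) := by
  rw [hasProjectiveDimensionLT_iff]
  intro i hi Y e
  have := hasInjectiveDimensionLT A d hd Y
  exact e.eq_zero_of_hasInjectiveDimensionLT (d + 1) hi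

/-- every module over a regular ring of dimension `≤ d` has tor dimension `≤ d` -/
theorem hasTorDimLE (d : ℕ) (hd : ringKrullDim A ≤ d) (M : Type u) [AddCommGroup M] [Module A M] :
    DRing.HasTorDimLE A d M := by
  intro N _ _ p hp
  have := hasProjectiveDimensionLT A d hd (ModuleCat.of A N)
  exact ModuleCat.subsingleton_of_isZero
    (Groth.Agent.H72.isZero_leftDerived_of_hasProjectiveDimensionLT
      ((MonoidalCategory.tensoringLeft (ModuleCat.{u} A)).obj (ModuleCat.of A M))
      (ModuleCat.of A N) d p hp)

end Groth.Agent.H35.RegGlDim
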