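import Mathlib

/-!
# A class of modules containing `R`, closed under products and direct summands, contains all
finite projective modules (helper35)
-/

universe u

open CategoryTheory

namespace Groth.Agent.H35

variable {R : Type u} [CommRing R]

/-- A retraction `f ∘ g = id` decomposes the source of `f`. -/
noncomputable def prodKerEquivOfSection {M N : Type*} [AddCommGroup M] [Module R M]
    [AddCommGroup N] [Module R N] (f : N →ₗ[R] M) (g : M →ₗ[R] N) (hfg : f ∘ₗ g = .id) :
    (M × LinearMap.ker f) ≃ₗ[R] N where
  toFun x := g x.1 + x.2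
  map_add' x y := by simp only [Prod.fst_add, map_add, Prod.snd_add, Submodule.coe_add]; abel
  map_smul' c x := by simp
  invFun y := (f y, ⟨y - g (f y), by
    have : f (g (f y)) = f y := LinearMap.congr_fun hfg (f y)
    simp [this]⟩)
  left_inv x := by
    have h1 : f (g x.1) = x.1 := LinearMap.congr_fun hfg x.1
    have h2 : f (x.2 : N) = 0 := x.2.2
    ext
    · simp [h1, h2]
    · simp [h1, h2]
  right_inv y := by simp

/-- Closure principle for finite projective modules. -/
theorem finite_projective_closure (S : ModuleCat.{u} R → Prop)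
    (hiso : ∀ M N : ModuleCat.{u} R, (M ≅ N) → S M → S N)
    (hR : S (ModuleCat.of R R))
    (hzero : ∀ M : ModuleCat.{u} R, Subsingleton M → S M)
    (hprod : ∀ M N : ModuleCat.{u} R, S M → S N → S (ModuleCat.of R (M × N)))
    (hsummand : ∀ M N : ModuleCat.{u} R, S (ModuleCat.of R (M × N)) → S M)
    (M : ModuleCat.{u} R) [Module.Finite R M] [Module.Projective R M] : S M := by
  have hfree : ∀ n : ℕ, S (ModuleCat.of R (Fin n → R)) := by
    intro n
    induction n with
    | zero => exact hzero _ (by dsimp; infer_instance)
    | succ n ih =>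
      exact hiso _ _ (Fin.consLinearEquiv R (fun _ : Fin (n + 1) => R)).toModuleIso
        (hprod _ _ hR ih)
  obtain ⟨n, f, g, -, -, hfg⟩ := Module.Finite.exists_comp_eq_id_of_projective R M
  have e := prodKerEquivOfSection f g hfg
  have h1 : S (ModuleCat.of R (M × LinearMap.ker f)) := hiso _ _ e.toModuleIso.symm (hfree n)
  exact hsummand M (ModuleCat.of R (LinearMap.ker f)) h1

end Groth.Agent.H35
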