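import Mathlib
import Groth.Agent.H35.TorDimAmp
import Groth.Agent.H35.PerfectPC
import Groth.Agent.H35.DerHom
import Groth.Agent.H35.PerfCx
import Groth.Agent.H72.ProjOfInt

/-!
# Perfect modules and finite projective resolutions (helper35)
-/

open CategoryTheory Limits MonoidalCategory

universe u

namespace Groth.Agent.H35.KF

open HomologicalComplex DerivedCategory

attribute [local instance] HasDerivedCategory.standard

variable {R : Type u} [CommRing R]

/-- S6955, sufficiency. -/
theorem isPerfectModule_of_resolution (M : Type u) [AddCommGroup M] [Module R M]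
    (P : ProjectiveResolution (ModuleCat.of R M)) (d : ℕ)
    (hz : ∀ i : ℕ, d < i → IsZero (P.complex.X i))
    (hfin : ∀ i : ℕ, Module.Finite R (P.complex.X i)) : DRing.IsPerfectModule R M := by
  have : IsIso (Q.map P.π') := by
    rw [DerivedCategory.isIso_Q_map_iff_quasiIso (φ := P.π')]
    infer_instance
  refine ⟨P.cochainComplex, -(d : ℤ), 0, ?_, ?_, ⟨@asIso _ _ _ _ (Q.map P.π') this⟩⟩
  · intro i hi
    rcases hi with hi | hi
    · obtain ⟨k, rfl⟩ : ∃ k : ℕ, i = -(k : ℤ) := ⟨(-i).toNat, by omega⟩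
      exact IsZero.of_iso (hz k (by omega)) (P.cochainComplexXIso (-(k : ℤ)) k rfl)
    · exact CochainComplex.isZero_of_isStrictlyLE P.cochainComplex 0 i hi
  · intro i
    by_cases hi : i ≤ 0
    · obtain ⟨k, rfl⟩ : ∃ k : ℕ, i = -(k : ℤ) := ⟨(-i).toNat, by omega⟩
      have e := P.cochainComplexXIso (-(k : ℤ)) k rfl
      have := hfin k
      have hp : Projective (P.cochainComplex.X (-(k : ℤ))) := inferInstance
      exact ⟨Module.Finite.equiv e.symm.toLinearEquiv,
        (IsProjective.iff_projective (R := R) (P := P.cochainComplex.X (-(k : ℤ)))).mpr hp⟩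
    · have hzero := CochainComplex.isZero_of_isStrictlyLE P.cochainComplex 0 i (by omega)
      have : Subsingleton (P.cochainComplex.X i) := ModuleCat.subsingleton_of_isZero hzero
      exact ⟨inferInstance, inferInstance⟩

/-- a perfect module has tor amplitude in `[a, 0]` for some `a` -/
lemma exists_hasTorAmplitudeIn_zero_of_isPerfectModule (M : Type u) [AddCommGroup M] [Module R M]
    (h : DRing.IsPerfectModule R M) :
    ∃ a : ℤ, DRing.HasTorAmplitudeIn R a 0 (Dual.inD R M) := by
  obtain ⟨E₀, a, b, hE₀, hfp₀, ⟨e₀⟩⟩ := h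
  have hab : DRing.HasTorAmplitudeIn R a b (Dual.inD R M) :=
    ⟨E₀, hE₀, fun i => by
      have := (hfp₀ i).2
      infer_instance, ⟨e₀⟩⟩
  let P := projectiveResolution (ModuleCat.of R M)
  let F := P.cochainComplex
  have hc : ∀ i : ℤ, 0 < i → IsZero (F.X i) := fun i hi =>
    CochainComplex.isZero_of_isStrictlyLE F 0 i hi
  have hF : ∀ i : ℤ, Module.Flat R (F.X i) := fun i => Groth.Agent.H18.flat_of_projective _
  have : IsIso (Q.map P.π') := by
    rw [DerivedCategory.isIso_Q_map_iff_quasiIso (φ := P.π')]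
    infer_instance
  let e : Q.obj F ≅ Dual.inD R M := @asIso _ _ _ _ (Q.map P.π') this
  have hv := torVanishing_of_hasTorAmplitudeIn _ _ _ hab F 0 hc hF e
  refine ⟨a, hasTorAmplitudeIn_of_torVanishing _ _ _ F 0 hc hF e ?_⟩
  intro N i hi
  rcases hi with hi | hi
  · exact hv N i (Or.inl hi)
  · exact tensExactAt_of_isZero F N i (hc i hi)

/-- S6955, necessity. -/
theorem exists_resolution_of_isPerfectModule (M : Type u) [AddCommGroup M] [Module R M]
    (h : DRing.IsPerfectModule R M) :
    ∃ (P : ProjectiveResolution (ModuleCat.of R M)) (d : ℕ),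
      (∀ i : ℕ, d < i → IsZero (P.complex.X i)) ∧ ∀ i : ℕ, Module.Finite R (P.complex.X i) := by
  have hpc : DRing.IsPseudoCoherent' R (Dual.inD R M) := isPseudoCoherent'_of_isPerfect _ h
  obtain ⟨a, ha⟩ := exists_hasTorAmplitudeIn_zero_of_isPerfectModule M h
  obtain ⟨E, hE, hEfp, ⟨e⟩⟩ :=
    exists_finiteProjective_rep_of_isPseudoCoherent'_of_hasTorAmplitudeIn _ hpc a 0 ha
  have hLE : E.IsStrictlyLE 0 := by
    rw [CochainComplex.isStrictlyLE_iff]
    exact fun i hi => hE i (Or.inr hi)
  have hKP : E.IsKProjective :=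
    Groth.Agent.H35.isKProjective_of_vanishesAbove E 0 (fun i hi => hE i (Or.inr hi))
      (fun i => (hEfp i).2)
  obtain ⟨α, hα⟩ := Groth.Agent.H35.Q_map_surjective_of_isKProjective
    ((CochainComplex.singleFunctor (ModuleCat.{u} R) 0).obj (ModuleCat.of R M)) e.hom
  have hqi : QuasiIso α := by
    rw [← DerivedCategory.isIso_Q_map_iff_quasiIso (φ := α), hα]
    exact Iso.isIso_hom e
  have hproj : ∀ n : ℤ, Projective (E.X n) := fun n =>
    (IsProjective.iff_projective (R := R) (P := E.X n)).mp (hEfp n).2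
  refine ⟨Groth.Agent.H72.ProjOfInt.resolution E α hproj, (-a).toNat, ?_, ?_⟩
  · intro i hi
    exact hE (-(i : ℤ)) (Or.inl (by omega))
  · intro i
    exact (hEfp (-(i : ℤ))).1

end Groth.Agent.H35.KF
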