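import Mathlib
import Groth.Agent.H35.TorNilpMain

/-!
# Tor amplitude descends along surjections with nilpotent kernel (helper35)
-/

open CategoryTheory Limits MonoidalCategory

namespace Groth.Agent.H35.LT

universe u

open HomologicalComplex Groth.Agent.H35.KF DerivedCategory

attribute [local instance] HasDerivedCategory.standard

variable {R' R : Type u} [CommRing R'] [CommRing R] (φ : R' →+* R)

/-- A module killed by the kernel of a surjective ring map `φ : R' → R` is the restriction of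
scalars of an `R`-module. -/
theorem exists_restrictScalars_iso_of_killed_ker (hφ : Function.Surjective φ)
    (N : ModuleCat.{u} R') (hN : ∀ a ∈ RingHom.ker φ, ∀ x : N, a • x = 0) :
    ∃ M : ModuleCat.{u} R, Nonempty ((ModuleCat.restrictScalars φ).obj M ≅ N) := by
  obtain ⟨M₀, ⟨e₀⟩⟩ := exists_restrictScalars_iso_of_killed (RingHom.ker φ) N hN
  let ψ : R →+* R' ⧸ RingHom.ker φ := (RingHom.quotientKerEquivOfSurjective hφ).symm.toRingHom
  have hψ : Ideal.Quotient.mk (RingHom.ker φ) = ψ.comp φ := by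
    ext x
    change _ = (RingHom.quotientKerEquivOfSurjective hφ).symm (φ x)
    rw [RingEquiv.eq_symm_apply]
    rfl
  exact ⟨(ModuleCat.restrictScalars ψ).obj M₀,
    ⟨(ModuleCat.restrictScalarsComp'App φ ψ _ hψ M₀).symm ≪≫ e₀⟩⟩

/-- S6952: tor amplitude can be checked after derived base change along a surjection with
nilpotent kernel. -/
theorem hasTorAmplitudeIn_of_LBaseChange_of_nilpotent (hφ : Function.Surjective φ)
    (hnil : IsNilpotent (RingHom.ker φ)) [DRing.HasLBaseChange φ] (K' : Dual.D R') (a b : ℤ)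
    (h : DRing.HasTorAmplitudeIn R a b ((DRing.LBaseChange φ).obj K')) :
    DRing.HasTorAmplitudeIn R' a b K' := by
  have : ∀ M : ModuleCat.{u} R', DRing.HasLTensor R' M := fun M => hasLTensor M
  rw [hasTorAmplitudeIn_iff_LTensor]
  intro N i hi
  obtain ⟨K₀, ⟨e₀⟩⟩ : ∃ K₀ : CochainComplex (ModuleCat.{u} R') ℤ, Nonempty (Q.obj K₀ ≅ K') :=
    ⟨_, ⟨Q.objObjPreimageIso K'⟩⟩
  obtain ⟨P, q, hP, hPfl, hq, -⟩ := exists_isKFlat_resolution R' K₀
  have : IsIso (Q.map q) := (DerivedCategory.isIso_Q_map_iff_quasiIso (φ := q)).2 hq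
  let e : Q.obj P ≅ K' := asIso (Q.map q) ≪≫ e₀
  rw [subsingleton_HD_LTensor_iff N P hP K' e i]
  obtain ⟨n, hn⟩ := hnil
  have hP' : IsKFlat ((extCx φ).obj P) := Groth.Agent.H35.KFBC.isKFlat_extendScalars φ P hP
  obtain ⟨E, hE, hEfl, ⟨eE⟩⟩ := h
  have hEK : IsKFlat E := isKFlat_of_bounded_flat E b (fun i hi => hE i (Or.inr hi)) hEfl
  let e' : Q.obj ((extCx φ).obj P) ≅ Q.obj E :=
    (LBaseChangeIso φ P hP).symm ≪≫ (DRing.LBaseChange φ).mapIso e ≪≫ eE.symm
  refine induction_killed_by_pow (RingHom.ker φ)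
    (fun N => ∀ i, (i < a ∨ b < i) → TensExactAt P N i) ?_ ?_ n N ?_ i hi
  · intro N' hN' i hi
    obtain ⟨M', ⟨eM⟩⟩ := exists_restrictScalars_iso_of_killed_ker φ hφ N' hN'
    rw [← tensExactAt_iff_of_iso P eM i, ← tensExactAt_extCx_iff,
      tensExactAt_iff_of_iso_Q_of_isKFlat hP' hEK e' M' i]
    exact tensExactAt_of_isZero E M' i (hE i hi)
  · intro S hS h₁ h₃ i hi
    exact tensExactAt_of_shortExact P hPfl S hS i (h₁ i hi) (h₃ i hi)
  · intro a ha x
    rw [hn] at ha
    have ha0 : a = 0 := ha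
    rw [ha0, zero_smul]

end Groth.Agent.H35.LT
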