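import Mathlib
import Groth.Agent.H28.PCohLBC
import Groth.Agent.H28.PCohDescent
import Groth.Agent.H35.TorNilpAmp
import Groth.Agent.H35.RelPCLib2

/-!
# Pseudo-coherence lifts along surjections with nilpotent kernel (helper35)
-/

open CategoryTheory Limits MonoidalCategory

namespace Groth.Agent.H35.NilpPC

universe u

open HomologicalComplex Groth.Agent.H35.KF Groth.Agent.H35.LT DerivedCategory TensorProduct

attribute [local instance] HasDerivedCategory.standard

variable {R' R : Type u} [CommRing R'] [CommRing R] (φ : R' →+* R)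

/-- `R`, as an `R'`-module through a surjection `φ`, is `R' ⧸ ker φ`. -/
noncomputable def BAEquivQuotientKer (hφ : Function.Surjective φ) :
    (BA φ : Type u) ≃ₗ[R'] (R' ⧸ RingHom.ker φ) where
  toFun x := (RingHom.quotientKerEquivOfSurjective hφ).symm (show R from x)
  invFun y := RingHom.quotientKerEquivOfSurjective hφ y
  map_add' x y := map_add _ (show R from x) (show R from y)
  map_smul' a x := by
    rw [ModuleCat.restrictScalars.smul_def, RingHom.id_apply]
    change (RingHom.quotientKerEquivOfSurjective hφ).symm (φ a * (show R from x)) =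
      a • (RingHom.quotientKerEquivOfSurjective hφ).symm (show R from x)
    rw [map_mul, Algebra.smul_def]
    congr 1
    rw [RingEquiv.symm_apply_eq]
    rfl
  left_inv x := (RingHom.quotientKerEquivOfSurjective hφ).apply_symm_apply (show R from x)
  right_inv y := (RingHom.quotientKerEquivOfSurjective hφ).symm_apply_apply y

/-- If `K' ⊗^L R` has no cohomology above `b`, neither has `K'` (nilpotent kernel). -/
theorem isZero_homology_above_of_LBaseChange (hφ : Function.Surjective φ)
    (hnil : IsNilpotent (RingHom.ker φ)) [DRing.HasLBaseChange φ] (K' : Dual.D R') (b : ℤ)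
    (h : ∀ i : ℤ, b < i → IsZero ((DerivedCategory.homologyFunctor (ModuleCat.{u} R) i).obj
      ((DRing.LBaseChange φ).obj K'))) :
    ∀ i : ℤ, b < i → IsZero ((DerivedCategory.homologyFunctor (ModuleCat.{u} R') i).obj K') := by
  obtain ⟨K₀, ⟨e₀⟩⟩ : ∃ K₀ : CochainComplex (ModuleCat.{u} R') ℤ, Nonempty (Q.obj K₀ ≅ K') :=
    ⟨_, ⟨Q.objObjPreimageIso K'⟩⟩
  obtain ⟨P, q, hP, hPfl, hq, -⟩ := exists_isKFlat_resolution R' K₀
  have : IsIso (Q.map q) := (DerivedCategory.isIso_Q_map_iff_quasiIso (φ := q)).2 hq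
  let e : Q.obj P ≅ K' := asIso (Q.map q) ≪≫ e₀
  obtain ⟨n, hn⟩ := hnil
  have hquot : ∀ j, b < j → TensExactAt P (ModuleCat.of R' (R' ⧸ RingHom.ker φ)) j := by
    intro j hj
    rw [← tensExactAt_iff_of_iso P (BAEquivQuotientKer φ hφ).toModuleIso j,
      ← exactAt_map_extendScalars_iff, exactAt_iff_isZero_homology]
    refine IsZero.of_iso (h j hj) ?_
    exact ((DerivedCategory.homologyFunctorFactors (ModuleCat.{u} R) j).app _).symm ≪≫
      (DerivedCategory.homologyFunctor (ModuleCat.{u} R) j).mapIso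
        ((LBaseChangeIso φ P hP).symm ≪≫ (DRing.LBaseChange φ).mapIso e)
  intro i hi
  have h1 : TensExactAt P (𝟙_ (ModuleCat.{u} R')) i := by
    refine tensExactAt_of_killed_by_pow (RingHom.ker φ) P hP hPfl b hquot n _ ?_ i hi
    intro a ha x
    rw [hn] at ha
    have ha0 : a = 0 := ha
    rw [ha0, zero_smul]
  exact (isZero_homology_of_exactAt P i (exactAt_of_tensExactAt_unit P i h1)).of_iso
    ((DerivedCategory.homologyFunctor (ModuleCat.{u} R') i).mapIso e.symm)

/-- Nakayama's lemma for nilpotent ideals (no finiteness hypothesis). -/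
lemma eq_top_of_sup_smul_eq_top_of_isNilpotent {M : Type u} [AddCommGroup M] [Module R' M]
    (I : Ideal R') (hI : IsNilpotent I) (N : Submodule R' M)
    (h : N ⊔ I • (⊤ : Submodule R' M) = ⊤) : N = ⊤ := by
  obtain ⟨n, hn⟩ := hI
  have key : ∀ k : ℕ, N ⊔ (I ^ k) • (⊤ : Submodule R' M) = ⊤ := by
    intro k
    induction k with
    | zero => simp
    | succ k ih =>
      rw [eq_top_iff]
      calc (⊤ : Submodule R' M) = N ⊔ I • (⊤ : Submodule R' M) := h.symm
        _ = N ⊔ I • (N ⊔ (I ^ k) • (⊤ : Submodule R' M)) := by rw [ih]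
        _ = N ⊔ (I • N ⊔ I • ((I ^ k) • (⊤ : Submodule R' M))) := by rw [Submodule.smul_sup]
        _ ≤ N ⊔ (I ^ (k + 1)) • (⊤ : Submodule R' M) := by
          refine sup_le le_sup_left (sup_le ?_ ?_)
          · exact le_trans Submodule.smul_le_right le_sup_left
          · rw [← Submodule.mul_smul, ← pow_succ']
            exact le_sup_right
  have := key n
  rw [hn] at this
  simpa using this

lemma restrictExt_smul (M : ModuleCat.{u} R') (a : R')
    (x : ((ModuleCat.extendScalars.{u, u, u} φ).obj M)) :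
    HSMul.hSMul (α := R) (β := ((ModuleCat.extendScalars.{u, u, u} φ).obj M)) (φ a) x =
      a • (show (BA φ : Type u) ⊗[R'] (M : Type u) from x) := by
  refine TensorProduct.induction_on
    (motive := fun x => HSMul.hSMul (α := R)
      (β := ((ModuleCat.extendScalars.{u, u, u} φ).obj M)) (φ a) x =
        a • (show (BA φ : Type u) ⊗[R'] (M : Type u) from x)) x ?_ ?_ ?_
  · have h0 : HSMul.hSMul (α := R) (β := ((ModuleCat.extendScalars.{u, u, u} φ).obj M)) (φ a) 0
        = 0 := smul_zero (φ a)
    rw [smul_zero]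
    exact h0
  · intro b m
    rw [TensorProduct.smul_tmul']
    rfl
  · intro x y hx hy
    have h0 : HSMul.hSMul (α := R) (β := ((ModuleCat.extendScalars.{u, u, u} φ).obj M)) (φ a)
        (x + y) = HSMul.hSMul (α := R) (β := ((ModuleCat.extendScalars.{u, u, u} φ).obj M)) (φ a) x
          + HSMul.hSMul (α := R) (β := ((ModuleCat.extendScalars.{u, u, u} φ).obj M)) (φ a) y :=
      smul_add (φ a) _ _
    rw [smul_add, ← hx, ← hy]
    exact h0

/-- The underlying `R'`-module of `R ⊗_{R'} M`. -/
noncomputable def restrictExtEquiv (M : ModuleCat.{u} R') :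
    ((ModuleCat.restrictScalars φ).obj ((ModuleCat.extendScalars.{u, u, u} φ).obj M)) ≃ₗ[R']
      ((BA φ : Type u) ⊗[R'] (M : Type u)) where
  toFun x := x
  invFun x := x
  map_add' _ _ := rfl
  map_smul' a x := by
    rw [ModuleCat.restrictScalars.smul_def, RingHom.id_apply]
    exact restrictExt_smul φ M a x
  left_inv _ := rfl
  right_inv _ := rfl

/-- Finiteness descends along a surjection with nilpotent kernel. -/
theorem finite_of_finite_extendScalars (hφ : Function.Surjective φ)
    (hnil : IsNilpotent (RingHom.ker φ)) (M : ModuleCat.{u} R')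
    (h : Module.Finite R ((ModuleCat.extendScalars.{u, u, u} φ).obj M)) : Module.Finite R' M := by
  have h1 : Module.Finite R' ((ModuleCat.restrictScalars φ).obj
      ((ModuleCat.extendScalars.{u, u, u} φ).obj M)) :=
    Groth.Agent.H35.RelPC.finite_restrict_of_surjective φ hφ _ h
  have h2 : Module.Finite R' ((BA φ : Type u) ⊗[R'] (M : Type u)) :=
    Module.Finite.equiv (restrictExtEquiv φ M)
  have h3 : Module.Finite R' ((R' ⧸ RingHom.ker φ) ⊗[R'] (M : Type u)) :=
    Module.Finite.equiv (TensorProduct.congr (BAEquivQuotientKer φ hφ) (LinearEquiv.refl R' M))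
  have h4 : Module.Finite R' ((M : Type u) ⧸ (RingHom.ker φ) • (⊤ : Submodule R' M)) :=
    Module.Finite.equiv (TensorProduct.quotTensorEquivQuotSMul M (RingHom.ker φ))
  obtain ⟨n, f, hf⟩ := Module.Finite.exists_fin' R'
    ((M : Type u) ⧸ (RingHom.ker φ) • (⊤ : Submodule R' M))
  have hm : ∀ i : Fin n, ∃ m : M, Submodule.Quotient.mk m = f (Pi.single i 1) := fun i =>
    Submodule.Quotient.mk_surjective _ _
  choose m hm using hm
  let N : Submodule R' M := Submodule.span R' (Set.range m)
  have hN : N ⊔ (RingHom.ker φ) • (⊤ : Submodule R' M) = ⊤ := by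
    rw [eq_top_iff]
    intro x _
    obtain ⟨c, hc⟩ := hf (Submodule.Quotient.mk x)
    have hc' : c = ∑ i, c i • (Pi.single i (1 : R') : Fin n → R') := by
      ext j
      simp [Finset.sum_apply, Pi.single_apply]
    have hfc : f c = ∑ i, c i • f (Pi.single i 1) := by
      conv_lhs => rw [hc']
      rw [map_sum]
      exact Finset.sum_congr rfl (fun i _ => map_smul _ _ _)
    have hx : Submodule.Quotient.mk (p := (RingHom.ker φ) • (⊤ : Submodule R' M)) x =
        Submodule.Quotient.mk (∑ i, c i • m i) := by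
      rw [← hc, hfc, ← Submodule.mkQ_apply, map_sum]
      refine Finset.sum_congr rfl (fun i _ => ?_)
      rw [map_smul, Submodule.mkQ_apply, hm]
    have hx' : x - ∑ i, c i • m i ∈ (RingHom.ker φ) • (⊤ : Submodule R' M) :=
      (Submodule.Quotient.eq _).1 hx
    have : x = (∑ i, c i • m i) + (x - ∑ i, c i • m i) := by abel
    rw [this]
    refine Submodule.add_mem_sup ?_ hx'
    exact Submodule.sum_mem _ (fun i _ => Submodule.smul_mem _ _
      (Submodule.subset_span (Set.mem_range_self i)))
  have hNtop : N = ⊤ := eq_top_of_sup_smul_eq_top_of_isNilpotent _ hnil N hN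
  exact ⟨by rw [← hNtop]; exact Submodule.fg_span (Set.finite_range m)⟩

section TopHomology

variable {C D : Type*} [Category C] [Abelian C] [Category D] [Abelian D]
  (F : C ⥤ D) [F.Additive] [PreservesFiniteColimits F]

/-- A right exact functor commutes with the top cohomology of a complex. -/
noncomputable def mapHomologyTopIso (P : CochainComplex C ℤ) (n : ℤ) (hP : IsZero (P.X (n + 1))) :
    ((F.mapHomologicalComplex (ComplexShape.up ℤ)).obj P).homology n ≅ F.obj (P.homology n) := by
  have h0 : P.d n (n + 1) = 0 := hP.eq_of_tgt _ _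
  have h0' : ((F.mapHomologicalComplex (ComplexShape.up ℤ)).obj P).d n (n + 1) = 0 := by
    change F.map (P.d n (n + 1)) = 0
    rw [h0, F.map_zero]
  let iso1 := ((F.mapHomologicalComplex (ComplexShape.up ℤ)).obj P).isoHomologyι n (n + 1)
    (by simp) h0'
  let iso2 : ((F.mapHomologicalComplex (ComplexShape.up ℤ)).obj P).opcycles n ≅
      F.obj (P.opcycles n) :=
    IsColimit.coconePointUniqueUpToIso
      (((F.mapHomologicalComplex (ComplexShape.up ℤ)).obj P).opcyclesIsCokernel (n - 1) n (by simp))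
      (CokernelCofork.mapIsColimit _ (P.opcyclesIsCokernel (n - 1) n (by simp)) F)
  let iso3 := F.mapIso (P.isoHomologyι n (n + 1) (by simp) h0).symm
  exact iso1 ≪≫ iso2 ≪≫ iso3

end TopHomology

section Main

open Groth.Agent.H28 Groth.Agent.H28.PCohCore Groth.Agent.H28.PCohDer Groth.Agent.H28.PCohSum
  Groth.Agent.H28.PCohDev Groth.Agent.H28.PCohSES Groth.Agent.H28.PCohTri
  Groth.Agent.H28.PCohRing Groth.Agent.H28.PCohDescent

/-- The top cohomology of `X` is finite when `X ⊗^L R` is `n`-pseudo-coherent. -/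
theorem finite_homology_top_of_isNPC_LBaseChange (hφ : Function.Surjective φ)
    (hnil : IsNilpotent (RingHom.ker φ)) [DRing.HasLBaseChange φ] (n : ℤ) (X : Dual.D R')
    (hac : ∀ i : ℤ, n < i →
      IsZero ((DerivedCategory.homologyFunctor (ModuleCat.{u} R') i).obj X))
    (hQ : IsNPC (finFree R) n ((DRing.LBaseChange φ).obj X)) :
    PCoh.IsOfFiniteType (finFree R')
      ((DerivedCategory.homologyFunctor (ModuleCat.{u} R') n).obj X) := by
  obtain ⟨P, hPb, hproj, ⟨e⟩⟩ := Groth.Agent.H35.exists_projective_rep X n hac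
  have hPfl : ∀ i, Module.Flat R' (P.X i) := fun i => by
    have := hproj i
    infer_instance
  have hPK : IsKFlat P := isKFlat_of_bounded_flat P n hPb hPfl
  let eY : (DRing.LBaseChange φ).obj X ≅ Q.obj ((extCx φ).obj P) :=
    (DRing.LBaseChange φ).mapIso e.symm ≪≫ LBaseChangeIso φ P hPK
  have hacY : ∀ i : ℤ, n < i → IsZero ((DerivedCategory.homologyFunctor (ModuleCat.{u} R) i).obj
      ((DRing.LBaseChange φ).obj X)) := by
    intro i hi
    refine IsZero.of_iso ?_ ((DerivedCategory.homologyFunctor (ModuleCat.{u} R) i).mapIso eY)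
    refine isZero_homology_of_exactAt _ i (HomologicalComplex.ExactAt.of_isZero ?_)
    exact (ModuleCat.extendScalars.{u, u, u} φ).map_isZero (hPb i hi)
  have h1 := isOfFiniteType_homology_of_isNPC (finFree R) (hqs_finFree R) n _ hacY hQ
  rw [isOfFiniteType_finFree_iff] at h1 ⊢
  let e2 : (DerivedCategory.homologyFunctor (ModuleCat.{u} R) n).obj
      ((DRing.LBaseChange φ).obj X) ≅
      (ModuleCat.extendScalars.{u, u, u} φ).obj (P.homology n) :=
    (DerivedCategory.homologyFunctor (ModuleCat.{u} R) n).mapIso eY ≪≫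
      (DerivedCategory.homologyFunctorFactors (ModuleCat.{u} R) n).app _ ≪≫
      mapHomologyTopIso (ModuleCat.extendScalars.{u, u, u} φ) P n (hPb (n + 1) (by omega))
  have h2 : Module.Finite R ((ModuleCat.extendScalars.{u, u, u} φ).obj (P.homology n)) :=
    Module.Finite.equiv e2.toLinearEquiv
  have h3 : Module.Finite R' (P.homology n) := finite_of_finite_extendScalars φ hφ hnil _ h2
  let e3 : P.homology n ≅ (DerivedCategory.homologyFunctor (ModuleCat.{u} R') n).obj X :=
    ((DerivedCategory.homologyFunctorFactors (ModuleCat.{u} R') n).app P).symm ≪≫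
      (DerivedCategory.homologyFunctor (ModuleCat.{u} R') n).mapIso e
  exact Module.Finite.equiv e3.toLinearEquiv

/-- `m`-pseudo-coherence lifts along a surjection with nilpotent kernel. -/
theorem isNPC_of_isNPC_LBaseChange (hφ : Function.Surjective φ)
    (hnil : IsNilpotent (RingHom.ker φ)) [DRing.HasLBaseChange φ] (m : ℤ) (K' : Dual.D R')
    (h : IsNPC (finFree R) m ((DRing.LBaseChange φ).obj K')) : IsNPC (finFree R') m K' := by
  obtain ⟨E, ⟨⟨b, hb⟩, -⟩, ⟨e⟩⟩ := id h
  have hacY : ∀ i : ℤ, b < i → IsZero ((DerivedCategory.homologyFunctor (ModuleCat.{u} R) i).obj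
      ((DRing.LBaseChange φ).obj K')) := by
    intro i hi
    refine IsZero.of_iso ?_ ((DerivedCategory.homologyFunctor (ModuleCat.{u} R) i).mapIso e.symm)
    exact isZero_homology_of_exactAt _ i (HomologicalComplex.ExactAt.of_isZero (hb i hi))
  have hac := isZero_homology_above_of_LBaseChange φ hφ hnil K' b hacY
  refine isNPC_of_descent (finFree R') (hql_finFree R') (finFree_prod R') (hqs_finFree R')
    (fun k Y => IsNPC (finFree R) k ((DRing.LBaseChange φ).obj Y)) ?_ ?_ ?_ ?_
    (b - m + 1).toNat m b K' (by omega) hac h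
  · intro k k' Y hk hY
    exact PCohFun.isNPC_of_le (finFree R) hk hY
  · intro k T hT h₁ h₂
    obtain ⟨T', hT', ⟨e₁⟩, ⟨e₂⟩, ⟨e₃⟩⟩ := Groth.Agent.H28.LDerivTri.exists_distTriang (hyp R')
      (ModuleCat.extendScalars.{u, u, u} φ) (kfAcyclic_extendScalars φ) _ hT
    exact IsNPC.of_iso _ (isNPC_obj₃ _ (hql_finFree R) (finFree_prod R) (hqs_finFree R) T' hT'
      (IsNPC.of_iso _ h₁ e₁.symm) (IsNPC.of_iso _ h₂ e₂.symm)) e₃
  · intro k E' a' b' hE' hP'
    exact Groth.Agent.H28.PCohLBC.isNPC_LBaseChange_of_bounded φ E' b'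
      (fun i hi => hE' i (Or.inr hi)) hP' k
  · intro n Y hY hQ
    exact finite_homology_top_of_isNPC_LBaseChange φ hφ hnil n Y hY hQ

/-- S6971 -/
theorem isPseudoCoherent'_LBaseChange_iff (hφ : Function.Surjective φ)
    (hnil : IsNilpotent (RingHom.ker φ)) [DRing.HasLBaseChange φ] (K' : Dual.D R') :
    DRing.IsPseudoCoherent' R ((DRing.LBaseChange φ).obj K') ↔ DRing.IsPseudoCoherent' R' K' := by
  constructor
  · intro h
    rw [isPseudoCoherent'_iff] at h ⊢
    exact fun m => isNPC_of_isNPC_LBaseChange φ hφ hnil m K' (h m)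
  · exact isPseudoCoherent'_LBaseChange φ K'

end Main

end Groth.Agent.H35.NilpPC
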