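import Mathlib
import Groth.Agent.H35.TensorTerms
import Groth.Agent.H35.PerfectPC
import Groth.Prelude.Def_DualSh

/-!
# Relative perfectness and tensor products with perfect complexes (helper35)
-/

open CategoryTheory Limits MonoidalCategory

universe u

namespace Groth.Agent.H35.LT

open HomologicalComplex Groth.Agent.H35.KF Groth.Agent.H35.KFBC DerivedCategory

attribute [local instance] HasDerivedCategory.standard

section Core

variable {A B : Type u} [CommRing A] [CommRing B] [Algebra A B]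

/-- Tor amplitude over `A` of `E ⊗_B L` for `E` a bounded complex of flat `B`-modules. -/
theorem hasTorAmplitudeIn_resL_tensor (E : DRing.Cx B) (a b : ℤ) (hE : DRing.VanishesOutside E a b)
    (hEfl : ∀ i : ℤ, Module.Flat B (E.X i)) (L : DRing.Cx B) (c d : ℤ)
    (hL : DRing.HasTorAmplitudeIn A c d (Q.obj (resL (algebraMap A B) L))) :
    DRing.HasTorAmplitudeIn A (a + c) (b + d) (Q.obj (resL (algebraMap A B) (E ⊗ L))) := by
  have hEK : IsKFlat E := isKFlat_of_bounded_flat E b (fun i hi => hE i (Or.inr hi)) hEfl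
  rw [hasTorAmplitudeIn_Q_iff]
  intro N G hG g hg i hi
  rw [← exactAt_iff_of_iso' (restrictTensorIso (algebraMap A B) (E ⊗ L) G) i,
    exactAt_map_restrictScalars_iff,
    exactAt_iff_of_iso' (α_ E L (extK (algebraMap A B) G)) i]
  have hY : ∀ j : ℤ, (j < c ∨ d < j) → (L ⊗ extK (algebraMap A B) G).ExactAt j := by
    intro j hj
    rw [← exactAt_map_restrictScalars_iff (algebraMap A B),
      exactAt_iff_of_iso' (restrictTensorIso (algebraMap A B) L G) j]
    exact (hasTorAmplitudeIn_Q_iff _ _ _).1 hL N G hG g hg j hj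
  have h1 : (L ⊗ extK (algebraMap A B) G).IsGE c :=
    (CochainComplex.isGE_iff _ _).2 (fun j hj => hY j (Or.inl hj))
  have h2 : (L ⊗ extK (algebraMap A B) G).IsLE d :=
    (CochainComplex.isLE_iff _ _).2 (fun j hj => hY j (Or.inr hj))
  rcases hi with hi | hi
  · exact exactAt_tensor_of_lt E _ hEK a c (fun p hp => hE p (Or.inl hp)) i hi
  · exact exactAt_tensor_of_gt E _ hEK b d (fun p hp => hE p (Or.inr hp)) i hi

end Core

section RelPerfect

variable (R A : Type u) [CommRing R] [CommRing A] [Algebra R A]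

/-- S7102 -/
theorem isRelPerfect_LTensorCx_of_isPerfect (E : DRing.Cx A) (a b : ℤ)
    (hEb : DRing.VanishesOutside E a b) (hEp : DRing.TermwiseFiniteProjective E)
    [DRing.HasLTensorCx A E] (M : Dual.D A) (hM : Dual2.IsRelPerfect R A M) :
    Dual2.IsRelPerfect R A ((DRing.LTensorCx A E).obj M) := by
  obtain ⟨hpc, c, d, hcd⟩ := hM
  have hEperf : DRing.IsPerfect A (DRing.toD E) := ⟨E, a, b, hEb, hEp, ⟨Iso.refl _⟩⟩
  refine ⟨isPseudoCoherent'_LTensorCx M hpc E (isPseudoCoherent'_of_isPerfect _ hEperf),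
    a + c, b + d, ?_⟩
  obtain ⟨F, q, hF, -, hq, -⟩ := exists_isKFlat_resolution A (Q.objPreimage M)
  have : IsIso (Q.map q) := (DerivedCategory.isIso_Q_map_iff_quasiIso (φ := q)).2 hq
  let e₀ : Q.obj F ≅ M := asIso (Q.map q) ≪≫ Q.objObjPreimageIso M
  have hL : DRing.HasTorAmplitudeIn R c d (Q.obj (resL (algebraMap R A) F)) :=
    hasTorAmplitudeIn_of_iso
      ((DRing.restrictD (algebraMap R A)).mapIso e₀.symm ≪≫
        (ModuleCat.restrictScalars (algebraMap R A)).mapDerivedCategoryFactors.app F) _ _ hcd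
  have hEfl : ∀ i : ℤ, Module.Flat A (E.X i) := fun i => by
    have := (hEp i).2
    infer_instance
  have key := hasTorAmplitudeIn_resL_tensor (A := R) (B := A) E a b hEb hEfl F c d hL
  let iso : Q.obj (resL (algebraMap R A) (E ⊗ F)) ≅
      (DRing.restrictD (algebraMap R A)).obj ((DRing.LTensorCx A E).obj M) :=
    ((ModuleCat.restrictScalars (algebraMap R A)).mapDerivedCategoryFactors.app (E ⊗ F)).symm ≪≫
      (DRing.restrictD (algebraMap R A)).mapIso
        (Q.mapIso (tensorSwapIso E F) ≪≫ (LTensorCxIso E F hF).symm ≪≫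
          (DRing.LTensorCx A E).mapIso e₀)
  exact hasTorAmplitudeIn_of_iso iso _ _ key

end RelPerfect

end Groth.Agent.H35.LT
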