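import Mathlib
import Groth.Agent.H35.RelPerfectTensor
import Groth.Agent.H35.RelPC

/-!
# Tor amplitude over a base and faithfully flat base change of the algebra (helper35)
-/

open CategoryTheory Limits MonoidalCategory

universe u

namespace Groth.Agent.H35.LT

open HomologicalComplex Groth.Agent.H35.KF Groth.Agent.H35.KFBC DerivedCategory

attribute [local instance] HasDerivedCategory.standard

section FFlat

variable {A B : Type u} [CommRing A] [CommRing B] [Algebra A B]

lemma exactAt_extK_iff_of_faithfullyFlat [Module.FaithfullyFlat A B]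
    (P : CochainComplex (ModuleCat.{u} A) ℤ) (i : ℤ) :
    (extK (algebraMap A B) P).ExactAt i ↔ P.ExactAt i := by
  rw [exactAt_map_extendScalars_iff,
    tensExactAt_iff_of_iso P (Groth.Agent.H28.PCohRestrict.algebraRestrictIso A B).symm i,
    tensExactAt_iff_function_exact P B (i - 1) i (i + 1) (by simp) (by simp),
    Module.FaithfullyFlat.rTensor_exact_iff_exact (R := A) (M := B),
    exactAt_iff' P (i - 1) i (i + 1) (by simp) (by simp)]
  exact (ShortComplex.ShortExact.moduleCat_exact_iff_function_exact (P.sc' (i - 1) i (i + 1))).symm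

/-- `restrict (B ⊗_A F) ≅ B[0] ⊗_A F` as complexes of `A`-modules. -/
noncomputable def resLExtKIso (F : CochainComplex (ModuleCat.{u} A) ℤ) :
    resL (algebraMap A B) (extK (algebraMap A B) F) ≅ sgl (BA (algebraMap A B)) ⊗ F :=
  ((ModuleCat.restrictScalars (algebraMap A B)).mapHomologicalComplex (ComplexShape.up ℤ)).mapIso
      (λ_ (extK (algebraMap A B) F)).symm ≪≫
    restrictTensorIso (algebraMap A B) (𝟙_ _) F ≪≫
    whiskerRightIso ((HomologicalComplex.singleMapHomologicalComplex
      (ModuleCat.restrictScalars (algebraMap A B)) (ComplexShape.up ℤ) 0).app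
        (ModuleCat.of B B)) F

end FFlat

section Main

variable {R A B : Type u} [CommRing R] [CommRing A] [CommRing B] [Algebra R A] [Algebra A B]
  [Algebra R B] [IsScalarTower R A B]

/-- the comparison of exactness used in S6951 -/
lemma exactAt_resL_tensor_iff [Module.FaithfullyFlat A B]
    (F : CochainComplex (ModuleCat.{u} A) ℤ) (G : CochainComplex (ModuleCat.{u} R) ℤ) (i : ℤ) :
    (resL (algebraMap R A) F ⊗ G).ExactAt i ↔
      (resL (algebraMap R A) (sgl (BA (algebraMap A B)) ⊗ F) ⊗ G).ExactAt i := by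
  rw [← exactAt_iff_of_iso' (restrictTensorIso (algebraMap R A) F G) i,
    exactAt_map_restrictScalars_iff,
    ← exactAt_iff_of_iso' (restrictTensorIso (algebraMap R A)
      (sgl (BA (algebraMap A B)) ⊗ F) G) i,
    exactAt_map_restrictScalars_iff,
    exactAt_iff_of_iso' (α_ (sgl (BA (algebraMap A B))) F (extK (algebraMap R A) G)) i,
    exactAt_iff_of_iso' (tensorSwapIso (sgl (BA (algebraMap A B)))
      (F ⊗ extK (algebraMap R A) G)) i,
    exactAt_tensor_sgl_iff, ← exactAt_map_extendScalars_iff,
    exactAt_extK_iff_of_faithfullyFlat]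

/-- S6951 -/
theorem hasTorAmplitudeIn_restrict_iff_restrict_LBaseChange [Module.FaithfullyFlat A B]
    [DRing.HasLBaseChange (algebraMap A B)] (K : Dual.D A) (a b : ℤ) :
    DRing.HasTorAmplitudeIn R a b ((DRing.restrictD (algebraMap R A)).obj K) ↔
      DRing.HasTorAmplitudeIn R a b ((DRing.restrictD (algebraMap R B)).obj
        ((DRing.LBaseChange (algebraMap A B)).obj K)) := by
  obtain ⟨F, q, hF, -, hq, -⟩ := exists_isKFlat_resolution A (Q.objPreimage K)
  have : IsIso (Q.map q) := (DerivedCategory.isIso_Q_map_iff_quasiIso (φ := q)).2 hq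
  let e₀ : Q.obj F ≅ K := asIso (Q.map q) ≪≫ Q.objObjPreimageIso K
  let Y := sgl (BA (algebraMap A B)) ⊗ F
  let iso1 : Q.obj (resL (algebraMap R A) F) ≅ (DRing.restrictD (algebraMap R A)).obj K :=
    ((ModuleCat.restrictScalars (algebraMap R A)).mapDerivedCategoryFactors.app F).symm ≪≫
      (DRing.restrictD (algebraMap R A)).mapIso e₀
  obtain ⟨c⟩ := Groth.Agent.H35.RelPC.nonempty_restrictD_comp_iso (algebraMap R A)
    (algebraMap A B) (algebraMap R B) (IsScalarTower.algebraMap_eq R A B)
    ((DRing.LBaseChange (algebraMap A B)).obj K)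
  let iso2 : Q.obj (resL (algebraMap R A) Y) ≅
      (DRing.restrictD (algebraMap R B)).obj ((DRing.LBaseChange (algebraMap A B)).obj K) :=
    ((ModuleCat.restrictScalars (algebraMap R A)).mapDerivedCategoryFactors.app Y).symm ≪≫
      (DRing.restrictD (algebraMap R A)).mapIso
        (Q.mapIso (resLExtKIso F).symm ≪≫
          ((ModuleCat.restrictScalars (algebraMap A B)).mapDerivedCategoryFactors.app
            (extK (algebraMap A B) F)).symm ≪≫
          (DRing.restrictD (algebraMap A B)).mapIso
            ((LBaseChangeIso (algebraMap A B) F hF).symm ≪≫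
              (DRing.LBaseChange (algebraMap A B)).mapIso e₀)) ≪≫ c.symm
  have h1 : DRing.HasTorAmplitudeIn R a b ((DRing.restrictD (algebraMap R A)).obj K) ↔
      DRing.HasTorAmplitudeIn R a b (Q.obj (resL (algebraMap R A) F)) :=
    ⟨fun h => hasTorAmplitudeIn_of_iso iso1.symm _ _ h,
      fun h => hasTorAmplitudeIn_of_iso iso1 _ _ h⟩
  have h2 : DRing.HasTorAmplitudeIn R a b ((DRing.restrictD (algebraMap R B)).obj
        ((DRing.LBaseChange (algebraMap A B)).obj K)) ↔
      DRing.HasTorAmplitudeIn R a b (Q.obj (resL (algebraMap R A) Y)) :=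
    ⟨fun h => hasTorAmplitudeIn_of_iso iso2.symm _ _ h,
      fun h => hasTorAmplitudeIn_of_iso iso2 _ _ h⟩
  rw [h1, h2, hasTorAmplitudeIn_Q_iff, hasTorAmplitudeIn_Q_iff]
  constructor
  · intro h N G hG g hg i hi
    exact (exactAt_resL_tensor_iff (B := B) F G i).1 (h N G hG g hg i hi)
  · intro h N G hG g hg i hi
    exact (exactAt_resL_tensor_iff (B := B) F G i).2 (h N G hG g hg i hi)

end Main

end Groth.Agent.H35.LT
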