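import Mathlib
import Groth.Agent.H35.PCMorLocal
import Groth.Agent.S7071

/-!
# Pseudo-coherent finite ring maps and finite morphisms (helper35)
-/

set_option autoImplicit false

open CategoryTheory Limits AlgebraicGeometry

namespace Groth.Agent.H35.PCHomLocal

universe u

open Groth.Agent.H28 Groth.Agent.H28.PCohCore Groth.Agent.H28.PCohDer
  Groth.Agent.H28.PCohRing DerivedCategory Groth.Agent.H35.RelPC Groth.Agent.H35.PolyTor

attribute [local instance] HasDerivedCategory.standard

/-- For a finite ring map `A → B`: it is pseudo-coherent iff `B` is a pseudo-coherent `A`-module. -/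
theorem isPseudoCoherentHom_iff_of_finite (A B : Type u) [CommRing A] [CommRing B] [Algebra A B]
    [Module.Finite A B] :
    MoreMor.IsPseudoCoherentHom A B ↔ DRing.IsPseudoCoherentModule' A B := by
  have hAA : MoreMor.IsPseudoCoherentHom A A :=
    (isPseudoCoherentHom_iff A A).2 (pcAlg_of_bijective Function.bijective_id)
  have key : ∀ m : ℤ, DerCA.IsRelPseudoCoherent A B m (Dual.inD B B) ↔
      IsNPC (finFree A) m (Dual.inD A B) := by
    intro m
    rw [isRelPseudoCoherent_iff_restrict_of_finite (R := A) (A := A) (B := B)]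
    have h1 : DerCA.IsRelPseudoCoherent A A m
        ((DRing.restrictD (algebraMap A B)).obj (Dual.inD B B)) ↔
        DerCA.IsRelPseudoCoherent A A m (Dual.inD A B) :=
      ⟨isRelPseudoCoherent_of_iso (restrictInDIso A B) m,
        isRelPseudoCoherent_of_iso (restrictInDIso A B).symm m⟩
    rw [h1, Groth.Agent.S7071.result A A hAA m, isPseudoCoherent_iff_isNPC]
  rw [isPseudoCoherentHom_iff]
  change (∀ m : ℤ, DerCA.IsRelPseudoCoherent A B m (Dual.inD B B)) ↔
    DRing.IsPseudoCoherent' A (Dual.inD A B)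
  rw [isPseudoCoherent'_iff]
  exact forall_congr' key

/-- S7170 -/
theorem isPseudoCoherentMor_iff_of_isFinite {X S : Scheme.{u}} (f : X ⟶ S) [IsFinite f] :
    MoreMor.IsPseudoCoherentMor f ↔ ∀ (V : S.Opens), IsAffineOpen V →
      (letI := (f.app V).hom.toAlgebra
       DRing.IsPseudoCoherentModule' Γ(S, V) Γ(X, f ⁻¹ᵁ V)) := by
  constructor
  · intro h V hV
    letI := (f.app V).hom.toAlgebra
    haveI : Module.Finite Γ(S, V) Γ(X, f ⁻¹ᵁ V) := IsFinite.finite_app f V hV
    rw [← isPseudoCoherentHom_iff_of_finite]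
    have h1 := h (f ⁻¹ᵁ V) V (hV.preimage f) hV le_rfl
    rw [Scheme.Hom.appLE_eq_app] at h1
    exact h1
  · intro h
    rw [isPseudoCoherentMor_iff_exists]
    intro x
    obtain ⟨V, hV, hxV, -⟩ := exists_isAffineOpen_mem_and_subset (x := f x) (U := ⊤) trivial
    refine ⟨f ⁻¹ᵁ V, V, le_rfl, hV.preimage f, hV, hxV, ?_⟩
    rw [Scheme.Hom.appLE_eq_app]
    letI := (f.app V).hom.toAlgebra
    haveI : Module.Finite Γ(S, V) Γ(X, f ⁻¹ᵁ V) := IsFinite.finite_app f V hV
    rw [isPseudoCoherentHom_iff_of_finite]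
    exact h V hV

end Groth.Agent.H35.PCHomLocal
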