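import Mathlib
import Groth.Agent.H35.PerfectBounded
import Groth.Agent.H35.PerfectPC
import Groth.Agent.H35.PerfectHomPres
import Groth.Agent.H35.PCMorFinite

/-!
# Quotients by regular sequences are perfect (helper35)
-/

set_option autoImplicit false

open CategoryTheory Limits
open scoped Pointwise

namespace Groth.Agent.H35.RegSeqPerf

universe u

open DerivedCategory

attribute [local instance] HasDerivedCategory.standard

variable {R : Type u} [CommRing R]

lemma isPerfectModule_of_linearEquiv {M N : Type u} [AddCommGroup M] [Module R M]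
    [AddCommGroup N] [Module R N] (e : M ≃ₗ[R] N) (h : DRing.IsPerfectModule R M) :
    DRing.IsPerfectModule R N :=
  isPerfect_of_iso R ((DerivedCategory.singleFunctor (ModuleCat.{u} R) 0).mapIso e.toModuleIso) h

/-- the short exact sequence `0 → M → M → M/rM → 0` -/
noncomputable def quotSMulTopSC (M : Type u) [AddCommGroup M] [Module R M] (r : R) :
    ShortComplex (ModuleCat.{u} R) :=
  ShortComplex.mk (ModuleCat.ofHom (LinearMap.lsmul R M r))
    (ModuleCat.ofHom (Submodule.mkQ (r • (⊤ : Submodule R M)))) (by
      ext x
      change Submodule.mkQ (r • (⊤ : Submodule R M)) (r • x) = 0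
      rw [Submodule.mkQ_apply, Submodule.Quotient.mk_eq_zero]
      exact Submodule.smul_mem_pointwise_smul x r ⊤ Submodule.mem_top)

lemma quotSMulTopSC_shortExact (M : Type u) [AddCommGroup M] [Module R M] (r : R)
    (hr : IsSMulRegular M r) : (quotSMulTopSC M r).ShortExact := by
  have hex : (quotSMulTopSC M r).Exact := by
    rw [ShortComplex.ShortExact.moduleCat_exact_iff_function_exact]
    change Function.Exact (LinearMap.lsmul R M r) (Submodule.mkQ (r • (⊤ : Submodule R M)))
    rw [LinearMap.exact_iff, Submodule.ker_mkQ]
    ext x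
    simp [Submodule.mem_smul_pointwise_iff_exists]
  have hmono : Mono (quotSMulTopSC M r).f := by
    rw [ModuleCat.mono_iff_injective]
    exact hr
  have hepi : Epi (quotSMulTopSC M r).g := by
    rw [ModuleCat.epi_iff_surjective]
    exact Submodule.mkQ_surjective _
  exact ShortComplex.ShortExact.mk' hex hmono hepi

theorem isPerfectModule_quotSMulTop (M : Type u) [AddCommGroup M] [Module R M] (r : R)
    (hr : IsSMulRegular M r) (hM : DRing.IsPerfectModule R M) :
    DRing.IsPerfectModule R (QuotSMulTop r M) := by
  have hS := quotSMulTopSC_shortExact M r hr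
  exact (isPerfect_two_out_of_three R _ hS.singleTriangle_distinguished).1 hM hM

/-- quotients of a perfect module by a weakly regular sequence are perfect -/
theorem isPerfectModule_quot_of_isWeaklyRegular {M : Type u} [AddCommGroup M] [Module R M]
    {rs : List R} (h : RingTheory.Sequence.IsWeaklyRegular M rs) :
    DRing.IsPerfectModule R M →
      DRing.IsPerfectModule R (M ⧸ (Ideal.ofList rs • ⊤ : Submodule R M)) := by
  induction h with
  | nil M =>
    intro hM
    have h0 : (Ideal.ofList ([] : List R) • ⊤ : Submodule R M) = ⊥ := by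
      rw [Ideal.ofList_nil, Submodule.bot_smul]
    exact isPerfectModule_of_linearEquiv (Submodule.quotEquivOfEqBot _ h0).symm hM
  | cons r rs h1 h2 ih =>
    intro hM
    exact isPerfectModule_of_linearEquiv
      (Submodule.quotOfListConsSMulTopEquivQuotSMulTopInner _ r rs).symm
      (ih (isPerfectModule_quotSMulTop _ r h1 hM))

/-- a finite projective module is perfect -/
theorem isPerfectModule_of_finite_projective (P : Type u) [AddCommGroup P] [Module R P]
    [Module.Finite R P] [Module.Projective R P] : DRing.IsPerfectModule R P := by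
  refine ⟨(HomologicalComplex.single (ModuleCat.{u} R) (ComplexShape.up ℤ) 0).obj (ModuleCat.of R P),
    0, 0, ?_, ?_, ⟨((DerivedCategory.singleFunctorIsoCompQ (ModuleCat.{u} R) 0).app _).symm⟩⟩
  · intro i hi
    exact HomologicalComplex.isZero_single_obj_X (ComplexShape.up ℤ) 0 _ i (by omega)
  · intro i
    by_cases hi : i = 0
    · subst hi
      have e := (HomologicalComplex.singleObjXSelf (ComplexShape.up ℤ) (0 : ℤ)
        (ModuleCat.of R P)).toLinearEquiv
      exact ⟨Module.Finite.equiv e.symm, Module.Projective.of_equiv e.symm⟩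
    · have hz := HomologicalComplex.isZero_single_obj_X (ComplexShape.up ℤ) 0
        (ModuleCat.of R P) i hi
      have : Subsingleton (((HomologicalComplex.single (ModuleCat.{u} R) (ComplexShape.up ℤ) 0).obj
        (ModuleCat.of R P)).X i) := ModuleCat.subsingleton_of_isZero hz
      exact ⟨inferInstance, inferInstance⟩

/-- a perfect module over `A` gives a pseudo-coherent module of finite tor dimension -/
lemma pc_and_ftd_of_isPerfectModule (M : Type u) [AddCommGroup M] [Module R M]
    (h : DRing.IsPerfectModule R M) :
    DRing.IsPseudoCoherentModule' R M ∧ DRing.HasFiniteTorDim R M := by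
  obtain ⟨hpc, a, b, hab⟩ :=
    (Groth.Agent.H35.KF.isPerfect_iff_isPseudoCoherent'_and_hasFiniteTorDimCx _).1 h
  exact ⟨hpc, Groth.Agent.H35.PolyTor.hasFiniteTorDim_of_hasTorAmplitudeIn M a b hab⟩

/-- a surjective ring map whose kernel is generated by a regular sequence is perfect -/
theorem isPerfectHom_of_surjective_of_isRegular {B : Type u} [CommRing B] [Algebra R B]
    (hφ : Function.Surjective (algebraMap R B)) (rs : List R)
    (hrs : RingTheory.Sequence.IsWeaklyRegular R rs)
    (hker : RingHom.ker (algebraMap R B) = Ideal.ofList rs) : MoreMor.IsPerfectHom R B := by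
  have h1 : DRing.IsPerfectModule R (R ⧸ (Ideal.ofList rs • ⊤ : Submodule R R)) :=
    isPerfectModule_quot_of_isWeaklyRegular hrs (isPerfectModule_of_finite_projective R)
  have h0 : (Ideal.ofList rs • ⊤ : Submodule R R) = LinearMap.ker (Algebra.linearMap R B) := by
    have h2 : (Ideal.ofList rs • ⊤ : Submodule R R) = Ideal.ofList rs := by simp
    rw [h2, ← hker]
    ext x
    simp [RingHom.mem_ker]
  have hsurj : Function.Surjective (Algebra.linearMap R B) := hφ
  let e : (R ⧸ (Ideal.ofList rs • ⊤ : Submodule R R)) ≃ₗ[R] B :=
    Submodule.quotEquivOfEq _ _ h0 ≪≫ₗ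
      (Algebra.linearMap R B).quotKerEquivOfSurjective hsurj
  have h2 : DRing.IsPerfectModule R B := isPerfectModule_of_linearEquiv e h1
  haveI : Module.Finite R B := Module.Finite.of_surjective (Algebra.linearMap R B) hsurj
  obtain ⟨hpc, hftd⟩ := pc_and_ftd_of_isPerfectModule B h2
  exact ⟨(Groth.Agent.H35.PCHomLocal.isPseudoCoherentHom_iff_of_finite R B).2 hpc, hftd⟩

end Groth.Agent.H35.RegSeqPerf
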