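import Mathlib
import Groth.Agent.H79.KoszulCone
import Groth.Agent.H35.RegSeqPerfect
import Groth.Prelude.Def_LCI2

/-!
# Koszul-regular sequences give perfect quotients (helper35)
-/

set_option autoImplicit false

open CategoryTheory Limits

namespace Groth.Agent.H35.KoszulPerf

universe u

open DerivedCategory

attribute [local instance] HasDerivedCategory.standard

variable {A : Type u} [CommRing A]

lemma koszul_cons (f : A) (l : List A) :
    Koszul.koszul A (f :: l) = CochainComplex.mappingCone (f • 𝟙 (Koszul.koszul A l)) := rfl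

theorem koszul_vanishesOutside (l : List A) :
    DRing.VanishesOutside (Koszul.koszul A l) (-(l.length : ℤ)) 0 := by
  induction l with
  | nil =>
    intro i hi
    exact HomologicalComplex.isZero_single_obj_X (ComplexShape.up ℤ) 0 _ i (by
      simp only [List.length_nil, Nat.cast_zero, neg_zero] at hi
      omega)
  | cons f fs ih =>
    intro i hi
    rw [koszul_cons]
    simp only [List.length_cons, Nat.cast_add, Nat.cast_one] at hi
    refine Groth.Agent.H35.mappingCone_isZero _ i (ih _ ?_) (ih _ ?_)
    · rcases hi with hi | hi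
      · left; omega
      · right; omega
    · rcases hi with hi | hi
      · left; omega
      · right; omega

theorem koszul_termwiseFiniteProjective (l : List A) :
    DRing.TermwiseFiniteProjective (Koszul.koszul A l) := by
  induction l with
  | nil =>
    intro i
    by_cases hi : i = 0
    · subst hi
      have e := (HomologicalComplex.singleObjXSelf (ComplexShape.up ℤ) (0 : ℤ)
        (ModuleCat.of A A)).toLinearEquiv
      exact ⟨Module.Finite.equiv e.symm, Module.Projective.of_equiv e.symm⟩
    · have hz := HomologicalComplex.isZero_single_obj_X (ComplexShape.up ℤ) 0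
        (ModuleCat.of A A) i hi
      have : Subsingleton ((Koszul.koszul A ([] : List A)).X i) :=
        ModuleCat.subsingleton_of_isZero hz
      exact ⟨inferInstance, inferInstance⟩
  | cons f fs ih =>
    intro i
    rw [koszul_cons]
    exact ⟨Groth.Agent.H35.mappingCone_finite _ i (ih _).1 (ih _).1,
      Groth.Agent.H35.mappingCone_projective _ i (ih _).2 (ih _).2⟩

theorem isPerfect_koszul (l : List A) : DRing.IsPerfect A (Q.obj (Koszul.koszul A l)) :=
  ⟨Koszul.koszul A l, _, _, koszul_vanishesOutside l, koszul_termwiseFiniteProjective l,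
    ⟨Iso.refl _⟩⟩

/-- a complex with cohomology only in degree `0` is its `H^0` in the derived category -/
theorem nonempty_iso_single_of_isZero_homology (K : CochainComplex (ModuleCat.{u} A) ℤ)
    (h : ∀ i : ℤ, i ≠ 0 → IsZero (K.homology i)) :
    Nonempty (Q.obj K ≅ (DerivedCategory.singleFunctor (ModuleCat.{u} A) 0).obj (K.homology 0)) := by
  haveI : K.IsGE 0 := (CochainComplex.isGE_iff _ _).2 (fun i hi =>
    (HomologicalComplex.exactAt_iff_isZero_homology _ _).2 (h i (by omega)))
  haveI : K.IsLE 0 := (CochainComplex.isLE_iff _ _).2 (fun i hi =>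
    (HomologicalComplex.exactAt_iff_isZero_homology _ _).2 (h i (by omega)))
  obtain ⟨Y, ⟨e⟩⟩ := DerivedCategory.exists_iso_singleFunctor_obj_of_isGE_of_isLE (Q.obj K) 0
  have e2 : Y ≅ K.homology 0 :=
    ((DerivedCategory.singleFunctorCompHomologyFunctorIso (ModuleCat.{u} A) 0).app Y).symm ≪≫
      (DerivedCategory.homologyFunctor (ModuleCat.{u} A) 0).mapIso e.symm ≪≫
      (DerivedCategory.homologyFunctorFactors (ModuleCat.{u} A) 0).app K
  exact ⟨e ≪≫ (DerivedCategory.singleFunctor (ModuleCat.{u} A) 0).mapIso e2⟩

/-- the quotient by a Koszul-regular sequence is a perfect module -/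
theorem isPerfectModule_quotient_of_isKoszulRegularSeq (l : List A)
    (hl : LCI.IsKoszulRegularSeq A l) : DRing.IsPerfectModule A (A ⧸ Ideal.ofList l) := by
  obtain ⟨e1⟩ := nonempty_iso_single_of_isZero_homology (Koszul.koszul A l) hl
  obtain ⟨e2⟩ := Groth.Agent.H79.KoszulCone.homology_zero_iso l
  exact Groth.Agent.H35.isPerfect_of_iso A
    (e1 ≪≫ (DerivedCategory.singleFunctor (ModuleCat.{u} A) 0).mapIso e2) (isPerfect_koszul l)

end Groth.Agent.H35.KoszulPerf
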