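import Mathlib
import Groth.Agent.H35.TorAmp
import Groth.Agent.H35.TorAmpD
import Groth.Agent.H35.LTensorAssoc
import Groth.Agent.H35.LTensorAmp

/-!
# Lemmas for S7094 (helper35)
-/

set_option autoImplicit false
set_option linter.style.haveILetI false
universe u
open CategoryTheory CategoryTheory.Limits MonoidalCategory TensorProduct

namespace Groth.Agent.H35.RelPerfFibreLib

open HomologicalComplex DerivedCategory Groth.Agent.H35 Groth.Agent.H35.KF Groth.Agent.H35.KFBC
  Groth.Agent.H35.LT

attribute [local instance] HasDerivedCategory.standard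

section Flat

variable {A : Type u} [CommRing A]

/-- exactness of `P ⊗ M` in degree `i` is preserved by replacing `M` with `B ⊗ M`, `B` flat -/
lemma tensExactAt_tensor_of_flat (B : Type u) [AddCommGroup B] [Module A B] [Module.Flat A B]
    (P : CochainComplex (ModuleCat.{u} A) ℤ) (M : Type u) [AddCommGroup M] [Module A M] (i : ℤ)
    (h : TensExactAt P (ModuleCat.of A M) i) : TensExactAt P (ModuleCat.of A (B ⊗[A] M)) i := by
  rw [tensExactAt_iff_function_exact P (B ⊗[A] M) (i - 1) i (i + 1) (by simp) (by simp)]
  rw [tensExactAt_iff_function_exact P M (i - 1) i (i + 1) (by simp) (by simp)] at h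
  have h2 := Module.Flat.lTensor_exact B h
  refine (Function.Exact.iff_of_ladder_linearEquiv
    (e₁ := TensorProduct.leftComm A (P.X (i - 1)) B M)
    (e₂ := TensorProduct.leftComm A (P.X i) B M)
    (e₃ := TensorProduct.leftComm A (P.X (i + 1)) B M) ?_ ?_).1 h2
  · apply TensorProduct.ext_threefold'
    intro x y z
    rfl
  · apply TensorProduct.ext_threefold'
    intro x y z
    rfl

end Flat

section Res

variable {R R' : Type u} [CommRing R] [CommRing R'] (φ : R →+* R')

lemma exactAt_resL_iff (E : CochainComplex (ModuleCat.{u} R') ℤ) (i : ℤ) :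
    (resL φ E).ExactAt i ↔ E.ExactAt i := by
  rw [exactAt_iff' _ (i - 1) i (i + 1) (by simp) (by simp),
    exactAt_iff' E (i - 1) i (i + 1) (by simp) (by simp)]
  exact exact_map_restrictScalars_iff φ (E.sc' (i - 1) i (i + 1))

end Res

section Trunc

variable {R : Type u} [CommRing R]

/-- a bounded above complex of flat modules, exact below `m`, with flat opcycles in degree `m`, has
tor amplitude in `[m, c]` -/
theorem hasTorAmplitudeIn_of_flat_opcycles (P : CochainComplex (ModuleCat.{u} R) ℤ) (m c : ℤ)
    (hc : ∀ i, c < i → IsZero (P.X i)) (hflat : ∀ i, Module.Flat R (P.X i))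
    (hex : ∀ i, i < m → P.ExactAt i) (hop : Module.Flat R (P.opcycles m)) :
    DRing.HasTorAmplitudeIn R m c (Q.obj P) := by
  have hGE : P.IsGE m := by
    rw [CochainComplex.isGE_iff]
    intro i hi
    exact hex i hi
  have hq : QuasiIso (P.πTruncGE m) := inferInstance
  have hiso : IsIso (DerivedCategory.Q.map (P.πTruncGE m)) :=
    (DerivedCategory.isIso_Q_map_iff_quasiIso (φ := P.πTruncGE m)).2 hq
  refine ⟨P.truncGE m, ?_, ?_, ⟨(asIso (DerivedCategory.Q.map (P.πTruncGE m))).symm⟩⟩
  · intro i hi
    by_cases h1 : i < m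
    · exact (P.truncGE m).isZero_of_isStrictlyGE m i h1
    · have h2 : c < i := by omega
      by_cases h3 : i = m
      · subst h3
        refine IsZero.of_iso ?_ (P.truncGEXIsoOpcycles i)
        have hepi : Epi (P.pOpcycles i) := inferInstance
        exact @IsZero.of_epi _ _ _ _ _ (P.pOpcycles i) hepi (hc i h2)
      · exact IsZero.of_iso (hc i h2) (P.truncGEXIso m i (by omega))
  · intro i
    by_cases h1 : i < m
    · exact isFlat_of_isZero ((P.truncGE m).isZero_of_isStrictlyGE m i h1)
    · by_cases h3 : i = m
      · subst h3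
        exact isFlat_of_iso (P.truncGEXIsoOpcycles i).symm hop
      · exact isFlat_of_iso (P.truncGEXIso m i (by omega)).symm (hflat i)

end Trunc

end Groth.Agent.H35.RelPerfFibreLib
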