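import Mathlib
import Groth.Agent.H35.TorIndepBC
import Groth.Agent.H1.FlatDescSub
import Groth.Agent.S7067

/-!
# Flat finitely presented ring maps are perfect (helper35)
-/

set_option autoImplicit false

open CategoryTheory Limits

namespace Groth.Agent.H35.TorIndepBC

universe u

open TensorProduct Groth.Agent.H35.PCHomLocal Groth.Agent.H35.FTDLocal Groth.Agent.H35.KF

attribute [local instance] HasDerivedCategory.standard

section Model

variable (A B : Type u) [CommRing A] [CommRing B] [Algebra A B] [Algebra.FinitePresentation A B]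

/-- Noetherian approximation of a flat finitely presented algebra (after helper1) -/
theorem exists_model_flat [Module.Flat A B] :
    ∃ (C : Type u) (_ : CommRing C) (_ : Algebra C A) (BC : Type u) (_ : CommRing BC)
      (_ : Algebra C BC), Algebra.FiniteType ℤ C ∧
        Algebra.FinitePresentation C BC ∧ Module.Flat C BC ∧
        Nonempty (B ≃ₐ[A] A ⊗[C] BC) := by
  obtain ⟨Z, _, _, BZ, _, _, hZ, hBZ, ⟨e₀⟩⟩ := Groth.Agent.H1.FlatDescSub.exists_model_int A B
  haveI hfl₀ : Module.Flat A (A ⊗[Z] BZ) := Module.Flat.of_linearEquiv e₀.toLinearEquiv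
  obtain ⟨C, hCfg, hC⟩ :=
    Groth.Agent.H1.FlatDescSub.exists_fg_subalgebra_flat_tensor Z A (B₀ := BZ) BZ
  have hft : Algebra.FiniteType ℤ C :=
    Algebra.FiniteType.trans (S := Z) hZ ((Subalgebra.fg_iff_finiteType C).mp hCfg)
  exact ⟨C, inferInstance, inferInstance, C ⊗[Z] BZ, inferInstance, inferInstance, hft,
    inferInstance, hC,
    ⟨e₀.symm.trans (Algebra.TensorProduct.cancelBaseChange Z C A A BZ).symm⟩⟩

end Model

section Main

attribute [local instance] Algebra.TensorProduct.rightAlgebra

/-- pseudo-coherence of `A`-algebras is invariant under algebra isomorphisms -/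
lemma isPseudoCoherentHom_of_algEquiv {A B B' : Type u} [CommRing A] [CommRing B] [CommRing B']
    [Algebra A B] [Algebra A B'] (e : B ≃ₐ[A] B') (h : MoreMor.IsPseudoCoherentHom A B) :
    MoreMor.IsPseudoCoherentHom A B' := by
  have h1 : Qpc (algebraMap A B) := by
    rw [qpc_algebraMap_iff, ← isPseudoCoherentHom_iff]
    exact h
  have h2 := qpc_isLocal.respectsIso.1 (algebraMap A B) e.toRingEquiv h1
  have h3 : (e.toRingEquiv.toRingHom).comp (algebraMap A B) = algebraMap A B' := by
    ext a
    exact e.commutes a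
  rw [h3, qpc_algebraMap_iff, ← isPseudoCoherentHom_iff] at h2
  exact h2

/-- S7068 -/
theorem isPerfectHom_of_flat_of_finitePresentation (A B : Type u) [CommRing A] [CommRing B]
    [Algebra A B] [Module.Flat A B] [Algebra.FinitePresentation A B] :
    MoreMor.IsPerfectHom A B := by
  refine ⟨?_, ⟨0, (hasTorDimLE_zero_iff_flat B).2 inferInstance⟩⟩
  obtain ⟨C, _, _, BC, _, _, hC, hfp, hfl, ⟨e⟩⟩ := exists_model_flat A B
  haveI : IsNoetherianRing C := Algebra.FiniteType.isNoetherianRing ℤ C
  haveI : Algebra.FiniteType C BC := inferInstance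
  have h1 : MoreMor.IsPseudoCoherentHom C BC := Groth.Agent.S7067.result C BC
  have h2 : MoreMor.IsPseudoCoherentHom A (A ⊗[C] BC) :=
    isPseudoCoherentHom_baseChange_of_flat_source (R := C) (R' := A) (A := BC)
      (A' := A ⊗[C] BC) h1
  exact isPseudoCoherentHom_of_algEquiv e.symm h2

end Main

end Groth.Agent.H35.TorIndepBC
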