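import Mathlib
import Groth.Agent.H35.FlatFPPerfect
import Groth.Agent.H35.PCMorFinite
import Groth.Agent.H28.PCohSES
import Groth.Agent.H28.PCohCoh

/-!
# Pseudo-coherence of a quotient of a flat finitely presented algebra (helper35)
-/

set_option autoImplicit false

open CategoryTheory Limits

namespace Groth.Agent.H35.PCQuot

universe u

open Groth.Agent.H28 Groth.Agent.H28.PCohCore Groth.Agent.H28.PCohDer
  Groth.Agent.H28.PCohRing DerivedCategory Groth.Agent.H35.PCHomLocal

attribute [local instance] HasDerivedCategory.standard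

section Ideal

variable {B : Type u} [CommRing B] (I : Ideal B)

/-- the short complex `0 → I → B → B/I → 0` -/
noncomputable def idealSC : ShortComplex (ModuleCat.{u} B) :=
  ShortComplex.mk (ModuleCat.ofHom I.subtype) (ModuleCat.ofHom (Submodule.mkQ I)) (by
    ext x
    exact (Submodule.Quotient.mk_eq_zero I).2 x.2)

lemma idealSC_shortExact : (idealSC I).ShortExact := by
  have hex : (idealSC I).Exact := by
    rw [ShortComplex.moduleCat_exact_iff_ker_sub_range]
    intro x hx
    have hx' : Submodule.mkQ I x = 0 := hx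
    rw [Submodule.mkQ_apply, Submodule.Quotient.mk_eq_zero] at hx'
    exact ⟨⟨x, hx'⟩, rfl⟩
  refine ShortComplex.ShortExact.mk' hex ?_ ?_
  · rw [ModuleCat.mono_iff_injective]
    exact Subtype.val_injective
  · rw [ModuleCat.epi_iff_surjective]
    exact Submodule.mkQ_surjective I

/-- an ideal is a pseudo-coherent module iff the quotient is -/
theorem isPseudoCoherentModule'_ideal_iff :
    DRing.IsPseudoCoherentModule' B ↥I ↔ DRing.IsPseudoCoherentModule' B (B ⧸ I) := by
  unfold DRing.IsPseudoCoherentModule'
  rw [isPseudoCoherent'_iff, isPseudoCoherent'_iff]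
  have hB : ∀ k : ℤ, IsNPC (finFree B) k
      ((DerivedCategory.singleFunctor (ModuleCat.{u} B) 0).obj (ModuleCat.of B B)) := fun k =>
    PCohCoh.isNPC_single_of_mem (finFree B) k (ModuleCat.of B B)
      ⟨inferInstanceAs (Module.Finite B B), inferInstanceAs (Module.Free B B)⟩
  have hS := idealSC_shortExact I
  constructor
  · intro h m
    exact isNPC_obj₃ (finFree B) (hql_finFree B) (finFree_prod B) (hqs_finFree B)
      hS.singleTriangle hS.singleTriangle_distinguished (h (m + 1)) (hB m)
  · intro h m
    exact PCohSES.isPC_single_X₁ (finFree B) (hql_finFree B) (finFree_prod B) (hqs_finFree B)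
      (idealSC I) hS hB h m

end Ideal

/-- S1507 -/
theorem isPseudoCoherentHom_quotient_iff {A B : Type u} [CommRing A] [CommRing B] [Algebra A B]
    [Module.Flat A B] [Algebra.FinitePresentation A B] (I : Ideal B) :
    MoreMor.IsPseudoCoherentHom A (B ⧸ I) ↔ DRing.IsPseudoCoherentModule' B ↥I := by
  have hAB : PCAlg A B := (isPseudoCoherentHom_iff A B).1
    (Groth.Agent.H35.TorIndepBC.isPerfectHom_of_flat_of_finitePresentation A B).1
  have : Module.Finite B (B ⧸ I) := Module.Finite.of_surjective (Submodule.mkQ I)
    (Submodule.mkQ_surjective I)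
  rw [isPseudoCoherentModule'_ideal_iff, ← isPseudoCoherentHom_iff_of_finite B (B ⧸ I),
    isPseudoCoherentHom_iff, isPseudoCoherentHom_iff]
  exact ⟨fun h => pcAlg_cancel hAB h, fun h => pcAlg_comp hAB h⟩

end Groth.Agent.H35.PCQuot
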