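import Mathlib
import Groth.Prelude.Def_DRing3
import Groth.Prelude.Def_DDual2
import Groth.Agent.H35.PowCx

/-!
# Objects restricted from `D(A_f)` and derived `f`-completeness (helper35)
-/

universe u

open CategoryTheory

attribute [local instance] HasDerivedCategory.standard

set_option linter.unusedSectionVars false

namespace Groth.Agent.H35

open DerivedCategory

variable {A : Type u} [CommRing A]

section General

variable {D : Type*} [Category D] [Preadditive D] [HasShift D ℤ]

lemma subsingleton_hom_of_iso_left {X X' K : D} (e : X ≅ X') (h : Subsingleton (X ⟶ K)) :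
    Subsingleton (X' ⟶ K) := by
  refine ⟨fun x y => ?_⟩
  have : e.hom ≫ x = e.hom ≫ y := Subsingleton.elim _ _
  exact (cancel_epi e.hom).mp this

lemma subsingleton_hom_shift_of_neg_shift (X K : D) (n : ℤ)
    (h : Subsingleton (X⟦-n⟧ ⟶ K)) : Subsingleton (X ⟶ K⟦n⟧) := by
  refine ⟨fun x y => ?_⟩
  have : x⟦-n⟧' ≫ (shiftFunctorCompIsoId D n (-n) (by omega)).hom.app K =
      y⟦-n⟧' ≫ (shiftFunctorCompIsoId D n (-n) (by omega)).hom.app K := h.elim _ _
  have h2 := (cancel_mono _).mp this
  exact (shiftFunctor D (-n)).map_injective h2

end General

section Away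

variable (f : A)

/-- `A_f` as a module over itself, restricted to `A`, is `A_f`. -/
noncomputable def restrictAwayLinearEquiv :
    ((ModuleCat.restrictScalars.{u} (algebraMap A (Localization.Away f))).obj
      (ModuleCat.of (Localization.Away f) (Localization.Away f))) ≃ₗ[A] Localization.Away f where
  toFun := fun x => x
  invFun := fun x => x
  map_add' := fun _ _ => rfl
  map_smul' := fun a x => (Algebra.smul_def (A := Localization.Away f) a x).symm
  left_inv := fun _ => rfl
  right_inv := fun _ => rfl

/-- `A_f` as a module over itself, restricted to `A`, is `A_f`. -/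
noncomputable def restrictAwayIso :
    (ModuleCat.restrictScalars.{u} (algebraMap A (Localization.Away f))).obj
      (ModuleCat.of (Localization.Away f) (Localization.Away f)) ≅
      ModuleCat.of A (Localization.Away f) :=
  (restrictAwayLinearEquiv f).toModuleIso

/-- `A_f[0]` in `D(A)` is restricted from `D(A_f)`. -/
noncomputable def inDAwayIso :
    (DRing.restrictD (algebraMap A (Localization.Away f))).obj
      (Dual.inD (Localization.Away f) (Localization.Away f)) ≅
      Dual.inD A (Localization.Away f) :=
  ((ModuleCat.restrictScalars.{u}
      (algebraMap A (Localization.Away f))).mapDerivedCategorySingleFunctor 0).app _ ≪≫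
    (DerivedCategory.singleFunctor (ModuleCat.{u} A) 0).mapIso (restrictAwayIso f)

/-- `f` acts invertibly on a complex restricted from `A_f`. -/
lemma isIso_smul_restrict (E : CochainComplex (ModuleCat.{u} (Localization.Away f)) ℤ) :
    IsIso (f • 𝟙 (((ModuleCat.restrictScalars.{u}
      (algebraMap A (Localization.Away f))).mapHomologicalComplex (ComplexShape.up ℤ)).obj E)) := by
  have : ∀ i : ℤ, IsIso ((f • 𝟙 (((ModuleCat.restrictScalars.{u}
      (algebraMap A (Localization.Away f))).mapHomologicalComplex
        (ComplexShape.up ℤ)).obj E)).f i) := by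
    intro i
    rw [ConcreteCategory.isIso_iff_bijective]
    exact (IsLocalization.Away.algebraMap_isUnit (S := Localization.Away f) f).smul_bijective
      (β := E.X i)
  exact HomologicalComplex.Hom.isIso_of_components _

theorem subsingleton_restrict_hom_iff (K : Dual.D A) :
    (∀ n : ℤ, Subsingleton (Dual.inD A (Localization.Away f) ⟶ K⟦n⟧)) ↔
      ∀ E : Dual.D (Localization.Away f),
        Subsingleton ((DRing.restrictD (algebraMap A (Localization.Away f))).obj E ⟶ K) := by
  constructor
  · intro h E
    let E'' := Q.objPreimage E
    let e : Q.obj E'' ≅ E := Q.objObjPreimageIso E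
    have := isIso_smul_restrict f E''
    have h1 := subsingleton_hom_of_isIso_smul f (((ModuleCat.restrictScalars.{u}
      (algebraMap A (Localization.Away f))).mapHomologicalComplex (ComplexShape.up ℤ)).obj E'') K h
    refine subsingleton_hom_of_iso_left ?_ h1
    exact ((ModuleCat.restrictScalars.{u}
      (algebraMap A (Localization.Away f))).mapDerivedCategoryFactors.app E'').symm ≪≫
      (DRing.restrictD (algebraMap A (Localization.Away f))).mapIso e
  · intro h n
    apply subsingleton_hom_shift_of_neg_shift
    have h1 := h ((Dual.inD (Localization.Away f) (Localization.Away f))⟦-n⟧)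
    refine subsingleton_hom_of_iso_left ?_ h1
    exact ((DRing.restrictD (algebraMap A (Localization.Away f))).commShiftIso (-n)).app _ ≪≫
      (shiftFunctor (Dual.D A) (-n)).mapIso (inDAwayIso f)

end Away

end Groth.Agent.H35
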