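import Mathlib
import Groth.Agent.H35.BCSquareD
import Groth.Agent.H35.NilpPC
import Groth.Agent.H35.TorAmpCone

/-!
# Nilpotent thickenings of the base and relative perfectness (helper35)
-/

open CategoryTheory Limits TensorProduct

universe u

namespace Groth.Agent.H35.BCSq

attribute [local instance] HasDerivedCategory.standard

section Nilp

variable (R' A' R : Type u) [CommRing R'] [CommRing A'] [Algebra R' A'] [CommRing R] [Algebra R' R]

lemma psi_surjective (hs : Function.Surjective (algebraMap R' R)) :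
    Function.Surjective (psi R' A' R) := by
  intro x
  induction x using TensorProduct.induction_on with
  | zero => exact ⟨0, map_zero _⟩
  | tmul r a =>
    obtain ⟨r₀, rfl⟩ := hs r
    refine ⟨r₀ • a, ?_⟩
    change (1 : R) ⊗ₜ[R'] (r₀ • a) = algebraMap R' R r₀ ⊗ₜ[R'] a
    rw [← TensorProduct.smul_tmul, Algebra.smul_def, mul_one]
  | add x y hx hy =>
    obtain ⟨a, rfl⟩ := hx
    obtain ⟨b, rfl⟩ := hy
    exact ⟨a + b, map_add _ a b⟩

lemma ker_psi_le (hs : Function.Surjective (algebraMap R' R)) :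
    RingHom.ker (psi R' A' R) ≤ (RingHom.ker (algebraMap R' R)).map (algebraMap R' A') := by
  let I : Ideal R' := RingHom.ker (Algebra.ofId R' R)
  have hI : I = RingHom.ker (algebraMap R' R) := rfl
  let e : R ≃ₐ[R'] R' ⧸ I := (Ideal.quotientKerAlgEquivOfSurjective (f := Algebra.ofId R' R) hs).symm
  let T : R ⊗[R'] A' →ₗ[R'] A' ⧸ I.map (algebraMap R' A') :=
    ((Algebra.TensorProduct.quotIdealMapEquivTensorQuot A' I).symm.toLinearMap.restrictScalars R').comp
      ((LinearMap.lTensor A' e.toLinearMap).comp (TensorProduct.comm R' R A').toLinearMap)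
  intro a ha
  rw [RingHom.mem_ker] at ha
  have h1 : T ((1 : R) ⊗ₜ[R'] a) = Ideal.Quotient.mk _ a := by
    change (Algebra.TensorProduct.quotIdealMapEquivTensorQuot A' I).symm (a ⊗ₜ[R'] e 1) = _
    rw [map_one]
    have h0 : (1 : R' ⧸ I) = Ideal.Quotient.mk I 1 := rfl
    rw [h0, Algebra.TensorProduct.quotIdealMapEquivTensorQuot_symm_tmul, one_smul]
    rfl
  have h2 : T ((1 : R) ⊗ₜ[R'] a) = 0 := by
    have : (1 : R) ⊗ₜ[R'] a = psi R' A' R a := rfl
    rw [this, ha, map_zero]
  rw [← hI, ← Ideal.Quotient.eq_zero_iff_mem, ← h1, h2]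

lemma isNilpotent_ker_psi (hs : Function.Surjective (algebraMap R' R))
    (hn : IsNilpotent (RingHom.ker (algebraMap R' R))) :
    IsNilpotent (RingHom.ker (psi R' A' R)) := by
  obtain ⟨n, hn⟩ := hn
  refine ⟨n, ?_⟩
  have h1 := Ideal.pow_right_mono (ker_psi_le R' A' R hs) n
  rw [← Ideal.map_pow, hn, Ideal.zero_eq_bot, Ideal.map_bot] at h1
  exact le_bot_iff.1 h1

end Nilp

end Groth.Agent.H35.BCSq
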