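import Mathlib

/-!
Helper lemmas on `Submodule.baseChange` (flat base change commutes with intersections, images, `I • ⊤`).
-/

set_option autoImplicit false
universe u v w

open TensorProduct

namespace Groth.Agent.H35

section
variable {A : Type u} (B : Type v) [CommRing A] [CommRing B] [Algebra A B]
  {M : Type w} {N : Type w} [AddCommGroup M] [Module A M] [AddCommGroup N] [Module A N]

theorem mem_baseChange_iff (p : Submodule A M) (x : B ⊗[A] M) :
    x ∈ p.baseChange B ↔ (p.mkQ).lTensor B x = 0 := by
  have h1 : x ∈ p.baseChange B ↔ x ∈ LinearMap.range (p.subtype.lTensor B) := by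
    constructor
    · rintro ⟨y, rfl⟩
      exact ⟨y, rfl⟩
    · rintro ⟨y, rfl⟩
      exact ⟨y, rfl⟩
  rw [h1, ← lTensor_mkQ, LinearMap.mem_ker]

theorem baseChange_map (f : M →ₗ[A] N) (p : Submodule A M) :
    (p.map f).baseChange B = (p.baseChange B).map (f.baseChange B) := by
  rw [Submodule.baseChange_eq_span, Submodule.baseChange_eq_span, Submodule.map_span]
  congr 1
  ext x
  constructor
  · rintro ⟨y, ⟨z, hz, rfl⟩, rfl⟩
    exact ⟨(1 : B) ⊗ₜ[A] z, ⟨z, hz, rfl⟩, by simp⟩
  · rintro ⟨y, ⟨z, hz, rfl⟩, rfl⟩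
    exact ⟨f z, ⟨z, hz, rfl⟩, by simp⟩

theorem baseChange_range (f : M →ₗ[A] N) :
    (LinearMap.range f).baseChange B = LinearMap.range (f.baseChange B) := by
  rw [← Submodule.map_top, baseChange_map, Submodule.baseChange_top, Submodule.map_top]

theorem baseChange_inf [Module.Flat A B] (p q : Submodule A M) :
    (p ⊓ q).baseChange B = p.baseChange B ⊓ q.baseChange B := by
  apply le_antisymm
  · exact le_inf (Submodule.baseChange_mono B inf_le_left) (Submodule.baseChange_mono B inf_le_right)
  · intro x hx
    obtain ⟨hxp, hxq⟩ := hx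
    rw [SetLike.mem_coe, mem_baseChange_iff] at hxp hxq
    -- the exact sequence `0 → p ⊓ q → M → M/p × M/q`
    let g : M →ₗ[A] (M ⧸ p) × (M ⧸ q) := p.mkQ.prod q.mkQ
    have hex : Function.Exact (p ⊓ q).subtype g := by
      intro m
      constructor
      · intro hm
        have h1 : p.mkQ m = 0 := congrArg Prod.fst hm
        have h2 : q.mkQ m = 0 := congrArg Prod.snd hm
        rw [Submodule.mkQ_apply, Submodule.Quotient.mk_eq_zero] at h1 h2
        exact ⟨⟨m, h1, h2⟩, rfl⟩
      · rintro ⟨⟨m', hm'⟩, rfl⟩
        apply Prod.ext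
        · change p.mkQ m' = 0
          rw [Submodule.mkQ_apply, Submodule.Quotient.mk_eq_zero]; exact hm'.1
        · change q.mkQ m' = 0
          rw [Submodule.mkQ_apply, Submodule.Quotient.mk_eq_zero]; exact hm'.2
    have hex' := Module.Flat.lTensor_exact B hex
    have hg : g = (LinearMap.inl A (M ⧸ p) (M ⧸ q)) ∘ₗ p.mkQ + (LinearMap.inr A (M ⧸ p) (M ⧸ q)) ∘ₗ q.mkQ := by
      ext m <;> simp [g]
    have h0 : g.lTensor B x = 0 := by
      rw [hg, LinearMap.lTensor_add, LinearMap.add_apply, LinearMap.lTensor_comp, LinearMap.lTensor_comp,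
        LinearMap.comp_apply, LinearMap.comp_apply, hxp, hxq, map_zero, map_zero, add_zero]
    obtain ⟨y, rfl⟩ := (hex' x).mp h0
    exact ⟨y, rfl⟩

theorem baseChange_smul_top (J : Ideal A) :
    (J • (⊤ : Submodule A M)).baseChange B
      = (J.map (algebraMap A B)) • (⊤ : Submodule B (B ⊗[A] M)) := by
  apply le_antisymm
  · rw [Submodule.baseChange_eq_span, Submodule.span_le]
    rintro _ ⟨x, hx, rfl⟩
    refine Submodule.smul_induction_on hx (fun a ha m _ => ?_) (fun y z hy hz => ?_)
    · have : TensorProduct.mk A B M 1 (a • m) = (algebraMap A B a) • ((1 : B) ⊗ₜ[A] m) := by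
        rw [TensorProduct.mk_apply, TensorProduct.tmul_smul, algebraMap_smul]
      rw [SetLike.mem_coe, this]
      exact Submodule.smul_mem_smul (Ideal.mem_map_of_mem _ ha) trivial
    · rw [SetLike.mem_coe, map_add]
      exact Submodule.add_mem _ hy hz
  · rw [Submodule.smul_le]
    intro r hr x _
    -- induct on `r ∈ J.map`
    induction hr using Submodule.span_induction with
    | mem r hr =>
      obtain ⟨a, ha, rfl⟩ := hr
      induction x using TensorProduct.induction_on with
      | zero => simp
      | tmul b m =>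
        have : (algebraMap A B a) • (b ⊗ₜ[A] m) = b • ((1 : B) ⊗ₜ[A] (a • m)) := by
          have e1 : (algebraMap A B a) • (b ⊗ₜ[A] m) = (algebraMap A B a * b) ⊗ₜ[A] m := by
            rw [TensorProduct.smul_tmul', smul_eq_mul]
          have e2 : b • ((1 : B) ⊗ₜ[A] (a • m)) = (algebraMap A B a * b) ⊗ₜ[A] m := by
            rw [TensorProduct.smul_tmul', smul_eq_mul, mul_one, ← TensorProduct.smul_tmul, Algebra.smul_def]
          rw [e1, e2]
        rw [this]
        exact Submodule.smul_mem _ _
          (Submodule.tmul_mem_baseChange_of_mem _ (Submodule.smul_mem_smul ha trivial))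
      | add y z hy hz => rw [smul_add]; exact Submodule.add_mem _ (hy trivial) (hz trivial)
    | zero => simp
    | add r s _ _ hr hs => rw [add_smul]; exact Submodule.add_mem _ hr hs
    | smul c r _ hr => rw [smul_eq_mul, mul_smul]; exact Submodule.smul_mem _ _ hr

end

end Groth.Agent.H35
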