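import Mathlib
import Groth.Agent.H9.DCF.ModuleCase
import Groth.Agent.H35.DerComplete3
import Groth.Agent.H35.DerCompleteD
import Groth.Agent.S7048
import Groth.Agent.H20.ComplNoeth2

/-!
# Derived complete modules with `M/IM` finite over a Noetherian ring (helper35)

* `subsingleton_of_Phi_of_smul_top_eq_top`: derived Nakayama for modules.
* `existsUnique_lift`: for a finite module `N` and a derived complete module `M`, `A`-linear maps
  `N → M` extend uniquely to `N^∧ → M`.
* `isAdicComplete_and_finite`: a derived complete module with `M/IM` finite is `I`-adically complete and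
  `M^∧` is finite over `A^∧`.
-/

set_option autoImplicit false
set_option linter.style.haveILetI false
universe u
open CategoryTheory
attribute [local instance] HasDerivedCategory.standard

namespace Groth.Agent.H35.DCFinite

open Groth.Agent.H35

variable {A : Type u} [CommRing A]

section Nakayama

/-- derived Nakayama for modules -/
theorem subsingleton_of_Phi_of_smul_top_eq_top (s : Finset A) :
    ∀ (Q : Type u) [AddCommGroup Q] [Module A Q],
      (∀ f ∈ s, Function.Bijective (Phi f Q)) →
      Ideal.span (s : Set A) • (⊤ : Submodule A Q) = ⊤ → Subsingleton Q := by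
  classical
  induction s using Finset.induction_on with
  | empty =>
    intro Q _ _ _ h
    rw [Finset.coe_empty, Ideal.span_empty, Submodule.bot_smul] at h
    exact (Submodule.subsingleton_iff A).mp (subsingleton_of_bot_eq_top h)
  | insert g s' hg ih =>
    intro Q _ _ hΦ h
    let u : Q →ₗ[A] Q := g • LinearMap.id
    have hQ' : Subsingleton (Q ⧸ LinearMap.range u) := by
      apply ih
      · intro f hf
        exact (Phi_bijective_ker_coker f u (hΦ f (Finset.mem_insert_of_mem hf))
          (hΦ f (Finset.mem_insert_of_mem hf))).2
      · rw [eq_top_iff]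
        rintro y -
        obtain ⟨q, rfl⟩ := Submodule.Quotient.mk_surjective _ y
        have hq : q ∈ Ideal.span ((insert g s' : Finset A) : Set A) • (⊤ : Submodule A Q) := by
          rw [h]; exact Submodule.mem_top
        rw [Finset.coe_insert, Ideal.span_insert, Submodule.sup_smul] at hq
        obtain ⟨q1, hq1, q2, hq2, rfl⟩ := Submodule.mem_sup.mp hq
        rw [Submodule.Quotient.mk_add]
        have h1 : (Submodule.Quotient.mk q1 : Q ⧸ LinearMap.range u) = 0 := by
          rw [Submodule.Quotient.mk_eq_zero]
          rw [Submodule.ideal_span_singleton_smul] at hq1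
          obtain ⟨z, -, rfl⟩ := (Submodule.mem_smul_pointwise_iff_exists _ _ _).mp hq1
          exact ⟨z, rfl⟩
        rw [h1, zero_add]
        have h2 := Submodule.mem_map_of_mem (f := (LinearMap.range u).mkQ) hq2
        rw [Submodule.map_smul''] at h2
        exact Submodule.smul_mono le_rfl le_top h2
    have hsurj : Function.Surjective (fun x : Q => g • x) := by
      intro y
      have h0 : (LinearMap.range u).mkQ y = 0 := Subsingleton.elim _ _
      rw [Submodule.mkQ_apply, Submodule.Quotient.mk_eq_zero] at h0
      obtain ⟨z, hz⟩ := h0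
      exact ⟨z, hz⟩
    exact subsingleton_of_surjective_of_Phi_injective' g Q hsurj
      (hΦ g (Finset.mem_insert_self g s')).1

end Nakayama

variable [IsNoetherianRing A] (I : Ideal A)

/-- universal property of `N → N^∧` against derived complete modules -/
theorem existsUnique_lift (N : Type u) [AddCommGroup N] [Module A N] [Module.Finite A N]
    (M : Type u) [AddCommGroup M] [Module A M]
    (hM : DRing.IsDerivedComplete I (Dual.inD A M)) (f : N →ₗ[A] M) :
    ∃! ψ : AdicCompletion I N →ₗ[A] M, ψ ∘ₗ AdicCompletion.of I N = f := by
  have h := Groth.Agent.H9.DCF.locEq_c0 I N (Dual.inD A M) hM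
  let S := DerivedCategory.singleFunctor (ModuleCat.{u} A) 0
  obtain ⟨g, hg⟩ := h.2 (S.map (ModuleCat.ofHom f))
  obtain ⟨g', rfl⟩ := S.map_surjective g
  have hg2 : S.map (ModuleCat.ofHom (AdicCompletion.of I N) ≫ g') = S.map (ModuleCat.ofHom f) := by
    rw [Functor.map_comp]
    exact hg
  have hg3 := S.map_injective hg2
  refine ⟨g'.hom, ?_, ?_⟩
  · have := congrArg ModuleCat.Hom.hom hg3
    exact this
  · intro ψ' hψ'
    have h4 : S.map (ModuleCat.ofHom ψ') = S.map g' := by
      apply h.1
      show Groth.Agent.H9.DCF.c0 I N ≫ S.map (ModuleCat.ofHom ψ') =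
        Groth.Agent.H9.DCF.c0 I N ≫ S.map g'
      refine Eq.trans ?_ hg.symm
      show S.map (ModuleCat.ofHom (AdicCompletion.of I N)) ≫ S.map (ModuleCat.ofHom ψ') = _
      rw [← Functor.map_comp]
      congr 1
      apply ModuleCat.hom_ext
      exact hψ'
    have h5 := S.map_injective h4
    have := congrArg ModuleCat.Hom.hom h5
    exact this


/-- `A`-linear maps out of `A^∧` into a derived complete module vanishing on `A` vanish. -/
theorem eq_zero_of_comp_of_eq_zero (M : Type u) [AddCommGroup M] [Module A M]
    (hM : DRing.IsDerivedComplete I (Dual.inD A M)) (g : AdicCompletion I A →ₗ[A] M)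
    (hg : g ∘ₗ AdicCompletion.of I A = 0) : g = 0 := by
  obtain ⟨ψ, -, hu⟩ := existsUnique_lift I A M hM 0
  rw [hu g hg, hu 0 (by simp)]

/-- the kernel of an `A`-linear map from an `A^∧`-module of the form `N^∧` to a derived complete
module is stable under `A^∧`. -/
theorem smul_mem_ker (N : Type u) [AddCommGroup N] [Module A N]
    (M : Type u) [AddCommGroup M] [Module A M]
    (hM : DRing.IsDerivedComplete I (Dual.inD A M)) (ψ : AdicCompletion I N →ₗ[A] M)
    (b : AdicCompletion I A) (k : AdicCompletion I N) (hk : ψ k = 0) : ψ (b • k) = 0 := by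
  let g : AdicCompletion I A →ₗ[A] M :=
    ψ ∘ₗ ((LinearMap.toSpanSingleton (AdicCompletion I A) (AdicCompletion I N) k).restrictScalars A)
  have hg : g ∘ₗ AdicCompletion.of I A = 0 := by
    apply LinearMap.ext
    intro a
    show ψ ((AdicCompletion.of I A a) • k) = 0
    have h1 : (AdicCompletion.of I A a) • k = a • k := by
      have : AdicCompletion.of I A a = algebraMap A (AdicCompletion I A) a := rfl
      rw [this, algebraMap_smul]
    rw [h1, map_smul, hk, smul_zero]
  have := eq_zero_of_comp_of_eq_zero I M hM g hg
  exact LinearMap.congr_fun this b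


/-- `I^n • ⊤` computed over `A` lies in `(I A^∧)^n • ⊤` computed over `A^∧`. -/
lemma pow_smul_top_le (N : Type u) [AddCommGroup N] [Module A N] (n : ℕ) (y : AdicCompletion I N)
    (hy : y ∈ I ^ n • (⊤ : Submodule A (AdicCompletion I N))) :
    y ∈ (I.map (algebraMap A (AdicCompletion I A))) ^ n •
      (⊤ : Submodule (AdicCompletion I A) (AdicCompletion I N)) := by
  refine Submodule.smul_induction_on hy ?_ ?_
  · intro a ha z _
    rw [← algebraMap_smul (AdicCompletion I A) a z]
    refine Submodule.smul_mem_smul ?_ Submodule.mem_top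
    rw [← Ideal.map_pow]
    exact Ideal.mem_map_of_mem _ ha
  · intro x z hx hz
    exact Submodule.add_mem _ hx hz

/-- **Main theorem**: a derived complete module with `M/IM` finite over a Noetherian ring is
`I`-adically complete, and its completion is finite over `A^∧`. -/
theorem isAdicComplete_and_finite (M : Type u) [AddCommGroup M] [Module A M]
    (hc : DRing.IsDerivedComplete I (Dual.inD A M))
    (hf : Module.Finite A (M ⧸ I • (⊤ : Submodule A M))) :
    IsAdicComplete I M ∧ Module.Finite (AdicCompletion I A) (AdicCompletion I M) := by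
  classical
  have hΦ : ∀ f ∈ I, Function.Bijective (Phi f M) := (isDerivedComplete_inD_iff M I).mp hc
  have hfg : I.FG := IsNoetherian.noetherian I
  obtain ⟨s, hs⟩ := hfg
  -- a finitely generated submodule `N` with `N + IM = M`
  obtain ⟨t, ht⟩ := hf.fg_top
  let σ : (M ⧸ I • (⊤ : Submodule A M)) → M := Function.surjInv (Submodule.mkQ_surjective _)
  have hσ : ∀ y, (I • (⊤ : Submodule A M)).mkQ (σ y) = y :=
    Function.surjInv_eq (Submodule.mkQ_surjective _)
  let N : Submodule A M := Submodule.span A (σ '' (t : Set (M ⧸ I • (⊤ : Submodule A M))))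
  have hNfg : N.FG := Submodule.fg_span (Set.Finite.image _ t.finite_toSet)
  haveI : Module.Finite A N := Module.Finite.iff_fg.mpr hNfg
  have hsurj : Function.Surjective ((I • (⊤ : Submodule A M)).mkQ ∘ₗ N.subtype) := by
    rw [← LinearMap.range_eq_top, LinearMap.range_comp, Submodule.range_subtype, eq_top_iff, ← ht,
      Submodule.span_le]
    intro y hy
    refine ⟨σ y, Submodule.subset_span ⟨y, hy, rfl⟩, hσ y⟩
  -- finiteness of the completion
  have hcs : Function.Surjective (AdicCompletion.map I N.subtype) :=
    AdicCompletion.map_surjective_of_mkQ_comp_surjective hsurj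
  haveI hNhat : Module.Finite (AdicCompletion I A) (AdicCompletion I N) :=
    Module.Finite.of_surjective (AdicCompletion.ofTensorProduct I N)
      (AdicCompletion.ofTensorProduct_surjective_of_finite I N)
  have hfin : Module.Finite (AdicCompletion I A) (AdicCompletion I M) :=
    Module.Finite.of_surjective (AdicCompletion.map I N.subtype) hcs
  refine ⟨?_, hfin⟩
  -- precompleteness
  have hpre : IsPrecomplete I M := by
    rw [← AdicCompletion.of_surjective_iff, ← hs]
    exact adicCompletion_of_surjective_of_Phi s
      (fun f hf => (hΦ f (hs ▸ Ideal.subset_span hf)).2)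
  -- the extension `ψ : N^∧ → M`
  obtain ⟨ψ, hψ, -⟩ := existsUnique_lift I N M hc N.subtype
  haveI : IsAdicComplete I (AdicCompletion I N) := AdicCompletion.isAdicComplete (M := N) ⟨s, hs⟩
  have hΦN : ∀ f ∈ I, Function.Bijective (Phi f (AdicCompletion I N)) := fun f hf =>
    Groth.Agent.S7048.Phi_bijective_of_isAdicComplete I (AdicCompletion I N) f hf
  -- `ψ` is surjective
  have hψs : Function.Surjective ψ := by
    rw [← LinearMap.range_eq_top]
    haveI : Subsingleton (M ⧸ LinearMap.range ψ) := by
      apply subsingleton_of_Phi_of_smul_top_eq_top s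
      · intro f hf
        have hfI : f ∈ I := hs ▸ Ideal.subset_span hf
        exact (Phi_bijective_ker_coker f ψ (hΦN f hfI) (hΦ f hfI)).2
      · rw [hs, eq_top_iff]
        rintro y -
        obtain ⟨m, rfl⟩ := Submodule.Quotient.mk_surjective _ y
        obtain ⟨n, hn⟩ := hsurj ((I • (⊤ : Submodule A M)).mkQ m)
        have h1 : m - (n : M) ∈ I • (⊤ : Submodule A M) := by
          rw [← Submodule.Quotient.mk_eq_zero, Submodule.Quotient.mk_sub, sub_eq_zero]
          exact hn.symm
        have h2 : (n : M) ∈ LinearMap.range ψ :=
          ⟨AdicCompletion.of I N n, LinearMap.congr_fun hψ n⟩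
        have h3 : (Submodule.Quotient.mk m : M ⧸ LinearMap.range ψ) =
            Submodule.Quotient.mk (m - (n : M)) := by
          rw [Submodule.Quotient.mk_sub, (Submodule.Quotient.mk_eq_zero _).mpr h2, sub_zero]
        rw [h3]
        have h4 := Submodule.mem_map_of_mem (f := (LinearMap.range ψ).mkQ) h1
        rw [Submodule.map_smul''] at h4
        exact Submodule.smul_mono le_rfl le_top h4
    exact Submodule.Quotient.subsingleton_iff.mp this
  -- the kernel as an `A^∧`-submodule
  let K' : Submodule (AdicCompletion I A) (AdicCompletion I N) :=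
    { carrier := {k | ψ k = 0}
      add_mem' := by
        intro a b ha hb
        show ψ (a + b) = 0
        rw [map_add, ha, hb, add_zero]
      zero_mem' := map_zero ψ
      smul_mem' := by
        intro b k hk
        exact smul_mem_ker I N M hc ψ b k hk }
  haveI : IsAdicComplete (I.map (algebraMap A (AdicCompletion I A))) (AdicCompletion I A) :=
    AdicCompletion.isAdicComplete_self I ⟨s, hs⟩
  haveI hH : IsHausdorff (I.map (algebraMap A (AdicCompletion I A))) (AdicCompletion I N ⧸ K') :=
    IsHausdorff.of_le_jacobson _ _ (IsAdicComplete.le_jacobson_bot _)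
  have hhaus : IsHausdorff I M := by
    constructor
    intro m hm
    obtain ⟨y, rfl⟩ := hψs m
    have hy0 : (Submodule.Quotient.mk y : AdicCompletion I N ⧸ K') = 0 := by
      apply hH.haus'
      intro n
      rw [SModEq.zero]
      have hmn : ψ y ∈ I ^ n • (⊤ : Submodule A M) := by
        have := hm n
        rwa [SModEq.zero] at this
      have htop : (⊤ : Submodule A M) = Submodule.map ψ ⊤ := by
        rw [Submodule.map_top, LinearMap.range_eq_top.mpr hψs]
      rw [htop, ← Submodule.map_smul''] at hmn
      obtain ⟨y', hy', hyy'⟩ := hmn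
      have hk : y - y' ∈ K' := by
        show ψ (y - y') = 0
        rw [map_sub, hyy', sub_self]
      have h5 : (Submodule.Quotient.mk y : AdicCompletion I N ⧸ K') = Submodule.Quotient.mk y' := by
        rw [← sub_eq_zero, ← Submodule.Quotient.mk_sub]
        exact (Submodule.Quotient.mk_eq_zero _).mpr hk
      rw [h5]
      have h6 := pow_smul_top_le I N n y' hy'
      have h7 := Submodule.mem_map_of_mem (f := K'.mkQ) h6
      rw [Submodule.map_smul''] at h7
      exact Submodule.smul_mono le_rfl le_top h7
    exact (Submodule.Quotient.mk_eq_zero _).mp hy0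
  exact { toIsHausdorff := hhaus, toIsPrecomplete := hpre }

end Groth.Agent.H35.DCFinite
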