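import Mathlib
import Groth.Agent.H35.TorCrit
import Groth.Agent.H35.LTensorCxLib

/-!
# Local equivalences for derived complete objects are stable under `- ⊗ F`, `F` K-flat (helper35)
-/

set_option autoImplicit false
set_option linter.style.haveILetI false
universe u

open CategoryTheory CategoryTheory.Limits CategoryTheory.Pretriangulated DerivedCategory
  MonoidalCategory HomologicalComplex

attribute [local instance] HasDerivedCategory.standard

namespace Groth.Agent.H35.DCTensorCx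

open Groth.Agent.H9.DC Groth.Agent.H35 Groth.Agent.H35.KosAbs Groth.Agent.H35.KosCrit
  Groth.Agent.H35.KF Groth.Agent.H35.LT Groth.Agent.H35.DCTensor Groth.Agent.H35.TorCrit

variable {A : Type u} [CommRing A]

section TnIso

variable (K : DRing.Cx A) (hK : ∀ q, q ≠ 0 → IsZero (K.X q))

/-- if `K` is concentrated in degree `0`, then `P ⊗ K` is the termwise tensor product with `K⁰` -/
noncomputable def tnIsoApp (P : DRing.Cx A) : (Tn (K.X 0)).obj P ≅ P ⊗ K :=
  HomologicalComplex.Hom.isoOfComponents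
    (fun n => @asIso _ _ _ _ _ (isIso_ιMapBifunctor_of_isZero P K 0 hK n n (by simp)))
    (fun n n' hnn' => by
      have h := ι_comp_d_of_isZero P K 0 hK n n' n n' hnn' (by simp) (by simp)
      exact h)

lemma tnIsoApp_naturality {P P' : DRing.Cx A} (a : P ⟶ P') :
    (Tn (K.X 0)).map a ≫ (tnIsoApp K hK P').hom = (tnIsoApp K hK P).hom ≫ (a ▷ K) := by
  ext n : 1
  have h := ι_mapBifunctorMap a (𝟙 K) (curriedTensor (ModuleCat.{u} A)) (ComplexShape.up ℤ)
    n 0 n (by simp)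
  have e1 : ((curriedTensor (ModuleCat.{u} A)).obj (P'.X n)).map ((𝟙 K : K ⟶ K).f 0) = 𝟙 _ := by
    rw [HomologicalComplex.id_f, CategoryTheory.Functor.map_id]
  rw [e1, Category.id_comp] at h
  exact h.symm

end TnIso

section QuasiIso

lemma quasiIso_iff_of_comm {X Y X' Y' : DRing.Cx A} (f : X ⟶ Y) (g : X' ⟶ Y') (e : X ≅ X')
    (e' : Y ≅ Y') (h : f ≫ e'.hom = e.hom ≫ g) : QuasiIso f ↔ QuasiIso g :=
  quasiIso_iff_of_arrow_mk_iso f g (Arrow.isoMk e e' h.symm)

/-- **B0**: termwise tensoring with `T` versus tensoring with `T[0]` -/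
lemma quasiIso_Tn_map_iff (T : ModuleCat.{u} A) {P P' : DRing.Cx A} (a : P ⟶ P') :
    QuasiIso ((Tn T).map a) ↔ QuasiIso (a ▷ sgl T) := by
  have hK : ∀ q, q ≠ 0 → IsZero ((sgl T).X q) :=
    fun q hq => isZero_single_obj_X (ComplexShape.up ℤ) 0 T q hq
  let e : T ≅ (sgl T).X 0 := (singleObjXSelf (ComplexShape.up ℤ) 0 T).symm
  let ν : Tn T ≅ Tn ((sgl T).X 0) :=
    NatIso.mapHomologicalComplex (tensorRightIsoOfIso e) (ComplexShape.up ℤ)
  have h1 : QuasiIso ((Tn T).map a) ↔ QuasiIso ((Tn ((sgl T).X 0)).map a) :=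
    quasiIso_iff_of_comm _ _ (ν.app P) (ν.app P') (ν.hom.naturality a)
  have h2 : QuasiIso ((Tn ((sgl T).X 0)).map a) ↔ QuasiIso (a ▷ sgl T) :=
    quasiIso_iff_of_comm _ _ (tnIsoApp (sgl T) hK P) (tnIsoApp (sgl T) hK P')
      (tnIsoApp_naturality (sgl T) hK a)
  exact h1.trans h2

/-- **B2** -/
lemma quasiIso_whiskerRight_whiskerRight {E₁ E₂ : DRing.Cx A} (a : E₁ ⟶ E₂) (F T' : DRing.Cx A)
    (hF : IsKFlat F) (h : QuasiIso (a ▷ T')) : QuasiIso ((a ▷ F) ▷ T') := by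
  have h1 : QuasiIso ((a ▷ T') ▷ F) := quasiIso_whiskerRight_of_isKFlat hF (a ▷ T')
  have h2 : QuasiIso (a ▷ (T' ⊗ F)) :=
    (quasiIso_iff_of_comm ((a ▷ T') ▷ F) (a ▷ (T' ⊗ F)) (α_ E₁ T' F) (α_ E₂ T' F)
      (associator_naturality_left a T' F)).1 h1
  let s : F ⊗ T' ≅ T' ⊗ F := tensorSwapIso F T'
  have h3 : QuasiIso (a ▷ (F ⊗ T')) :=
    (quasiIso_iff_of_comm (a ▷ (F ⊗ T')) (a ▷ (T' ⊗ F)) (whiskerLeftIso E₁ s) (whiskerLeftIso E₂ s)
      (whisker_exchange a s.hom).symm).2 h2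
  exact (quasiIso_iff_of_comm ((a ▷ F) ▷ T') (a ▷ (F ⊗ T')) (α_ E₁ F T') (α_ E₂ F T')
      (associator_naturality_left a F T')).2 h3

/-- **B3** -/
lemma isKFlat_tensor {E F : DRing.Cx A} (hE : IsKFlat E) (hF : IsKFlat F) : IsKFlat (E ⊗ F) := by
  intro L hL i
  have h1 := hF (L ⊗ E) (hE L hL)
  exact (h1 i).of_iso ((HomologicalComplex.homologyFunctor _ _ i).mapIso (α_ L E F).symm)

end QuasiIso

section Main

variable (fs : List A)

lemma smul_id_Tn_eq_zero (c : A) (hc : c ∈ fs) (Y : DRing.Cx A) :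
    c • 𝟙 ((Tn (ModuleCat.of A (A ⧸ Ideal.span {x | x ∈ fs}))).obj Y) = 0 := by
  ext n : 1
  apply ModuleCat.hom_ext
  apply TensorProduct.ext'
  intro y t
  obtain ⟨t', rfl⟩ := Ideal.Quotient.mk_surjective t
  show c • (y ⊗ₜ[A] (Ideal.Quotient.mk _ t')) = 0
  have hmem : c * t' ∈ Ideal.span {x | x ∈ fs} :=
    Ideal.mul_mem_right _ _ (Ideal.subset_span hc)
  rw [TensorProduct.smul_tmul', TensorProduct.smul_tmul, Algebra.smul_def,
    Ideal.Quotient.algebraMap_eq, ← map_mul,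
    Ideal.Quotient.eq_zero_iff_mem.2 hmem, TensorProduct.tmul_zero]

/-- **B1**: a local equivalence between K-flat complexes is a quasi-isomorphism modulo `fs` -/
theorem quasiIso_Tn_map_of_locEq {E₁ E₂ : DRing.Cx A} (a : E₁ ⟶ E₂)
    (h₁ : IsKFlat E₁) (h₂ : IsKFlat E₂)
    (ha : LocEq (PerpL (T := Dual.D A) fs) (Q.map a)) :
    QuasiIso ((Tn (ModuleCat.of A (A ⧸ Ideal.span {x | x ∈ fs}))).map a) := by
  set T := ModuleCat.of A (A ⧸ Ideal.span {x | x ∈ fs})
  have hT : Q.mapTriangle.obj (CochainComplex.mappingCone.triangle a) ∈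
      distTriang (Dual.D A) := by
    rw [mem_distTriang_iff]
    exact ⟨_, _, _, ⟨Iso.refl _⟩⟩
  have h1 : LeftOrth fs (Q.obj (CochainComplex.mappingCone a)) :=
    (locEq_iff_leftOrth fs (Q.map a) _ _ hT).1 ha
  have hkf : IsKFlat (CochainComplex.mappingCone a) :=
    (isKFlat_mappingCone_two_of_three a).1 h₁ h₂
  have h2 : LeftOrth fs (Q.obj ((Tn T).obj (CochainComplex.mappingCone a))) :=
    leftOrth_tensor T fs _ hkf h1
  have h3 : PerpL fs (Q.obj ((Tn T).obj (CochainComplex.mappingCone a))) := by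
    intro c hc
    apply Nil.perp
    refine ⟨1, ?_⟩
    rw [pow_one, ← CategoryTheory.Functor.map_id, ← Functor.map_smul,
      smul_id_Tn_eq_zero fs c hc, Functor.map_zero]
  have h4 : IsZero (Q.obj ((Tn T).obj (CochainComplex.mappingCone a))) :=
    isZero_of_leftOrth_of_perpL h2 h3
  have h5 : IsZero (Q.obj (CochainComplex.mappingCone ((Tn T).map a))) :=
    h4.of_iso (Q.mapIso
      (CochainComplex.mappingCone.mapHomologicalComplexIso a (tensorRight T)).symm)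
  have h6 : IsIso (Q.map ((Tn T).map a)) :=
    (Triangle.isZero₃_iff_isIso₁ _
      (DerivedCategory.mappingCone_triangle_distinguished ((Tn T).map a))).1 h5
  exact (DerivedCategory.isIso_Q_map_iff_quasiIso (φ := (Tn T).map a)).1 h6

/-- **local equivalences are stable under tensoring with a K-flat complex** -/
theorem locEq_Q_map_whiskerRight {E₁ E₂ : DRing.Cx A} (a : E₁ ⟶ E₂) (F : DRing.Cx A)
    (h₁ : IsKFlat E₁) (h₂ : IsKFlat E₂) (hF : IsKFlat F)
    (ha : LocEq (PerpL (T := Dual.D A) fs) (Q.map a)) :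
    LocEq (PerpL (T := Dual.D A) fs) (Q.map (a ▷ F)) := by
  set T := ModuleCat.of A (A ⧸ Ideal.span {x | x ∈ fs})
  have q1 : QuasiIso ((Tn T).map a) := quasiIso_Tn_map_of_locEq fs a h₁ h₂ ha
  have q2 : QuasiIso (a ▷ sgl T) := (quasiIso_Tn_map_iff T a).1 q1
  have q3 : QuasiIso ((a ▷ F) ▷ sgl T) := quasiIso_whiskerRight_whiskerRight a F (sgl T) hF q2
  have q4 : QuasiIso ((Tn T).map (a ▷ F)) := (quasiIso_Tn_map_iff T (a ▷ F)).2 q3
  exact locEq_of_isIso_tensor_quotient fs (a ▷ F) (isKFlat_tensor h₁ hF) (isKFlat_tensor h₂ hF)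
    ((DerivedCategory.isIso_Q_map_iff_quasiIso (φ := (Tn T).map (a ▷ F))).2 q4)

end Main

end Groth.Agent.H35.DCTensorCx
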