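import Mathlib
import Groth.Agent.H35.PhiTensor
import Groth.Agent.H35.KFTorInv
import Groth.Agent.H35.TensorAmp
import Groth.Agent.H35.DCTensor

/-!
# Derived completeness of `E ⊗ F` for `F` a bounded above complex of finite modules (helper35)
-/

set_option autoImplicit false
set_option linter.style.haveILetI false
universe u

open CategoryTheory CategoryTheory.Limits MonoidalCategory HomologicalComplex

namespace Groth.Agent.H35.PhiTensorCx

open Groth.Agent.H35 Groth.Agent.H35.LT Groth.Agent.H35.KF Groth.Agent.H35.PhiTensor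
  Groth.Agent.H35.DCTensor Groth.Agent.H45

variable {A : Type u} [CommRing A] (f : A)

lemma bij_of_isZero_homology (M : ModuleCat.{u} A) (h : IsZero M) :
    Function.Bijective (Phi f M) := by
  haveI : Subsingleton M := ModuleCat.subsingleton_of_isZero h
  exact ⟨fun a b _ => Subsingleton.elim _ _, fun y => ⟨0, Subsingleton.elim _ _⟩⟩

/-- **Lemma A**: extensions, degree by degree -/
theorem bij_of_shortExact (S : ShortComplex (DRing.Cx A)) (hS : S.ShortExact) (n : ℤ)
    (h3' : Function.Surjective (Phi f (S.X₃.homology (n - 1))))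
    (h1 : Function.Bijective (Phi f (S.X₁.homology n)))
    (h3 : Function.Bijective (Phi f (S.X₃.homology n)))
    (h1' : Function.Bijective (Phi f (S.X₁.homology (n + 1)))) :
    Function.Bijective (Phi f (S.X₂.homology n)) := by
  have e1 := (ShortComplex.ShortExact.moduleCat_exact_iff_function_exact _).1
    (hS.homology_exact₁ (n - 1) n (by simp))
  have e2 := (ShortComplex.ShortExact.moduleCat_exact_iff_function_exact _).1
    (hS.homology_exact₂ n)
  have e3 := (ShortComplex.ShortExact.moduleCat_exact_iff_function_exact _).1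
    (hS.homology_exact₃ n (n + 1) rfl)
  exact Phi_bijective_middle f (hS.δ (n - 1) n (by simp)).hom
    (HomologicalComplex.homologyMap S.f n).hom
    (HomologicalComplex.homologyMap S.g n).hom
    (hS.δ n (n + 1) rfl).hom e1 e2 e3 h3' h1 h3 h1'

/-- homology of `P ⊗ K` for `K` concentrated in one degree -/
noncomputable def homologyTensorIso (P K : DRing.Cx A) (m : ℤ)
    (hK : ∀ q, q ≠ m → IsZero (K.X q)) (n p : ℤ) (hp : p + m = n) :
    (P ⊗ K).homology n ≅ ((Tn (K.X m)).obj P).homology p := by
  let T := mapBifunctor P K (curriedTensor (ModuleCat.{u} A)) (ComplexShape.up ℤ)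
  have hπ : ∀ a b : ℤ, a + m = b →
      ComplexShape.π (ComplexShape.up ℤ) (ComplexShape.up ℤ) (ComplexShape.up ℤ) (a, m) = b :=
    fun a b h => h
  have i₁ := isIso_ιMapBifunctor_of_isZero P K m hK (p - 1) (n - 1) (hπ _ _ (by lia))
  have i₂ := isIso_ιMapBifunctor_of_isZero P K m hK p n (hπ _ _ (by lia))
  have i₃ := isIso_ιMapBifunctor_of_isZero P K m hK (p + 1) (n + 1) (hπ _ _ (by lia))
  let e : ((Tn (K.X m)).obj P).sc' (p - 1) p (p + 1) ≅ T.sc' (n - 1) n (n + 1) :=
    ShortComplex.isoMk (@asIso _ _ _ _ _ i₁) (@asIso _ _ _ _ _ i₂) (@asIso _ _ _ _ _ i₃)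
      (ι_comp_d_of_isZero P K m hK (p - 1) p (n - 1) n (by lia) _ _)
      (ι_comp_d_of_isZero P K m hK p (p + 1) n (n + 1) rfl _ _)
  exact (T.homologyIsoSc' (n - 1) n (n + 1) (by simp) (by simp)) ≪≫
    (ShortComplex.homologyMapIso e).symm ≪≫
    (((Tn (K.X m)).obj P).homologyIsoSc' (p - 1) p (p + 1) (by simp) (by simp)).symm

section Main

variable [IsNoetherianRing A] (E : DRing.Cx A) (hEfl : ∀ i, Module.Flat A (E.X i))
  (hE : ∀ n, Function.Bijective (Phi f (E.homology n))) (b : ℤ)
  (hEb : ∀ i, b < i → IsZero (E.X i))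

include hEfl hE hEb

/-- **Lemma C**: tensoring with a complex concentrated in one degree -/
theorem bij_tensor_concentrated (K : DRing.Cx A) (m : ℤ) (hK : ∀ q, q ≠ m → IsZero (K.X q))
    (hfin : Module.Finite A (K.X m)) (n : ℤ) :
    Function.Bijective (Phi f ((E ⊗ K).homology n)) := by
  have h1 := bij_tensor_finite f E hEfl hE b hEb (K.X m) (n - m)
  have h2 : Function.Bijective (Phi f (((Tn (K.X m)).obj E).homology (n - m))) := h1
  exact Phi_bijective_of_linearEquiv f
    (homologyTensorIso E K m hK n (n - m) (by lia)).symm.toLinearEquiv h2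

variable (F : DRing.Cx A) (c : ℤ) (hFc : ∀ i, c < i → IsZero (F.X i))
  (hFfin : ∀ i, Module.Finite A (F.X i)) (hFfl : ∀ i, Module.Flat A (F.X i))

include hFc hFfin hFfl

/-- **Step 1**: bounded truncations -/
theorem bij_tensor_sigmaGE (k : ℕ) :
    ∀ n, Function.Bijective (Phi f ((E ⊗ sigmaGE F (c - k)).homology n)) := by
  induction k with
  | zero =>
    have e : c - ((0 : ℕ) : ℤ) = c := by simp
    rw [e]
    have hiso := isIso_ιSigmaGE_f F c c le_rfl
    refine bij_tensor_concentrated f E hEfl hE b hEb _ c (fun q hq => ?_) ?_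
    · by_cases h : q < c
      · exact isZero_sigmaGE_X F c q h
      · have hiso' := isIso_ιSigmaGE_f F c q (by lia)
        exact (hFc q (by lia)).of_iso (@asIso _ _ _ _ _ hiso')
    · exact Module.Finite.equiv (@asIso _ _ _ _ _ hiso).toLinearEquiv.symm
  | succ k ih =>
    have e : c - ((k + 1 : ℕ) : ℤ) = (c - k) - 1 := by push_cast; ring
    rw [e]
    intro n
    let S := sigmaGEShortComplex F (c - k)
    have hS : S.ShortExact := sigmaGEShortComplex_shortExact F (c - k)
    have h3 : ∀ q : ℤ, Module.Flat A (S.X₃.X q) := by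
      intro q
      by_cases hq : q = (c - k) - 1
      · subst hq
        exact isFlat_of_iso (sigmaGEShortComplexX₃XIso F (c - k)).symm (hFfl _)
      · exact isFlat_of_isZero (isZero_sigmaGEShortComplex_X₃_X F (c - k) q hq)
    have hS' : (S.map (tensorLeft E)).ShortExact := shortExact_map_tensorLeft_of_flat S hS h3 E
    have hX₃ : ∀ n, Function.Bijective (Phi f ((E ⊗ S.X₃).homology n)) :=
      bij_tensor_concentrated f E hEfl hE b hEb S.X₃ ((c - k) - 1)
        (fun q hq => isZero_sigmaGEShortComplex_X₃_X F (c - k) q hq)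
        (Module.Finite.equiv (sigmaGEShortComplexX₃XIso F (c - k)).toLinearEquiv.symm)
    exact bij_of_shortExact f (S.map (tensorLeft E)) hS' n (hX₃ (n - 1)).2 (ih n) (hX₃ n)
      (ih (n + 1))

omit [IsNoetherianRing A] hEfl hE hEb hFc hFfin hFfl in
/-- the short exact sequence `0 → σ_{≥ m} F → F → σ_{≤ m-1} F → 0` -/
lemma truncSC_shortExact (m : ℤ) :
    (ShortComplex.mk (ιSigmaGE F m) (πStupidLE F (m - 1)) (kernel.condition _)).ShortExact where
  exact := ShortComplex.exact_of_f_is_kernel _ (kernelIsKernel _)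
  mono_f := inferInstanceAs (Mono (ιSigmaGE F m))
  epi_g := by
    have : ∀ q, Epi ((πStupidLE F (m - 1)).f q) := by
      intro q
      by_cases hq : q ≤ m - 1
      · have := isIso_πStupidLE_f F (m - 1) q hq
        infer_instance
      · exact (isZero_stupidTruncLE_X F (m - 1) q (by lia)).epi _
    exact HomologicalComplex.epi_of_epi_f _ this

/-- **Step 2**: `E ⊗ F` has derived `f`-complete cohomology -/
theorem bij_tensor_bounded_above (n : ℤ) :
    Function.Bijective (Phi f ((E ⊗ F).homology n)) := by
  by_cases hn : b + c < n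
  · apply bij_of_isZero_homology
    refine ShortComplex.isZero_homology_of_isZero_X₂ _ (isZero_tensor_X E F n (fun p q hpq => ?_))
    by_cases hp : b < p
    · exact Or.inl (hEb p hp)
    · exact Or.inr (hFc q (by lia))
  · set m := n - b - 1 with hm
    let S : ShortComplex (DRing.Cx A) :=
      ShortComplex.mk (ιSigmaGE F m) (πStupidLE F (m - 1)) (kernel.condition _)
    have hS : S.ShortExact := truncSC_shortExact F m
    have h3 : ∀ q, Module.Flat A (S.X₃.X q) := by
      intro q
      by_cases hq : q ≤ m - 1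
      · have := isIso_πStupidLE_f F (m - 1) q hq
        exact isFlat_of_iso (@asIso _ _ _ _ _ this) (hFfl q)
      · exact isFlat_of_isZero (isZero_stupidTruncLE_X F (m - 1) q (by lia))
    have hS' : (S.map (tensorLeft E)).ShortExact := shortExact_map_tensorLeft_of_flat S hS h3 E
    have hz : ∀ k, n - 1 ≤ k → IsZero ((E ⊗ S.X₃).homology k) := by
      intro k hk
      refine ShortComplex.isZero_homology_of_isZero_X₂ _
        (isZero_tensor_X E S.X₃ k (fun p q hpq => ?_))
      by_cases hp : b < p
      · exact Or.inl (hEb p hp)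
      · exact Or.inr (isZero_stupidTruncLE_X F (m - 1) q (by lia))
    have h1 : ∀ k', Function.Bijective (Phi f ((E ⊗ sigmaGE F m).homology k')) := by
      have := bij_tensor_sigmaGE f E hEfl hE b hEb F c hFc hFfin hFfl (c - m).toNat
      rwa [show c - ((c - m).toNat : ℤ) = m by lia] at this
    exact bij_of_shortExact f (S.map (tensorLeft E)) hS' n
      (bij_of_isZero_homology f _ (hz (n - 1) le_rfl)).2 (h1 n)
      (bij_of_isZero_homology f _ (hz n (by lia))) (h1 (n + 1))

end Main

end Groth.Agent.H35.PhiTensorCx
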