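import Mathlib
import Groth.Agent.H35.DCTensorCx
import Groth.Agent.H35.PhiTensorCx
import Groth.Agent.H35.DCTensorMain

/-!
# `K^∧ ⊗^L F` is the derived completion of `K ⊗^L F` for `F` bounded above finite free (helper35)
-/

set_option autoImplicit false
set_option linter.style.haveILetI false
universe u

open CategoryTheory CategoryTheory.Limits CategoryTheory.Pretriangulated DerivedCategory
  MonoidalCategory

attribute [local instance] HasDerivedCategory.standard

namespace Groth.Agent.H35.DCTensorCxMain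

open Groth.Agent.H9.DC Groth.Agent.H35 Groth.Agent.H35.KosAbs Groth.Agent.H35.KosCrit
  Groth.Agent.H35.KF Groth.Agent.H35.LT Groth.Agent.H35.DCTensor Groth.Agent.H35.PhiTensor
  Groth.Agent.H35.DCTensorCx Groth.Agent.H35.PhiTensorCx

variable {A : Type u} [CommRing A]

lemma LTensorCxIso_naturality (L : DRing.Cx A) [DRing.HasLTensorCx A L] {P P' : DRing.Cx A}
    (a : P ⟶ P') (hP : IsKFlat P) (hP' : IsKFlat P') :
    (DRing.LTensorCx A L).map (Q.map a) ≫ (LTensorCxIso L P' hP').hom =
      (LTensorCxIso L P hP).hom ≫ Q.map (a ▷ L) :=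
  ((DRing.tensorCxQ A L).totalLeftDerivedCounit DerivedCategory.Q
      (HomologicalComplex.quasiIso (ModuleCat.{u} A) (ComplexShape.up ℤ))).naturality a

variable [IsNoetherianRing A]

/-- **S7103** -/
theorem derivedCompletion_LTensorCx (I : Ideal A) [DRing.HasDerivedCompletion I]
    (F : DRing.Cx A) (c : ℤ) (hFc : DRing.VanishesAbove F c)
    (hFf : DRing.TermwiseFiniteFree F) [DRing.HasLTensorCx A F]
    (K : Dual.D A) (b : ℤ) (hK : ∀ i : ℤ, b < i → Subsingleton (Dual.HD A K i)) :
    DRing.IsDerivedComplete I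
        ((DRing.LTensorCx A F).obj ((DRing.derivedCompletion I).obj K).obj) ∧
      ∀ E : Dual.D A, DRing.IsDerivedComplete I E →
        Function.Bijective
          (fun φ : (DRing.LTensorCx A F).obj ((DRing.derivedCompletion I).obj K).obj ⟶ E =>
            (DRing.LTensorCx A F).map (DRing.toDerivedCompletion I K) ≫ φ) := by
  classical
  obtain ⟨s, hs⟩ := (IsNoetherian.noetherian I : I.FG)
  have hfs : Ideal.span {x | x ∈ s.toList} = I := by
    rw [← hs]
    congr 1
    ext x
    simp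
  subst hfs
  set fs := s.toList with hfsdef
  set I := Ideal.span {x | x ∈ fs} with hI
  set Kc := ((DRing.derivedCompletion I).obj K).obj with hKc
  set η := DRing.toDerivedCompletion I K with hη
  set LT := DRing.LTensorCx A F with hLT
  have hFfl : ∀ i, Module.Flat A (F.X i) := fun i => by
    have := (hFf i).2
    infer_instance
  have hFfin : ∀ i, Module.Finite A (F.X i) := fun i => (hFf i).1
  have hFkf : IsKFlat F := isKFlat_of_bounded_flat F c hFc hFfl
  -- bounds
  have hKcb : ∀ i : ℤ, b < i → Subsingleton (Dual.HD A Kc i) := by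
    intro i hi
    rw [subsingleton_HD_iff]
    apply completion_bounds I fs rfl K (Dual.inD A A) i
    intro k hk _
    rw [← subsingleton_HD_iff]
    exact hK k (by omega)
  have hK' : ∀ n : ℤ, b < n →
      IsZero ((DerivedCategory.homologyFunctor (ModuleCat.{u} A) n).obj K) := fun n hn => by
    haveI := hK n hn
    exact ModuleCat.isZero_of_subsingleton _
  have hKc' : ∀ n : ℤ, b < n →
      IsZero ((DerivedCategory.homologyFunctor (ModuleCat.{u} A) n).obj Kc) := fun n hn => by
    haveI := hKcb n hn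
    exact ModuleCat.isZero_of_subsingleton _
  obtain ⟨E₁, hE₁b, hE₁p, ⟨e₁⟩⟩ := exists_projective_rep K b hK'
  obtain ⟨E₂, hE₂b, hE₂p, ⟨e₂⟩⟩ := exists_projective_rep Kc b hKc'
  haveI : E₁.IsKProjective := isKProjective_of_vanishesAbove E₁ b hE₁b hE₁p
  have hE₁fl : ∀ i, Module.Flat A (E₁.X i) := fun i => by
    have := hE₁p i
    infer_instance
  have hE₂fl : ∀ i, Module.Flat A (E₂.X i) := fun i => by
    have := hE₂p i
    infer_instance
  have hE₁kf : IsKFlat E₁ := isKFlat_of_bounded_flat E₁ b hE₁b hE₁fl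
  have hE₂kf : IsKFlat E₂ := isKFlat_of_bounded_flat E₂ b hE₂b hE₂fl
  obtain ⟨a, ha⟩ := Q_map_surjective_of_isKProjective E₂ (e₁.hom ≫ η ≫ e₂.inv)
  -- part (a)
  have hdc2 : DRing.IsDerivedComplete I (Q.obj E₂) :=
    isDerivedComplete_of_iso I e₂.symm ((DRing.derivedCompletion I).obj K).property
  have hΦ₂ := (isDerivedComplete_Q_iff I E₂).1 hdc2
  have hdcT : DRing.IsDerivedComplete I (Q.obj (E₂ ⊗ F)) := by
    rw [isDerivedComplete_Q_iff]
    intro f hf n
    exact bij_tensor_bounded_above f E₂ hE₂fl (hΦ₂ f hf) b hE₂b F c hFc hFfin hFfl n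
  let eT₁ : LT.obj K ≅ Q.obj (E₁ ⊗ F) := LT.mapIso e₁.symm ≪≫ LTensorCxIso F E₁ hE₁kf
  let eT₂ : LT.obj Kc ≅ Q.obj (E₂ ⊗ F) := LT.mapIso e₂.symm ≪≫ LTensorCxIso F E₂ hE₂kf
  refine ⟨isDerivedComplete_of_iso I eT₂.symm hdcT, ?_⟩
  -- part (b)
  have hloc : LocEq (PerpL (T := Dual.D A) fs) η := fun E hE =>
    (locEq_toDerivedCompletion I K) E ((isDerivedComplete_iff_perpL fs E).2 hE)
  have hlocA : LocEq (PerpL (T := Dual.D A) fs) (Q.map a) := by
    rw [ha]
    exact (LocEq.of_isIso _ e₁.hom).comp (hloc.comp (LocEq.of_isIso _ e₂.inv))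
  have hlocT := locEq_Q_map_whiskerRight fs a F hE₁kf hE₂kf hFkf hlocA
  have hnat := LTensorCxIso_naturality F a hE₁kf hE₂kf
  have hfac : LT.map η = eT₁.hom ≫ Q.map (a ▷ F) ≫ eT₂.inv := by
    have h1 : LT.map (Q.map a) = LT.map e₁.hom ≫ LT.map η ≫ LT.map e₂.inv := by
      rw [ha, Functor.map_comp, Functor.map_comp]
    have h2 : LT.map η = LT.map e₁.inv ≫ LT.map (Q.map a) ≫ LT.map e₂.hom := by
      rw [h1]
      simp only [Category.assoc, ← Functor.map_comp, Iso.inv_hom_id, Iso.inv_hom_id_assoc,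
        Category.comp_id]
    rw [h2]
    simp only [eT₁, eT₂, Iso.trans_hom, Iso.trans_inv, Functor.mapIso_hom, Functor.mapIso_inv,
      Iso.symm_hom, Iso.symm_inv, Category.assoc]
    congr 1
    rw [← Category.assoc (LTensorCxIso F E₁ hE₁kf).hom, ← hnat]
    simp only [Category.assoc, Iso.hom_inv_id_assoc]
    rfl
  have hlocF : LocEq (PerpL (T := Dual.D A) fs) (LT.map η) := by
    rw [hfac]
    exact (LocEq.of_isIso _ eT₁.hom).comp (hlocT.comp (LocEq.of_isIso _ eT₂.inv))
  intro E hE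
  exact hlocF E ((isDerivedComplete_iff_perpL fs E).1 hE)

end Groth.Agent.H35.DCTensorCxMain
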