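import Mathlib
import Groth.Agent.H35.DerNakayama

/-!
# Derived Nakayama with degree tracking (helper35)

If `K` is derived complete with respect to a finitely generated ideal `I`, then `H^i(K) = 0` for
`i > b` as soon as `H^i(K ⊗^L A/I) = 0` for `i > b`.
-/

open CategoryTheory Limits MonoidalCategory Pretriangulated

namespace Groth.Agent.H35.LT

universe u

open HomologicalComplex Groth.Agent.H35.KF DerivedCategory

attribute [local instance] HasDerivedCategory.standard

section SES

variable {C : Type*} [Category C] [Abelian C]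

lemma isIso_homologyMap_g_of_exactAt_deg {S : ShortComplex (CochainComplex C ℤ)}
    (hS : S.ShortExact) (i : ℤ) (h₁ : S.X₁.ExactAt i) (h₂ : S.X₁.ExactAt (i + 1)) :
    IsIso (HomologicalComplex.homologyMap S.g i) := by
  have hz₁ : IsZero (S.X₁.homology i) := (S.X₁.exactAt_iff_isZero_homology i).1 h₁
  have hz₂ : IsZero (S.X₁.homology (i + 1)) := (S.X₁.exactAt_iff_isZero_homology (i + 1)).1 h₂
  have hm : Mono (HomologicalComplex.homologyMap S.g i) :=
    (hS.homology_exact₂ i).mono_g (hz₁.eq_of_src _ _)
  have he : Epi (HomologicalComplex.homologyMap S.g i) :=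
    (hS.homology_exact₃ i (i + 1) (by simp)).epi_f (hz₂.eq_of_tgt _ _)
  exact isIso_of_mono_of_epi _

lemma epi_homologyMap_f_of_exactAt_deg {S : ShortComplex (CochainComplex C ℤ)}
    (hS : S.ShortExact) (i : ℤ) (h : S.X₃.ExactAt i) :
    Epi (HomologicalComplex.homologyMap S.f i) := by
  have hz : IsZero (S.X₃.homology i) := (S.X₃.exactAt_iff_isZero_homology i).1 h
  exact (hS.homology_exact₂ i).epi_f (hz.eq_of_tgt _ _)

lemma mono_homologyMap_f_of_exactAt_deg {S : ShortComplex (CochainComplex C ℤ)}
    (hS : S.ShortExact) (i : ℤ) (h : S.X₃.ExactAt (i - 1)) :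
    Mono (HomologicalComplex.homologyMap S.f i) := by
  have hz : IsZero (S.X₃.homology (i - 1)) := (S.X₃.exactAt_iff_isZero_homology (i - 1)).1 h
  exact (hS.homology_exact₁ (i - 1) i (by simp)).mono_g (hz.eq_of_src _ _)

end SES

section Cone

variable {A : Type u} [CommRing A]

lemma epi_iff_of_arrow_comm {C : Type*} [Category C] {X Y X' Y' : C} (f : X ⟶ Y) (g : X' ⟶ Y')
    (a : X ≅ X') (b : Y ≅ Y') (w : f ≫ b.hom = a.hom ≫ g) : Epi f ↔ Epi g :=
  (MorphismProperty.epimorphisms C).arrow_mk_iso_iff (Arrow.isoMk a b w.symm)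

lemma mono_iff_of_arrow_comm {C : Type*} [Category C] {X Y X' Y' : C} (f : X ⟶ Y) (g : X' ⟶ Y')
    (a : X ≅ X') (b : Y ≅ Y') (w : f ≫ b.hom = a.hom ≫ g) : Mono f ↔ Mono g :=
  (MorphismProperty.monomorphisms C).arrow_mk_iso_iff (Arrow.isoMk a b w.symm)

lemma epi_homologyFunctor_map_Q_map_iff {K L : CochainComplex (ModuleCat.{u} A) ℤ} (φ : K ⟶ L)
    (n : ℤ) :
    Epi ((DerivedCategory.homologyFunctor (ModuleCat.{u} A) n).map (Q.map φ)) ↔
      Epi (HomologicalComplex.homologyMap φ n) :=
  epi_iff_of_arrow_comm _ _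
    ((DerivedCategory.homologyFunctorFactors (ModuleCat.{u} A) n).app K)
    ((DerivedCategory.homologyFunctorFactors (ModuleCat.{u} A) n).app L)
    (DerivedCategory.homologyFunctorFactors_hom_naturality φ n)

lemma mono_homologyFunctor_map_Q_map_iff {K L : CochainComplex (ModuleCat.{u} A) ℤ} (φ : K ⟶ L)
    (n : ℤ) :
    Mono ((DerivedCategory.homologyFunctor (ModuleCat.{u} A) n).map (Q.map φ)) ↔
      Mono (HomologicalComplex.homologyMap φ n) :=
  mono_iff_of_arrow_comm _ _
    ((DerivedCategory.homologyFunctorFactors (ModuleCat.{u} A) n).app K)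
    ((DerivedCategory.homologyFunctorFactors (ModuleCat.{u} A) n).app L)
    (DerivedCategory.homologyFunctorFactors_hom_naturality φ n)

/-- If `H^j(φ)` is epi and `H^{j+1}(φ)` is mono, the cone of `φ` is exact at `j`. -/
lemma exactAt_mappingCone_of_epi_of_mono {K L : CochainComplex (ModuleCat.{u} A) ℤ} (φ : K ⟶ L)
    (j : ℤ) (he : Epi (HomologicalComplex.homologyMap φ j))
    (hm : Mono (HomologicalComplex.homologyMap φ (j + 1))) :
    (CochainComplex.mappingCone φ).ExactAt j := by
  have hT := DerivedCategory.mappingCone_triangle_distinguished φ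
  set T := DerivedCategory.Q.mapTriangle.obj (CochainComplex.mappingCone.triangle φ) with hTdef
  have he' : Epi ((DerivedCategory.homologyFunctor (ModuleCat.{u} A) j).map T.mor₁) :=
    (epi_homologyFunctor_map_Q_map_iff φ j).2 he
  have hm' : Mono ((DerivedCategory.homologyFunctor (ModuleCat.{u} A) (j + 1)).map T.mor₁) :=
    (mono_homologyFunctor_map_Q_map_iff φ (j + 1)).2 hm
  have h2 : (DerivedCategory.homologyFunctor (ModuleCat.{u} A) j).map T.mor₂ = 0 :=
    (DerivedCategory.HomologySequence.epi_homologyMap_mor₁_iff T hT j).1 he'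
  have h3 : DerivedCategory.HomologySequence.δ T j (j + 1) rfl = 0 :=
    (DerivedCategory.HomologySequence.mono_homologyMap_mor₁_iff T hT j (j + 1) rfl).1 hm'
  have hex := DerivedCategory.HomologySequence.exact₃ T hT j (j + 1) rfl
  have hz : IsZero ((DerivedCategory.homologyFunctor (ModuleCat.{u} A) j).obj T.obj₃) := by
    have hmono : Mono (DerivedCategory.HomologySequence.δ T j (j + 1) rfl) :=
      hex.mono_g h2
    rw [IsZero.iff_id_eq_zero, ← cancel_mono (DerivedCategory.HomologySequence.δ T j (j + 1) rfl),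
      h3, comp_zero, comp_zero]
  rw [exactAt_iff_isZero_homology]
  exact hz.of_iso ((DerivedCategory.homologyFunctorFactors (ModuleCat.{u} A) j).app
    (CochainComplex.mappingCone φ)).symm

/-- If the cone of `φ` is exact at `j`, `H^j(φ)` is epi. -/
lemma epi_homologyMap_of_exactAt_mappingCone {K L : CochainComplex (ModuleCat.{u} A) ℤ}
    (φ : K ⟶ L) (j : ℤ) (h : (CochainComplex.mappingCone φ).ExactAt j) :
    Epi (HomologicalComplex.homologyMap φ j) := by
  have hT := DerivedCategory.mappingCone_triangle_distinguished φ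
  set T := DerivedCategory.Q.mapTriangle.obj (CochainComplex.mappingCone.triangle φ) with hTdef
  rw [← epi_homologyFunctor_map_Q_map_iff φ j]
  refine (DerivedCategory.HomologySequence.epi_homologyMap_mor₁_iff T hT j).2 ?_
  have hz : IsZero ((DerivedCategory.homologyFunctor (ModuleCat.{u} A) j).obj T.obj₃) :=
    ((exactAt_iff_isZero_homology _ _).1 h).of_iso
      ((DerivedCategory.homologyFunctorFactors (ModuleCat.{u} A) j).app
        (CochainComplex.mappingCone φ))
  exact hz.eq_of_tgt _ _

end Cone

section Smul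

variable {A : Type u} [CommRing A] (P : CochainComplex (ModuleCat.{u} A) ℤ)

/-- Degree-tracking version of `quasiIso_tCx_map_mulBy`. -/
theorem epi_mono_homologyMap_tCx_map_mulBy (hP : ∀ p, Module.Flat A (P.X p)) (f : A)
    (N : ModuleCat.{u} A) (b : ℤ)
    (h₁ : ∀ j, b < j → TensExactAt P
      (ModuleCat.of A (LinearMap.ker (f • (LinearMap.id : N →ₗ[A] N)))) j)
    (h₂ : ∀ j, b < j → TensExactAt P
      (ModuleCat.of A (N ⧸ LinearMap.range (f • (LinearMap.id : N →ₗ[A] N)))) j) :
    (∀ j, b < j → Epi (HomologicalComplex.homologyMap ((tCx P).map (mulBy f N)) j)) ∧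
      (∀ j, b + 1 < j → Mono (HomologicalComplex.homologyMap ((tCx P).map (mulBy f N)) j)) := by
  let m : N →ₗ[A] N := f • (LinearMap.id : N →ₗ[A] N)
  let S₁ : ShortComplex (ModuleCat.{u} A) :=
    ShortComplex.mk (ModuleCat.ofHom (LinearMap.ker m).subtype)
      (ModuleCat.ofHom m.rangeRestrict) (by
        ext x
        exact x.2)
  have hS₁ : S₁.ShortExact :=
    { exact := (ShortComplex.ShortExact.moduleCat_exact_iff_function_exact S₁).2 (by
        rw [LinearMap.exact_iff]
        change LinearMap.ker m.rangeRestrict = LinearMap.range (LinearMap.ker m).subtype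
        rw [LinearMap.ker_rangeRestrict, Submodule.range_subtype])
      mono_f := (ModuleCat.mono_iff_injective _).2 (LinearMap.ker m).injective_subtype
      epi_g := (ModuleCat.epi_iff_surjective _).2 m.surjective_rangeRestrict }
  let S₂ : ShortComplex (ModuleCat.{u} A) :=
    ShortComplex.mk (ModuleCat.ofHom (LinearMap.range m).subtype)
      (ModuleCat.ofHom (LinearMap.range m).mkQ) (by
        ext x
        simp)
  have hS₂ : S₂.ShortExact :=
    { exact := (ShortComplex.ShortExact.moduleCat_exact_iff_function_exact S₂).2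
        (LinearMap.exact_subtype_mkQ (LinearMap.range m))
      mono_f := (ModuleCat.mono_iff_injective _).2 (LinearMap.range m).injective_subtype
      epi_g := (ModuleCat.epi_iff_surjective _).2 (LinearMap.range m).mkQ_surjective }
  have hS₁' := shortExact_map_tCx P hP S₁ hS₁
  have hS₂' := shortExact_map_tCx P hP S₂ hS₂
  have hfac : mulBy f N = S₁.g ≫ S₂.f := by
    ext x
    rfl
  have hiso : ∀ j, b < j → IsIso (HomologicalComplex.homologyMap ((tCx P).map S₁.g) j) := by
    intro j hj
    exact isIso_homologyMap_g_of_exactAt_deg hS₁' j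
      ((exactAt_map_tensorRight_iff P _ j).2 (h₁ j hj))
      ((exactAt_map_tensorRight_iff P _ (j + 1)).2 (h₁ (j + 1) (by omega)))
  have hepi : ∀ j, b < j → Epi (HomologicalComplex.homologyMap ((tCx P).map S₂.f) j) := by
    intro j hj
    exact epi_homologyMap_f_of_exactAt_deg hS₂' j
      ((exactAt_map_tensorRight_iff P _ j).2 (h₂ j hj))
  have hmono : ∀ j, b + 1 < j → Mono (HomologicalComplex.homologyMap ((tCx P).map S₂.f) j) := by
    intro j hj
    exact mono_homologyMap_f_of_exactAt_deg hS₂' j
      ((exactAt_map_tensorRight_iff P _ (j - 1)).2 (h₂ (j - 1) (by omega)))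
  constructor
  · intro j hj
    rw [hfac, Functor.map_comp, HomologicalComplex.homologyMap_comp]
    have := hiso j hj
    have := hepi j hj
    infer_instance
  · intro j hj
    rw [hfac, Functor.map_comp, HomologicalComplex.homologyMap_comp]
    have := hiso j (by omega)
    have := hmono j hj
    infer_instance

end Smul

section Main

variable {A : Type u} [CommRing A]

/-- Inductive form of derived Nakayama with degree tracking. -/
theorem exactAt_above_of_isDerivedComplete_of_tensExactAt (b : ℤ) (s : Finset A) :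
    ∀ (P : CochainComplex (ModuleCat.{u} A) ℤ), IsKFlat P → (∀ p, Module.Flat A (P.X p)) →
      DRing.IsDerivedComplete (Ideal.span (s : Set A)) (Q.obj P) →
      (∀ N : ModuleCat.{u} A, (∀ a ∈ Ideal.span (s : Set A), ∀ x : N, a • x = 0) →
        ∀ i, b < i → TensExactAt P N i) →
      ∀ i, b < i → P.ExactAt i := by
  classical
  induction s using Finset.induction_on with
  | empty =>
    intro P hP hPfl hdc hV i hi
    apply exactAt_of_tensExactAt_unit
    apply hV _ _ i hi
    intro a ha x
    have ha0 : a = 0 := by simpa using ha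
    rw [ha0, zero_smul]
  | insert f s' hf ih =>
    intro P hP hPfl hdc hV i hi
    let φ : P ⟶ P := f • 𝟙 P
    have hP'' : IsKFlat (CochainComplex.mappingCone φ) :=
      (isKFlat_mappingCone_two_of_three φ).1 hP hP
    have hP''fl : ∀ p, Module.Flat A ((CochainComplex.mappingCone φ).X p) :=
      isFlat_mappingCone_X φ hPfl hPfl
    have hle : Ideal.span (s' : Set A) ≤ Ideal.span ((insert f s' : Finset A) : Set A) :=
      Ideal.span_mono (by simp)
    have hfmem : f ∈ Ideal.span ((insert f s' : Finset A) : Set A) :=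
      Ideal.subset_span (by simp)
    have hdc' : DRing.IsDerivedComplete (Ideal.span (s' : Set A)) (Q.obj P) :=
      fun g hg n => hdc g (hle hg) n
    have hdc'' : DRing.IsDerivedComplete (Ideal.span (s' : Set A))
        (Q.obj (CochainComplex.mappingCone φ)) :=
      isDerivedComplete_obj₃_of_triangle _ _
        (DerivedCategory.mappingCone_triangle_distinguished φ) hdc' hdc'
    have hkill : ∀ (N' : ModuleCat.{u} A),
        (∀ a ∈ Ideal.span (s' : Set A), ∀ x : N', a • x = 0) → (∀ x : N', f • x = 0) →
        ∀ a ∈ Ideal.span ((insert f s' : Finset A) : Set A), ∀ x : N', a • x = 0 := by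
      intro N' h1 h2 a ha x
      rw [Finset.coe_insert, Ideal.mem_span_insert] at ha
      obtain ⟨c, z, hz, rfl⟩ := ha
      rw [add_smul, mul_smul, h2, smul_zero, h1 z hz, add_zero]
    have hV'' : ∀ N : ModuleCat.{u} A, (∀ a ∈ Ideal.span (s' : Set A), ∀ x : N, a • x = 0) →
        ∀ i, b < i → TensExactAt (CochainComplex.mappingCone φ) N i := by
      intro N hN i hi
      rw [← exactAt_map_tensorRight_iff, exactAt_iff_isZero_homology]
      have e := CochainComplex.mappingCone.mapHomologicalComplexIso φ (tensorRight N)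
      refine IsZero.of_iso ?_ ((HomologicalComplex.homologyFunctor _ _ i).mapIso e)
      have hem := epi_mono_homologyMap_tCx_map_mulBy P hPfl f N b
        (fun j hj => hV _ (hkill
          (ModuleCat.of A (LinearMap.ker (f • (LinearMap.id : N →ₗ[A] N))))
          (fun a ha x => Subtype.ext (hN a ha x.1))
          (fun x => Subtype.ext x.2)) j hj)
        (fun j hj => hV _ (hkill
          (ModuleCat.of A (N ⧸ LinearMap.range (f • (LinearMap.id : N →ₗ[A] N))))
          (fun a ha x => by
            obtain ⟨y, rfl⟩ := Submodule.mkQ_surjective _ x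
            rw [← map_smul, hN a ha y, map_zero])
          (fun x => by
            obtain ⟨y, rfl⟩ := Submodule.mkQ_surjective _ x
            rw [← map_smul, Submodule.mkQ_apply, Submodule.Quotient.mk_eq_zero]
            exact ⟨y, rfl⟩)) j hj)
      rw [tCx_map_mulBy] at hem
      have hex := exactAt_mappingCone_of_epi_of_mono
        (((tensorRight N).mapHomologicalComplex (ComplexShape.up ℤ)).map φ) i
        (hem.1 i hi) (hem.2 (i + 1) (by omega))
      exact (exactAt_iff_isZero_homology _ _).1 hex
    have hacyc := ih (CochainComplex.mappingCone φ) hP'' hP''fl hdc'' hV''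
    have hepi : Epi (HomologicalComplex.homologyMap φ i) :=
      epi_homologyMap_of_exactAt_mappingCone φ i (hacyc i hi)
    rw [homologyMap_smul_id] at hepi
    have hs : Function.Surjective (fun x : P.homology i => f • x) :=
      (ModuleCat.epi_iff_surjective _).1 hepi
    have hΦ : Function.Bijective (Groth.Agent.H35.Phi f (P.homology i)) := by
      have h1 := (Groth.Agent.H35.isDerivedComplete_iff_Phi _ _).1 hdc f hfmem i
      exact (Groth.Agent.H35.Phi_bijective_iff_of_linearEquiv f
        ((DerivedCategory.homologyFunctorFactors (ModuleCat.{u} A) i).app P).toLinearEquiv).1 h1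
    have hsub : Subsingleton (P.homology i) :=
      Groth.Agent.H35.subsingleton_of_surjective_of_Phi_injective' f _ hs hΦ.1
    rw [exactAt_iff_isZero_homology]
    exact ModuleCat.isZero_of_subsingleton _

/-- S7056: for `K` derived complete w.r.t. a f.g. ideal `I`, `H^i(K) = 0` for `i > b` iff
`H^i(K ⊗^L A/I) = 0` for `i > b`. -/
theorem homology_above_vanishing_iff_LTensor_quotient (I : Ideal A) (hI : I.FG)
    [DRing.HasLTensor A (ModuleCat.of A (A ⧸ I))]
    (K : Dual.D A) (hc : DRing.IsDerivedComplete I K) (b : ℤ) :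
    (∀ i : ℤ, b < i → Subsingleton (Dual.HD A K i)) ↔
      ∀ i : ℤ, b < i →
        Subsingleton (Dual.HD A ((DRing.LTensor A (ModuleCat.of A (A ⧸ I))).obj K) i) := by
  obtain ⟨s, hs⟩ := hI
  obtain ⟨K', ⟨e₀⟩⟩ : ∃ K' : CochainComplex (ModuleCat.{u} A) ℤ, Nonempty (Q.obj K' ≅ K) :=
    ⟨_, ⟨Q.objObjPreimageIso K⟩⟩
  obtain ⟨P, q, hP, hPfl, hq, -⟩ := exists_isKFlat_resolution A K'
  have : IsIso (Q.map q) := (DerivedCategory.isIso_Q_map_iff_quasiIso (φ := q)).2 hq
  let e : Q.obj P ≅ K := asIso (Q.map q) ≪≫ e₀
  have hHD : ∀ i, Subsingleton (Dual.HD A K i) ↔ P.ExactAt i := by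
    intro i
    rw [exactAt_iff_isZero_homology]
    let eH : P.homology i ≅ (DerivedCategory.homologyFunctor (ModuleCat.{u} A) i).obj K :=
      ((DerivedCategory.homologyFunctorFactors (ModuleCat.{u} A) i).app P).symm ≪≫
        (DerivedCategory.homologyFunctor (ModuleCat.{u} A) i).mapIso e
    rw [← ModuleCat.isZero_iff_subsingleton]
    exact eH.symm.isZero_iff
  constructor
  · intro h i hi
    rw [subsingleton_HD_LTensor_iff _ P hP K e i]
    exact tensExactAt_of_isKFlat_of_exactAt_above P hP b (fun j hj => (hHD j).1 (h j hj)) _ i hi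
  · intro h i hi
    rw [hHD]
    have hdc : DRing.IsDerivedComplete (Ideal.span (s : Set A)) (Q.obj P) := by
      rw [hs]
      exact Groth.Agent.H35.isDerivedComplete_of_iso I e.symm hc
    have hquot : ∀ j, b < j → TensExactAt P (ModuleCat.of A (A ⧸ I)) j := by
      intro j hj
      rw [← subsingleton_HD_LTensor_iff _ P hP K e j]
      exact h j hj
    have hV : ∀ N : ModuleCat.{u} A, (∀ a ∈ Ideal.span (s : Set A), ∀ x : N, a • x = 0) →
        ∀ i, b < i → TensExactAt P N i := by
      intro N hN i hi
      refine tensExactAt_of_killed_by_pow I P hP hPfl b hquot 1 N ?_ i hi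
      intro a ha x
      rw [pow_one, ← hs] at ha
      exact hN a ha x
    exact exactAt_above_of_isDerivedComplete_of_tensExactAt b s P hP hPfl hdc hV i hi

end Main

end Groth.Agent.H35.LT
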