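import Mathlib
import Groth.Prelude.Def_DRing2

/-!
# Restriction of scalars along a ring epimorphism (helper35)
-/

universe u

open CategoryTheory Limits TensorProduct

set_option linter.unusedSectionVars false
set_option linter.style.haveILetI false

namespace Groth.Agent.H35

section Linear

variable {R S : Type u} [CommRing R] [CommRing S] [Algebra R S] [Algebra.IsEpi R S]
  {M N : Type*} [AddCommGroup M] [Module S M] [Module R M] [IsScalarTower R S M]
  [AddCommGroup N] [Module S N] [Module R N] [IsScalarTower R S N]

/-- Over a ring epimorphism `R → S`, `R`-linear maps between `S`-modules are `S`-linear. -/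
lemma map_smul_of_isEpi (g : M →ₗ[R] N) (s : S) (m : M) : g (s • m) = s • g m := by
  let β : S →ₗ[R] S →ₗ[R] N := LinearMap.mk₂ R (fun s t => s • g (t • m))
    (fun s s' t => by simp only [add_smul])
    (fun r s t => by simp only [smul_assoc])
    (fun s t t' => by simp only [add_smul, map_add, smul_add])
    (fun r s t => by
      simp only [smul_assoc, map_smul]
      rw [smul_comm])
  have h := (Algebra.isEpi_iff_forall_one_tmul_eq R S).mp inferInstance s
  have h2 := congrArg (TensorProduct.lift β) h
  simp only [TensorProduct.lift.tmul, β, LinearMap.mk₂_apply, one_smul] at h2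
  exact h2

end Linear

lemma restrictScalars_full_of_epi {R S : Type u} [CommRing R] [CommRing S] (φ : R →+* S)
    (hφ : Epi (CommRingCat.ofHom φ)) : (ModuleCat.restrictScalars.{u} φ).Full := by
  letI := φ.toAlgebra
  haveI : Algebra.IsEpi R S := (CommRingCat.epi_iff_epi (R := R) (S := S)).mp hφ
  constructor
  intro X Y g
  letI : Module R X := Module.compHom X φ
  letI : Module R Y := Module.compHom Y φ
  haveI : IsScalarTower R S X := ⟨fun r s x => by
    change (φ r * s) • x = φ r • (s • x)
    rw [mul_smul]⟩
  haveI : IsScalarTower R S Y := ⟨fun r s x => by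
    change (φ r * s) • x = φ r • (s • x)
    rw [mul_smul]⟩
  let g' : X →ₗ[R] Y := g.hom
  refine ⟨ModuleCat.ofHom { toFun := g', map_add' := g'.map_add, map_smul' := fun s m => map_smul_of_isEpi g' s m }, ?_⟩
  rfl

theorem isKInjective_of_restrict (R S : Type u) [CommRing R] [CommRing S] (φ : R →+* S)
    (hφ : Epi (CommRingCat.ofHom φ)) (I : CochainComplex (ModuleCat.{u} S) ℤ)
    [CochainComplex.IsKInjective
      (((ModuleCat.restrictScalars.{u} φ).mapHomologicalComplex (ComplexShape.up ℤ)).obj I)] :
    CochainComplex.IsKInjective I := by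
  haveI := restrictScalars_full_of_epi φ hφ
  let F := ModuleCat.restrictScalars.{u} φ
  constructor
  intro K f hK
  have hK' : ((F.mapHomologicalComplex (ComplexShape.up ℤ)).obj K).Acyclic := by
    intro i
    exact (hK i).map F
  let H := CochainComplex.IsKInjective.homotopyZero
    ((F.mapHomologicalComplex (ComplexShape.up ℤ)).map f) hK'
  let h : ∀ i j, F.obj (K.X i) ⟶ F.obj (I.X j) := fun i j => H.hom i j
  have hzero : ∀ i j, ¬ (ComplexShape.up ℤ).Rel j i → h i j = 0 := fun i j hij => H.zero i j hij
  have hcomm : ∀ i, F.map (f.f i) =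
      F.map (K.d i ((ComplexShape.up ℤ).next i)) ≫ h ((ComplexShape.up ℤ).next i) i +
      h i ((ComplexShape.up ℤ).prev i) ≫ F.map (I.d ((ComplexShape.up ℤ).prev i) i) := by
    intro i
    have := H.comm i
    simp only [HomologicalComplex.zero_f, add_zero] at this
    exact this
  refine ⟨{ hom := fun i j => F.preimage (h i j), zero := ?_, comm := ?_ }⟩
  · intro i j hij
    apply F.map_injective
    rw [F.map_preimage, F.map_zero]
    exact hzero i j hij
  · intro i
    apply F.map_injective
    rw [HomologicalComplex.zero_f, add_zero, hcomm i]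
    simp only [dNext, prevD, AddMonoidHom.mk'_apply, Functor.map_add, Functor.map_comp, F.map_preimage]

end Groth.Agent.H35
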