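import Mathlib
import Groth.Agent.H35.DerHom
import Groth.Agent.H35.PerfCx
import Groth.Agent.H28.PCohTri
import Groth.Agent.H58.LCColim

/-!
# Morphisms from an `m`-pseudo-coherent object to a filtered colimit of modules (helper35, S6999)
-/

set_option autoImplicit false
universe w v u
open CategoryTheory Limits Pretriangulated CochainComplex HomComplex

namespace Groth.Agent.H35.PCHom

section ToSingle

variable {C : Type u} [Category.{v} C] [Abelian C] [HasDerivedCategory.{w} C]

open DerivedCategory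

lemma cocycleHom_postcomp {K L L' : CochainComplex C ℤ} {n : ℤ} (x : Cocycle K L n)
    (g : L ⟶ L') :
    cocycleHom (x.postcomp g) = cocycleHom x ≫ (CategoryTheory.shiftFunctor (DerivedCategory C) n).map (Q.map g) := by
  simp only [cocycleHom, Cocycle.equivHomShift_symm_postcomp, Functor.map_comp, Category.assoc]
  congr 1
  exact ((Q.commShiftIso n).hom.naturality g)

variable (E : CochainComplex C ℤ) {n p p' p'' : ℤ} (hp : p + n = 0) (hp' : p' + 1 = p)
  (hp'' : p + 1 = p'')

/-- The morphism `Q E ⟶ M[0]⟦n⟧` attached to `f : E^{-n} ⟶ M` with `d ≫ f = 0`. -/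
noncomputable def toSingleHom {M : C} (f : E.X p ⟶ M) (hf : E.d p' p ≫ f = 0) :
    Q.obj E ⟶ (Q.obj ((CochainComplex.singleFunctor C 0).obj M))⟦n⟧ :=
  cocycleHom (Cocycle.toSingleMk f hp p' hp' hf)

lemma toSingleHom_surjective [E.IsKProjective] {M : C}
    (φ : Q.obj E ⟶ (Q.obj ((CochainComplex.singleFunctor C 0).obj M))⟦n⟧) :
    ∃ (f : E.X p ⟶ M) (hf : E.d p' p ≫ f = 0), toSingleHom E hp hp' f hf = φ := by
  obtain ⟨x, rfl⟩ := cocycleHom_surjective φ
  obtain ⟨f, hf, rfl⟩ := Cocycle.toSingleMk_surjective x p hp p' hp'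
  exact ⟨f, hf, rfl⟩

include hp'' in
lemma toSingleHom_eq_zero_iff [E.IsKProjective] {M : C} (f : E.X p ⟶ M)
    (hf : E.d p' p ≫ f = 0) :
    toSingleHom E hp hp' f hf = 0 ↔ ∃ g : E.X p'' ⟶ M, E.d p p'' ≫ g = f := by
  rw [toSingleHom, cocycleHom_eq_zero_iff,
    Cocycle.toSingleMk_mem_coboundaries_iff f hp p' hp' hf p'' hp'']

lemma toSingleHom_postcomp {M M' : C} (f : E.X p ⟶ M) (hf : E.d p' p ≫ f = 0) (u : M ⟶ M')
    (hfu : E.d p' p ≫ f ≫ u = 0) :
    toSingleHom E hp hp' (f ≫ u) hfu = toSingleHom E hp hp' f hf ≫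
      (CategoryTheory.shiftFunctor (DerivedCategory C) n).map
        (Q.map ((CochainComplex.singleFunctor C 0).map u)) := by
  rw [toSingleHom, toSingleHom, ← cocycleHom_postcomp, Cocycle.toSingleMk_postcomp]

end ToSingle

section Approx

variable {C : Type u} [Category.{v} C] [Abelian C] [HasDerivedCategory.{w} C]

open DerivedCategory

/-- If `α : X ⟶ K` induces isomorphisms on `H^i` for `i > m` and an epimorphism on `H^m`, then
for `T ∈ D^{≥ s}` precomposition with `α` is injective on `Hom(K, T)` when `m ≤ s` and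
surjective when `m < s`. -/
lemma approx_hom {X K : DerivedCategory C} (α : X ⟶ K) (m : ℤ)
    (hiso : ∀ i : ℤ, m < i → IsIso ((DerivedCategory.homologyFunctor C i).map α))
    (hepi : Epi ((DerivedCategory.homologyFunctor C m).map α)) (T : DerivedCategory C) (s : ℤ)
    (hT : T.IsGE s) :
    (m ≤ s → ∀ x : K ⟶ T, α ≫ x = 0 → x = 0) ∧
      (m < s → ∀ g : X ⟶ T, ∃ x : K ⟶ T, α ≫ x = g) := by
  obtain ⟨Z, β, γ, hT'⟩ := distinguished_cocone_triangle α
  have hZ : Z.IsLE (m - 1) := by
    rw [DerivedCategory.isLE_iff]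
    intro i hi
    refine (Groth.Agent.H28.PCohTri.isZero_homology_obj₃_iff _ hT' i (i + 1) rfl).2 ⟨?_, ?_⟩
    · by_cases h : i = m
      · subst h
        exact hepi
      · have := hiso i (by omega)
        change Epi ((DerivedCategory.homologyFunctor C i).map α)
        infer_instance
    · have := hiso (i + 1) (by omega)
      change Mono ((DerivedCategory.homologyFunctor C (i + 1)).map α)
      infer_instance
  constructor
  · intro hs x hx
    obtain ⟨w, hw⟩ := Triangle.yoneda_exact₂ _ hT' x hx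
    have hZ2 : ((Triangle.mk α β γ).obj₃).IsLE (m - 1) := hZ
    have hw0 : w = 0 := (DerivedCategory.TStructure.t).zero w (m - 1) s (by omega)
    rw [hw, hw0]
    exact comp_zero
  · intro hs g
    have hT'' := inv_rot_of_distTriang _ hT'
    have hZ' : ((Triangle.mk α β γ).invRotate.obj₁).IsLE m :=
      (DerivedCategory.TStructure.t).isLE_shift Z (m - 1) (-1) m (by omega)
    have h0 : (Triangle.mk α β γ).invRotate.mor₁ ≫ g = 0 :=
      (DerivedCategory.TStructure.t).zero _ m s hs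
    obtain ⟨x, hx⟩ := Triangle.yoneda_exact₂ _ hT'' g h0
    exact ⟨x, hx.symm⟩

end Approx

section Main

attribute [local instance] HasDerivedCategory.standard

open DerivedCategory

variable (R : Type u) [CommRing R]

lemma isFinFree_of_finite_free (X : ModuleCat.{u} R) (h1 : Module.Finite R X)
    (h2 : Module.Free R X) : Groth.Agent.H58.LCColim.IsFinFree X := by
  classical
  let b := Module.Free.chooseBasis R X
  let e := Fintype.equivFin (Module.Free.ChooseBasisIndex R X)
  exact ⟨_, ⟨((b.reindex e).equivFun).toModuleIso⟩⟩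

/-- The target `M[0]⟦n⟧`. -/
noncomputable abbrev tgt (n : ℤ) (M : ModuleCat.{u} R) : Dual.D R :=
  (CategoryTheory.shiftFunctor (Dual.D R) n).obj
    (Q.obj ((CochainComplex.singleFunctor (ModuleCat.{u} R) 0).obj M))

/-- The map `M[0]⟦n⟧ ⟶ M'[0]⟦n⟧`. -/
noncomputable abbrev tgtMap (n : ℤ) {M M' : ModuleCat.{u} R} (u : M ⟶ M') :
    tgt R n M ⟶ tgt R n M' :=
  (CategoryTheory.shiftFunctor (Dual.D R) n).map
    (Q.map ((CochainComplex.singleFunctor (ModuleCat.{u} R) 0).map u))

lemma tgt_isGE (n : ℤ) (M : ModuleCat.{u} R) : (tgt R n M).IsGE (-n) := by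
  have h0 : (Q.obj ((CochainComplex.singleFunctor (ModuleCat.{u} R) 0).obj M)).IsGE 0 :=
    inferInstanceAs (((DerivedCategory.singleFunctor (ModuleCat.{u} R) 0).obj M).IsGE 0)
  exact (DerivedCategory.TStructure.t).isGE_shift _ 0 n (-n) (by omega)

theorem hom_filteredColimit_aux (m : ℤ) (K : Dual.D R) (hK : DRing.IsPseudoCoherent R m K)
    {J : Type u} [SmallCategory J] [IsFiltered J] (F : J ⥤ ModuleCat.{u} R) (c : Cocone F)
    (hc : IsColimit c) :
    (∀ n : ℤ, n < -m → ∀ x : K ⟶ tgt R n c.pt,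
      ∃ (j : J) (y : K ⟶ tgt R n (F.obj j)), y ≫ tgtMap R n (show F.obj j ⟶ c.pt from c.ι.app j) = x) ∧
    (∀ n : ℤ, n ≤ -m → ∀ (j : J) (y : K ⟶ tgt R n (F.obj j)),
      y ≫ tgtMap R n (show F.obj j ⟶ c.pt from c.ι.app j) = 0 →
      ∃ (j' : J) (f : j ⟶ j'), y ≫ tgtMap R n (F.map f) = 0) := by
  obtain ⟨E, a, b, α, hE, hfree, hiso, hepi⟩ := hK
  have hKP : E.IsKProjective :=
    Groth.Agent.H35.isKProjective_of_vanishesAbove E b (fun i hi => hE i (Or.inr hi))
      (fun i => by
        have := (hfree i).2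
        infer_instance)
  have hFF : ∀ i, Groth.Agent.H58.LCColim.IsFinFree (E.X i) := fun i =>
    isFinFree_of_finite_free R _ (hfree i).1 (hfree i).2
  have hfin : ∀ i, Module.Finite R (E.X i) := fun i => (hfree i).1
  constructor
  · intro n hn x
    have hp : -n + n = 0 := by omega
    have hp' : (-n - 1) + 1 = -n := by omega
    have hA := approx_hom α m hiso hepi
    obtain ⟨f, hf, hfx⟩ := toSingleHom_surjective E hp hp' (α ≫ x)
    obtain ⟨l, f₁, hf₁⟩ := Groth.Agent.H58.LCColim.exists_lift F c hc (hFF (-n)) f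
    obtain ⟨l', u, hu⟩ := Groth.Agent.H58.LCColim.exists_comp_map_eq_zero F c hc (hfin (-n - 1))
      (E.d (-n - 1) (-n) ≫ f₁) (by rw [Category.assoc, hf₁, hf])
    have hf₂ : E.d (-n - 1) (-n) ≫ f₁ ≫ F.map u = 0 := by rw [← Category.assoc, hu]
    obtain ⟨y, hy⟩ := (hA (tgt R n (F.obj l')) (-n) (tgt_isGE R n _)).2 (by omega)
      (toSingleHom E hp hp' (f₁ ≫ F.map u) hf₂)
    refine ⟨l', y, ?_⟩
    have hsub : α ≫ (y ≫ tgtMap R n (show F.obj l' ⟶ c.pt from c.ι.app l') - x) = 0 := by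
      rw [Preadditive.comp_sub, ← Category.assoc, hy, ← hfx,
        ← toSingleHom_postcomp E hp hp' (f₁ ≫ F.map u) hf₂ (show F.obj l' ⟶ c.pt from c.ι.app l')
          (by rw [Category.assoc, c.w, hf₁, hf]), sub_eq_zero]
      congr 1
      rw [Category.assoc, c.w, hf₁]
    have := (hA (tgt R n c.pt) (-n) (tgt_isGE R n _)).1 (by omega) _ hsub
    exact sub_eq_zero.mp this
  · intro n hn j y hy
    have hp : -n + n = 0 := by omega
    have hp' : (-n - 1) + 1 = -n := by omega
    have hp'' : -n + 1 = -n + 1 := rfl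
    obtain ⟨f, hf, hfy⟩ := toSingleHom_surjective E hp hp' (α ≫ y)
    have h1 : toSingleHom E hp hp' (f ≫ c.ι.app j) (by rw [← Category.assoc, hf, zero_comp]) = 0 := by
      rw [toSingleHom_postcomp E hp hp' f hf (show F.obj j ⟶ c.pt from c.ι.app j), hfy, Category.assoc]
      exact (congrArg (fun t => α ≫ t) hy).trans comp_zero
    obtain ⟨h, hh⟩ := (toSingleHom_eq_zero_iff E hp hp' hp'' _ _).1 h1
    obtain ⟨l, h₁, hh₁⟩ := Groth.Agent.H58.LCColim.exists_lift F c hc (hFF (-n + 1)) h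
    let l' := IsFiltered.max j l
    let u : j ⟶ l' := IsFiltered.leftToMax j l
    let v : l ⟶ l' := IsFiltered.rightToMax j l
    obtain ⟨l'', e, he⟩ := Groth.Agent.H58.LCColim.exists_comp_map_eq_zero F c hc (hfin (-n))
      (f ≫ F.map u - E.d (-n) (-n + 1) ≫ h₁ ≫ F.map v) (by
        rw [Preadditive.sub_comp, Category.assoc, c.w, Category.assoc, Category.assoc, c.w, hh₁,
          hh, sub_self])
    refine ⟨l'', u ≫ e, ?_⟩
    have h2 : f ≫ F.map (u ≫ e) = E.d (-n) (-n + 1) ≫ (h₁ ≫ F.map v ≫ F.map e) := by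
      rw [Preadditive.sub_comp, sub_eq_zero] at he
      rw [F.map_comp, ← Category.assoc, he]
      simp only [Category.assoc]
    have h3 : toSingleHom E hp hp' (f ≫ F.map (u ≫ e))
        (by rw [← Category.assoc, hf, zero_comp]) = 0 :=
      (toSingleHom_eq_zero_iff E hp hp' hp'' _ _).2 ⟨_, h2.symm⟩
    rw [toSingleHom_postcomp E hp hp' f hf (F.map (u ≫ e)), hfy, Category.assoc] at h3
    obtain ⟨hinj, -⟩ := approx_hom α m hiso hepi (tgt R n (F.obj l'')) (-n) (tgt_isGE R n _)
    exact hinj (by omega) _ h3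

end Main

end Groth.Agent.H35.PCHom
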