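import Mathlib
import Groth.Agent.H35.PCohHomColim

/-!
# Artin–Rees for `Ext` out of a pseudo-coherent complex (helper35, S7164)
-/

set_option autoImplicit false
universe u
open CategoryTheory Limits Pretriangulated CochainComplex HomComplex

namespace Groth.Agent.H35.ExtAR

attribute [local instance] HasDerivedCategory.standard

open DerivedCategory Groth.Agent.H35.PCHom

section Cls

variable {A : Type u} [CommRing A] (P : DRing.Cx A) {j p p' p'' : ℤ} (hp : p + j = 0)
  (hp' : p' + 1 = p) (hp'' : p + 1 = p'')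

lemma cocycleHom_add' {K L : CochainComplex (ModuleCat.{u} A) ℤ} {n : ℤ} (x y : Cocycle K L n) :
    cocycleHom (x + y) = cocycleHom x + cocycleHom y := by
  simp only [cocycleHom, map_add, Functor.map_add, Preadditive.add_comp]

lemma toSingleHom_congr {M : ModuleCat.{u} A} {f f' : P.X p ⟶ M} (h : f = f')
    (hf : P.d p' p ≫ f = 0) (hf' : P.d p' p ≫ f' = 0) :
    toSingleHom P hp hp' f hf = toSingleHom P hp hp' f' hf' := by
  subst h
  rfl

lemma toSingleHom_add {M : ModuleCat.{u} A} (f g : P.X p ⟶ M)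
    (hf : P.d p' p ≫ f = 0) (hg : P.d p' p ≫ g = 0) (hfg : P.d p' p ≫ (f + g) = 0) :
    toSingleHom P hp hp' (f + g) hfg = toSingleHom P hp hp' f hf + toSingleHom P hp hp' g hg := by
  rw [toSingleHom, toSingleHom, toSingleHom, ← cocycleHom_add',
    ← Cocycle.toSingleMk_add f g hp p' hp' hf hg]

lemma tgtMap_smul_id (x : A) (M : ModuleCat.{u} A) :
    tgtMap A j (x • 𝟙 M) = x • 𝟙 (tgt A j M) := by
  change (CategoryTheory.shiftFunctor (Dual.D A) j).map
    ((DerivedCategory.singleFunctor (ModuleCat.{u} A) 0).map (x • 𝟙 M)) = _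
  rw [Functor.map_smul, Functor.map_smul, CategoryTheory.Functor.map_id,
    CategoryTheory.Functor.map_id]
  rfl

lemma toSingleHom_smul {M : ModuleCat.{u} A} (x : A) (f : P.X p ⟶ M)
    (hf : P.d p' p ≫ f = 0) (hxf : P.d p' p ≫ (x • f) = 0) :
    toSingleHom P hp hp' (x • f) hxf = x • toSingleHom P hp hp' f hf := by
  have h1 : x • f = f ≫ (x • 𝟙 M) := by rw [Linear.comp_smul, Category.comp_id]
  rw [toSingleHom_congr P hp hp' h1 hxf (by rw [← h1]; exact hxf),
    toSingleHom_postcomp P hp hp' f hf (x • 𝟙 M)]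
  change toSingleHom P hp hp' f hf ≫ tgtMap A j (x • 𝟙 M) = _
  rw [tgtMap_smul_id, Linear.comp_smul, Category.comp_id]

variable (N : Type u) [AddCommGroup N] [Module A N]

/-- Cocycles `P^p → N`. -/
def Zc (p p' : ℤ) (N : Type u) [AddCommGroup N] [Module A N] : Submodule A (P.X p →ₗ[A] N) :=
  LinearMap.ker (LinearMap.lcomp A N (P.d p' p).hom)

variable {N}

omit hp' in
lemma mem_Zc_iff (z : P.X p →ₗ[A] N) :
    z ∈ Zc P p p' N ↔ P.d p' p ≫ ModuleCat.ofHom z = 0 := by
  rw [Zc, LinearMap.mem_ker]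
  constructor
  · intro h
    apply ModuleCat.hom_ext
    exact h
  · intro h
    exact congrArg ModuleCat.Hom.hom h

variable (N)

/-- The class of a cocycle, as a linear map. -/
noncomputable def cls : Zc P p p' N →ₗ[A] (Q.obj P ⟶ tgt A j (ModuleCat.of A N)) where
  toFun z := toSingleHom P hp hp' (ModuleCat.ofHom z.1) ((mem_Zc_iff P z.1).1 z.2)
  map_add' z z' := by
    rw [← toSingleHom_add P hp hp' _ _ _ _
      (by rw [Preadditive.comp_add, (mem_Zc_iff P z.1).1 z.2,
        (mem_Zc_iff P z'.1).1 z'.2, add_zero])]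
    exact toSingleHom_congr P hp hp' rfl _ _
  map_smul' x z := by
    rw [RingHom.id_apply, ← toSingleHom_smul P hp hp' x _ _
      (by rw [Linear.comp_smul, (mem_Zc_iff P z.1).1 z.2, smul_zero])]
    exact toSingleHom_congr P hp hp' rfl _ _

variable {N}

lemma cls_surjective [P.IsKProjective] (e : Q.obj P ⟶ tgt A j (ModuleCat.of A N)) :
    ∃ z : Zc P p p' N, cls P hp hp' N z = e := by
  obtain ⟨f, hf, rfl⟩ := toSingleHom_surjective P hp hp' e
  refine ⟨⟨f.hom, (mem_Zc_iff P f.hom).2 hf⟩, ?_⟩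
  exact toSingleHom_congr P hp hp' rfl _ _

lemma cls_post {N' : Type u} [AddCommGroup N'] [Module A N'] (u : N →ₗ[A] N')
    (z : Zc P p p' N) (hz : u ∘ₗ z.1 ∈ Zc P p p' N') :
    cls P hp hp' N' ⟨u ∘ₗ z.1, hz⟩ = cls P hp hp' N z ≫ tgtMap A j (ModuleCat.ofHom u) := by
  change toSingleHom P hp hp' _ _ = toSingleHom P hp hp' _ _ ≫ _
  rw [← toSingleHom_postcomp P hp hp' _ _ (ModuleCat.ofHom u)
    (by rw [← Category.assoc, (mem_Zc_iff P z.1).1 z.2, zero_comp])]
  exact toSingleHom_congr P hp hp' rfl _ _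

include hp'' in
lemma cls_eq_zero_iff [P.IsKProjective] (z : Zc P p p' N) :
    cls P hp hp' N z = 0 ↔ ∃ g : P.X p'' →ₗ[A] N, g ∘ₗ (P.d p p'').hom = z.1 := by
  change toSingleHom P hp hp' _ _ = 0 ↔ _
  rw [toSingleHom_eq_zero_iff P hp hp' hp'']
  constructor
  · rintro ⟨g, hg⟩
    exact ⟨g.hom, congrArg ModuleCat.Hom.hom hg⟩
  · rintro ⟨g, hg⟩
    exact ⟨ModuleCat.ofHom g, ModuleCat.hom_ext hg⟩

end Cls

section Torsion

variable {A : Type u} [CommRing A] [IsNoetherianRing A] (I : Ideal A) (P : DRing.Cx A)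
  [P.IsKProjective] {j p p' : ℤ} (hp : p + j = 0) (hp' : p' + 1 = p)
  (hfin : Module.Finite A (P.X p)) (hfree : Module.Free A (P.X p))

include hfin hfree hp hp' in
/-- If every class in `Ext^j(P, N)` is `I`-power torsion, a single power of `I` kills them all. -/
lemma exists_uniform_torsion (N : Type u) [AddCommGroup N] [Module A N] [Module.Finite A N]
    (htors : ∀ e : Q.obj P ⟶ tgt A j (ModuleCat.of A N), ∃ n : ℕ, ∀ x ∈ I ^ n, x • e = 0) :
    ∃ t : ℕ, ∀ e : Q.obj P ⟶ tgt A j (ModuleCat.of A N), ∀ x ∈ I ^ t, x • e = 0 := by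
  classical
  have : IsNoetherian A (P.X p →ₗ[A] N) := isNoetherian_of_isNoetherianRing_of_finite A _
  obtain ⟨S, hS⟩ := (IsNoetherian.noetherian (⊤ : Submodule A (Zc P p p' N)))
  choose nf hnf using fun z : Zc P p p' N => htors (cls P hp hp' N z)
  refine ⟨S.sup nf, fun e x hx => ?_⟩
  obtain ⟨z, rfl⟩ := cls_surjective P hp hp' e
  have hker : (⊤ : Submodule A (Zc P p p' N)) ≤ LinearMap.ker (x • cls P hp hp' N) := by
    rw [← hS, Submodule.span_le]
    intro s hs
    rw [SetLike.mem_coe, LinearMap.mem_ker, LinearMap.smul_apply]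
    exact hnf s x (Ideal.pow_le_pow_right (Finset.le_sup hs) hx)
  have := hker (Submodule.mem_top : z ∈ ⊤)
  rwa [LinearMap.mem_ker, LinearMap.smul_apply] at this

end Torsion

section ArtinRees

variable {A : Type u} [CommRing A]

/-- A linear map out of a finite free module whose values lie in `I^m M` lies in
`I^m Hom(F, M)`. -/
lemma mem_smul_top_of_forall_mem (I : Ideal A) {F M : Type u} [AddCommGroup F] [Module A F]
    [Module.Finite A F] [Module.Free A F] [AddCommGroup M] [Module A M] (g : F →ₗ[A] M)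
    (hg : ∀ v, g v ∈ I • (⊤ : Submodule A M)) : g ∈ I • (⊤ : Submodule A (F →ₗ[A] M)) := by
  classical
  let b := Module.Free.chooseBasis A F
  have hsum : g = ∑ k, (b.coord k).smulRight (g (b k)) := by
    apply b.ext
    intro k'
    rw [LinearMap.sum_apply]
    simp only [LinearMap.smulRight_apply, Module.Basis.coord_apply, Module.Basis.repr_self]
    rw [Finset.sum_eq_single k']
    · simp
    · intro k _ hk
      rw [Finsupp.single_apply, if_neg (Ne.symm hk), zero_smul]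
    · intro h
      exact absurd (Finset.mem_univ k') h
  rw [hsum]
  refine Submodule.sum_mem _ (fun k _ => ?_)
  let φ : M →ₗ[A] (F →ₗ[A] M) := LinearMap.smulRightₗ (b.coord k)
  have h1 : Submodule.map φ (I • ⊤) ≤ I • (⊤ : Submodule A (F →ₗ[A] M)) := by
    rw [Submodule.map_smul'']
    exact Submodule.smul_mono le_rfl le_top
  exact h1 ⟨g (b k), hg (b k), rfl⟩

variable [IsNoetherianRing A] (I : Ideal A) (P : DRing.Cx A)
  [P.IsKProjective] {j p p' : ℤ} (hp : p + j = 0) (hp' : p' + 1 = p)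
  (hfin : Module.Finite A (P.X p)) (hfree : Module.Free A (P.X p))
  (M : Type u) [AddCommGroup M] [Module A M] [Module.Finite A M]

include hfin hfree hp hp' in
/-- Artin–Rees for `Ext`: if `Ext^j(P, I^n M)` is `I`-power torsion, the transition map
`Ext^j(P, I^{m'} M) → Ext^j(P, I^n M)` vanishes for some `m' ≥ n`. -/
theorem exists_transition_zero (n : ℕ)
    (htors : ∀ e : Q.obj P ⟶ tgt A j (ModuleCat.of A ↥(I ^ n • ⊤ : Submodule A M)),
      ∃ k : ℕ, ∀ x ∈ I ^ k, x • e = 0) :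
    ∃ (m' : ℕ) (h : n ≤ m'),
      ∀ e : Q.obj P ⟶ tgt A j (ModuleCat.of A ↥(I ^ m' • ⊤ : Submodule A M)),
        e ≫ tgtMap A j (ModuleCat.ofHom (Submodule.inclusion
          (Submodule.smul_mono_left (Ideal.pow_le_pow_right h) :
            (I ^ m' • ⊤ : Submodule A M) ≤ I ^ n • ⊤))) = 0 := by
  have hMN : IsNoetherian A M := isNoetherian_of_isNoetherianRing_of_finite A M
  obtain ⟨t, ht⟩ := exists_uniform_torsion I P hp hp' hfin hfree
    ↥(I ^ n • ⊤ : Submodule A M) htors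
  obtain ⟨c, hc⟩ := Ideal.exists_pow_inf_eq_pow_smul I (Zc P p p' M)
  have hle : n ≤ n + c + t := by omega
  refine ⟨n + c + t, hle, fun e => ?_⟩
  obtain ⟨z, rfl⟩ := cls_surjective P hp hp' e
  set ι' := (I ^ (n + c + t) • ⊤ : Submodule A M).subtype with hι'
  set ιn := (I ^ n • ⊤ : Submodule A M).subtype with hιn
  set inc := Submodule.inclusion
    (Submodule.smul_mono_left (Ideal.pow_le_pow_right hle) :
      (I ^ (n + c + t) • ⊤ : Submodule A M) ≤ I ^ n • ⊤) with hinc
  have hz : z.1 ∘ₗ (P.d p' p).hom = 0 := z.2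
  have hgZ : ι' ∘ₗ z.1 ∈ Zc P p p' M := by
    change (ι' ∘ₗ z.1) ∘ₗ (P.d p' p).hom = 0
    rw [LinearMap.comp_assoc, hz, LinearMap.comp_zero]
  have hgI : ι' ∘ₗ z.1 ∈ I ^ (n + c + t) • (⊤ : Submodule A (P.X p →ₗ[A] M)) :=
    mem_smul_top_of_forall_mem (I ^ (n + c + t)) _ (fun v => (z.1 v).2)
  have h1 : ι' ∘ₗ z.1 ∈ I ^ (n + c + t - c) • (I ^ c • ⊤ ⊓ Zc P p p' M) := by
    rw [← hc (n + c + t) (by omega)]
    exact ⟨hgI, hgZ⟩
  have h2 : ι' ∘ₗ z.1 ∈ I ^ t • (I ^ n • Zc P p p' M) := by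
    have e1 : n + c + t - c = t + n := by omega
    rw [e1, pow_add, Submodule.mul_smul] at h1
    exact Submodule.smul_mono le_rfl (Submodule.smul_mono le_rfl inf_le_right) h1
  have h3 : I ^ n • Zc P p p' M ≤
      Submodule.map (LinearMap.compRight A ιn) (Zc P p p' ↥(I ^ n • ⊤ : Submodule A M)) := by
    refine Submodule.smul_le.2 (fun x hx z' hz' => ?_)
    refine ⟨LinearMap.codRestrict _ (x • z') (fun v => ?_), ?_, ?_⟩
    · rw [LinearMap.smul_apply]
      exact Submodule.smul_mem_smul hx Submodule.mem_top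
    · rw [SetLike.mem_coe, Zc, LinearMap.mem_ker]
      apply LinearMap.ext
      intro v
      apply Subtype.ext
      have hz'' : z' ∘ₗ (P.d p' p).hom = 0 := hz'
      change (x • z') ((P.d p' p).hom v) = 0
      rw [LinearMap.smul_apply]
      have := LinearMap.congr_fun hz'' v
      rw [LinearMap.comp_apply] at this
      rw [this, LinearMap.zero_apply, smul_zero]
    · rfl
  have h4 := Submodule.smul_mono (le_refl (I ^ t)) h3 h2
  rw [← Submodule.map_smul''] at h4
  obtain ⟨y, hy, hyg⟩ := h4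
  have hy' : y = inc ∘ₗ z.1 := by
    apply LinearMap.ext
    intro v
    apply Subtype.ext
    exact LinearMap.congr_fun hyg v
  have h5 : I ^ t • Zc P p p' ↥(I ^ n • ⊤ : Submodule A M) ≤
      Submodule.map (Zc P p p' ↥(I ^ n • ⊤ : Submodule A M)).subtype
        (LinearMap.ker (cls P hp hp' ↥(I ^ n • ⊤ : Submodule A M))) := by
    refine Submodule.smul_le.2 (fun x hx z₀ hz₀ => ⟨x • ⟨z₀, hz₀⟩, ?_, rfl⟩)
    rw [SetLike.mem_coe, LinearMap.mem_ker, map_smul]
    exact ht _ x hx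
  obtain ⟨w, hw, hwy⟩ := h5 hy
  have hincZ : inc ∘ₗ z.1 ∈ Zc P p p' ↥(I ^ n • ⊤ : Submodule A M) := by
    change (inc ∘ₗ z.1) ∘ₗ (P.d p' p).hom = 0
    rw [LinearMap.comp_assoc, hz, LinearMap.comp_zero]
  rw [← cls_post P hp hp' inc z hincZ]
  have hw' : w = ⟨inc ∘ₗ z.1, hincZ⟩ := Subtype.ext (hwy.trans hy')
  rw [← hw']
  exact hw

end ArtinRees

end Groth.Agent.H35.ExtAR
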