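import Mathlib
import Groth.Agent.H35.ExtArtinRees

/-!
# The image of `Ext^p(K, I^n M) → Ext^p(K, M)` lies in `I^{n-c} Ext^p(K, M)` (helper35, S7149)
-/

set_option autoImplicit false
universe u
open CategoryTheory Limits Pretriangulated

namespace Groth.Agent.H35.ExtAR

attribute [local instance] HasDerivedCategory.standard

open DerivedCategory Groth.Agent.H35.PCHom

variable {A : Type u} [CommRing A] [IsNoetherianRing A] (I : Ideal A)

/-- S7149 -/
theorem ext_image_le_smul (K : Dual.D A) (hK : DRing.IsPseudoCoherent' A K) (M : Type u)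
    [AddCommGroup M] [Module A M] [Module.Finite A M] (p : ℤ) :
    ∃ c : ℕ, ∀ n : ℕ, c ≤ n →
      ∀ e : K ⟶ (shiftFunctor (Dual.D A) p).obj (Dual.inD A ↥(I ^ n • ⊤ : Submodule A M)),
        e ≫ (shiftFunctor (Dual.D A) p).map
            ((DerivedCategory.singleFunctor (ModuleCat.{u} A) 0).map
              (ModuleCat.ofHom (I ^ n • ⊤ : Submodule A M).subtype)) ∈
          (I ^ (n - c) • ⊤ : Submodule A (K ⟶ (shiftFunctor (Dual.D A) p).obj (Dual.inD A M))) := by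
  obtain ⟨P, b, hb, hfree, ⟨eK⟩⟩ := hK
  have hKP : P.IsKProjective :=
    Groth.Agent.H35.isKProjective_of_vanishesAbove P b hb (fun i => by
      have := (hfree i).2
      infer_instance)
  have hp : -p + p = 0 := by omega
  have hp' : (-p - 1) + 1 = -p := by omega
  have hfin := (hfree (-p)).1
  have hfr := (hfree (-p)).2
  have hMN : IsNoetherian A M := isNoetherian_of_isNoetherianRing_of_finite A M
  obtain ⟨c, hc⟩ := Ideal.exists_pow_inf_eq_pow_smul I (Zc P (-p) (-p - 1) M)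
  refine ⟨c, fun n hn e => ?_⟩
  obtain ⟨z, hz⟩ := cls_surjective P hp hp' (eK.hom ≫ e)
  set ι := (I ^ n • ⊤ : Submodule A M).subtype with hι
  have hz0 : z.1 ∘ₗ (P.d (-p - 1) (-p)).hom = 0 := z.2
  have hgZ : ι ∘ₗ z.1 ∈ Zc P (-p) (-p - 1) M := by
    change (ι ∘ₗ z.1) ∘ₗ (P.d (-p - 1) (-p)).hom = 0
    rw [LinearMap.comp_assoc, hz0, LinearMap.comp_zero]
  have hgI : ι ∘ₗ z.1 ∈ I ^ n • (⊤ : Submodule A (P.X (-p) →ₗ[A] M)) :=
    mem_smul_top_of_forall_mem (I ^ n) _ (fun v => (z.1 v).2)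
  have h1 : ι ∘ₗ z.1 ∈ I ^ (n - c) • Zc P (-p) (-p - 1) M := by
    have h0 : ι ∘ₗ z.1 ∈ I ^ (n - c) • (I ^ c • ⊤ ⊓ Zc P (-p) (-p - 1) M) := by
      rw [← hc n hn]
      exact ⟨hgI, hgZ⟩
    exact Submodule.smul_mono le_rfl inf_le_right h0
  -- transport to classes
  have h2 : I ^ (n - c) • Zc P (-p) (-p - 1) M ≤
      Submodule.map (Zc P (-p) (-p - 1) M).subtype
        (Submodule.comap (cls P hp hp' M)
          (I ^ (n - c) • (⊤ : Submodule A (Q.obj P ⟶ tgt A p (ModuleCat.of A M))))) := by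
    refine Submodule.smul_le.2 (fun x hx z₀ hz₀ => ⟨x • ⟨z₀, hz₀⟩, ?_, rfl⟩)
    rw [SetLike.mem_coe, Submodule.mem_comap, map_smul]
    exact Submodule.smul_mem_smul hx Submodule.mem_top
  obtain ⟨w, hw, hwy⟩ := h2 h1
  have hw' : w = ⟨ι ∘ₗ z.1, hgZ⟩ := Subtype.ext hwy
  rw [hw', SetLike.mem_coe, Submodule.mem_comap, cls_post P hp hp' ι z hgZ, hz] at hw
  -- now transport along `eK`
  let T : Dual.D A := (shiftFunctor (Dual.D A) p).obj (Dual.inD A M)
  let φ : (Q.obj P ⟶ T) →ₗ[A] (K ⟶ T) := Linear.leftComp A T eK.inv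
  have h3 : Submodule.map φ (I ^ (n - c) • ⊤) ≤ I ^ (n - c) • (⊤ : Submodule A (K ⟶ T)) := by
    rw [Submodule.map_smul'']
    exact Submodule.smul_mono le_rfl le_top
  have h4 := h3 ⟨_, hw, rfl⟩
  have h5 : φ ((eK.hom ≫ e) ≫ tgtMap A p (ModuleCat.ofHom ι)) =
      e ≫ (shiftFunctor (Dual.D A) p).map
        ((DerivedCategory.singleFunctor (ModuleCat.{u} A) 0).map (ModuleCat.ofHom ι)) := by
    change eK.inv ≫ ((eK.hom ≫ e) ≫ (shiftFunctor (Dual.D A) p).map
        ((DerivedCategory.singleFunctor (ModuleCat.{u} A) 0).map (ModuleCat.ofHom ι))) = _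
    rw [Category.assoc, Iso.inv_hom_id_assoc]
  exact h5 ▸ h4

end Groth.Agent.H35.ExtAR
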