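import Mathlib
import Groth.Agent.H35.ExtArtinRees

/-!
# Essential constancy of `Ext^i(K, M/I^n M)` (helper35, S7164)
-/

set_option autoImplicit false
universe u
open CategoryTheory Limits Pretriangulated

namespace Groth.Agent.H35.ExtAR

section ShiftExact

variable {C : Type*} [Category C] [Preadditive C] [HasZeroObject C] [HasShift C ℤ]
  [∀ n : ℤ, (shiftFunctor C n).Additive] [Pretriangulated C]

lemma coyoneda_exact₂_shift (T : Triangle C) (hT : T ∈ distTriang C) (i : ℤ) {X : C}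
    (f : X ⟶ (shiftFunctor C i).obj T.obj₂) (hf : f ≫ (shiftFunctor C i).map T.mor₂ = 0) :
    ∃ g : X ⟶ (shiftFunctor C i).obj T.obj₁, f = g ≫ (shiftFunctor C i).map T.mor₁ := by
  have hT' := Triangle.shift_distinguished T hT i
  obtain ⟨g, hg⟩ := Triangle.coyoneda_exact₂ _ hT' f (by
    change f ≫ (i.negOnePow • (shiftFunctor C i).map T.mor₂) = 0
    rw [Linear.comp_units_smul, hf, smul_zero])
  let g' : X ⟶ (shiftFunctor C i).obj T.obj₁ := g
  have hg' : f = g' ≫ (i.negOnePow • (shiftFunctor C i).map T.mor₁) := hg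
  refine ⟨i.negOnePow • g', ?_⟩
  rw [hg', Linear.comp_units_smul, Linear.units_smul_comp]

lemma coyoneda_exact₃_shift (T : Triangle C) (hT : T ∈ distTriang C) (i : ℤ) {X : C}
    (f : X ⟶ (shiftFunctor C i).obj T.obj₃) (hf : f ≫ (shiftFunctor C i).map T.mor₃ = 0) :
    ∃ g : X ⟶ (shiftFunctor C i).obj T.obj₂, f = g ≫ (shiftFunctor C i).map T.mor₂ := by
  have hT' := Triangle.shift_distinguished T hT i
  obtain ⟨g, hg⟩ := Triangle.coyoneda_exact₃ _ hT' f (by
    change f ≫ (i.negOnePow • (shiftFunctor C i).map T.mor₃ ≫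
      (shiftFunctorComm C 1 i).hom.app T.obj₁) = 0
    rw [Linear.comp_units_smul, ← Category.assoc, hf, zero_comp, smul_zero])
  let g' : X ⟶ (shiftFunctor C i).obj T.obj₂ := g
  have hg' : f = g' ≫ (i.negOnePow • (shiftFunctor C i).map T.mor₂) := hg
  refine ⟨i.negOnePow • g', ?_⟩
  rw [hg', Linear.comp_units_smul, Linear.units_smul_comp]

end ShiftExact

section Assembly

attribute [local instance] HasDerivedCategory.standard

open DerivedCategory Groth.Agent.H35.PCHom

/-- The functor `M ↦ M[0]`. -/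
noncomputable abbrev sg (A : Type u) [CommRing A] : ModuleCat.{u} A ⥤ Dual.D A :=
  DerivedCategory.singleFunctor (ModuleCat.{u} A) 0

variable {A : Type u} [CommRing A] (X : Dual.D A) (i : ℤ)

lemma postcomp_injective_of_zero {S : ShortComplex (ModuleCat.{u} A)} (hS : S.ShortExact)
    (h0 : ∀ e : X ⟶ (shiftFunctor (Dual.D A) i).obj ((sg A).obj S.X₁),
      e ≫ (shiftFunctor (Dual.D A) i).map ((sg A).map S.f) = 0) :
    Function.Injective (fun e : X ⟶ (shiftFunctor (Dual.D A) i).obj ((sg A).obj S.X₂) =>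
      e ≫ (shiftFunctor (Dual.D A) i).map ((sg A).map S.g)) := by
  intro e e' h
  have h1 : (e - e') ≫ (shiftFunctor (Dual.D A) i).map ((sg A).map S.g) = 0 := by
    rw [Preadditive.sub_comp, sub_eq_zero]
    exact h
  obtain ⟨g, hg⟩ := coyoneda_exact₂_shift hS.singleTriangle hS.singleTriangle_distinguished i
    (e - e') h1
  rw [← sub_eq_zero, hg]
  exact h0 g

lemma range_subset_of_zero {S₁ S₂ : ShortComplex (ModuleCat.{u} A)} (h₁ : S₁.ShortExact)
    (h₂ : S₂.ShortExact) (φ : S₁ ⟶ S₂)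
    (h0 : ∀ e : X ⟶ (shiftFunctor (Dual.D A) (i + 1)).obj ((sg A).obj S₁.X₁),
      e ≫ (shiftFunctor (Dual.D A) (i + 1)).map ((sg A).map φ.τ₁) = 0)
    (e : X ⟶ (shiftFunctor (Dual.D A) i).obj ((sg A).obj S₁.X₃)) :
    ∃ e' : X ⟶ (shiftFunctor (Dual.D A) i).obj ((sg A).obj S₂.X₂),
      e ≫ (shiftFunctor (Dual.D A) i).map ((sg A).map φ.τ₃) =
        e' ≫ (shiftFunctor (Dual.D A) i).map ((sg A).map S₂.g) := by
  let a := shiftFunctorAdd' (Dual.D A) 1 i (i + 1) (by omega)
  have hnat := (ShortComplex.ShortExact.singleTriangle.map h₁ h₂ φ).comm₃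
  have hnat' : h₁.singleδ ≫ (shiftFunctor (Dual.D A) (1 : ℤ)).map ((sg A).map φ.τ₁) =
      (sg A).map φ.τ₃ ≫ h₂.singleδ := hnat
  have hz : (e ≫ (shiftFunctor (Dual.D A) i).map ((sg A).map φ.τ₃)) ≫
      (shiftFunctor (Dual.D A) i).map h₂.singleδ = 0 := by
    rw [Category.assoc, ← Functor.map_comp, ← hnat', Functor.map_comp]
    have hn := a.hom.naturality ((sg A).map φ.τ₁)
    have hn' : (shiftFunctor (Dual.D A) i).map ((shiftFunctor (Dual.D A) (1 : ℤ)).map
        ((sg A).map φ.τ₁)) = a.inv.app _ ≫ (shiftFunctor (Dual.D A) (i + 1)).map ((sg A).map φ.τ₁) ≫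
          a.hom.app _ := by
      rw [hn]
      simp
    rw [hn', ← Category.assoc, ← Category.assoc, ← Category.assoc]
    rw [h0 ((e ≫ (shiftFunctor (Dual.D A) i).map h₁.singleδ) ≫ a.inv.app _), zero_comp]
  exact (coyoneda_exact₃_shift h₂.singleTriangle h₂.singleTriangle_distinguished i _ hz)

end Assembly

section Final

attribute [local instance] HasDerivedCategory.standard

open DerivedCategory Groth.Agent.H35.PCHom

variable {A : Type u} [CommRing A] (I : Ideal A) (M : Type u) [AddCommGroup M] [Module A M]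

/-- The short complex `0 → I^n M → M → M/I^n M → 0`. -/
noncomputable abbrev Sn (n : ℕ) : ShortComplex (ModuleCat.{u} A) :=
  ShortComplex.mk (ModuleCat.ofHom (I ^ n • ⊤ : Submodule A M).subtype)
    (ModuleCat.ofHom (I ^ n • ⊤ : Submodule A M).mkQ) (by
      ext x
      simp)

lemma Sn_shortExact (n : ℕ) : (Sn I M n).ShortExact where
  exact := (ShortComplex.ShortExact.moduleCat_exact_iff_function_exact _).2
    (LinearMap.exact_subtype_mkQ _)
  mono_f := (ModuleCat.mono_iff_injective _).2 (Submodule.injective_subtype _)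
  epi_g := (ModuleCat.epi_iff_surjective _).2 (Submodule.mkQ_surjective _)

/-- The map `S_m ⟶ S_n` for `n ≤ m`. -/
noncomputable abbrev SnMap {n m : ℕ} (h : n ≤ m) : Sn I M m ⟶ Sn I M n where
  τ₁ := ModuleCat.ofHom (Submodule.inclusion
    (Submodule.smul_mono_left (Ideal.pow_le_pow_right h) :
      (I ^ m • ⊤ : Submodule A M) ≤ I ^ n • ⊤))
  τ₂ := 𝟙 _
  τ₃ := ModuleCat.ofHom (Submodule.mapQ (I ^ m • ⊤ : Submodule A M) (I ^ n • ⊤)
    (LinearMap.id : M →ₗ[A] M) (Submodule.smul_mono_left (Ideal.pow_le_pow_right h)))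
  comm₁₂ := by
    ext x
    rfl
  comm₂₃ := by
    ext x
    rfl

variable [IsNoetherianRing A]

/-- S7164 -/
theorem ext_essentially_constant (K : Dual.D A) (hK : DRing.IsPseudoCoherent' A K) (a : ℤ)
    (htors : ∀ (M : Type u) [AddCommGroup M] [Module A M], Module.Finite A M → ∀ i : ℤ, a ≤ i →
      ∀ e : K ⟶ (shiftFunctor (Dual.D A) i).obj (Dual.inD A M),
        ∃ n : ℕ, ∀ x ∈ I ^ n, x • e = 0)
    [Module.Finite A M] (i : ℤ) (hi : a ≤ i) :
    (∃ m : ℕ, Function.Injective
      (fun e : K ⟶ (shiftFunctor (Dual.D A) i).obj (Dual.inD A M) =>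
        e ≫ (shiftFunctor (Dual.D A) i).map ((sg A).map (Sn I M m).g))) ∧
    ∀ n : ℕ, ∃ (m' : ℕ) (hnm : n ≤ m'),
      ∀ e : K ⟶ (shiftFunctor (Dual.D A) i).obj
          (Dual.inD A (M ⧸ (I ^ m' • ⊤ : Submodule A M))),
        ∃ e' : K ⟶ (shiftFunctor (Dual.D A) i).obj (Dual.inD A M),
          e ≫ (shiftFunctor (Dual.D A) i).map ((sg A).map (SnMap I M hnm).τ₃) =
            e' ≫ (shiftFunctor (Dual.D A) i).map ((sg A).map (Sn I M n).g) := by
  obtain ⟨P, b, hb, hfree, ⟨eK⟩⟩ := hK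
  have hKP : P.IsKProjective :=
    Groth.Agent.H35.isKProjective_of_vanishesAbove P b hb (fun i => by
      have := (hfree i).2
      infer_instance)
  have hMN : IsNoetherian A M := isNoetherian_of_isNoetherianRing_of_finite A M
  have key : ∀ (j : ℤ), a ≤ j → ∀ n : ℕ, ∃ (m' : ℕ) (h : n ≤ m'),
      ∀ e : K ⟶ (shiftFunctor (Dual.D A) j).obj ((sg A).obj (Sn I M m').X₁),
        e ≫ (shiftFunctor (Dual.D A) j).map ((sg A).map (SnMap I M h).τ₁) = 0 := by
    intro j hj n
    have hp : -j + j = 0 := by omega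
    have hp' : (-j - 1) + 1 = -j := by omega
    have hfinN : Module.Finite A ↥(I ^ n • ⊤ : Submodule A M) := inferInstance
    obtain ⟨m', h, hm'⟩ := exists_transition_zero I P hp hp' (hfree (-j)).1 (hfree (-j)).2 M n
      (fun e => by
        obtain ⟨k, hk⟩ := htors ↥(I ^ n • ⊤ : Submodule A M) hfinN j hj (eK.inv ≫ e)
        refine ⟨k, fun x hx => ?_⟩
        have h1 := hk x hx
        have h1' : eK.inv ≫ (x • e) = 0 := (Linear.comp_smul _ _ _ eK.inv x e).trans h1
        exact (cancel_epi eK.inv).1 (h1'.trans comp_zero.symm))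
    refine ⟨m', h, fun e => ?_⟩
    have h2 : eK.hom ≫ (e ≫ (shiftFunctor (Dual.D A) j).map ((sg A).map (SnMap I M h).τ₁)) = 0 :=
      (Category.assoc _ _ _).symm.trans (hm' (eK.hom ≫ e))
    exact (cancel_epi eK.hom).1 (h2.trans comp_zero.symm)
  constructor
  · obtain ⟨m', h, hm'⟩ := key i hi 0
    refine ⟨m', postcomp_injective_of_zero K i (Sn_shortExact I M m') (fun e => ?_)⟩
    have hc : (Sn I M m').f = (SnMap I M h).τ₁ ≫ (Sn I M 0).f := by
      have := (SnMap I M h).comm₁₂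
      rw [this]
      exact (Category.comp_id _).symm
    rw [hc, Functor.map_comp, Functor.map_comp, ← Category.assoc, hm' e, zero_comp]
  · intro n
    obtain ⟨m', h, hm'⟩ := key (i + 1) (by omega) n
    exact ⟨m', h, fun e => range_subset_of_zero K i (Sn_shortExact I M m') (Sn_shortExact I M n)
      (SnMap I M h) hm' e⟩

end Final

end Groth.Agent.H35.ExtAR
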