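import Mathlib
import Groth.Agent.H35.RegGlDim
import Groth.Agent.H35.ProjAmp
import Groth.Agent.H72.ProjDim
import Groth.Agent.H45.Derived.BoundedInduction

/-!
# Vanishing of `Hom` across a cohomological gap over rings of finite global dimension
(helper35, S6994)
-/

set_option autoImplicit false
universe u
open CategoryTheory Limits Pretriangulated

namespace Groth.Agent.H35.RegHom

attribute [local instance] HasDerivedCategory.standard

open DerivedCategory

section Induction

variable {𝒜 : Type*} [Category 𝒜] [Abelian 𝒜] [HasDerivedCategory 𝒜]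

/-- Variant of `Groth.Agent.H45.bounded_induction` where the objects `M[-n]` are only required
to satisfy `P` for `n ≥ a₀`. -/
theorem bounded_induction_ge (P : ObjectProperty (DerivedCategory 𝒜)) [P.IsClosedUnderIsomorphisms]
    (S : ObjectProperty 𝒜) [S.IsClosedUnderIsomorphisms] (a₀ : ℤ)
    (hzero : ∀ Z : DerivedCategory 𝒜, IsZero Z → P Z)
    (htri : ∀ T : Triangle (DerivedCategory 𝒜), T ∈ distTriang _ → P T.obj₁ → P T.obj₃ → P T.obj₂)
    (hS : ∀ (M : 𝒜) (n : ℤ), a₀ ≤ n → S M → P ((singleFunctor 𝒜 n).obj M))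
    (hS0 : ∀ M : 𝒜, IsZero M → S M) (k : ℕ) :
    ∀ (Z : DerivedCategory 𝒜) (a : ℤ), a₀ ≤ a → Z.IsGE a → Z.IsLE (a + k - 1) →
      (∀ q : ℤ, S ((homologyFunctor 𝒜 q).obj Z)) → P Z := by
  induction k with
  | zero =>
    intro Z a _ hGE hLE _
    exact hzero Z (TStructure.t.isZero Z (a + (0 : ℕ) - 1) a (by simp))
  | succ k ih =>
    intro Z a ha hGE hLE hZ
    let n : ℤ := a + k
    have hLE' : Z.IsLE n := by
      have : a + ((k + 1 : ℕ) : ℤ) - 1 = n := by simp only [n]; omega
      rw [← this]
      exact hLE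
    have hT := TStructure.t.triangleLTGE_distinguished n Z
    have h₁ : P ((TStructure.t.truncLT n).obj Z) := by
      apply ih _ a ha inferInstance
      · have : a + (k : ℤ) - 1 = n - 1 := by simp [n]
        rw [this]
        infer_instance
      · intro q
        by_cases hq : q < n
        · have := Groth.Agent.H45.isIso_homologyMap_truncLTι Z n q hq
          exact S.prop_of_iso
            (asIso ((homologyFunctor 𝒜 q).map ((TStructure.t.truncLTι n).app Z))).symm (hZ q)
        · apply hS0
          exact isZero_of_isLE _ (n - 1) q (by lia)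
    have h₃ : P ((TStructure.t.truncGE n).obj Z) := by
      obtain ⟨A, ⟨e⟩⟩ := exists_iso_singleFunctor_obj_of_isGE_of_isLE
        ((TStructure.t.truncGE n).obj Z) n
      have := Groth.Agent.H45.isIso_homologyMap_truncGEπ Z n n le_rfl
      have eA : (homologyFunctor 𝒜 n).obj Z ≅ A :=
        asIso ((homologyFunctor 𝒜 n).map ((TStructure.t.truncGEπ n).app Z)) ≪≫
          (homologyFunctor 𝒜 n).mapIso e ≪≫ (singleFunctorCompHomologyFunctorIso 𝒜 n).app A
      exact P.prop_of_iso e.symm (hS A n (by simp only [n]; omega) (S.prop_of_iso eA (hZ n)))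
    exact htri _ hT h₁ h₃

end Induction

section Ring

variable {R : Type u} [CommRing R]

/-- `Hom(M[-n], L) = 0` when `pd M ≤ d` and `L ∈ D^{≤ n - d - 1}`. -/
theorem hom_single_eq_zero (M : ModuleCat.{u} R) (d : ℕ)
    (hM : HasProjectiveDimensionLT M (d + 1)) (n : ℤ) (L : Dual.D R) (hL : L.IsLE (n - d - 1))
    (f : (DerivedCategory.singleFunctor (ModuleCat.{u} R) n).obj M ⟶ L) : f = 0 := by
  obtain ⟨P, hP⟩ := Groth.Agent.H72.exists_resolution_of_hasProjectiveDimensionLT d M hM
  let F := P.cochainComplex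
  have hF : DRing.VanishesOutside F (-(d : ℤ)) 0 := by
    intro i hi
    rcases hi with hi | hi
    · obtain ⟨k, hk⟩ : ∃ k : ℕ, -i = k := ⟨(-i).toNat, by omega⟩
      exact IsZero.of_iso (hP k (by omega)) (P.cochainComplexXIso i k (by omega))
    · exact CochainComplex.isZero_of_isStrictlyLE F 0 i hi
  have hproj : ∀ i : ℤ, Module.Projective R (F.X i) := fun i => by
    have : Projective (F.X i) := inferInstance
    exact (IsProjective.iff_projective (R := R) (P := F.X i)).mpr this
  have hqi : IsIso (Q.map P.π') := by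
    rw [DerivedCategory.isIso_Q_map_iff_quasiIso (φ := P.π')]
    infer_instance
  let e₀ : Q.obj F ≅ (DerivedCategory.singleFunctor (ModuleCat.{u} R) 0).obj M :=
    @asIso _ _ _ _ (Q.map P.π') hqi
  let e₁ : (shiftFunctor (Dual.D R) n).obj
      ((DerivedCategory.singleFunctor (ModuleCat.{u} R) n).obj M) ≅
      (DerivedCategory.singleFunctor (ModuleCat.{u} R) 0).obj M :=
    ((DerivedCategory.singleFunctors (ModuleCat.{u} R)).shiftIso n 0 n (by omega)).app M
  have hL' : ((shiftFunctor (Dual.D R) n).obj L).IsLE (-(d : ℤ) - 1) :=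
    (DerivedCategory.TStructure.t : Triangulated.TStructure (Dual.D R)).isLE_shift L
      (n - d - 1) n (-(d : ℤ) - 1) (by omega)
  have h0 := Groth.Agent.H35.hom_eq_zero_of_projective_of_isLE F (-(d : ℤ)) 0 hF hproj
    ((shiftFunctor (Dual.D R) n).obj L) hL' (e₀.hom ≫ e₁.inv ≫ (shiftFunctor (Dual.D R) n).map f)
  have h1 : (shiftFunctor (Dual.D R) n).map f = 0 := by
    rw [← cancel_epi e₁.inv, ← cancel_epi e₀.hom, h0, comp_zero, comp_zero]
  exact (shiftFunctor (Dual.D R) n).map_injective (by rw [h1, Functor.map_zero])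

/-- S6994 -/
theorem hom_subsingleton_of_gap (R : Type u) [CommRing R] [IsNoetherianRing R]
    (hreg : ∀ p : PrimeSpectrum R, IsRegularLocalRing (Localization.AtPrime p.asIdeal)) (d : ℕ)
    (hd : ringKrullDim R = d) (K L : Dual.D R)
    (hKb : ∃ b : ℤ, ∀ i : ℤ, b < i → Subsingleton (Dual.HD R K i)) (k : ℤ)
    (hK : ∀ i : ℤ, i ≤ k → Subsingleton (Dual.HD R K i))
    (hL : ∀ i : ℤ, k - d + 1 ≤ i → Subsingleton (Dual.HD R L i)) :
    Subsingleton (K ⟶ L) := by
  have hR : IsRegularRing R := isRegularRing_iff.2 (fun p hp => hreg ⟨p, hp⟩)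
  obtain ⟨b, hb⟩ := hKb
  have hGE : K.IsGE (k + 1) := by
    rw [DerivedCategory.isGE_iff]
    intro i hi
    have := hK i (by omega)
    exact ModuleCat.isZero_of_subsingleton _
  have hLE : K.IsLE b := by
    rw [DerivedCategory.isLE_iff]
    intro i hi
    have := hb i hi
    exact ModuleCat.isZero_of_subsingleton _
  have hLLE : L.IsLE (k - d) := by
    rw [DerivedCategory.isLE_iff]
    intro i hi
    have := hL i (by omega)
    exact ModuleCat.isZero_of_subsingleton _
  let P : ObjectProperty (Dual.D R) := fun X => ∀ f : X ⟶ L, f = 0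
  have : P.IsClosedUnderIsomorphisms := ⟨fun {X Y} e hX f => by
    have h := hX (e.hom ≫ f)
    exact (cancel_epi e.hom).mp (by rw [h, comp_zero])⟩
  let S : ObjectProperty (ModuleCat.{u} R) := fun M => HasProjectiveDimensionLT M (d + 1)
  have : S.IsClosedUnderIsomorphisms := ⟨fun {X Y} e hX => by
    have : HasProjectiveDimensionLT X (d + 1) := hX
    exact hasProjectiveDimensionLT_of_iso e _⟩
  have hS : ∀ M : ModuleCat.{u} R, S M := fun M =>
    Groth.Agent.H35.RegGlDim.hasProjectiveDimensionLT R d hd.le M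
  have key : P K := by
    refine bounded_induction_ge P S (k + 1) (fun Z hZ f => hZ.eq_of_src _ _) ?_ ?_
      (fun M _ => hS M) (b - k).toNat K (k + 1) le_rfl hGE
      ((DerivedCategory.TStructure.t : Triangulated.TStructure (Dual.D R)).isLE_of_le K b _
        (by omega)) (fun q => hS _)
    · intro T hT h₁ h₃ f
      obtain ⟨g, hg⟩ := Triangle.yoneda_exact₂ T hT f (h₁ _)
      rw [hg, h₃ g, comp_zero]
    · intro M n hn hM f
      exact hom_single_eq_zero M d hM n L
        ((DerivedCategory.TStructure.t : Triangulated.TStructure (Dual.D R)).isLE_of_le L (k - d) _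
          (by omega)) f
  exact ⟨fun f g => by rw [key f, key g]⟩

end Ring

end Groth.Agent.H35.RegHom
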