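import Mathlib
import Groth.Agent.H35.ExtArtinReesMain
import Groth.Agent.H35.RegHomGap

/-!
# `Ext^p(M, N) → Ext^p(I^n M, N)` factors through `Ext^p(I^n M, I^{n-c} N)` (helper35, S7148)
-/

set_option autoImplicit false
universe u
open CategoryTheory Limits Pretriangulated

namespace Groth.Agent.H35.ExtAR

attribute [local instance] HasDerivedCategory.standard

open DerivedCategory

section Modules

variable {A : Type u} [CommRing A] (I : Ideal A) {F M : Type u} [AddCommGroup F] [Module A F]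
  [AddCommGroup M] [Module A M] (π : F →ₗ[A] M)

/-- The short complex `0 → ker π → F → M → 0`. -/
noncomputable abbrev SK : ShortComplex (ModuleCat.{u} A) :=
  ShortComplex.mk (ModuleCat.ofHom (LinearMap.ker π).subtype) (ModuleCat.ofHom π) (by
    ext x
    exact x.2)

lemma SK_shortExact (hπ : Function.Surjective π) : (SK π).ShortExact where
  exact := (ShortComplex.ShortExact.moduleCat_exact_iff_function_exact _).2
    (LinearMap.exact_subtype_ker_map π)
  mono_f := (ModuleCat.mono_iff_injective _).2 (Submodule.injective_subtype _)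
  epi_g := (ModuleCat.epi_iff_surjective _).2 hπ

/-- `π` restricted to `I^n F → I^n M`. -/
noncomputable def piN (n : ℕ) :
    ↥(I ^ n • ⊤ : Submodule A F) →ₗ[A] ↥(I ^ n • ⊤ : Submodule A M) :=
  π.restrict (fun x hx => by
    have h1 : π x ∈ Submodule.map π (I ^ n • ⊤) := ⟨x, hx, rfl⟩
    rw [Submodule.map_smul''] at h1
    exact Submodule.smul_mono le_rfl le_top h1)

lemma piN_surjective (hπ : Function.Surjective π) (n : ℕ) : Function.Surjective (piN I π n) := by
  rintro ⟨y, hy⟩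
  have h1 : (I ^ n • ⊤ : Submodule A M) = Submodule.map π (I ^ n • ⊤) := by
    rw [Submodule.map_smul'', Submodule.map_top, LinearMap.range_eq_top.2 hπ]
  rw [h1] at hy
  obtain ⟨x, hx, rfl⟩ := hy
  exact ⟨⟨x, hx⟩, rfl⟩

/-- The map of short complexes `(0 → ker πₙ → IⁿF → IⁿM → 0) ⟶ (0 → ker π → F → M → 0)`. -/
noncomputable def SKMap (n : ℕ) : SK (piN I π n) ⟶ SK π where
  τ₁ := ModuleCat.ofHom (LinearMap.codRestrict (LinearMap.ker π)
    ((I ^ n • ⊤ : Submodule A F).subtype ∘ₗ (LinearMap.ker (piN I π n)).subtype) (fun x => by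
      have h := x.2
      rw [LinearMap.mem_ker] at h ⊢
      exact congrArg Subtype.val h))
  τ₂ := ModuleCat.ofHom (I ^ n • ⊤ : Submodule A F).subtype
  τ₃ := ModuleCat.ofHom (I ^ n • ⊤ : Submodule A M).subtype
  comm₁₂ := by
    ext x
    rfl
  comm₂₃ := by
    ext x
    rfl

end Modules

section Main

variable {A : Type u} [CommRing A] [IsNoetherianRing A] (I : Ideal A) (N : Type u)
  [AddCommGroup N] [Module A N]

/-- `I^k M` as a submodule of a module given with its `AddCommGroup` structure. -/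
abbrev powTop (k : ℕ) (M : Type u) [AddCommGroup M] [Module A M] : Submodule A M := I ^ k • ⊤

/-- The factorization property in degree `q` for the module `M`. -/
def FactorsProp (q : ℤ) (M : Type u) [AddCommGroup M] [Module A M] : Prop :=
  ∃ c : ℕ, ∀ n : ℕ, c ≤ n →
    ∀ e : (sg A).obj (ModuleCat.of A M) ⟶
        (shiftFunctor (Dual.D A) q).obj ((sg A).obj (ModuleCat.of A N)),
      ∃ e' : (sg A).obj (ModuleCat.of A ↥(powTop I n M)) ⟶
          (shiftFunctor (Dual.D A) q).obj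
            ((sg A).obj (ModuleCat.of A ↥(powTop I (n - c) N))),
        e' ≫ (shiftFunctor (Dual.D A) q).map
            ((sg A).map (ModuleCat.ofHom (powTop I (n - c) N).subtype)) =
          (sg A).map (ModuleCat.ofHom (powTop I n M).subtype) ≫ e

lemma factorsProp_zero (M : Type u) [AddCommGroup M] [Module A M] : FactorsProp I N 0 M := by
  refine ⟨0, fun n _ e => ?_⟩
  let z := shiftFunctorZero (Dual.D A) ℤ
  obtain ⟨e₀, he₀⟩ := (sg A).map_surjective (e ≫ z.hom.app _)
  let r : ↥(powTop I n M) →ₗ[A] ↥(powTop I (n - 0) N) :=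
    e₀.hom.restrict (fun x hx => by
      have h1 : e₀.hom x ∈ Submodule.map e₀.hom (I ^ n • ⊤) := ⟨x, hx, rfl⟩
      rw [Submodule.map_smul''] at h1
      exact Submodule.smul_mono le_rfl le_top h1)
  let Nn : ModuleCat.{u} A := ModuleCat.of A ↥(powTop I (n - 0) N)
  let ιN : Nn ⟶ ModuleCat.of A N := ModuleCat.ofHom (powTop I (n - 0) N).subtype
  refine ⟨(sg A).map (ModuleCat.ofHom r) ≫ z.inv.app ((sg A).obj Nn), ?_⟩
  have hn : (sg A).map ιN ≫ z.inv.app ((sg A).obj (ModuleCat.of A N)) =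
      z.inv.app ((sg A).obj Nn) ≫ (shiftFunctor (Dual.D A) (0 : ℤ)).map ((sg A).map ιN) :=
    z.inv.naturality ((sg A).map ιN)
  have h2 : ModuleCat.ofHom r ≫ ιN =
      ModuleCat.ofHom (powTop I n M).subtype ≫ e₀ := by
    ext x
    rfl
  calc ((sg A).map (ModuleCat.ofHom r) ≫ z.inv.app ((sg A).obj Nn)) ≫
        (shiftFunctor (Dual.D A) (0 : ℤ)).map ((sg A).map ιN)
      = (sg A).map (ModuleCat.ofHom r) ≫ (z.inv.app ((sg A).obj Nn) ≫
        (shiftFunctor (Dual.D A) (0 : ℤ)).map ((sg A).map ιN)) := Category.assoc _ _ _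
    _ = (sg A).map (ModuleCat.ofHom r) ≫ ((sg A).map ιN ≫
        z.inv.app ((sg A).obj (ModuleCat.of A N))) := by rw [hn]
    _ = (sg A).map (ModuleCat.ofHom r ≫ ιN) ≫ z.inv.app ((sg A).obj (ModuleCat.of A N)) := by
      rw [Functor.map_comp, Category.assoc]
    _ = ((sg A).map (ModuleCat.ofHom (powTop I n M).subtype) ≫ (sg A).map e₀) ≫
        z.inv.app ((sg A).obj (ModuleCat.of A N)) := by rw [h2, Functor.map_comp]
    _ = (sg A).map (ModuleCat.ofHom (powTop I n M).subtype) ≫ e := by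
      rw [he₀, Category.assoc, Category.assoc, Iso.hom_inv_id_app]
      erw [Category.comp_id]

lemma factorsProp_succ (q : ℤ) (hq : 0 ≤ q)
    (ih : ∀ (Z : Type u) [AddCommGroup Z] [Module A Z], Module.Finite A Z → FactorsProp I N q Z)
    (M : Type u) [AddCommGroup M] [Module A M] [Module.Finite A M] :
    FactorsProp I N (q + 1) M := by
  obtain ⟨t, π, hπ⟩ := Module.Finite.exists_fin' A M
  let Z := LinearMap.ker π
  have hFN : IsNoetherian A (Fin t → A) := isNoetherian_of_isNoetherianRing_of_finite A _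
  have hZfin : Module.Finite A ↥Z := inferInstance
  obtain ⟨c₁, hc₁⟩ := ih ↥Z hZfin
  obtain ⟨c₀, hc₀⟩ := Ideal.exists_pow_inf_eq_pow_smul I Z
  refine ⟨c₀ + c₁, fun n hn e => ?_⟩
  have hS := SK_shortExact π hπ
  have hSn := SK_shortExact (piN I π n) (piN_surjective I π hπ n)
  -- `e` kills `F[0]`
  have hproj : Projective (ModuleCat.of A (Fin t → A)) :=
    ModuleCat.projective_of_free (M := ModuleCat.of A (Fin t → A)) (Pi.basisFun A (Fin t))
  have hT : ((shiftFunctor (Dual.D A) (q + 1)).obj ((sg A).obj (ModuleCat.of A N))).IsLE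
      ((0 : ℤ) - (0 : ℕ) - 1) := by
    have h0 : ((sg A).obj (ModuleCat.of A N)).IsLE 0 := inferInstance
    have h1 := (DerivedCategory.TStructure.t).isLE_shift ((sg A).obj (ModuleCat.of A N)) 0 (q + 1)
      (-(q + 1)) (by omega)
    exact (DerivedCategory.TStructure.t).isLE_of_le _ (-(q + 1)) _ (by simp; omega)
  have h0 : (sg A).map (ModuleCat.ofHom π) ≫ e = 0 :=
    Groth.Agent.H35.RegHom.hom_single_eq_zero (ModuleCat.of A (Fin t → A)) 0
      (by
        have : HasProjectiveDimensionLT (ModuleCat.of A (Fin t → A)) 1 := inferInstance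
        exact this) 0 _ hT _
  obtain ⟨w, hw⟩ : ∃ w : (shiftFunctor (Dual.D A) (1 : ℤ)).obj ((sg A).obj (ModuleCat.of A ↥Z)) ⟶
      (shiftFunctor (Dual.D A) (q + 1)).obj ((sg A).obj (ModuleCat.of A N)),
      e = hS.singleδ ≫ w := Triangle.yoneda_exact₃ _ hS.singleTriangle_distinguished e h0
  let a := shiftFunctorAdd' (Dual.D A) q 1 (q + 1) rfl
  obtain ⟨w₀, hw₀⟩ : ∃ w₀ : (sg A).obj (ModuleCat.of A ↥Z) ⟶
      (shiftFunctor (Dual.D A) q).obj ((sg A).obj (ModuleCat.of A N)),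
      (shiftFunctor (Dual.D A) (1 : ℤ)).map w₀ =
        w ≫ a.hom.app ((sg A).obj (ModuleCat.of A N)) :=
    (shiftFunctor (Dual.D A) (1 : ℤ)).map_surjective
      (w ≫ a.hom.app ((sg A).obj (ModuleCat.of A N)))
  obtain ⟨w₀', hw₀'⟩ := hc₁ (n - c₀) (by omega) w₀
  have hk : n - c₀ - c₁ = n - (c₀ + c₁) := Nat.sub_sub n c₀ c₁
  revert w₀' hw₀'
  rw [hk]
  intro w₀' hw₀'
  -- the map `j`
  let τ₁ := (SKMap I π n).τ₁
  have hj : ∀ x, τ₁.hom x ∈ (powTop I (n - c₀) ↥Z) := by
    intro x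
    have h1 : ((τ₁.hom x : ↥Z) : Fin t → A) ∈ I ^ n • ⊤ ⊓ Z := ⟨x.1.2, (τ₁.hom x).2⟩
    rw [hc₀ n (by omega)] at h1
    have h2 : ((τ₁.hom x : ↥Z) : Fin t → A) ∈ I ^ (n - c₀) • Z :=
      Submodule.smul_mono le_rfl inf_le_right h1
    have h3 : I ^ (n - c₀) • Z = Submodule.map Z.subtype (I ^ (n - c₀) • ⊤) := by
      rw [Submodule.map_smul'', Submodule.map_top, Submodule.range_subtype]
    rw [h3] at h2
    obtain ⟨y, hy, hyx⟩ := h2
    have : y = τ₁.hom x := Subtype.ext hyx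
    rw [← this]
    exact hy
  let j : ↥(LinearMap.ker (piN I π n)) →ₗ[A] ↥(powTop I (n - c₀) ↥Z) :=
    LinearMap.codRestrict _ τ₁.hom hj
  let Nn : ModuleCat.{u} A := ModuleCat.of A ↥(powTop I (n - (c₀ + c₁)) N)
  let ιN : Nn ⟶ ModuleCat.of A N :=
    ModuleCat.ofHom (powTop I (n - (c₀ + c₁)) N).subtype
  let Zk : ModuleCat.{u} A := ModuleCat.of A ↥(powTop I (n - c₀) ↥Z)
  let ιZ : Zk ⟶ ModuleCat.of A ↥Z := ModuleCat.ofHom (powTop I (n - c₀) ↥Z).subtype
  have hjι : ModuleCat.ofHom j ≫ ιZ = τ₁ := by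
    ext x
    rfl
  have hw₀'' : w₀' ≫ (shiftFunctor (Dual.D A) q).map ((sg A).map ιN) = (sg A).map ιZ ≫ w₀ := hw₀'
  have hnat : hSn.singleδ ≫ (shiftFunctor (Dual.D A) (1 : ℤ)).map ((sg A).map τ₁) =
      (sg A).map (SKMap I π n).τ₃ ≫ hS.singleδ :=
    (ShortComplex.ShortExact.singleTriangle.map hSn hS (SKMap I π n)).comm₃
  have hw' : e = hS.singleδ ≫ w := hw
  have han : (shiftFunctor (Dual.D A) (1 : ℤ)).map ((shiftFunctor (Dual.D A) q).map
        ((sg A).map ιN)) ≫ a.inv.app ((sg A).obj (ModuleCat.of A N)) =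
      a.inv.app ((sg A).obj Nn) ≫ (shiftFunctor (Dual.D A) (q + 1)).map ((sg A).map ιN) :=
    a.inv.naturality ((sg A).map ιN)
  refine ⟨hSn.singleδ ≫ (shiftFunctor (Dual.D A) (1 : ℤ)).map ((sg A).map (ModuleCat.ofHom j) ≫ w₀') ≫
    a.inv.app ((sg A).obj Nn), ?_⟩
  calc (hSn.singleδ ≫ (shiftFunctor (Dual.D A) (1 : ℤ)).map
          ((sg A).map (ModuleCat.ofHom j) ≫ w₀') ≫ a.inv.app ((sg A).obj Nn)) ≫
        (shiftFunctor (Dual.D A) (q + 1)).map ((sg A).map ιN)
      = hSn.singleδ ≫ (shiftFunctor (Dual.D A) (1 : ℤ)).map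
          ((sg A).map (ModuleCat.ofHom j) ≫ w₀') ≫ (a.inv.app ((sg A).obj Nn) ≫
        (shiftFunctor (Dual.D A) (q + 1)).map ((sg A).map ιN)) := by
        simp only [Category.assoc]
    _ = hSn.singleδ ≫ (shiftFunctor (Dual.D A) (1 : ℤ)).map
          ((sg A).map (ModuleCat.ofHom j) ≫ w₀') ≫
          ((shiftFunctor (Dual.D A) (1 : ℤ)).map ((shiftFunctor (Dual.D A) q).map
            ((sg A).map ιN)) ≫ a.inv.app ((sg A).obj (ModuleCat.of A N))) := by rw [han]
    _ = hSn.singleδ ≫ (shiftFunctor (Dual.D A) (1 : ℤ)).map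
          (((sg A).map (ModuleCat.ofHom j) ≫ w₀') ≫ (shiftFunctor (Dual.D A) q).map
            ((sg A).map ιN)) ≫ a.inv.app ((sg A).obj (ModuleCat.of A N)) := by
        rw [Functor.map_comp (shiftFunctor (Dual.D A) (1 : ℤ)) _
          ((shiftFunctor (Dual.D A) q).map ((sg A).map ιN))]
        simp only [Category.assoc]
    _ = hSn.singleδ ≫ (shiftFunctor (Dual.D A) (1 : ℤ)).map
          ((sg A).map τ₁ ≫ w₀) ≫ a.inv.app ((sg A).obj (ModuleCat.of A N)) := by
        have e1 : (sg A).map (ModuleCat.ofHom j) ≫ (sg A).map ιZ = (sg A).map τ₁ := by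
          rw [← Functor.map_comp, hjι]
        have h4 : (sg A).map (ModuleCat.ofHom j) ≫ (sg A).map ιZ ≫ w₀ = (sg A).map τ₁ ≫ w₀ := by
          rw [← e1, Category.assoc]
        rw [Category.assoc, hw₀'', h4]
    _ = (hSn.singleδ ≫ (shiftFunctor (Dual.D A) (1 : ℤ)).map ((sg A).map τ₁)) ≫
          (shiftFunctor (Dual.D A) (1 : ℤ)).map w₀ ≫
            a.inv.app ((sg A).obj (ModuleCat.of A N)) := by
        rw [Functor.map_comp]
        simp only [Category.assoc]
    _ = (sg A).map (ModuleCat.ofHom (powTop I n M).subtype) ≫ e := by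
        rw [hnat, hw₀, hw']
        simp only [Category.assoc]
        rw [Iso.hom_inv_id_app]
        erw [Category.comp_id]
        rfl

theorem factorsProp_nat (p : ℕ) : ∀ (M : Type u) [AddCommGroup M] [Module A M],
    Module.Finite A M → FactorsProp I N (p : ℤ) M := by
  induction p with
  | zero =>
    intro M _ _ _
    exact factorsProp_zero I N M
  | succ p ih =>
    intro M _ _ hM
    have := factorsProp_succ I N (p : ℤ) (by omega) ih M
    rwa [← Nat.cast_succ] at this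

end Main

end Groth.Agent.H35.ExtAR
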