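import Mathlib
import Groth.Agent.H35.RegGlDim
import Groth.Agent.H14.GeomBC.RegSep

/-!
# Fibres of localizations of polynomial rings (helper35)

If `B` is a localization of `R[x₁,…,x_d]` and `κ` is a field over `R`, then `κ ⊗_R B` is a
localization of `κ[x₁,…,x_d]`, hence regular of dimension `≤ d`, hence of global dimension `≤ d`.
-/

set_option autoImplicit false
set_option linter.style.haveILetI false
universe u
open CategoryTheory TensorProduct

namespace Groth.Agent.H35.FibreLoc

theorem ringKrullDim_le_of_isLocalization {R : Type*} [CommRing R] (M : Submonoid R)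
    (S : Type*) [CommRing S] [Algebra R S] [IsLocalization M S] :
    ringKrullDim S ≤ ringKrullDim R := by
  refine Order.krullDim_le_of_strictMono (PrimeSpectrum.comap (algebraMap R S)) ?_
  exact Monotone.strictMono_of_injective (fun _ _ h => Ideal.comap_mono h)
    (PrimeSpectrum.localization_comap_injective S M)

section Fibre

variable (R : Type u) [CommRing R] (κ : Type u) [Field κ] [Algebra R κ] (d : ℕ)
  (T : Submonoid (MvPolynomial (Fin d) R)) (B : Type u) [CommRing B]
  [Algebra (MvPolynomial (Fin d) R) B] [IsLocalization T B] [Algebra R B]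
  [IsScalarTower R (MvPolynomial (Fin d) R) B]

attribute [local instance] Algebra.TensorProduct.rightAlgebra MvPolynomial.algebraMvPolynomial

include T in
theorem regular_and_dim_fibre : IsRegularRing (κ ⊗[R] B) ∧ ringKrullDim (κ ⊗[R] B) ≤ d := by
  letI algPC : Algebra (MvPolynomial (Fin d) R) (κ ⊗[R] B) :=
    ((algebraMap B (κ ⊗[R] B)).comp (algebraMap (MvPolynomial (Fin d) R) B)).toAlgebra
  haveI t1 : IsScalarTower (MvPolynomial (Fin d) R) B (κ ⊗[R] B) :=
    IsScalarTower.of_algebraMap_eq' rfl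
  let f : Fin d → (κ ⊗[R] B) := fun i =>
    algebraMap (MvPolynomial (Fin d) R) (κ ⊗[R] B) (MvPolynomial.X i)
  letI algSC : Algebra (MvPolynomial (Fin d) κ) (κ ⊗[R] B) :=
    (MvPolynomial.aeval (R := κ) f).toRingHom.toAlgebra
  haveI t2 : IsScalarTower κ (MvPolynomial (Fin d) κ) (κ ⊗[R] B) :=
    IsScalarTower.of_algebraMap_eq' (MvPolynomial.aeval (R := κ) f).comp_algebraMap.symm
  haveI t3 : IsScalarTower R B (κ ⊗[R] B) := inferInstance
  haveI t4 : IsScalarTower R κ (κ ⊗[R] B) := inferInstance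
  haveI t0 : IsScalarTower R (MvPolynomial (Fin d) R) (κ ⊗[R] B) :=
    IsScalarTower.of_algebraMap_eq (fun r => by
      rw [IsScalarTower.algebraMap_apply (MvPolynomial (Fin d) R) B (κ ⊗[R] B),
        ← IsScalarTower.algebraMap_apply R (MvPolynomial (Fin d) R) B,
        ← IsScalarTower.algebraMap_apply R B (κ ⊗[R] B)])
  haveI t5 : IsScalarTower R (MvPolynomial (Fin d) κ) (κ ⊗[R] B) :=
    IsScalarTower.of_algebraMap_eq (fun r => by
      rw [IsScalarTower.algebraMap_apply R κ (MvPolynomial (Fin d) κ),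
        ← IsScalarTower.algebraMap_apply κ (MvPolynomial (Fin d) κ) (κ ⊗[R] B),
        ← IsScalarTower.algebraMap_apply R κ (κ ⊗[R] B)])
  haveI t6 : IsScalarTower (MvPolynomial (Fin d) R) (MvPolynomial (Fin d) κ) (κ ⊗[R] B) := by
    refine IsScalarTower.of_algebraMap_eq' ?_
    apply MvPolynomial.ringHom_ext
    · intro r
      rw [← MvPolynomial.algebraMap_eq, ← IsScalarTower.algebraMap_apply R (MvPolynomial (Fin d) R)
        (κ ⊗[R] B), RingHom.comp_apply,
        ← IsScalarTower.algebraMap_apply R (MvPolynomial (Fin d) R) (MvPolynomial (Fin d) κ),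
        ← IsScalarTower.algebraMap_apply R (MvPolynomial (Fin d) κ) (κ ⊗[R] B)]
    · intro i
      rw [RingHom.comp_apply, MvPolynomial.algebraMap_def, MvPolynomial.map_X]
      exact (MvPolynomial.aeval_X (R := κ) f i).symm
  have hpo : Algebra.IsPushout (MvPolynomial (Fin d) R) B (MvPolynomial (Fin d) κ) (κ ⊗[R] B) :=
    (Algebra.IsPushout.comp_iff R (MvPolynomial (Fin d) R) κ (MvPolynomial (Fin d) κ)).1 inferInstance
  have hloc : IsLocalization (Algebra.algebraMapSubmonoid (MvPolynomial (Fin d) κ) T)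
      (κ ⊗[R] B) :=
    (Algebra.isLocalization_iff_isPushout T B).2 hpo.symm
  refine ⟨Groth.Agent.H14.GeomBC.isRegularRing_of_isLocalization
    (Algebra.algebraMapSubmonoid (MvPolynomial (Fin d) κ) T) (κ ⊗[R] B), ?_⟩
  refine (ringKrullDim_le_of_isLocalization
    (Algebra.algebraMapSubmonoid (MvPolynomial (Fin d) κ) T) (κ ⊗[R] B)).trans ?_
  rw [MvPolynomial.ringKrullDim_of_isNoetherianRing, ringKrullDim_eq_zero_of_field]
  simp

end Fibre

section Local

variable (R : Type u) [CommRing R] (S : Submonoid R) (Rp : Type u) [CommRing Rp] [Algebra R Rp]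
  [IsLocalization S Rp] (κ : Type u) [Field κ] [Algebra R κ] [Algebra Rp κ] [IsScalarTower R Rp κ]
  (d : ℕ) (T : Submonoid (MvPolynomial (Fin d) R)) (B : Type u) [CommRing B]
  [Algebra (MvPolynomial (Fin d) R) B] [IsLocalization T B] [Algebra R B]
  [IsScalarTower R (MvPolynomial (Fin d) R) B] [Algebra Rp B] [IsScalarTower R Rp B]

include S T in
/-- the fibre `κ ⊗_{R_p} B` of a localization `B` of `R[x₁,…,x_d]` has global dimension `≤ d` -/
theorem hasProjectiveDimensionLT_fibre (M : ModuleCat.{u} (κ ⊗[Rp] B)) :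
    HasProjectiveDimensionLT M (d + 1) := by
  obtain ⟨hreg, hdim⟩ := regular_and_dim_fibre R κ d T B
  let e : κ ⊗[Rp] B ≃+* κ ⊗[R] B := (IsLocalization.algebraTensorEquiv S Rp κ B).toRingEquiv
  haveI : IsRegularRing (κ ⊗[Rp] B) := IsRegularRing.of_ringEquiv e.symm
  have hd : ringKrullDim (κ ⊗[Rp] B) ≤ d := by
    rw [ringKrullDim_eq_of_ringEquiv e]
    exact hdim
  exact Groth.Agent.H35.RegGlDim.hasProjectiveDimensionLT _ d hd M

end Local

end Groth.Agent.H35.FibreLoc
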