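import Mathlib

/-!
# Linear algebra for splitting a complex near a prime (helper35)

Given finite free modules `M₂`, `M₃` over `R`, maps `u : M₁ → M₂`, `v : M₂ → M₃` with `v ∘ u = 0`
whose base change to the residue field `κ(p)` is exact at the middle, there are `s ∉ p`,
`ρ : M₃ → M₂`, `σ : M₂ → M₁` with `ρ ∘ v + u ∘ σ = s • id`.
-/

universe u

open TensorProduct Polynomial

namespace Groth.Agent.H35.FibreSplitLA

section Field

variable {K : Type*} [Field K] {V₁ V₂ V₃ : Type*} [AddCommGroup V₁] [Module K V₁]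
  [AddCommGroup V₂] [Module K V₂] [AddCommGroup V₃] [Module K V₃]

/-- Over a field, a complex exact at the middle has a contracting homotopy there. -/
theorem exists_contraction_of_exact (a : V₁ →ₗ[K] V₂) (b : V₂ →ₗ[K] V₃)
    (hex : ∀ x, b x = 0 → ∃ y, a y = x) :
    ∃ (P : V₃ →ₗ[K] V₂) (S : V₂ →ₗ[K] V₁), P ∘ₗ b + a ∘ₗ S = LinearMap.id := by
  -- a generalized inverse of `a`
  obtain ⟨r, hr⟩ := a.rangeRestrict.exists_rightInverse_of_surjective a.range_rangeRestrict
  obtain ⟨π, hπ⟩ := (LinearMap.range a).subtype.exists_leftInverse_of_injective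
    (Submodule.ker_subtype _)
  obtain ⟨r', hr'⟩ := b.rangeRestrict.exists_rightInverse_of_surjective b.range_rangeRestrict
  obtain ⟨π', hπ'⟩ := (LinearMap.range b).subtype.exists_leftInverse_of_injective
    (Submodule.ker_subtype _)
  let S : V₂ →ₗ[K] V₁ := r ∘ₗ π
  have hSa : ∀ y, a (S (a y)) = a y := by
    intro y
    have h1 : π (a y) = a.rangeRestrict y := by
      have := LinearMap.congr_fun hπ (a.rangeRestrict y)
      simpa using this
    have h2 := LinearMap.congr_fun hr (a.rangeRestrict y)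
    have h3 : a (r (a.rangeRestrict y)) = a y := by
      have := congrArg Subtype.val h2
      simpa using this
    simp only [S, LinearMap.comp_apply, h1, h3]
  let e : V₂ →ₗ[K] V₂ := LinearMap.id - a ∘ₗ S
  have hea : ∀ y, e (a y) = 0 := by
    intro y
    simp only [e, LinearMap.sub_apply, LinearMap.id_apply, LinearMap.comp_apply, hSa, sub_self]
  refine ⟨e ∘ₗ r' ∘ₗ π', S, ?_⟩
  ext x
  have h1 : π' (b x) = b.rangeRestrict x := by
    have := LinearMap.congr_fun hπ' (b.rangeRestrict x)
    simpa using this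
  have h2 := LinearMap.congr_fun hr' (b.rangeRestrict x)
  have h3 : b (r' (b.rangeRestrict x)) = b x := by
    have := congrArg Subtype.val h2
    simpa using this
  obtain ⟨y, hy⟩ := hex (r' (b.rangeRestrict x) - x) (by rw [map_sub, h3, sub_self])
  have h4 : e (r' (b.rangeRestrict x)) = e x := by
    have : r' (b.rangeRestrict x) = x + a y := by rw [hy]; abel
    rw [this, map_add, hea, add_zero]
  simp only [LinearMap.add_apply, LinearMap.comp_apply, h1, h4, LinearMap.id_apply]
  simp only [e, LinearMap.sub_apply, LinearMap.id_apply, LinearMap.comp_apply, sub_add_cancel]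

end Field

section CayleyHamilton

variable {R : Type*} [CommRing R] {M M₁ : Type*} [AddCommGroup M] [Module R M]
  [AddCommGroup M₁] [Module R M₁]

/-- Polynomials in intertwined endomorphisms are intertwined. -/
theorem aeval_comp_intertwine (W : Module.End R M) (W' : Module.End R M₁) (u : M₁ →ₗ[R] M)
    (h : W ∘ₗ u = u ∘ₗ W') (q : R[X]) : (aeval W q) ∘ₗ u = u ∘ₗ (aeval W' q) := by
  induction q using Polynomial.induction_on' with
  | add p q hp hq =>
    simp only [map_add, LinearMap.add_comp, LinearMap.comp_add, hp, hq]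
  | monomial n r =>
    simp only [aeval_monomial]
    induction n with
    | zero =>
      ext x
      simp [Module.algebraMap_end_apply]
    | succ n ih =>
      rw [pow_succ, ← mul_assoc, Module.End.mul_eq_comp, LinearMap.comp_assoc, h,
        ← LinearMap.comp_assoc, ih, pow_succ, ← mul_assoc, Module.End.mul_eq_comp,
        LinearMap.comp_assoc]
      rfl

/-- Cayley–Hamilton: an endomorphism of a finite free module divides its determinant, with a
quotient which is a polynomial in the endomorphism. -/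
theorem exists_aeval_mul_eq_det [Module.Finite R M] [Module.Free R M] (W : Module.End R M) :
    ∃ q : R[X], aeval W q * W = LinearMap.det W • (1 : Module.End R M) := by
  have h1 := LinearMap.aeval_self_charpoly W
  have h2 := LinearMap.det_eq_sign_charpoly_coeff W
  rw [← divX_mul_X_add W.charpoly, map_add, map_mul, aeval_X, aeval_C] at h1
  refine ⟨C (-(-1) ^ Module.finrank R M) * divX W.charpoly, ?_⟩
  have h3 : aeval W (divX W.charpoly) * W = -(algebraMap R _ (W.charpoly.coeff 0)) :=
    eq_neg_of_add_eq_zero_left h1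
  rw [map_mul, aeval_C, mul_assoc, h3, h2, Algebra.algebraMap_eq_smul_one,
    Algebra.algebraMap_eq_smul_one]
  have h4 : ((-1 : R) ^ Module.finrank R M) * ((-1) ^ Module.finrank R M) = 1 := by
    rw [← mul_pow]; simp
  rw [mul_neg, smul_mul_assoc, one_mul, neg_smul, neg_neg, smul_smul]

end CayleyHamilton

section Lift

variable {R : Type*} [CommRing R] (p : Ideal R) [p.IsPrime] {κ : Type*} [Field κ] [Algebra R κ]
  (h1 : ∀ x : κ, ∃ r t : R, t ∉ p ∧ x * algebraMap R κ t = algebraMap R κ r)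

include h1 in
/-- Every element of `κ ⊗ N` becomes a pure tensor `1 ⊗ y` after multiplying by a unit coming
from `R ∖ p`. -/
theorem exists_smul_eq_one_tmul {N : Type*} [AddCommGroup N] [Module R N] (z : κ ⊗[R] N) :
    ∃ (y : N) (t : R), t ∉ p ∧ algebraMap R κ t • z = (1 : κ) ⊗ₜ[R] y := by
  induction z using TensorProduct.induction_on with
  | zero => exact ⟨0, 1, Ideal.IsPrime.one_notMem inferInstance, by simp⟩
  | tmul x n =>
    obtain ⟨r, t, ht, hrt⟩ := h1 x
    refine ⟨r • n, t, ht, ?_⟩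
    rw [TensorProduct.smul_tmul', smul_eq_mul, mul_comm, hrt, Algebra.algebraMap_eq_smul_one,
      TensorProduct.smul_tmul]
  | add z₁ z₂ h₁ h₂ =>
    obtain ⟨y₁, t₁, ht₁, e₁⟩ := h₁
    obtain ⟨y₂, t₂, ht₂, e₂⟩ := h₂
    refine ⟨t₂ • y₁ + t₁ • y₂, t₁ * t₂, Ideal.IsPrime.mul_notMem inferInstance ht₁ ht₂, ?_⟩
    have h3 : algebraMap R κ (t₁ * t₂) • (z₁ + z₂) = algebraMap R κ t₂ • (algebraMap R κ t₁ • z₁)
        + algebraMap R κ t₁ • (algebraMap R κ t₂ • z₂) := by
      rw [smul_add, map_mul, smul_smul, smul_smul, mul_comm (algebraMap R κ t₂)]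
    rw [h3, e₁, e₂, algebraMap_smul, algebraMap_smul, ← TensorProduct.tmul_smul,
      ← TensorProduct.tmul_smul, ← TensorProduct.tmul_add]

include h1 in
/-- A `κ`-linear map between base changes, with finite free source, lifts to `R` up to a unit
coming from `R ∖ p`. -/
theorem exists_lift_baseChange {M N : Type*} [AddCommGroup M] [Module R M] [AddCommGroup N]
    [Module R N] [Module.Finite R M] [Module.Free R M] (m : κ ⊗[R] M →ₗ[κ] κ ⊗[R] N) :
    ∃ (m₀ : M →ₗ[R] N) (t : R), t ∉ p ∧ m₀.baseChange κ = algebraMap R κ t • m := by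
  classical
  let ι := Module.Free.ChooseBasisIndex R M
  let b : Module.Basis ι R M := Module.Free.chooseBasis R M
  have hz : ∀ k : ι, ∃ (y : N) (t : R), t ∉ p ∧
      algebraMap R κ t • m ((1 : κ) ⊗ₜ[R] b k) = (1 : κ) ⊗ₜ[R] y :=
    fun k => exists_smul_eq_one_tmul p h1 _
  choose y t ht hyt using hz
  refine ⟨b.constr R (fun k => (∏ j ∈ Finset.univ.erase k, t j) • y k), ∏ k, t k, ?_, ?_⟩
  · intro hmem
    obtain ⟨k, -, hk⟩ := (Ideal.IsPrime.prod_mem_iff (hp := inferInstance)).1 hmem
    exact ht k hk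
  · refine (Algebra.TensorProduct.basis κ b).ext (fun k => ?_)
    rw [Algebra.TensorProduct.basis_apply, LinearMap.baseChange_tmul, Module.Basis.constr_basis,
      LinearMap.smul_apply, ← Finset.prod_erase_mul _ _ (Finset.mem_univ k), map_mul, mul_smul,
      hyt, TensorProduct.tmul_smul, algebraMap_smul]

end Lift

section Main

variable {R : Type*} [CommRing R] (p : Ideal R) [p.IsPrime] {κ : Type*} [Field κ] [Algebra R κ]
  (h1 : ∀ x : κ, ∃ r t : R, t ∉ p ∧ x * algebraMap R κ t = algebraMap R κ r)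
  (h2 : ∀ r : R, algebraMap R κ r = 0 ↔ r ∈ p)
  {M₁ M₂ M₃ : Type*} [AddCommGroup M₁] [Module R M₁] [AddCommGroup M₂] [Module R M₂]
  [AddCommGroup M₃] [Module R M₃] [Module.Finite R M₂] [Module.Free R M₂]
  [Module.Finite R M₃] [Module.Free R M₃]

include h1 h2 in
/-- The key spreading-out statement. -/
theorem exists_contraction_up_to_unit (u : M₁ →ₗ[R] M₂) (v : M₂ →ₗ[R] M₃) (huv : v ∘ₗ u = 0)
    (hex : ∀ x : κ ⊗[R] M₂, v.baseChange κ x = 0 → ∃ y, u.baseChange κ y = x) :
    ∃ (s : R) (ρ : M₃ →ₗ[R] M₂) (σ : M₂ →ₗ[R] M₁), s ∉ p ∧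
      ρ ∘ₗ v + u ∘ₗ σ = s • LinearMap.id := by
  obtain ⟨Pb, Sb, hPS⟩ := exists_contraction_of_exact (u.baseChange κ) (v.baseChange κ) hex
  obtain ⟨P₀, t₁, ht₁, hP₀⟩ := exists_lift_baseChange p h1 Pb
  obtain ⟨S₀, t₂, ht₂, hS₀⟩ := exists_lift_baseChange p h1 Sb
  let P₁ : M₃ →ₗ[R] M₂ := t₂ • P₀
  let S₁ : M₂ →ₗ[R] M₁ := t₁ • S₀
  let W : Module.End R M₂ := P₁ ∘ₗ v + u ∘ₗ S₁
  let W' : Module.End R M₁ := S₁ ∘ₗ u
  have hW : W.baseChange κ = algebraMap R κ (t₁ * t₂) • LinearMap.id := by
    have e1 : P₁.baseChange κ = algebraMap R κ (t₁ * t₂) • Pb := by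
      ext x
      simp only [P₁, TensorProduct.AlgebraTensorModule.curry_apply, LinearMap.restrictScalars_comp,
        TensorProduct.curry_apply, LinearMap.coe_comp, LinearMap.coe_restrictScalars,
        Function.comp_apply, LinearMap.baseChange_tmul, LinearMap.smul_apply]
      have := LinearMap.congr_fun hP₀ ((1 : κ) ⊗ₜ[R] x)
      rw [LinearMap.baseChange_tmul, LinearMap.smul_apply] at this
      rw [TensorProduct.tmul_smul, this, ← algebraMap_smul κ t₂, smul_smul, map_mul, mul_comm]
    have e2 : S₁.baseChange κ = algebraMap R κ (t₁ * t₂) • Sb := by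
      ext x
      simp only [S₁, TensorProduct.AlgebraTensorModule.curry_apply, LinearMap.restrictScalars_comp,
        TensorProduct.curry_apply, LinearMap.coe_comp, LinearMap.coe_restrictScalars,
        Function.comp_apply, LinearMap.baseChange_tmul, LinearMap.smul_apply]
      have := LinearMap.congr_fun hS₀ ((1 : κ) ⊗ₜ[R] x)
      rw [LinearMap.baseChange_tmul, LinearMap.smul_apply] at this
      rw [TensorProduct.tmul_smul, this, ← algebraMap_smul κ t₁, smul_smul, map_mul]
    rw [show W = P₁ ∘ₗ v + u ∘ₗ S₁ from rfl, LinearMap.baseChange_add, LinearMap.baseChange_comp,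
      LinearMap.baseChange_comp, e1, e2, LinearMap.smul_comp, LinearMap.comp_smul, ← smul_add, hPS]
  have hdet : LinearMap.det W ∉ p := by
    intro hmem
    have h3 : algebraMap R κ (LinearMap.det W) = 0 := (h2 _).2 hmem
    rw [← LinearMap.det_baseChange, hW, LinearMap.det_smul, LinearMap.det_id, mul_one] at h3
    have h4 : algebraMap R κ (t₁ * t₂) = 0 := eq_zero_of_pow_eq_zero h3
    exact Ideal.IsPrime.mul_notMem inferInstance ht₁ ht₂ ((h2 _).1 h4)
  obtain ⟨q, hq⟩ := exists_aeval_mul_eq_det W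
  have hint : W ∘ₗ u = u ∘ₗ W' := by
    simp only [W, W', LinearMap.add_comp, LinearMap.comp_assoc, huv, LinearMap.comp_zero, zero_add]
  have hq' := aeval_comp_intertwine W W' u hint q
  refine ⟨LinearMap.det W, aeval W q ∘ₗ P₁, aeval W' q ∘ₗ S₁, hdet, ?_⟩
  have h5 : u ∘ₗ (aeval W' q ∘ₗ S₁) = aeval W q ∘ₗ (u ∘ₗ S₁) := by
    rw [← LinearMap.comp_assoc, ← hq', LinearMap.comp_assoc]
  rw [h5, LinearMap.comp_assoc, ← LinearMap.comp_add]
  exact hq

end Main

end Groth.Agent.H35.FibreSplitLA
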