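import Mathlib
import Groth.Prelude.Def_DRing2
import Groth.Prelude.Def_DDual2
import Groth.Agent.H35.FibreSplitLA
import Groth.Agent.H35.LBaseChangeLib
import Groth.Agent.H35.DerHom
import Groth.Agent.H35.ProjAmpTFAE

/-!
# Splitting the truncations of a pseudo-coherent complex near a prime (helper35)
-/

universe u

open CategoryTheory Limits

attribute [local instance] HasDerivedCategory.standard

set_option linter.unusedSectionVars false

namespace Groth.Agent.H35.FibreSplit

open DerivedCategory HomologicalComplex TensorProduct Groth.Agent.H35.KF Groth.Agent.H35.LT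

section ResidueField

variable {R : Type u} [CommRing R] (p : Ideal R) [p.IsPrime]

lemma residueField_surj (x : p.ResidueField) : ∃ r t : R, t ∉ p ∧
    x * algebraMap R p.ResidueField t = algebraMap R p.ResidueField r := by
  obtain ⟨y, rfl⟩ := IsLocalRing.residue_surjective x
  obtain ⟨⟨r, t⟩, h⟩ := IsLocalization.surj p.primeCompl y
  refine ⟨r, t, t.2, ?_⟩
  rw [IsScalarTower.algebraMap_apply R (Localization.AtPrime p) p.ResidueField,
    IsScalarTower.algebraMap_apply R (Localization.AtPrime p) p.ResidueField]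
  change IsLocalRing.residue _ y * IsLocalRing.residue _ _ = IsLocalRing.residue _ _
  rw [← map_mul, h]

end ResidueField

section Exact

variable {A B : Type u} [CommRing A] [CommRing B] (φ : A →+* B)

/-- vanishing of `H^i` of the derived base change of a bounded above complex of flat modules,
in elementwise form -/
lemma exact_of_subsingleton_HD [DRing.HasLBaseChange φ] (E : CochainComplex (ModuleCat.{u} A) ℤ)
    (b : ℤ) (hb : ∀ j : ℤ, b < j → IsZero (E.X j)) (hfl : ∀ j, Module.Flat A (E.X j))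
    (K : Dual.D A) (e : Q.obj E ≅ K) (i : ℤ)
    (hi : Subsingleton (Dual.HD B ((DRing.LBaseChange φ).obj K) i))
    (x : (ModuleCat.extendScalars.{u, u, u} φ).obj (E.X i))
    (hx : ((ModuleCat.extendScalars.{u, u, u} φ).map (E.d i (i + 1))).hom x = 0) :
    ∃ y, ((ModuleCat.extendScalars.{u, u, u} φ).map (E.d (i - 1) i)).hom y = x := by
  have hEK : IsKFlat E := isKFlat_of_bounded_flat E b hb hfl
  have iso1 : (DRing.LBaseChange φ).obj K ≅ Q.obj ((extCx φ).obj E) :=
    (DRing.LBaseChange φ).mapIso e.symm ≪≫ LBaseChangeIso φ E hEK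
  have hz : IsZero ((DerivedCategory.homologyFunctor (ModuleCat.{u} B) i).obj
      ((DRing.LBaseChange φ).obj K)) := ModuleCat.isZero_of_subsingleton _
  have hz2 : IsZero (((extCx φ).obj E).homology i) :=
    IsZero.of_iso hz (((DerivedCategory.homologyFunctor (ModuleCat.{u} B) i).mapIso iso1 ≪≫
      (DerivedCategory.homologyFunctorFactors (ModuleCat.{u} B) i).app _).symm)
  have hex : ((extCx φ).obj E).ExactAt i := by
    rw [exactAt_iff_isZero_homology]
    exact hz2
  rw [exactAt_iff' _ (i - 1) i (i + 1) (by simp) (by simp),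
    ShortComplex.moduleCat_exact_iff] at hex
  exact hex x hx

end Exact

section Contraction

variable {R κ : Type u} [CommRing R] [Field κ] (φ : R →+* κ) (p : Ideal R) [p.IsPrime]

/-- the spreading-out statement in terms of extension of scalars -/
lemma exists_contraction_of_exact_extendScalars
    (h1 : ∀ x : κ, ∃ r t : R, t ∉ p ∧ x * φ t = φ r) (h2 : ∀ r : R, φ r = 0 ↔ r ∈ p)
    {X₁ X₂ X₃ : ModuleCat.{u} R} [Module.Finite R X₂] [Module.Free R X₂]
    [Module.Finite R X₃] [Module.Free R X₃] (f : X₁ ⟶ X₂) (g : X₂ ⟶ X₃) (hfg : f ≫ g = 0)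
    (hex : ∀ x : (ModuleCat.extendScalars.{u, u, u} φ).obj X₂,
      ((ModuleCat.extendScalars.{u, u, u} φ).map g).hom x = 0 →
        ∃ y, ((ModuleCat.extendScalars.{u, u, u} φ).map f).hom y = x) :
    ∃ (s : R) (ρ : X₃ →ₗ[R] X₂) (σ : X₂ →ₗ[R] X₁), s ∉ p ∧
      ρ ∘ₗ g.hom + f.hom ∘ₗ σ = s • LinearMap.id := by
  algebraize [φ]
  have hfg' : g.hom ∘ₗ f.hom = 0 := by
    rw [← ModuleCat.hom_comp, hfg]
    rfl
  exact FibreSplitLA.exists_contraction_up_to_unit p h1 h2 f.hom g.hom hfg' hex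

end Contraction

section Vanish

open ChangeOfRings

variable {A : Type u} [CommRing A]

/-- morphisms from a K-projective complex to a module placed in degree `j` vanish when every
cocycle in degree `j` is a coboundary -/
lemma hom_shift_single_eq_zero (E : CochainComplex (ModuleCat.{u} A) ℤ) [E.IsKProjective]
    (N : ModuleCat.{u} A) (j' j j'' : ℤ) (h1 : j' + 1 = j) (h2 : j + 1 = j'')
    (h : ∀ f : E.X j ⟶ N, E.d j' j ≫ f = 0 → ∃ g : E.X j'' ⟶ N, E.d j j'' ≫ g = f)
    (z : Q.obj E ⟶ (Q.obj ((CochainComplex.singleFunctor (ModuleCat.{u} A) 0).obj N))⟦-j⟧) :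
    z = 0 := by
  obtain ⟨x, rfl⟩ := cocycleHom_surjective z
  obtain ⟨f, hf, rfl⟩ :=
    CochainComplex.HomComplex.Cocycle.toSingleMk_surjective x j (by omega) j' h1
  rw [cocycleHom_eq_zero_iff,
    CochainComplex.HomComplex.Cocycle.toSingleMk_mem_coboundaries_iff f _ j' h1 hf j'' h2]
  exact h f hf

variable {R B : Type u} [CommRing R] [CommRing B] (ψ : R →+* B)

/-- a contraction up to `s` becomes a genuine factorization once `s` is inverted -/
lemma exists_factor_extendScalars (s : R) (hs : IsUnit (ψ s)) {X₁ X₂ X₃ : ModuleCat.{u} R}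
    (f : X₁ ⟶ X₂) (g : X₂ ⟶ X₃) (ρ : X₃ →ₗ[R] X₂) (σ : X₂ →ₗ[R] X₁)
    (h : ρ ∘ₗ g.hom + f.hom ∘ₗ σ = s • LinearMap.id) (N : ModuleCat.{u} B)
    (m : (ModuleCat.extendScalars.{u, u, u} ψ).obj X₂ ⟶ N)
    (hm : (ModuleCat.extendScalars.{u, u, u} ψ).map f ≫ m = 0) :
    ∃ n : (ModuleCat.extendScalars.{u, u, u} ψ).obj X₃ ⟶ N,
      (ModuleCat.extendScalars.{u, u, u} ψ).map g ≫ n = m := by
  obtain ⟨w, hw⟩ := hs.exists_left_inv
  refine ⟨w • ((ModuleCat.extendScalars.{u, u, u} ψ).map (ModuleCat.ofHom ρ) ≫ m), ?_⟩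
  apply ModuleCat.ExtendScalars.hom_ext
  intro x
  have hx : s • x = ρ (g.hom x) + f.hom (σ x) := (LinearMap.congr_fun h x).symm
  have h0 : m.hom ((1 : B) ⊗ₜ[R, ψ] (f.hom (σ x))) = 0 :=
    congrArg (fun k => k.hom ((1 : B) ⊗ₜ[R, ψ] (σ x))) hm
  have h3 : ψ s • m.hom ((1 : B) ⊗ₜ[R, ψ] x) = m.hom ((1 : B) ⊗ₜ[R, ψ] (s • x)) := by
    rw [← map_smul]
    congr 1
    algebraize [ψ]
    change ψ s • ((1 : B) ⊗ₜ[R] x : B ⊗[R] X₂) = (1 : B) ⊗ₜ[R] (s • x)
    rw [TensorProduct.tmul_smul, ← algebraMap_smul B s ((1 : B) ⊗ₜ[R] x)]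
    rfl
  have hadd : ∀ a b : X₂, m.hom ((1 : B) ⊗ₜ[R, ψ] (a + b)) =
      m.hom ((1 : B) ⊗ₜ[R, ψ] a) + m.hom ((1 : B) ⊗ₜ[R, ψ] b) := fun a b => by
    rw [TensorProduct.tmul_add]
    exact map_add m.hom _ _
  have h4 : m.hom ((1 : B) ⊗ₜ[R, ψ] x) = w • m.hom ((1 : B) ⊗ₜ[R, ψ] (ρ (g.hom x))) := by
    have : m.hom ((1 : B) ⊗ₜ[R, ψ] x) = w • (ψ s • m.hom ((1 : B) ⊗ₜ[R, ψ] x)) := by
      rw [smul_smul, hw, one_smul]
    rw [this, h3, hx, hadd, h0, add_zero]
  change w • m.hom (((ModuleCat.extendScalars.{u, u, u} ψ).map (ModuleCat.ofHom ρ)).hom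
    (((ModuleCat.extendScalars.{u, u, u} ψ).map g).hom ((1 : B) ⊗ₜ[R, ψ] x))) =
      m.hom ((1 : B) ⊗ₜ[R, ψ] x)
  rw [h4]
  rfl

end Vanish

section Main

variable (R : Type u) [CommRing R] (p : Ideal R) [p.IsPrime]

/-- Near a prime where `H^i` of the derived fibre of a pseudo-coherent complex vanishes,
`Ext^{-i}(K_f, M)` vanishes for every module `M`. -/
theorem exists_away_ext_vanishing [DRing.HasLBaseChange (algebraMap R p.ResidueField)] (i : ℤ)
    (K : DRing.Cx R) (hK : DRing.IsPseudoCoherent' R (DRing.toD K))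
    (hi : Subsingleton (Dual.HD p.ResidueField
      ((DRing.LBaseChange (algebraMap R p.ResidueField)).obj (DRing.toD K)) i)) :
    ∃ f : R, f ∉ p ∧
      DRing.IsPseudoCoherent' (Localization.Away f)
        (DRing.toD ((extCx (algebraMap R (Localization.Away f))).obj K)) ∧
      (∃ b : ℤ, ∀ j : ℤ, b < j → Subsingleton (Dual.HD (Localization.Away f)
        (DRing.toD ((extCx (algebraMap R (Localization.Away f))).obj K)) j)) ∧
      ∀ (M : Type u) [AddCommGroup M] [Module (Localization.Away f) M],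
        Subsingleton (DRing.toD ((extCx (algebraMap R (Localization.Away f))).obj K) ⟶
          (shiftFunctor (Dual.D (Localization.Away f)) (-i)).obj
            (Dual.inD (Localization.Away f) M)) := by
  obtain ⟨E, b, hEb, hEff, ⟨eE⟩⟩ := hK
  have hfl : ∀ j, Module.Flat R (E.X j) := fun j => by
    have := (hEff j).2
    infer_instance
  have hex := exact_of_subsingleton_HD (algebraMap R p.ResidueField) E b hEb hfl
    (DRing.toD K) eE i hi
  have := (hEff i).1
  have := (hEff i).2
  have := (hEff (i + 1)).1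
  have := (hEff (i + 1)).2
  obtain ⟨s, ρ, σ, hs, hρσ⟩ := exists_contraction_of_exact_extendScalars
    (algebraMap R p.ResidueField) p (residueField_surj p)
    (fun r => Ideal.algebraMap_residueField_eq_zero) (E.d (i - 1) i) (E.d i (i + 1))
    (E.d_comp_d _ _ _) hex
  refine ⟨s, hs, ?_⟩
  let ψ : R →+* Localization.Away s := algebraMap R (Localization.Away s)
  have hflat : Module.Flat R (Localization.Away s) :=
    IsLocalization.flat (Localization.Away s) (Submonoid.powers s)
  have hψfl : ψ.Flat := RingHom.flat_algebraMap_iff.mpr hflat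
  haveI : PreservesFiniteLimits (ModuleCat.extendScalars.{u, u, u} ψ) :=
    ModuleCat.preservesFiniteLimits_extendScalars_of_flat hψfl
  let Ef := (extCx ψ).obj E
  have iso : DRing.toD ((extCx ψ).obj K) ≅ Q.obj Ef :=
    ((ModuleCat.extendScalars.{u, u, u} ψ).mapDerivedCategoryFactors.app K).symm ≪≫
      (ModuleCat.extendScalars.{u, u, u} ψ).mapDerivedCategory.mapIso eE.symm ≪≫
      (ModuleCat.extendScalars.{u, u, u} ψ).mapDerivedCategoryFactors.app E
  have hEfb : ∀ j : ℤ, b < j → IsZero (Ef.X j) := fun j hj =>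
    (ModuleCat.extendScalars.{u, u, u} ψ).map_isZero (hEb j hj)
  have hEfff : ∀ j : ℤ, Module.Finite (Localization.Away s) (Ef.X j) ∧
      Module.Free (Localization.Away s) (Ef.X j) := fun j => by
    have := (hEff j).1
    have := (hEff j).2
    exact ⟨finite_extendScalars ψ (E.X j), free_extendScalars ψ (E.X j)⟩
  refine ⟨⟨Ef, b, hEfb, hEfff, ⟨iso.symm⟩⟩, ⟨b, fun j hj => ?_⟩, fun M _ _ => ?_⟩
  · have hz : IsZero ((DerivedCategory.homologyFunctor (ModuleCat.{u} (Localization.Away s)) j).obj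
        (DRing.toD ((extCx ψ).obj K))) := by
      refine IsZero.of_iso ?_ ((DerivedCategory.homologyFunctor _ j).mapIso iso ≪≫
        (DerivedCategory.homologyFunctorFactors (ModuleCat.{u} (Localization.Away s)) j).app Ef)
      have : Ef.ExactAt j := HomologicalComplex.ExactAt.of_isZero (hEfb j hj)
      rwa [exactAt_iff_isZero_homology] at this
    exact ModuleCat.subsingleton_of_isZero hz
  · have hKP : Ef.IsKProjective :=
      Groth.Agent.H35.isKProjective_of_vanishesAbove Ef b hEfb (fun j => by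
        have := (hEfff j).2
        infer_instance)
    have hunit : IsUnit (ψ s) := IsLocalization.Away.algebraMap_isUnit s
    have key : ∀ z : Q.obj Ef ⟶ (Q.obj ((CochainComplex.singleFunctor
        (ModuleCat.{u} (Localization.Away s)) 0).obj (ModuleCat.of _ M)))⟦-i⟧, z = 0 :=
      hom_shift_single_eq_zero Ef (ModuleCat.of _ M) (i - 1) i (i + 1) (by omega) rfl
        (fun m hm => exists_factor_extendScalars ψ s hunit (E.d (i - 1) i) (E.d i (i + 1)) ρ σ
          hρσ _ m hm)
    refine ⟨fun x y => ?_⟩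
    have hx : iso.inv ≫ x = 0 := key _
    have hy : iso.inv ≫ y = 0 := key _
    rw [← cancel_epi iso.inv, hx, hy]

end Main

end Groth.Agent.H35.FibreSplit
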