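import Mathlib
import Groth.Agent.H28.FibreGlDim3
import Groth.Agent.H35.LTensorAmp
import Groth.Agent.S6974

/-!
# Tor amplitude from the closed fibre, with a global dimension bound on the fibre ring (helper35)

Variant of `Groth.Agent.H28.FibreGlDim3.subsingleton_fibre_of_regular`: the hypothesis is a bound on
the global dimension of the fibre ring, and the fibre vanishing is expressed with the derived
tensor product.
-/

set_option autoImplicit false
set_option linter.style.haveILetI false
universe u
open CategoryTheory CategoryTheory.Limits MonoidalCategory TensorProduct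

namespace Groth.Agent.H35.FibreTorAmpLoc

open HomologicalComplex DerivedCategory Groth.Agent.H35 Groth.Agent.H35.KF Groth.Agent.H35.KFBC
  Groth.Agent.H35.LT Groth.Agent.H28.FibreGlDim2 Groth.Agent.H28.FibreGlDim3

attribute [local instance] HasDerivedCategory.standard

variable {A B : Type u} [CommRing A] [CommRing B] [IsLocalRing A] [IsLocalRing B] [Algebra A B]
  [IsLocalHom (algebraMap A B)]

open IsLocalRing

theorem isPerfect_and_hasTorAmplitudeIn_of_fibre_glDim [Module.Flat A B] (d : ℕ)
    (hgl : ∀ M : ModuleCat.{u} ((A ⧸ maximalIdeal A) ⊗[A] B), HasProjectiveDimensionLT M (d + 1))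
    (a b : ℤ) (K : Dual.D B) (hK : DRing.IsPseudoCoherent' B K)
    (N : ModuleCat.{u} A) (eNN : N ≅ ModuleCat.of A (A ⧸ maximalIdeal A)) [DRing.HasLTensor A N]
    (h : ∀ i : ℤ, (i < a ∨ b < i) → Subsingleton (Dual.HD A
      ((DRing.LTensor A N).obj ((DRing.restrictD (algebraMap A B)).obj K)) i)) :
    DRing.IsPerfect B K ∧ DRing.HasTorAmplitudeIn B (a - d) b K := by
  have : ∀ m : Ideal B, DRing.HasLBaseChange (Ideal.Quotient.mk m) :=
    fun m => Groth.Agent.H35.LT.hasLBaseChange _
  refine Groth.Agent.S6974.result B K hK (a - d) b (fun m hm i hi => ?_)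
  obtain rfl : m = IsLocalRing.maximalIdeal B := IsLocalRing.eq_maximalIdeal hm
  obtain ⟨E, c, hc, hff, ⟨e⟩⟩ := hK
  have hfl : ∀ j : ℤ, Module.Flat B (E.X j) := fun j => by
    have := (hff j).2
    infer_instance
  have hEK : IsKFlat E := isKFlat_of_bounded_flat E c hc hfl
  have hres : IsKFlat (resL (algebraMap A B) E) :=
    isKFlat_of_bounded_flat _ c
      (fun j hj => (ModuleCat.restrictScalars (algebraMap A B)).map_isZero (hc j hj))
      (fun j => by
        have := hfl j
        exact flat_restrictScalars_of_flat (E.X j))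
  have eA : Q.obj (resL (algebraMap A B) E) ≅ (DRing.restrictD (algebraMap A B)).obj K :=
    ((ModuleCat.restrictScalars (algebraMap A B)).mapDerivedCategoryFactors.app E).symm ≪≫
      (DRing.restrictD (algebraMap A B)).mapIso e
  have hex : ∀ j : ℤ, (j < a ∨ b < j) →
      TensExactAt (resL (algebraMap A B) E) (ModuleCat.of A (A ⧸ maximalIdeal A)) j := by
    intro j hj
    rw [← tensExactAt_iff_of_iso _ eNN j]
    exact (subsingleton_HD_LTensor_iff N _ hres _ eA j).1 (h j hj)
  have key := Groth.Agent.H28.FibreGlDim.exactAt_extCx_of_fibre (algebraMap A B)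
    (inclR (A := A) (B := B) (A ⧸ maximalIdeal A)) (fibreToQuot (A := A) (B := B))
    (Ideal.Quotient.mk (maximalIdeal B)) mk_eq_comp (ModuleCat.of A (A ⧸ maximalIdeal A))
    (eN _) d hgl E c hc hfl a b hex i hi
  rw [HomologicalComplex.exactAt_iff_isZero_homology] at key
  exact ModuleCat.subsingleton_of_isZero (IsZero.of_iso key
    ((DerivedCategory.homologyFunctor _ i).mapIso
      ((DRing.LBaseChange (Ideal.Quotient.mk (maximalIdeal B))).mapIso e.symm) ≪≫
      Groth.Agent.H28.PCohLocal.homologyLBaseChangeIso (Ideal.Quotient.mk (maximalIdeal B)) E hEK i))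

end Groth.Agent.H35.FibreTorAmpLoc
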