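import Mathlib
import Groth.Agent.H35.PCFlatDescent

/-!
# fpqc descent for affine-local morphism properties that are only stable under flat base change
(helper35)
-/

set_option autoImplicit false

open CategoryTheory Limits AlgebraicGeometry MorphismProperty

namespace Groth.Agent.H35.PCFlatBC

universe u

/-- `P` is stable under flat base change -/
def FlatBC (P : MorphismProperty Scheme.{u}) : Prop :=
  ∀ {X S X' S' : Scheme.{u}} (f : X ⟶ S) (f' : X' ⟶ S') (g' : X' ⟶ X) (g : S' ⟶ S),
    Flat g → IsPullback g' f' f g → P f → P f'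

set_option backward.isDefEq.respectTransparency.types false in
/-- variant of Mathlib's `HasRingHomProperty.descendsAlong_flat` for properties which are
only stable under flat base change -/
theorem descendsAlong_flat_of_flatBC {P : MorphismProperty Scheme.{u}}
    {Q : ∀ {R S : Type u} [CommRing R] [CommRing S], (R →+* S) → Prop}
    [HasRingHomProperty P Q] (hbc : FlatBC P)
    (hQ : RingHom.CodescendsAlong Q RingHom.FaithfullyFlat) :
    P.DescendsAlong (@Surjective ⊓ @Flat ⊓ @QuasiCompact : MorphismProperty Scheme.{u}) := by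
  have H₁ : (@IsLocalIso ⊓ @Surjective : MorphismProperty Scheme.{u}) ≤
      (@Surjective ⊓ @Flat : MorphismProperty Scheme.{u}) := by
    rw [inf_comm]
    gcongr
    exact IsLocalIso.le_of_isZariskiLocalAtSource @Flat
  have H₂ : ∀ {R S : CommRingCat.{u}} {f : R ⟶ S},
      (@Surjective ⊓ @Flat : MorphismProperty Scheme.{u}) (Spec.map f) →
        RingHom.FaithfullyFlat f.hom := by
    intro R S f ⟨hf₁, hf₂⟩
    rw [RingHom.FaithfullyFlat.iff_flat_and_comap_surjective]
    refine ⟨?_, (Spec.map f).surjective⟩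
    rwa [HasRingHomProperty.Spec_iff (P := @Flat)] at hf₂
  apply IsZariskiLocalAtTarget.descendsAlong
  intro R X Y f g hf h
  wlog hX : ∃ T, X = Spec T generalizing X
  · have _ : CompactSpace X := by simpa [← quasiCompact_iff_compactSpace f] using hf.2
    obtain ⟨Y', p, hsurj, hP', hY'⟩ := X.exists_hom_isAffine_of_isZariskiLocalAtSource @IsLocalIso
    have hpfl : Flat (Y'.isoSpec.inv ≫ p) := by
      have : Flat p := IsLocalIso.le_of_isZariskiLocalAtSource @Flat _ _ _ hP'
      infer_instance
    refine this (f := (Y'.isoSpec.inv ≫ p) ≫ f) ?_ ?_ ⟨_, rfl⟩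
    · rw [Category.assoc, (@Surjective ⊓ @Flat ⊓ @QuasiCompact : MorphismProperty Scheme.{u}).cancel_left_of_respectsIso]
      exact ⟨(@Surjective ⊓ @Flat : MorphismProperty Scheme.{u}).comp_mem _ _ (H₁ _ ⟨hP', hsurj⟩) hf.1, inferInstance⟩
    · rw [← pullbackRightPullbackFstIso_inv_fst f g _, P.cancel_left_of_respectsIso]
      exact hbc _ _ _ _ hpfl (IsPullback.of_hasPullback _ _).flip h
  obtain ⟨T, rfl⟩ := hX
  obtain ⟨φ, rfl⟩ := Spec.map_surjective f
  wlog hY : ∃ S, Y = Spec S generalizing Y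
  · rw [IsZariskiLocalAtSource.iff_of_openCover (P := P) Y.affineCover]
    intro i
    have heq : pullback.fst (Spec.map φ) (Y.affineCover.f i ≫ g) =
        pullback.map _ _ _ _ (𝟙 _) (Y.affineCover.f i) (𝟙 _) (by simp) (by simp) ≫
          pullback.fst (Spec.map φ) g := (pullback.lift_fst _ _ _).symm
    exact this _ (heq ▸ AlgebraicGeometry.IsZariskiLocalAtSource.comp h _) ⟨_, rfl⟩
  obtain ⟨S, rfl⟩ := hY
  apply of_pullback_fst_Spec_of_codescendsAlong (P := P)
    (@Surjective ⊓ @Flat : MorphismProperty Scheme.{u}) hQ H₂ _ hf.1 h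
  simp [HasRingHomProperty.Spec_iff (P := P)]

open Groth.Agent.H35.PCHomLocal Groth.Agent.H35.FTDLocal

attribute [local instance] HasDerivedCategory.standard

theorem flatBC_ppc : FlatBC Ppc.{u} := by
  intro X S X' S' f f' g' g hg hc hf
  haveI := hg
  rw [← isPseudoCoherentMor_iff] at hf ⊢
  exact isPseudoCoherentMor_flat_baseChange f f' g' g hc hf

theorem flatBC_pperf : FlatBC Pperf.{u} := by
  intro X S X' S' f f' g' g hg hc hf
  haveI := hg
  rw [← isPerfectMor_iff] at hf ⊢
  exact isPerfectMor_flat_baseChange f f' g' g hc hf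

/-- S1505 -/
theorem isPseudoCoherentMor_of_flat_surjective_qc_baseChange {X S X' S' : Scheme.{u}}
    (f : X ⟶ S) (f' : X' ⟶ S') (g' : X' ⟶ X) (g : S' ⟶ S) [Flat g] [Surjective g]
    [QuasiCompact g] (hc : IsPullback g' f' f g) (hf' : MoreMor.IsPseudoCoherentMor f') :
    MoreMor.IsPseudoCoherentMor f := by
  rw [isPseudoCoherentMor_iff] at hf' ⊢
  haveI := descendsAlong_flat_of_flatBC flatBC_ppc qpc_codescendsAlong
  exact MorphismProperty.of_isPullback_of_descendsAlong (P := Ppc)
    (Q := (@Surjective ⊓ @Flat ⊓ @QuasiCompact : MorphismProperty Scheme.{u})) hc.flip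
    ⟨⟨inferInstance, inferInstance⟩, inferInstance⟩ hf'

/-- S1511 -/
theorem isPerfectMor_of_flat_surjective_qc_baseChange {X S X' S' : Scheme.{u}}
    (f : X ⟶ S) (f' : X' ⟶ S') (g' : X' ⟶ X) (g : S' ⟶ S) [Flat g] [Surjective g]
    [QuasiCompact g] (hc : IsPullback g' f' f g) (hf' : MoreMor.IsPerfectMor f') :
    MoreMor.IsPerfectMor f := by
  rw [isPerfectMor_iff] at hf' ⊢
  haveI := descendsAlong_flat_of_flatBC flatBC_pperf qperf_codescendsAlong
  exact MorphismProperty.of_isPullback_of_descendsAlong (P := Pperf)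
    (Q := (@Surjective ⊓ @Flat ⊓ @QuasiCompact : MorphismProperty Scheme.{u})) hc.flip
    ⟨⟨inferInstance, inferInstance⟩, inferInstance⟩ hf'

end Groth.Agent.H35.PCFlatBC
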