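import Mathlib
import Groth.Agent.H35.DerComplete2

/-!
# Derived complete rings are henselian (helper35)
Newton iteration adapted from Mathlib's `IsAdicComplete.henselianRing`.
-/

universe u

namespace Groth.Agent.H35

open Polynomial

/-- A ring in which, for every `c ∈ I`, `c`-adic Cauchy sequences have limits and
`(⋂ cⁿA)² = 0`, with `I` in the Jacobson radical, is henselian along `I`. -/
theorem henselianRing_of_limits {A : Type*} [CommRing A] (I : Ideal A)
    (hjac : I ≤ Ideal.jacobson ⊥)
    (hlim : ∀ c ∈ I, ∀ x : ℕ → A, (∀ n, x (n + 1) - x n ∈ Ideal.span {c} ^ n) →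
      ∃ m, ∀ n, m - x n ∈ Ideal.span {c} ^ n)
    (hsq : ∀ c ∈ I, (⨅ n : ℕ, Ideal.span {c ^ n}) * (⨅ n : ℕ, Ideal.span {c ^ n}) = ⊥) :
    HenselianRing A I where
  jac := hjac
  is_henselian := by
    intro f _ a₀ h₁ h₂
    classical
    let f' := derivative f
    set I₀ : Ideal A := Ideal.span {f.eval a₀} with hI₀def
    have hI₀ : I₀ ≤ I := (Ideal.span_singleton_le_iff_mem I).mpr h₁
    have h₁' : f.eval a₀ ∈ I₀ := Ideal.mem_span_singleton_self _
    let c : ℕ → A := fun n => Nat.recOn n a₀ fun _ b => b - f.eval b * Ring.inverse (f'.eval b)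
    have hc : ∀ n, c (n + 1) = c n - f.eval (c n) * Ring.inverse (f'.eval (c n)) := by
      intro n
      simp only [c]
    have hc_mod : ∀ n, c n ≡ a₀ [SMOD I₀] := by
      intro n
      induction n with
      | zero => rfl
      | succ n ih => ?_
      rw [hc, sub_eq_add_neg, ← add_zero a₀]
      refine ih.add ?_
      rw [SModEq.zero, Ideal.neg_mem_iff]
      refine I₀.mul_mem_right _ ?_
      rw [← SModEq.zero] at h₁' ⊢
      exact (ih.eval f).trans h₁'
    have hunit : ∀ b : A, b ≡ a₀ [SMOD I] → IsUnit (f'.eval b) := by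
      intro b hb
      have := isLocalHom_of_le_jacobson_bot I hjac
      apply IsUnit.of_map (Ideal.Quotient.mk I)
      convert! h₂ using 1
      exact SModEq.def.mp (hb.eval _)
    have hf'c : ∀ n, IsUnit (f'.eval (c n)) := fun n => hunit _ ((hc_mod n).mono hI₀)
    have hfcI : ∀ n, f.eval (c n) ∈ I₀ ^ (n + 1) := by
      intro n
      induction n with
      | zero => simpa only [Nat.rec_zero, zero_add, pow_one] using! h₁'
      | succ n ih => ?_
      rw [← taylor_eval_sub (c n), hc, sub_eq_add_neg, sub_eq_add_neg,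
        add_neg_cancel_comm]
      rw [eval_eq_sum, sum_over_range' _ _ _ (lt_add_of_pos_right _ zero_lt_two), ←
        Finset.sum_range_add_sum_Ico _ (Nat.le_add_left _ _)]
      swap
      · intro i
        rw [zero_mul]
      refine Ideal.add_mem _ ?_ ?_
      · rw [← one_add_one_eq_two, Finset.sum_range_succ, Finset.range_one, Finset.sum_singleton,
          taylor_coeff_zero, taylor_coeff_one, pow_zero, pow_one, mul_one, mul_neg,
          mul_left_comm, Ring.mul_inverse_cancel _ (hf'c n), mul_one, add_neg_cancel]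
        exact Ideal.zero_mem _
      · refine Submodule.sum_mem _ ?_
        simp only [Finset.mem_Ico]
        rintro i ⟨h2i, _⟩
        have aux : n + 2 ≤ i * (n + 1) := by trans 2 * (n + 1) <;> nlinarith only [h2i]
        refine Ideal.mul_mem_left _ _ (Ideal.pow_le_pow_right aux ?_)
        rw [pow_mul']
        exact Ideal.pow_mem_pow ((Ideal.neg_mem_iff _).2 <| Ideal.mul_mem_right _ _ ih) _
    have hdiff : ∀ n, c (n + 1) - c n ∈ I₀ ^ n := by
      intro n
      rw [hc, sub_sub_cancel_left, Ideal.neg_mem_iff]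
      exact Ideal.mul_mem_right _ _ (Ideal.pow_le_pow_right (Nat.le_succ n) (hfcI n))
    obtain ⟨a, ha⟩ := hlim _ h₁ c hdiff
    -- `f a` lies in `⋂ I₀ⁿ`
    have hfa : f.eval a ∈ ⨅ n : ℕ, Ideal.span {(f.eval a₀) ^ n} := by
      rw [Ideal.mem_iInf]
      intro n
      rw [← Ideal.span_singleton_pow]
      have h1 : a ≡ c n [SMOD I₀ ^ n] := SModEq.sub_mem.mpr (ha n)
      have h2 : f.eval a ≡ f.eval (c n) [SMOD I₀ ^ n] := h1.eval f
      have h3 := SModEq.sub_mem.mp h2
      have h4 : f.eval (c n) ∈ I₀ ^ n := Ideal.pow_le_pow_right (Nat.le_succ n) (hfcI n)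
      have : f.eval a = (f.eval a - f.eval (c n)) + f.eval (c n) := by ring
      rw [this]
      exact Ideal.add_mem _ h3 h4
    have ha₀ : a - a₀ ∈ I₀ := by
      have h1 := ha 1
      rw [pow_one] at h1
      have h2 := SModEq.sub_mem.mp (hc_mod 1)
      have : a - a₀ = (a - c 1) + (c 1 - a₀) := by ring
      rw [this]
      exact Ideal.add_mem _ h1 h2
    have hua : IsUnit (f'.eval a) := hunit a (SModEq.sub_mem.mpr (hI₀ ha₀))
    set K : Ideal A := ⨅ n : ℕ, Ideal.span {(f.eval a₀) ^ n} with hK
    let h : A := -(f.eval a * Ring.inverse (f'.eval a))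
    have hhK : h ∈ K := (Ideal.neg_mem_iff _).mpr (Ideal.mul_mem_right _ _ hfa)
    have hh2 : h ^ 2 = 0 := by
      have : h ^ 2 ∈ K * K := by rw [pow_two]; exact Ideal.mul_mem_mul hhK hhK
      rw [hsq _ h₁, Ideal.mem_bot] at this
      exact this
    refine ⟨a + h, ?_, ?_⟩
    · change f.eval (a + h) = 0
      rw [eval_add_of_sq_eq_zero f a h hh2]
      change f.eval a + f'.eval a * -(f.eval a * Ring.inverse (f'.eval a)) = 0
      rw [mul_neg, mul_left_comm, Ring.mul_inverse_cancel _ hua, mul_one, add_neg_cancel]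
    · have hKI : K ≤ I := by
        refine (iInf_le _ 1).trans ?_
        rw [pow_one]
        exact hI₀
      have : a + h - a₀ = (a - a₀) + h := by ring
      rw [this]
      exact Ideal.add_mem _ (hI₀ ha₀) (hKI hhK)

end Groth.Agent.H35
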