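import Mathlib
import Groth.Agent.H35.KFCone

/-!
# K-flatness is invariant under homotopy equivalence; distinguished triangles in `K(R)`
(helper35)
-/

open CategoryTheory Limits MonoidalCategory

namespace Groth.Agent.H35.KF

universe u

variable {R : Type u} [CommRing R]

open HomologicalComplex

theorem isKFlat_of_homotopyEquiv {K K' : CochainComplex (ModuleCat.{u} R) ℤ}
    (e : HomotopyEquiv K K') (h : IsKFlat K) : IsKFlat K' := by
  intro F hF i
  rw [IsZero.iff_id_eq_zero]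
  have h1 : Homotopy (F ◁ (e.inv ≫ e.hom)) (F ◁ 𝟙 K') :=
    mapBifunctorMapHomotopy₂ (𝟙 F) e.homotopyInvHomId (curriedTensor (ModuleCat.{u} R))
      (ComplexShape.up ℤ)
  calc 𝟙 ((F ⊗ K').homology i) = homologyMap (𝟙 (F ⊗ K')) i := (homologyMap_id _ _).symm
    _ = homologyMap (F ◁ 𝟙 K') i := by rw [MonoidalCategory.whiskerLeft_id]
    _ = homologyMap (F ◁ (e.inv ≫ e.hom)) i := (h1.homologyMap_eq i).symm
    _ = homologyMap (F ◁ e.inv) i ≫ homologyMap (F ◁ e.hom) i := by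
        rw [MonoidalCategory.whiskerLeft_comp, homologyMap_comp]
    _ = 0 := by
        rw [(h F hF i).eq_of_tgt (homologyMap (F ◁ e.inv) i) 0, zero_comp]

/-- Two out of three for K-flatness in distinguished triangles of the homotopy category. -/
theorem isKFlat_distTriang_two_of_three
    (T : Pretriangulated.Triangle (HomotopyCategory (ModuleCat.{u} R) (ComplexShape.up ℤ)))
    (hT : T ∈ Pretriangulated.distinguishedTriangles) :
    (IsKFlat T.obj₁.as → IsKFlat T.obj₂.as → IsKFlat T.obj₃.as) ∧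
    (IsKFlat T.obj₁.as → IsKFlat T.obj₃.as → IsKFlat T.obj₂.as) ∧
    (IsKFlat T.obj₂.as → IsKFlat T.obj₃.as → IsKFlat T.obj₁.as) := by
  obtain ⟨K, L, φ, ⟨e⟩⟩ := hT
  let e₁ : HomotopyEquiv T.obj₁.as K :=
    HomotopyCategory.homotopyEquivOfIso (Pretriangulated.Triangle.π₁.mapIso e)
  let e₂ : HomotopyEquiv T.obj₂.as L :=
    HomotopyCategory.homotopyEquivOfIso (Pretriangulated.Triangle.π₂.mapIso e)
  let e₃ : HomotopyEquiv T.obj₃.as (CochainComplex.mappingCone φ) :=
    HomotopyCategory.homotopyEquivOfIso (Pretriangulated.Triangle.π₃.mapIso e)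
  have h := isKFlat_mappingCone_two_of_three φ
  refine ⟨fun h₁ h₂ => ?_, fun h₁ h₃ => ?_, fun h₂ h₃ => ?_⟩
  · exact isKFlat_of_homotopyEquiv e₃.symm
      (h.1 (isKFlat_of_homotopyEquiv e₁ h₁) (isKFlat_of_homotopyEquiv e₂ h₂))
  · exact isKFlat_of_homotopyEquiv e₂.symm
      (h.2.1 (isKFlat_of_homotopyEquiv e₁ h₁) (isKFlat_of_homotopyEquiv e₃ h₃))
  · exact isKFlat_of_homotopyEquiv e₁.symm
      (h.2.2 (isKFlat_of_homotopyEquiv e₂ h₂) (isKFlat_of_homotopyEquiv e₃ h₃))

end Groth.Agent.H35.KF
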