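import Mathlib
import Groth.Agent.H35.KoszulPerfect
import Groth.Agent.H35.TorAmpDescent
import Groth.Agent.H35.TorAmpGlDim
import Groth.Agent.H35.RelPCLocCover
import Groth.Agent.H35.PCHomLocal
import Groth.Agent.H28.PCohFlat

/-!
# Perfectness is Zariski local (helper35)
-/

set_option autoImplicit false

open CategoryTheory Limits

namespace Groth.Agent.H35.KoszulPerf

universe u

open DerivedCategory Groth.Agent.H35.KF Groth.Agent.H35.KFBC Groth.Agent.H35.LT
  Groth.Agent.H35.RelPC Groth.Agent.H28 Groth.Agent.H28.PCohRing

attribute [local instance] HasDerivedCategory.standard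

variable {R : Type u} [CommRing R]

/-- perfectness of a complex is local on a finite principal open cover -/
theorem isPerfect_of_cover {r : ℕ} (f : Fin r → R) (hf : Ideal.span (Set.range f) = ⊤)
    (K : CochainComplex (ModuleCat.{u} R) ℤ)
    (h : ∀ k, DRing.IsPerfect (Localization.Away (f k))
      (Q.obj (extK (algebraMap R (Localization.Away (f k))) K))) :
    DRing.IsPerfect R (Q.obj K) := by
  have h' := fun k => (isPerfect_iff_isPseudoCoherent'_and_hasFiniteTorDimCx _).1 (h k)
  rw [isPerfect_iff_isPseudoCoherent'_and_hasFiniteTorDimCx]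
  constructor
  · rw [isPseudoCoherent'_iff]
    intro m
    exact Groth.Agent.H28.PCohFlat.isNPC_of_isNPC_extendScalars_away f hf
      (fun k => algebraMap R (Localization.Away (f k)))
      (fun k => isLocalizationAway_toAlgebra (f k)) m K
      (fun k => (isPseudoCoherent'_iff _ _).1 (h' k).1 m)
  · have h2 : ∀ k, ∃ a b : ℤ, DRing.HasTorAmplitudeIn (Localization.Away (f k)) a b
        (Q.obj (extK (algebraMap R (Localization.Away (f k))) K)) := fun k => (h' k).2
    choose a b hab using h2
    let N : ℕ := Finset.univ.sup (fun k => (a k).natAbs)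
    let M : ℕ := Finset.univ.sup (fun k => (b k).natAbs)
    refine ⟨-(N : ℤ), (M : ℤ), ?_⟩
    refine hasTorAmplitudeIn_of_localization_away_extCx f hf K _ _ (fun k => ?_)
    refine hasTorAmplitudeIn_mono _ (a k) (b k) _ _ ?_ ?_ (hab k)
    · have h3 : (a k).natAbs ≤ N :=
        Finset.le_sup (f := fun k => (a k).natAbs) (Finset.mem_univ k)
      omega
    · have h3 : (b k).natAbs ≤ M :=
        Finset.le_sup (f := fun k => (b k).natAbs) (Finset.mem_univ k)
      omega

end Groth.Agent.H35.KoszulPerf
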