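import Mathlib
import Groth.Agent.H35.PerfectLocal
import Groth.Agent.H35.FlatBaseChangeD
import Groth.Agent.H35.PerfectHomPres

/-!
# Local complete intersection ring maps are perfect (helper35)
-/

set_option autoImplicit false

open CategoryTheory Limits

namespace Groth.Agent.H35.KoszulPerf

universe u

open DerivedCategory Groth.Agent.H35.KF Groth.Agent.H35.KFBC Groth.Agent.H35.LT
  Groth.Agent.H35.RelPC Groth.Agent.H35.PCHomLocal

attribute [local instance] HasDerivedCategory.standard

variable {R : Type u} [CommRing R]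

/-- perfectness of a module is local on a finite principal open cover -/
theorem isPerfect_single_of_cover {r : ℕ} (f : Fin r → R) (hf : Ideal.span (Set.range f) = ⊤)
    (M : ModuleCat.{u} R)
    (h : ∀ k, DRing.IsPerfect (Localization.Away (f k))
      ((DerivedCategory.singleFunctor (ModuleCat.{u} (Localization.Away (f k))) 0).obj
        ((ModuleCat.extendScalars.{u, u, u} (algebraMap R (Localization.Away (f k)))).obj M))) :
    DRing.IsPerfect R ((DerivedCategory.singleFunctor (ModuleCat.{u} R) 0).obj M) := by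
  refine Groth.Agent.H35.isPerfect_of_iso R
    ((DerivedCategory.singleFunctorIsoCompQ (ModuleCat.{u} R) 0).app M).symm
    (isPerfect_of_cover f hf _ (fun k => ?_))
  exact Groth.Agent.H35.isPerfect_of_iso _ (extKSingleIso _ M).symm (h k)

/-- the property of `g` that `(P/I)_g` is a perfect `P_g`-module -/
def LocPerf (I : Ideal R) (g : R) : Prop :=
  DRing.IsPerfect (Localization.Away g)
    ((DerivedCategory.singleFunctor (ModuleCat.{u} (Localization.Away g)) 0).obj
      ((ModuleCat.extendScalars.{u, u, u} (algebraMap R (Localization.Away g))).obj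
        (ModuleCat.of R (R ⧸ I))))

lemma locPerf_of_mem (I : Ideal R) (g : R) (hg : g ∈ I) : LocPerf I g := by
  refine Groth.Agent.H35.isPerfect_of_isZero _ _ ?_
  refine (DerivedCategory.singleFunctor _ 0).map_isZero
    (isZero_extendScalars_away_of_smul_eq_zero g _ (fun x => ?_))
  obtain ⟨y, rfl⟩ := Ideal.Quotient.mk_surjective x
  change g • (Ideal.Quotient.mk I y) = 0
  rw [← Ideal.Quotient.mk_eq_mk, ← Submodule.Quotient.mk_smul, Submodule.Quotient.mk_eq_zero]
  exact I.mul_mem_right y hg

lemma locPerf_of_koszul (I : Ideal R) (g : R) (l : List (Localization.Away g))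
    (hl : LCI.IsKoszulRegularSeq (Localization.Away g) l)
    (hI : I.map (algebraMap R (Localization.Away g)) = Ideal.span {x | x ∈ l}) :
    LocPerf I g := by
  have h1 := isPerfectModule_quotient_of_isKoszulRegularSeq l hl
  let e : (Localization.Away g ⧸ Ideal.ofList l) ≃ₗ[Localization.Away g]
      TensorProduct R (Localization.Away g) (R ⧸ I) :=
    Submodule.quotEquivOfEq _ _ hI.symm ≪≫ₗ
      (Algebra.TensorProduct.quotIdealMapEquivTensorQuot (Localization.Away g) I).toLinearEquiv
  refine Groth.Agent.H35.isPerfect_of_iso _ ((DerivedCategory.singleFunctor _ 0).mapIso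
    (e.toModuleIso ≪≫ (extendScalarsObjIso (A := R) (B := Localization.Away g) (R ⧸ I)).symm)) h1

theorem isPerfectModule_quotient_of_isKoszulRegularIdeal (I : Ideal R)
    (hI : LCI.IsKoszulRegularIdeal I) : DRing.IsPerfectModule R (R ⧸ I) := by
  have key : ∀ 𝔭 : PrimeSpectrum R, ∃ g : R, g ∉ 𝔭.asIdeal ∧ LocPerf I g := by
    intro 𝔭
    by_cases h : I ≤ 𝔭.asIdeal
    · obtain ⟨g, hg, l, hl, hIl⟩ := hI 𝔭 h
      exact ⟨g, hg, locPerf_of_koszul I g l hl hIl⟩
    · obtain ⟨g, hgI, hg⟩ := SetLike.not_le_iff_exists.mp h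
      exact ⟨g, hg, locPerf_of_mem I g hgI⟩
  have htop : Ideal.span {g : R | LocPerf I g} = ⊤ := by
    by_contra hne
    obtain ⟨𝔪, h𝔪, hle⟩ := Ideal.exists_le_maximal _ hne
    obtain ⟨g, hg, hloc⟩ := key ⟨𝔪, h𝔪.isPrime⟩
    exact hg (hle (Ideal.subset_span hloc))
  obtain ⟨s, hs, hs'⟩ := (Ideal.span_eq_top_iff_finite _).mp htop
  let f' : Fin s.card → R := fun i => (s.equivFin.symm i : R)
  have hf' : Ideal.span (Set.range f') = ⊤ := by
    have : Set.range f' = (s : Set R) := by
      ext x
      constructor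
      · rintro ⟨i, rfl⟩
        exact (s.equivFin.symm i).2
      · intro hx
        exact ⟨s.equivFin ⟨x, hx⟩, by simp [f']⟩
    rw [this]
    exact hs'
  exact isPerfect_single_of_cover f' hf' _ (fun k => hs (s.equivFin.symm k).2)

/-- S7070 -/
theorem isPerfectHom_of_isLCI (A B : Type u) [CommRing A] [CommRing B] [Algebra A B]
    (h : LCI.IsLCI A B) : MoreMor.IsPerfectHom A B := by
  obtain ⟨-, n, f, hf, hI⟩ := h
  rw [Groth.Agent.H35.PolyTor.isPerfectHom_iff]
  refine ⟨n, f, hf, ?_⟩
  letI := f.toRingHom.toAlgebra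
  have h1 := isPerfectModule_quotient_of_isKoszulRegularIdeal _ hI
  have hsurj : Function.Surjective (Algebra.linearMap (MvPolynomial (Fin n) A) B) := hf
  have h0 : (RingHom.ker f.toRingHom : Submodule (MvPolynomial (Fin n) A) _) =
      LinearMap.ker (Algebra.linearMap (MvPolynomial (Fin n) A) B) := by
    ext x
    simp [RingHom.mem_ker]
    rfl
  let e : (MvPolynomial (Fin n) A ⧸ RingHom.ker f.toRingHom) ≃ₗ[MvPolynomial (Fin n) A] B :=
    Submodule.quotEquivOfEq _ _ h0 ≪≫ₗ
      (Algebra.linearMap (MvPolynomial (Fin n) A) B).quotKerEquivOfSurjective hsurj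
  exact Groth.Agent.H35.RegSeqPerf.isPerfectModule_of_linearEquiv e h1

end Groth.Agent.H35.KoszulPerf
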