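import Mathlib
import Groth.Agent.H72.TruncHom

/-!
# Objects of the derived category with cohomology in two degrees (helper35)
-/

universe w v u

open CategoryTheory Pretriangulated Limits

namespace Groth.Agent.H35

open DerivedCategory

variable {C : Type u} [Category.{v} C] [Abelian C] [HasDerivedCategory.{w} C]

/-- Vanishing of the cohomology of the cone. -/
lemma isZero_homology_obj₃ (T : Triangle (DerivedCategory C))
    (hT : T ∈ distTriang (DerivedCategory C)) (i j : ℤ) (hij : i + 1 = j)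
    (hepi : Epi ((homologyFunctor C i).map T.mor₁))
    (hmono : Mono ((homologyFunctor C j).map T.mor₁)) :
    IsZero ((homologyFunctor C i).obj T.obj₃) := by
  have h1 := ((homologyFunctor C 0).homologySequence_epi_shift_map_mor₁_iff T hT i).mp hepi
  have h2 := ((homologyFunctor C 0).homologySequence_mono_shift_map_mor₁_iff T hT i j hij).mp hmono
  have h3 := (homologyFunctor C 0).homologySequence_exact₃ T hT i j hij
  exact h3.isZero_X₂ h1 h2

/-- If `α : K ⟶ K'` is an epimorphism on `H^i` for `i ≥ n` and a monomorphism on `H^i` for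
`i ≥ n + 1`, the cone of `α` is `≤ n - 1`. -/
lemma isLE_obj₃ (T : Triangle (DerivedCategory C))
    (hT : T ∈ distTriang (DerivedCategory C)) (n : ℤ)
    (hepi : ∀ i : ℤ, n ≤ i → Epi ((homologyFunctor C i).map T.mor₁))
    (hmono : ∀ i : ℤ, n + 1 ≤ i → Mono ((homologyFunctor C i).map T.mor₁)) :
    T.obj₃.IsLE (n - 1) := by
  rw [isLE_iff]
  intro i hi
  exact isZero_homology_obj₃ T hT i (i + 1) rfl (hepi i (by omega)) (hmono (i + 1) (by omega))

/-- Let `α : K ⟶ K'` be an epimorphism on `H^i` for `i ≥ n`, a monomorphism on `H^i` for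
`i ≥ n + 1`, and let `Y` be `≥ n`. Then a morphism `g : K' ⟶ Y` with `α ≫ g = 0` vanishes. -/
theorem eq_zero_of_comp_eq_zero {K K' Y : DerivedCategory C} (α : K ⟶ K') (n : ℤ)
    (hepi : ∀ i : ℤ, n ≤ i → Epi ((homologyFunctor C i).map α))
    (hmono : ∀ i : ℤ, n + 1 ≤ i → Mono ((homologyFunctor C i).map α))
    [Y.IsGE n] (g : K' ⟶ Y) (hg : α ≫ g = 0) : g = 0 := by
  obtain ⟨Z, β, γ, hT⟩ := distinguished_cocone_triangle α
  have hLE : Z.IsLE (n - 1) := isLE_obj₃ _ hT n hepi hmono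
  obtain ⟨ψ, hψ⟩ := Triangle.yoneda_exact₂ _ hT g hg
  have : ψ = 0 := by
    have ψ' : Z ⟶ Y := ψ
    exact TStructure.t.zero (X := Z) (Y := Y) ψ (n - 1) n (by omega)
  rw [hψ, this]
  exact comp_zero

lemma epi_of_isZero_tgt {D : Type*} [Category D] [HasZeroMorphisms D] {X Y : D} (φ : X ⟶ Y)
    (hY : IsZero Y) : Epi φ :=
  ⟨fun _ _ _ => hY.eq_of_src _ _⟩

lemma mono_of_isZero_src {D : Type*} [Category D] [HasZeroMorphisms D] {X Y : D} (φ : X ⟶ Y)
    (hX : IsZero X) : Mono φ :=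
  ⟨fun _ _ _ => hX.eq_of_tgt _ _⟩

/-- The two-term situation: `K`, `K'` with cohomology in degrees `-1, 0`; `α` iso on `H^0` and
epi on `H^{-1}`; `Y ≥ -1`. -/
theorem twoTerm_eq_zero_of_comp_eq_zero {K K' Y : DerivedCategory C} (α : K ⟶ K')
    (hK : ∀ i : ℤ, 0 < i → IsZero ((homologyFunctor C i).obj K))
    (hK' : ∀ i : ℤ, 0 < i → IsZero ((homologyFunctor C i).obj K'))
    (h0 : IsIso ((homologyFunctor C 0).map α))
    (h1 : Epi ((homologyFunctor C (-1)).map α))
    [Y.IsGE (-1)] (g : K' ⟶ Y) (hg : α ≫ g = 0) : g = 0 := by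
  refine eq_zero_of_comp_eq_zero α (-1) ?_ ?_ g hg
  · intro i hi
    rcases (show i = -1 ∨ i = 0 ∨ 0 < i by omega) with rfl | rfl | h
    · exact h1
    · infer_instance
    · exact epi_of_isZero_tgt _ (hK' i h)
  · intro i hi
    rcases (show i = 0 ∨ 0 < i by omega) with rfl | h
    · infer_instance
    · exact mono_of_isZero_src _ (hK i h)

/-- Let `K₁ ≤ n`, `K₂ ≤ n`, `K₂ ≥ n - 1`, `K₃ ≥ n - 1`. If `φ : K₁ ⟶ K₂` is zero on `H^n` and
`ψ : K₂ ⟶ K₃` is zero on `H^{n-1}` then `φ ≫ ψ = 0`. -/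
theorem comp_eq_zero_of_homology_zero {K₁ K₂ K₃ : DerivedCategory C} (φ : K₁ ⟶ K₂) (ψ : K₂ ⟶ K₃)
    (n m : ℤ) (hnm : m + 1 = n) [K₁.IsLE n] [K₂.IsLE n] [K₂.IsGE m] [K₃.IsGE m]
    (hφ : (homologyFunctor C n).map φ = 0) (hψ : (homologyFunctor C m).map ψ = 0) :
    φ ≫ ψ = 0 := by
  let t := (TStructure.t (C := C))
  -- Step 1: `φ ≫ π = 0`
  have h1 : φ ≫ (t.truncGEπ n).app K₂ = 0 := by
    have nat := (t.truncGEπ n).naturality φ
    simp only [Functor.id_obj, Functor.id_map] at nat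
    rw [nat]
    have : (t.truncGE n).map φ = 0 := by
      apply Groth.Agent.H72.eq_zero_of_homologyFunctor_map_eq_zero n
      have hepi := Groth.Agent.H72.epi_homologyFunctor_map_truncGEπ_app K₁ n n le_rfl
      rw [← cancel_epi ((homologyFunctor C n).map ((t.truncGEπ n).app K₁)), comp_zero,
        ← Functor.map_comp, ← nat, Functor.map_comp, hφ, zero_comp]
    rw [this, comp_zero]
  -- Step 2: factor `φ` through `τ_{<n} K₂`
  obtain ⟨φ', hφ'⟩ := Triangle.coyoneda_exact₂ _ (t.triangleLTGE_distinguished n K₂) φ h1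
  -- Step 3: `ι ≫ ψ = 0`
  have h3 : (t.truncLTι n).app K₂ ≫ ψ = 0 := by
    have nat := (t.truncLTι n).naturality ψ
    simp only [Functor.id_obj, Functor.id_map] at nat
    rw [← nat]
    have i1 : t.IsLE ((t.truncLT n).obj K₂) m := by
      subst hnm; infer_instance
    have i2 : t.IsLE ((t.truncLT n).obj K₃) m := by
      subst hnm; infer_instance
    have : (t.truncLT n).map ψ = 0 := by
      apply Groth.Agent.H72.eq_zero_of_homologyFunctor_map_eq_zero m
      have hmono := Groth.Agent.H72.mono_homologyFunctor_map_truncLTι_app K₃ n m (by omega)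
      rw [← cancel_mono ((homologyFunctor C m).map ((t.truncLTι n).app K₃)), zero_comp,
        ← Functor.map_comp, nat, Functor.map_comp, hψ, comp_zero]
    rw [this, zero_comp]
  have φ'' : K₁ ⟶ (t.truncLT n).obj K₂ := φ'
  have hφ'' : φ = φ' ≫ (t.truncLTι n).app K₂ := hφ'
  rw [hφ'']
  exact (Category.assoc _ _ _).trans ((congrArg (fun x => φ' ≫ x) h3).trans comp_zero)

end Groth.Agent.H35
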