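import Mathlib
import Groth.Agent.H35.TwoTerm
import Groth.Agent.H35.ConeRep

/-!
# Two-term representatives of objects with cohomology in degrees `-1, 0` (helper35)
-/

universe w v u

open CategoryTheory Pretriangulated Limits

set_option linter.unusedSectionVars false

namespace Groth.Agent.H35

open DerivedCategory HomologicalComplex

variable {C : Type u} [Category.{v} C] [Abelian C] [HasDerivedCategory.{w} C]

section FromSingle

variable {P : C} (E : CochainComplex C ℤ) (n : ℤ)

/-- The chain map `P[-n] ⟶ E` given by `g : P ⟶ Eⁿ` with `g ≫ d = 0`. -/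
noncomputable def fromSingleOfCocycle (g : P ⟶ E.X n) (hg : g ≫ E.d n (n + 1) = 0) :
    (single C (ComplexShape.up ℤ) n).obj P ⟶ E :=
  mkHomFromSingle g (by
    intro j hj
    simp only [ComplexShape.up_Rel] at hj
    subst hj
    exact hg)

lemma singleObjHomologySelfIso_inv_homologyMap_fromSingleOfCocycle (g : P ⟶ E.X n)
    (hg : g ≫ E.d n (n + 1) = 0) :
    (singleObjHomologySelfIso (ComplexShape.up ℤ) n P).inv ≫
      homologyMap (fromSingleOfCocycle E n g hg) n =
      E.liftCycles g (n + 1) (by simp) hg ≫ E.homologyπ n := by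
  rw [← singleObjCyclesSelfIso_inv_homologyπ, Category.assoc, homologyπ_naturality,
    ← Category.assoc]
  congr 1
  rw [← cancel_mono (E.iCycles n), Category.assoc, cyclesMap_i,
    singleObjCyclesSelfIso_inv_iCycles_assoc, liftCycles_i, fromSingleOfCocycle,
    mkHomFromSingle_f, Iso.inv_hom_id_assoc]

end FromSingle

/-- For `P` projective and an epimorphism `ψ : P ⟶ Hⁿ(K)` there is a morphism `P[-n] ⟶ K`
in the derived category which is an epimorphism on `Hⁿ`. -/
lemma exists_hom_from_single_epi (K : DerivedCategory C) (P : C) [Projective P] (n : ℤ)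
    (ψ : P ⟶ (homologyFunctor C n).obj K) [Epi ψ] :
    ∃ s : (singleFunctor C n).obj P ⟶ K, Epi ((homologyFunctor C n).map s) := by
  let E := Q.objPreimage K
  let e : Q.obj E ≅ K := Q.objObjPreimageIso K
  let ψ' : P ⟶ E.homology n :=
    ψ ≫ (homologyFunctor C n).map e.inv ≫ (homologyFunctorFactors C n).hom.app E
  obtain ⟨g, hg, hgψ⟩ := homologyClass_surjective E n ψ'
  let ĝ := fromSingleOfCocycle E n g hg
  refine ⟨Q.map ĝ ≫ e.hom, ?_⟩
  have h1 : homologyMap ĝ n = (singleObjHomologySelfIso (ComplexShape.up ℤ) n P).hom ≫ ψ' := by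
    rw [← hgψ, homologyClass,
      ← singleObjHomologySelfIso_inv_homologyMap_fromSingleOfCocycle E n g hg,
      Iso.hom_inv_id_assoc]
  have i1 : IsIso ((DerivedCategory.homologyFunctor C n).map e.inv) := inferInstance
  have i2 : IsIso ((homologyFunctorFactors C n).hom.app E) := inferInstance
  have i4 : Epi ψ' := epi_comp' inferInstance (epi_comp' inferInstance
    (IsIso.epi_of_iso ((homologyFunctorFactors C n).hom.app E)))
  have nat := homologyFunctorFactors_hom_naturality ĝ n
  have i5 : Epi ((singleObjHomologySelfIso (ComplexShape.up ℤ) n P).hom ≫ ψ') :=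
    epi_comp' inferInstance i4
  have h3 : Epi ((DerivedCategory.homologyFunctor C n).map (Q.map ĝ) ≫
      (homologyFunctorFactors C n).hom.app E) := by
    rw [nat, h1]
    exact epi_comp' inferInstance i5
  have h4 : Epi ((DerivedCategory.homologyFunctor C n).map (Q.map ĝ)) :=
    (epi_comp_iff_of_isIso _ _).mp h3
  rw [Functor.map_comp]
  have i6 : IsIso ((DerivedCategory.homologyFunctor C n).map e.hom) := inferInstance
  exact epi_comp' h4 inferInstance

/-- An object `K` with cohomology in degrees `-1, 0` is represented by the cone of a map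
`N[0] ⟶ P[0]` where `P` is any projective object with an epimorphism `P ⟶ H⁰(K)`. -/
theorem exists_twoTerm_rep (K : DerivedCategory C) [K.IsGE (-1)] [K.IsLE 0] (P : C)
    [Projective P] (ψ : P ⟶ (homologyFunctor C 0).obj K) [Epi ψ] :
    ∃ (N : C) (g₀ : N ⟶ P),
      Nonempty (Q.obj (CochainComplex.mappingCone ((CochainComplex.singleFunctor C 0).map g₀)) ≅
        K) := by
  obtain ⟨s, hs⟩ := exists_hom_from_single_epi K P 0 ψ
  obtain ⟨Z, β, γ, hT⟩ := distinguished_cocone_triangle s
  -- the cone has cohomology only in degree `-1`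
  have hZ : ∀ i : ℤ, i ≠ -1 → IsZero ((homologyFunctor C i).obj Z) := by
    intro i hi
    refine isZero_homology_obj₃ _ hT i (i + 1) rfl ?_ ?_
    · rcases (show i < -1 ∨ i = 0 ∨ 0 < i by omega) with h | rfl | h
      · exact epi_of_isZero_tgt _ (isZero_of_isGE K (-1) i h)
      · exact hs
      · exact epi_of_isZero_tgt _ (isZero_of_isLE K 0 i h)
    · rcases (show i + 1 < 0 ∨ 0 < i + 1 by omega) with h | h
      · exact mono_of_isZero_src _ (isZero_of_isGE ((singleFunctor C 0).obj P) 0 (i + 1) h)
      · exact mono_of_isZero_src _ (isZero_of_isLE ((singleFunctor C 0).obj P) 0 (i + 1) h)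
  have hZGE : Z.IsGE (-1) := by
    rw [isGE_iff]
    exact fun i hi => hZ i (by omega)
  have hZLE : Z.IsLE (-1) := by
    rw [isLE_iff]
    exact fun i hi => hZ i (by omega)
  have hZ'GE : (Z⟦(-1 : ℤ)⟧).IsGE 0 := TStructure.t.isGE_shift Z (-1) (-1) 0 (by omega)
  have hZ'LE : (Z⟦(-1 : ℤ)⟧).IsLE 0 := TStructure.t.isLE_shift Z (-1) (-1) 0 (by omega)
  obtain ⟨N, ⟨eN⟩⟩ := exists_iso_singleFunctor_obj_of_isGE_of_isLE (Z⟦(-1 : ℤ)⟧) 0
  -- the rotated triangle
  have hT' := inv_rot_of_distTriang _ hT
  obtain ⟨g₀, hg₀⟩ := (singleFunctor C 0).map_surjective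
    (eN.inv ≫ (Triangle.mk s β γ).invRotate.mor₁)
  refine ⟨N, g₀, ?_⟩
  refine nonempty_mappingCone_iso _ hT' ((CochainComplex.singleFunctor C 0).obj N)
    ((CochainComplex.singleFunctor C 0).obj P) eN.symm (Iso.refl _)
    ((CochainComplex.singleFunctor C 0).map g₀) ?_
  change (singleFunctor C 0).map g₀ = _
  rw [hg₀]
  exact (congrArg (fun x => eN.inv ≫ x) (Category.comp_id _).symm)

end Groth.Agent.H35
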