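import Mathlib
import Groth.Prelude.Def_DRing2
import Groth.Agent.H35.TwoTermRep
import Groth.Agent.H35.PerfCx

/-!
# Two-term representatives in `D(R)` (helper35)
-/

universe u

open CategoryTheory Pretriangulated Limits

attribute [local instance] HasDerivedCategory.standard

namespace Groth.Agent.H35

open DerivedCategory

variable {R : Type u} [CommRing R]

section ConeOfSingles

variable {N P : ModuleCat.{u} R} (g₀ : N ⟶ P)

/-- The two-term complex `N → P` in degrees `-1, 0`. -/
noncomputable abbrev twoTermCx : DRing.Cx R :=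
  CochainComplex.mappingCone ((CochainComplex.singleFunctor (ModuleCat.{u} R) 0).map g₀)

lemma twoTermCx_vanishesOutside : DRing.VanishesOutside (twoTermCx g₀) (-1) 0 := by
  intro i hi
  refine mappingCone_isZero _ i ?_ ?_
  · exact HomologicalComplex.isZero_single_obj_X _ _ _ _ (by omega)
  · exact HomologicalComplex.isZero_single_obj_X _ _ _ _ (by omega)

/-- The degree `0` term of the two-term complex. -/
noncomputable def twoTermCxXZeroIso : (twoTermCx g₀).X 0 ≅ P :=
  mappingConeXIso _ 0 ≪≫
    (isoZeroBiprod (HomologicalComplex.isZero_single_obj_X (ComplexShape.up ℤ) 0 N (0 + 1)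
      (by omega))).symm ≪≫ HomologicalComplex.singleObjXSelf (ComplexShape.up ℤ) 0 P

/-- The degree `-1` term of the two-term complex. -/
noncomputable def twoTermCxXNegOneIso : (twoTermCx g₀).X (-1) ≅ N :=
  mappingConeXIso _ (-1) ≪≫
    (isoBiprodZero (HomologicalComplex.isZero_single_obj_X (ComplexShape.up ℤ) 0 P (-1)
      (by omega))).symm ≪≫ HomologicalComplex.singleObjXIsoOfEq (ComplexShape.up ℤ) 0 N
        (-1 + 1) (by omega)

end ConeOfSingles

/-- Over a Noetherian ring, if `E^{-2} = 0`, `E^0` is finite and `H^{-1}(E)` is finite then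
`E^{-1}` is finite. -/
lemma finite_X_negOne_of_finite_homology [IsNoetherianRing R] (E : DRing.Cx R)
    (hE : IsZero (E.X (-2))) (h0 : Module.Finite R (E.X 0))
    (h1 : Module.Finite R (E.homology (-1))) : Module.Finite R (E.X (-1)) := by
  let S := E.sc' (-2) (-1) 0
  have e1 : E.homology (-1) ≅ S.homology :=
    E.homologyIsoSc' (-2) (-1) 0 (by simp) (by simp)
  have e2 := S.moduleCatHomologyIso
  have hfin : Module.Finite R (LinearMap.ker S.g.hom ⧸ LinearMap.range S.moduleCatToCycles) :=
    finite_of_iso (e1 ≪≫ e2) h1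
  have hbot : LinearMap.range S.moduleCatToCycles = ⊥ := by
    have : Subsingleton S.X₁ := ModuleCat.subsingleton_of_isZero hE
    rw [LinearMap.range_eq_bot]
    exact Subsingleton.elim _ _
  have hker : Module.Finite R (LinearMap.ker S.g.hom) :=
    Module.Finite.equiv (Submodule.quotEquivOfEqBot _ hbot)
  have : IsNoetherian R (LinearMap.ker S.g.hom) := isNoetherian_of_isNoetherianRing_of_finite R _
  have : IsNoetherian R S.X₃ := isNoetherian_of_isNoetherianRing_of_finite R (E.X 0)
  have hN : IsNoetherian R S.X₂ :=
    isNoetherian_of_range_eq_ker (LinearMap.ker S.g.hom).subtype S.g.hom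
      (Submodule.range_subtype _)
  exact (inferInstance : Module.Finite R S.X₂)

/-- An object of `D(R)` with cohomology in degrees `-1, 0` is represented by a two-term complex
`N → P` where `P` is any projective module with a surjection onto `H⁰`. -/
theorem exists_twoTermCx_iso (K : Dual.D R)
    (hK : ∀ i : ℤ, i ≠ -1 → i ≠ 0 → Subsingleton (Dual.HD R K i))
    (P : ModuleCat.{u} R) [Module.Projective R P]
    (ψ : P →ₗ[R] Dual.HD R K 0) (hψ : Function.Surjective ψ) :
    ∃ (N : ModuleCat.{u} R) (g₀ : N ⟶ P), Nonempty (DRing.toD (twoTermCx g₀) ≅ K) := by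
  have hGE : K.IsGE (-1) := by
    rw [DerivedCategory.isGE_iff]
    intro i hi
    have := hK i (by omega) (by omega)
    exact ModuleCat.isZero_of_subsingleton _
  have hLE : K.IsLE 0 := by
    rw [DerivedCategory.isLE_iff]
    intro i hi
    have := hK i (by omega) (by omega)
    exact ModuleCat.isZero_of_subsingleton _
  have : Projective P := (IsProjective.iff_projective (R := R) (P := P)).mp inferInstance
  have : Epi (ModuleCat.ofHom ψ : P ⟶ (homologyFunctor (ModuleCat.{u} R) 0).obj K) :=
    (ModuleCat.epi_iff_surjective _).mpr hψ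
  exact exists_twoTerm_rep K P (ModuleCat.ofHom ψ)

end Groth.Agent.H35
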