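import Mathlib
import Groth.Prelude.Def_DRing2
import Groth.Agent.H35.TwoTermExtA
import Groth.Agent.H35.BoundedInduction
import Groth.Agent.H35.TwoTermMod

/-!
# `Ext¹` out of a two-term complex of modules (helper35)
-/

universe u

open CategoryTheory Pretriangulated Limits

attribute [local instance] HasDerivedCategory.standard

set_option linter.unusedSectionVars false

namespace Groth.Agent.H35

open DerivedCategory HomologicalComplex

variable {R : Type u} [CommRing R]

/-- Every morphism in `D(R)` from a two-term complex `E` (degrees `-1, 0`, `E⁰` projective) to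
`N[1]` is represented by a chain map, i.e. by a linear map `E^{-1} ⟶ N`. -/
theorem exists_toSingleOfCocycle_eq (E : DRing.Cx R) (hE : DRing.VanishesOutside E (-1) 0)
    (hP : Module.Projective R (E.X 0)) (N : ModuleCat.{u} R)
    (ξ : Q.obj E ⟶ Q.obj ((single (ModuleCat.{u} R) (ComplexShape.up ℤ) (-1)).obj N)) :
    ∃ (φ : E.X (-1) ⟶ N) (hφ : E.d (-1 - 1) (-1) ≫ φ = 0),
      ξ = Q.map (toSingleOfCocycle E (-1) N φ hφ) := by
  have ha : IsZero (E.X (-1 - 1)) := hE _ (Or.inl (by norm_num))
  have hT := bottom_triangle_distinguished E (-1) ha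
  have hE'0 : ∀ i, i ≠ 0 → IsZero ((truncBottom E (-1) ha).X i) := by
    intro i hi
    by_cases h : i = -1
    · subst h; exact truncBottom_isZero_X E (-1) ha
    · exact truncBottom_isZero_of_isZero E (-1) ha i (hE i (by omega))
  have hproj : ∀ i, Module.Projective R ((truncBottom E (-1) ha).X i) := by
    intro i
    by_cases h : i = 0
    · subst h
      exact projective_of_iso (truncBottomXIso E (-1) ha 0 (by norm_num)).symm hP
    · have := ModuleCat.subsingleton_of_isZero (hE'0 i h)
      infer_instance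
  have : (truncBottom E (-1) ha).IsKProjective :=
    isKProjective_of_vanishesAbove _ 0 (fun i hi => hE'0 i (by omega)) hproj
  have hvan : Q.map (bottomSC E (-1) ha).f ≫ ξ = 0 := by
    obtain ⟨g, hg⟩ := Q_map_surjective_of_isKProjective _
      (Q.map (bottomSC E (-1) ha).f ≫ ξ)
    rw [← hg]
    have : g = 0 := by
      apply HomologicalComplex.hom_ext
      intro i
      by_cases h : i = -1
      · subst h; exact (truncBottom_isZero_X E (-1) ha).eq_of_src _ _
      · exact (isZero_single_obj_X _ _ _ _ h).eq_of_tgt _ _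
    rw [this, Functor.map_zero]
  obtain ⟨ζ, hζ⟩ := Triangle.yoneda_exact₂ _ hT ξ hvan
  obtain ⟨φ, hφ⟩ := (DerivedCategory.singleFunctor (ModuleCat.{u} R) (-1)).map_surjective ζ
  refine ⟨φ, ha.eq_of_src _ _, ?_⟩
  rw [hζ, ← hφ]
  change Q.map (projBottom E (-1) ha) ≫
    Q.map ((single (ModuleCat.{u} R) (ComplexShape.up ℤ) (-1)).map φ) = _
  rw [← Q.map_comp]
  congr 1
  apply to_single_hom_ext
  simp [projBottom, toSingleOfCocycle, mkHomToSingle_f, single_map_f_self]

/-- `N[1]` is `N` placed in degree `-1`. -/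
noncomputable def shiftOneIso (N : ModuleCat.{u} R) :
    ((DerivedCategory.singleFunctor (ModuleCat.{u} R) 0).obj N)⟦(1 : ℤ)⟧ ≅
      Q.obj ((single (ModuleCat.{u} R) (ComplexShape.up ℤ) (-1)).obj N) :=
  ((DerivedCategory.singleFunctors (ModuleCat.{u} R)).shiftIso 1 (-1) 0 (by omega)).app N

/-- If `a • 𝟙` on `E^{-1}` factors through the differential, `a` kills `Hom(E, N[1])`. -/
theorem smul_eq_zero_of_factor (E : DRing.Cx R) (hE : DRing.VanishesOutside E (-1) 0)
    (hP : Module.Projective R (E.X 0)) (a : R) (h : E.X 0 ⟶ E.X (-1))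
    (hh : E.d (-1) 0 ≫ h = a • 𝟙 (E.X (-1))) (N : ModuleCat.{u} R)
    (ξ : Q.obj E ⟶ ((DerivedCategory.singleFunctor (ModuleCat.{u} R) 0).obj N)⟦(1 : ℤ)⟧) :
    a • ξ = 0 := by
  suffices H : a • (ξ ≫ (shiftOneIso N).hom) = 0 by
    rw [← Linear.smul_comp] at H
    exact (cancel_mono (shiftOneIso N).hom).mp (by rw [H, zero_comp])
  obtain ⟨φ, hφ, h1⟩ := exists_toSingleOfCocycle_eq E hE hP N (ξ ≫ (shiftOneIso N).hom)
  have ha : IsZero (E.X (-1 - 1)) := hE _ (Or.inl (by norm_num))
  rw [h1, ← Functor.map_smul, ← toSingleOfCocycle_smul E (-1) N a φ hφ (ha.eq_of_src _ _)]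
  have e : a • φ = E.d (-1) 0 ≫ (h ≫ φ) := by
    rw [← Category.assoc, hh, Linear.smul_comp, Category.id_comp]
  have := Q_map_toSingleOfCocycle_eq_zero_of_factor' E (-1) 0 (by norm_num) N (h ≫ φ)
    (ha.eq_of_src _ _)
  convert this using 3

/-- If `a` kills `Hom(E, E^{-1}[1])`, then `a • 𝟙` on `E^{-1}` factors through the differential. -/
theorem exists_factor_of_smul_eq_zero (E : DRing.Cx R) (hE : DRing.VanishesOutside E (-1) 0)
    (a : R)
    (H : ∀ ξ : Q.obj E ⟶
      ((DerivedCategory.singleFunctor (ModuleCat.{u} R) 0).obj (E.X (-1)))⟦(1 : ℤ)⟧, a • ξ = 0) :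
    ∃ h : E.X 0 ⟶ E.X (-1), E.d (-1) 0 ≫ h = a • 𝟙 (E.X (-1)) := by
  have ha : IsZero (E.X (-1 - 1)) := hE _ (Or.inl (by norm_num))
  have h1 := H (Q.map (toSingleOfCocycle E (-1) (E.X (-1)) (𝟙 _) (ha.eq_of_src _ _)) ≫
    (shiftOneIso _).inv)
  rw [← Linear.smul_comp] at h1
  have h2 : a • Q.map (toSingleOfCocycle E (-1) (E.X (-1)) (𝟙 _) (ha.eq_of_src _ _)) = 0 :=
    (cancel_mono (shiftOneIso _).inv).mp (by rw [h1, zero_comp])
  rw [← Functor.map_smul,
    ← toSingleOfCocycle_smul E (-1) _ a (𝟙 _) (ha.eq_of_src _ _) (ha.eq_of_src _ _)] at h2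
  exact exists_factor_of_Q_map_eq_zero' E (-1) 0 1 (by norm_num) (by norm_num) _ _ _
    (hE 1 (Or.inr (by norm_num))) h2

/-- A two-term complex whose differential is a split monomorphism and whose degree `0` term is
projective has `H^{-1} = 0` and `H⁰` projective. -/
theorem homology_of_split (E : DRing.Cx R) (hE : DRing.VanishesOutside E (-1) 0)
    (hP : Module.Projective R (E.X 0)) (h : E.X 0 ⟶ E.X (-1))
    (hh : E.d (-1) 0 ≫ h = 𝟙 (E.X (-1))) :
    IsZero (E.homology (-1)) ∧ Module.Projective R (E.homology 0) := by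
  constructor
  · rw [← exactAt_iff_isZero_homology, E.exactAt_iff' (-2) (-1) 0 (by simp) (by simp)]
    have hz : IsZero (E.X (-2)) := hE _ (Or.inl (by norm_num))
    rw [ShortComplex.exact_iff_mono _ (hz.eq_of_src _ _)]
    have : Mono (E.d (-1) 0 ≫ h) := by rw [hh]; infer_instance
    exact mono_of_mono (E.d (-1) 0) h
  · have hz : IsZero (E.X 1) := hE _ (Or.inr (by norm_num))
    have e := E.isoHomologyι 0 1 (by simp) (hz.eq_of_tgt _ _)
    let s : E.opcycles 0 ⟶ E.X 0 := E.descOpcycles (𝟙 _ - h ≫ E.d (-1) 0) (-1) (by simp) (by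
      rw [Preadditive.comp_sub, Category.comp_id, ← Category.assoc, hh, Category.id_comp,
        sub_self])
    have hs : s ≫ E.pOpcycles 0 = 𝟙 _ := by
      rw [← cancel_epi (E.pOpcycles 0), p_descOpcycles_assoc, Preadditive.sub_comp,
        Category.id_comp, Category.assoc, d_pOpcycles, comp_zero, sub_zero, Category.comp_id]
    have : Module.Projective R (E.opcycles 0) :=
      Module.Projective.of_split s.hom (E.pOpcycles 0).hom (by
        ext x
        exact congr($hs x))
    exact projective_of_iso e.symm this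

/-- If `K` has cohomology only in degree `0` and `H⁰(K)` is projective, then
`Hom(K, M[1]) = 0`. -/
theorem subsingleton_hom_shift_one_of_projective (K : Dual.D R)
    (hK : ∀ i : ℤ, i ≠ 0 → IsZero ((DerivedCategory.homologyFunctor (ModuleCat.{u} R) i).obj K))
    (hP : Module.Projective R ((DerivedCategory.homologyFunctor (ModuleCat.{u} R) 0).obj K))
    (M : ModuleCat.{u} R) :
    Subsingleton (K ⟶ ((DerivedCategory.singleFunctor (ModuleCat.{u} R) 0).obj M)⟦(1 : ℤ)⟧) := by
  have : K.IsGE 0 := by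
    rw [isGE_iff]
    intro i hi
    exact hK i (by omega)
  have : K.IsLE 0 := by
    rw [isLE_iff]
    intro i hi
    exact hK i (by omega)
  obtain ⟨Y, ⟨e⟩⟩ := exists_iso_singleFunctor_obj_of_isGE_of_isLE K 0
  have eY : (DerivedCategory.homologyFunctor (ModuleCat.{u} R) 0).obj K ≅ Y :=
    (DerivedCategory.homologyFunctor _ 0).mapIso e ≪≫
      (singleFunctorCompHomologyFunctorIso (ModuleCat.{u} R) 0).app Y
  have hY : Module.Projective R Y := projective_of_iso eY hP
  have : Projective Y := (IsProjective.iff_projective (R := R) (P := Y)).mp hY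
  have : CochainComplex.IsStrictlyLE
      ((single (ModuleCat.{u} R) (ComplexShape.up ℤ) (-1)).obj M) (-1) :=
    inferInstanceAs (CochainComplex.IsStrictlyLE
      ((CochainComplex.singleFunctor (ModuleCat.{u} R) (-1)).obj M) (-1))
  have key : ∀ z : K ⟶ ((DerivedCategory.singleFunctor (ModuleCat.{u} R) 0).obj M)⟦(1 : ℤ)⟧,
      z = 0 := by
    intro z
    have h0 : e.inv ≫ z ≫ (shiftOneIso M).hom = 0 :=
      from_singleFunctor_obj_eq_zero_of_projective (P := Y)
        (L := (single (ModuleCat.{u} R) (ComplexShape.up ℤ) (-1)).obj M) (i := 0) _ (-1)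
        (by norm_num)
    have h1 : z ≫ (shiftOneIso M).hom = 0 := (cancel_epi e.inv).mp (by rw [h0, comp_zero])
    exact (cancel_mono (shiftOneIso M).hom).mp (by rw [h1, zero_comp])
  exact ⟨fun x y => by rw [key x, key y]⟩

end Groth.Agent.H35
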