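import Mathlib
import Groth.Prelude.Def_DRing2
import Groth.Agent.H35.TwoTermExtMod

/-!
# Near projectivity and annihilation of `Ext¹` (helper35)
-/

universe u

open CategoryTheory Pretriangulated Limits

attribute [local instance] HasDerivedCategory.standard

set_option linter.unusedSectionVars false

namespace Groth.Agent.H35

open DerivedCategory

variable {R : Type u} [CommRing R]

/-- `Ext¹(P, N) = 0` for `P` projective, as morphisms in `D(R)`. -/
theorem hom_single_projective_shift_one_eq_zero (P N : ModuleCat.{u} R) [Module.Projective R P]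
    (z : (DerivedCategory.singleFunctor (ModuleCat.{u} R) 0).obj P ⟶
      ((DerivedCategory.singleFunctor (ModuleCat.{u} R) 0).obj N)⟦(1 : ℤ)⟧) : z = 0 := by
  have : Projective P := (IsProjective.iff_projective (R := R) (P := P)).mp inferInstance
  have : CochainComplex.IsStrictlyLE
      ((HomologicalComplex.single (ModuleCat.{u} R) (ComplexShape.up ℤ) (-1)).obj N) (-1) :=
    inferInstanceAs (CochainComplex.IsStrictlyLE
      ((CochainComplex.singleFunctor (ModuleCat.{u} R) (-1)).obj N) (-1))
  have h0 : z ≫ (shiftOneIso N).hom = 0 :=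
    from_singleFunctor_obj_eq_zero_of_projective (P := P)
      (L := (HomologicalComplex.single (ModuleCat.{u} R) (ComplexShape.up ℤ) (-1)).obj N)
      (i := 0) _ (-1) (by norm_num)
  exact (cancel_mono (shiftOneIso N).hom).mp (by rw [h0, zero_comp])

/-- If `a • 𝟙_M` factors through a projective module, `a` kills `Ext¹(M, N)`. -/
theorem smul_ext_one_eq_zero_of_factor (M N P : ModuleCat.{u} R) [Module.Projective R P] (a : R)
    (f : M ⟶ P) (g : P ⟶ M) (hfg : f ≫ g = a • 𝟙 M)
    (x : (DerivedCategory.singleFunctor (ModuleCat.{u} R) 0).obj M ⟶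
      ((DerivedCategory.singleFunctor (ModuleCat.{u} R) 0).obj N)⟦(1 : ℤ)⟧) : a • x = 0 := by
  have h1 : a • x = (DerivedCategory.singleFunctor (ModuleCat.{u} R) 0).map (a • 𝟙 M) ≫ x := by
    rw [Functor.map_smul, CategoryTheory.Functor.map_id, Linear.smul_comp, Category.id_comp]
  rw [h1, ← hfg, Functor.map_comp, Category.assoc,
    hom_single_projective_shift_one_eq_zero P N
      ((DerivedCategory.singleFunctor (ModuleCat.{u} R) 0).map g ≫ x), comp_zero]

/-- If `a` kills `Ext¹(M, N)` for all `N`, then `a • 𝟙_M` factors through a free module. -/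
theorem exists_factor_of_smul_ext_one_eq_zero (M : ModuleCat.{u} R) (a : R)
    (h : ∀ (N : ModuleCat.{u} R)
      (x : (DerivedCategory.singleFunctor (ModuleCat.{u} R) 0).obj M ⟶
        ((DerivedCategory.singleFunctor (ModuleCat.{u} R) 0).obj N)⟦(1 : ℤ)⟧), a • x = 0) :
    ∃ (s : M ⟶ ModuleCat.of R (M →₀ R)),
      s ≫ ModuleCat.ofHom (Finsupp.linearCombination R id) = a • 𝟙 M := by
  let F : ModuleCat.{u} R := ModuleCat.of R (M →₀ R)
  let p : F ⟶ M := ModuleCat.ofHom (Finsupp.linearCombination R id)
  have hp : Epi p := by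
    rw [ModuleCat.epi_iff_surjective]
    intro x
    refine ⟨Finsupp.single x 1, ?_⟩
    change Finsupp.linearCombination R id (Finsupp.single x 1) = x
    rw [Finsupp.linearCombination_single, one_smul]
    rfl
  let S : ShortComplex (ModuleCat.{u} R) := ShortComplex.mk (kernel.ι p) p (kernel.condition p)
  have hS : S.ShortExact :=
    { exact := ShortComplex.exact_of_f_is_kernel _ (kernelIsKernel p)
      mono_f := by dsimp [S]; infer_instance
      epi_g := hp }
  have hT := hS.singleTriangle_distinguished
  have h0 : (a • 𝟙 ((DerivedCategory.singleFunctor (ModuleCat.{u} R) 0).obj M)) ≫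
      hS.singleTriangle.mor₃ = 0 := by
    rw [Linear.smul_comp, Category.id_comp]
    exact h S.X₁ hS.singleδ
  obtain ⟨g, hg⟩ := Triangle.coyoneda_exact₃ _ hT _ h0
  obtain ⟨s, rfl⟩ := (DerivedCategory.singleFunctor (ModuleCat.{u} R) 0).map_surjective g
  refine ⟨s, ?_⟩
  apply (DerivedCategory.singleFunctor (ModuleCat.{u} R) 0).map_injective
  rw [Functor.map_comp, Functor.map_smul, CategoryTheory.Functor.map_id]
  exact hg.symm

end Groth.Agent.H35
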