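import Mathlib
import Groth.Agent.H28.PCohRing2
import Groth.Prelude.Def_MoreMor

/-!
# Pseudo-coherent ring maps are of finite presentation (helper35)
-/

set_option autoImplicit false

open CategoryTheory

namespace Groth.Agent.H35.PCHomFP

universe u

open Groth.Agent.H28 Groth.Agent.H28.PCohRing Groth.Agent.H28.PCohDer

attribute [local instance] HasDerivedCategory.standard

theorem finitePresentation_of_isPseudoCoherentHom (A B : Type u) [CommRing A] [CommRing B]
    [Algebra A B] (h : MoreMor.IsPseudoCoherentHom A B) : Algebra.FinitePresentation A B := by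
  obtain ⟨n, φ, hφ, hpc⟩ := h
  let alg : Algebra (MvPolynomial (Fin n) A) B := φ.toRingHom.toAlgebra
  have h1 : DRing.IsPseudoCoherent' (MvPolynomial (Fin n) A)
      (Dual.inD (MvPolynomial (Fin n) A) B) := hpc
  rw [isPseudoCoherent'_iff] at h1
  have h2 : Module.FinitePresentation (MvPolynomial (Fin n) A) B :=
    (isNPC_negOne_single_iff (MvPolynomial (Fin n) A) (ModuleCat.of _ B)).1 (h1 (-1))
  have hsurj : Function.Surjective (Algebra.linearMap (MvPolynomial (Fin n) A) B) := hφ
  have h3 := Module.FinitePresentation.fg_ker (Algebra.linearMap (MvPolynomial (Fin n) A) B) hsurj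
  have h4 : (RingHom.ker φ.toRingHom).FG := by
    have e : RingHom.ker φ.toRingHom =
        LinearMap.ker (Algebra.linearMap (MvPolynomial (Fin n) A) B) := by
      ext x
      rfl
    rw [e]
    exact h3
  exact Algebra.FinitePresentation.of_surjective hφ h4

end Groth.Agent.H35.PCHomFP
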