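import Mathlib
import Groth.Agent.H35.RegGlDim
import Groth.Agent.H28.PCohRing2
import Groth.Prelude.Def_MoreMor

/-!
# Finite type algebras over regular rings of finite dimension are perfect (helper35, S7069)
-/

set_option autoImplicit false
universe u
open CategoryTheory

namespace Groth.Agent.H35.RegGlDim

attribute [local instance] HasDerivedCategory.standard

theorem isPerfectHom_of_regular (A B : Type u) [CommRing A] [CommRing B] [Algebra A B]
    [IsRegularRing A] (hdim : ringKrullDim A < ⊤) [Algebra.FiniteType A B] :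
    MoreMor.IsPerfectHom A B := by
  obtain ⟨d, hd⟩ : ∃ d : ℕ, ringKrullDim A ≤ d := by
    induction h : ringKrullDim A with
    | bot => exact ⟨0, bot_le⟩
    | coe x =>
      rw [h] at hdim
      have hx : x ≠ ⊤ := by
        rintro rfl
        exact lt_irrefl _ hdim
      obtain ⟨n, rfl⟩ := ENat.ne_top_iff_exists.1 hx
      exact ⟨n, le_rfl⟩
  refine ⟨?_, ⟨d, hasTorDimLE A d hd B⟩⟩
  obtain ⟨n, f, hf⟩ := Algebra.FiniteType.iff_quotient_mvPolynomial''.1 ‹Algebra.FiniteType A B›
  refine ⟨n, f, hf, ?_⟩
  let _ : Algebra (MvPolynomial (Fin n) A) B := f.toRingHom.toAlgebra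
  have hfin : Module.Finite (MvPolynomial (Fin n) A) B :=
    Module.Finite.of_surjective (Algebra.linearMap (MvPolynomial (Fin n) A) B) hf
  change DRing.IsPseudoCoherent' _ _
  rw [Groth.Agent.H28.PCohRing.isPseudoCoherent'_iff]
  intro m
  exact Groth.Agent.H28.PCohRing.isPC_single_of_finite_of_noetherian (MvPolynomial (Fin n) A)
    (ModuleCat.of (MvPolynomial (Fin n) A) B) hfin m

end Groth.Agent.H35.RegGlDim
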