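import Mathlib
import Groth.Agent.H35.RegSeqPerfect
import Groth.Agent.H35.PerfMorLocal
import Groth.Prelude.Def_Mor2

/-!
# Regular closed immersions are perfect morphisms (helper35)
-/

set_option autoImplicit false

open CategoryTheory Limits AlgebraicGeometry

namespace Groth.Agent.H35.RegSeqPerf

universe u

attribute [local instance] HasDerivedCategory.standard

/-- S1509 -/
theorem isPerfectMor_of_isRegularClosedImmersion {Z X : Scheme.{u}} (i : Z ⟶ X)
    (hi : Mor2.IsRegularClosedImmersion i) : MoreMor.IsPerfectMor i := by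
  haveI : IsClosedImmersion i := hi.1
  rw [Groth.Agent.H35.FTDLocal.isPerfectMor_iff_exists]
  intro z
  obtain ⟨U, hU, hz, rs, hrs, hker⟩ := hi.2 z
  refine ⟨i ⁻¹ᵁ U, U, le_rfl, hU.preimage i, hU, hz, ?_⟩
  letI := (i.appLE U (i ⁻¹ᵁ U) le_rfl).hom.toAlgebra
  have hsurj : Function.Surjective (algebraMap Γ(X, U) Γ(Z, i ⁻¹ᵁ U)) := by
    change Function.Surjective (i.appLE U (i ⁻¹ᵁ U) le_rfl).hom
    rw [Scheme.Hom.appLE_eq_app]
    exact i.app_surjective U hU
  refine isPerfectHom_of_surjective_of_isRegular hsurj rs hrs.toIsWeaklyRegular ?_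
  rw [← hker, Scheme.Hom.ker_apply]
  change RingHom.ker (i.appLE U (i ⁻¹ᵁ U) le_rfl).hom = _
  rw [Scheme.Hom.appLE_eq_app]

end Groth.Agent.H35.RegSeqPerf
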