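import Mathlib
import Groth.Agent.Lead.RegularGlDim
import Groth.Agent.H72.ProjDim
import Groth.Agent.H18.TorBalance
import Groth.Agent.H81.PdLoc
import Groth.Agent.H28.PCohRing2
import Groth.Agent.H35.PerfectPC
import Groth.Agent.H35.TorDimAmp
import Groth.Prelude.Def_DRing2

/-!
# Finite modules over regular rings are perfect (helper35, S6962)
-/

set_option autoImplicit false
universe u
open CategoryTheory Limits

namespace Groth.Agent.H35.RegPerf

attribute [local instance] HasDerivedCategory.standard

section TorDim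

variable {R : Type u} [CommRing R]

/-- finite projective dimension bounds the tor dimension -/
theorem hasTorDimLE_of_hasProjectiveDimensionLT (M : Type u) [AddCommGroup M] [Module R M]
    (d : ℕ) (h : HasProjectiveDimensionLT (ModuleCat.of R M) (d + 1)) :
    DRing.HasTorDimLE R d M := by
  obtain ⟨P, hP⟩ :=
    Groth.Agent.H72.exists_resolution_of_hasProjectiveDimensionLT d (ModuleCat.of R M) h
  intro N _ _ p hp
  obtain ⟨e⟩ := Groth.Agent.H18.tor_iso_homology_tensCx (ModuleCat.of R M) P p (ModuleCat.of R N)
  have hz : IsZero ((Groth.Agent.H18.tensCx P (ModuleCat.of R N)).homology p) := by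
    rw [← HomologicalComplex.exactAt_iff_isZero_homology]
    exact ShortComplex.exact_of_isZero_X₂ _
      ((MonoidalCategory.tensorRight (ModuleCat.of R N)).map_isZero (hP p hp))
  exact ModuleCat.subsingleton_of_isZero (IsZero.of_iso hz e)

end TorDim

section Regular

variable (R : Type u) [CommRing R] [IsNoetherianRing R]

/-- A finite module over a Noetherian ring all of whose localizations at primes have finite
projective dimension has finite projective dimension. -/
theorem exists_hasProjectiveDimensionLT_of_local (M : Type u) [AddCommGroup M] [Module R M]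
    [Module.Finite R M]
    (hloc : ∀ p : PrimeSpectrum R, ∃ n : ℕ, HasProjectiveDimensionLT
      ((ModuleCat.of R M).localizedModule p.asIdeal.primeCompl) n) :
    ∃ n : ℕ, HasProjectiveDimensionLT (ModuleCat.of R M) (n + 1) := by
  have : Module.Finite R (ModuleCat.of R M) := ‹_›
  rcases isEmpty_or_nonempty (PrimeSpectrum R) with hE | hE
  · refine ⟨0, ?_⟩
    change HasProjectiveDimensionLE (ModuleCat.of R M) 0
    rw [ModuleCat.hasProjectiveDimensionLE_iff_forall_maximalSpectrum]
    intro m
    exact (hE.false ⟨m.asIdeal, m.isMaximal.isPrime⟩).elim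
  choose n hn using hloc
  have hs : ∀ p : PrimeSpectrum R, ∃ s : R, s ∉ p.asIdeal ∧ HasProjectiveDimensionLT
      ((ModuleCat.of R M).localizedModule (Submonoid.powers s)) (n p) := fun p =>
    Groth.Agent.H81.PdLoc.exists_powers_hasPDLT p.asIdeal (n p) (ModuleCat.of R M) (hn p)
  choose s hs1 hs2 using hs
  have htop : Ideal.span (Set.range s) = ⊤ := by
    by_contra hne
    obtain ⟨m, hm, hle⟩ := Ideal.exists_le_maximal _ hne
    exact hs1 ⟨m, hm.isPrime⟩ (hle (Ideal.subset_span ⟨_, rfl⟩))
  obtain ⟨T, hT, hTtop⟩ := (Ideal.span_eq_top_iff_finite _).1 htop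
  have hq : ∀ t ∈ T, ∃ p : PrimeSpectrum R, s p = t := fun t ht => hT ht
  choose! q hq using hq
  refine ⟨T.sup (fun t => n (q t)), ?_⟩
  change HasProjectiveDimensionLE (ModuleCat.of R M) (T.sup (fun t => n (q t)))
  rw [ModuleCat.hasProjectiveDimensionLE_iff_forall_maximalSpectrum]
  intro m
  obtain ⟨t, htT, htm⟩ : ∃ t ∈ T, t ∉ m.asIdeal := by
    by_contra hcon
    simp only [not_exists, not_and, not_not] at hcon
    have hle : Ideal.span (T : Set R) ≤ m.asIdeal := Ideal.span_le.2 (fun t ht => hcon t ht)
    rw [hTtop] at hle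
    exact m.isMaximal.ne_top (top_le_iff.1 hle)
  have hsm : s (q t) ∉ m.asIdeal := by rw [hq t htT]; exact htm
  have hle : n (q t) ≤ T.sup (fun t => n (q t)) := Finset.le_sup (f := fun t => n (q t)) htT
  have h1 := Groth.Agent.H81.PdLoc.pd_atPrime_le_pd_away m.asIdeal (s (q t)) hsm M
  have h2 : projectiveDimension (ModuleCat.of (Localization.Away (s (q t)))
      (LocalizedModule (Submonoid.powers (s (q t))) M)) < (n (q t) : ℕ) := by
    rw [projectiveDimension_lt_iff]
    have := hs2 (q t)
    exact hasProjectiveDimensionLT_of_iso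
      (Groth.Agent.H81.PdLoc.locIso (Submonoid.powers (s (q t))) M) _
  have h3 : projectiveDimension (ModuleCat.of (Localization.AtPrime m.asIdeal)
      (LocalizedModule m.asIdeal.primeCompl M)) < (n (q t) : ℕ) := lt_of_le_of_lt h1 h2
  rw [projectiveDimension_lt_iff] at h3
  have h4 : HasProjectiveDimensionLT
      ((ModuleCat.of R M).localizedModule m.asIdeal.primeCompl) (n (q t)) :=
    hasProjectiveDimensionLT_of_iso
      (Groth.Agent.H81.PdLoc.locIso m.asIdeal.primeCompl M).symm _
  exact hasProjectiveDimensionLT_of_ge _ (n (q t)) _ (by omega)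

/-- S6962 -/
theorem isPerfectModule_iff_finite
    (hreg : ∀ p : PrimeSpectrum R, IsRegularLocalRing (Localization.AtPrime p.asIdeal))
    (M : Type u) [AddCommGroup M] [Module R M] :
    DRing.IsPerfectModule R M ↔ Module.Finite R M := by
  constructor
  · intro h
    have pc := Groth.Agent.H35.KF.isPseudoCoherent'_of_isPerfect _ h
    exact (Groth.Agent.H28.PCohRing.isNPC_zero_single_iff R (ModuleCat.of R M)).1
      ((Groth.Agent.H28.PCohRing.isPseudoCoherent'_iff R _).1 pc 0)
  · intro h
    change DRing.IsPerfect R _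
    rw [Groth.Agent.H35.KF.isPerfect_iff_isPseudoCoherent'_and_hasFiniteTorDimCx]
    refine ⟨(Groth.Agent.H28.PCohRing.isPseudoCoherent'_iff R _).2 (fun m =>
      Groth.Agent.H28.PCohRing.isPC_single_of_finite_of_noetherian R (ModuleCat.of R M) h m), ?_⟩
    obtain ⟨n, hn⟩ := exists_hasProjectiveDimensionLT_of_local R M (fun p => by
      have := hreg p
      obtain ⟨d, hd, -⟩ :=
        Groth.Agent.Lead.RLR.exists_ringKrullDim_eq (Localization.AtPrime p.asIdeal)
      exact ⟨d + 1, Groth.Agent.Lead.RLR.hasProjectiveDimensionLT _ d hd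
        ((ModuleCat.of R M).localizedModule p.asIdeal.primeCompl)⟩)
    exact ⟨-(n : ℤ), 0, (Groth.Agent.H35.KF.hasTorDimLE_iff_hasTorAmplitudeIn M n).1
      (hasTorDimLE_of_hasProjectiveDimensionLT M n hn)⟩

end Regular

end Groth.Agent.H35.RegPerf
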