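import Mathlib
import Groth.Agent.H35.RegPerfMod
import Groth.Agent.H35.PerfectBounded

/-!
# Perfect complexes over regular rings (helper35, S7031)
-/

set_option autoImplicit false
universe u
open CategoryTheory Limits

namespace Groth.Agent.H35.RegPerf

attribute [local instance] HasDerivedCategory.standard

open DerivedCategory

variable (R : Type u) [CommRing R] [IsNoetherianRing R]

/-- S7031 -/
theorem isPerfect_iff_bounded_finite
    (hreg : ∀ p : PrimeSpectrum R, IsRegularLocalRing (Localization.AtPrime p.asIdeal))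
    (K : Dual.D R) :
    DRing.IsPerfect R K ↔
      (∃ a b : ℤ, ∀ i : ℤ, (i < a ∨ b < i) → Subsingleton (Dual.HD R K i)) ∧
        ∀ i : ℤ, Module.Finite R (Dual.HD R K i) := by
  constructor
  · intro h
    have pc := Groth.Agent.H35.KF.isPseudoCoherent'_of_isPerfect _ h
    rw [Groth.Agent.H28.PCohRing.isPseudoCoherent'_iff] at pc
    refine ⟨?_, fun i =>
      ((Groth.Agent.H28.PCohRing.isNPC_iff_of_noetherian R i K).1 (pc i)).2 i le_rfl⟩
    obtain ⟨E, a, b, hE, -, ⟨e⟩⟩ := h
    refine ⟨a, b, fun i hi => ?_⟩
    have hz : IsZero ((DerivedCategory.homologyFunctor (ModuleCat.{u} R) i).obj (Q.obj E)) :=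
      Groth.Agent.H35.KF.isZero_homology_of_exactAt E i
        (HomologicalComplex.ExactAt.of_isZero (hE i hi))
    exact ModuleCat.subsingleton_of_isZero
      (hz.of_iso ((DerivedCategory.homologyFunctor (ModuleCat.{u} R) i).mapIso e.symm))
  · rintro ⟨hb, hfin⟩
    exact Groth.Agent.H35.isPerfect_of_bounded_homology R K hb
      (fun i => (isPerfectModule_iff_finite R hreg _).2 (hfin i))

end Groth.Agent.H35.RegPerf
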