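import Mathlib
import Groth.Agent.H35.RegHomGap
import Groth.Agent.H35.RegPerfCx

/-!
# Splitting a perfect complex across a cohomological gap over a regular ring (helper35, S6995)
-/

set_option autoImplicit false
universe u
open CategoryTheory Limits Pretriangulated

namespace Groth.Agent.H35.RegHom

attribute [local instance] HasDerivedCategory.standard

open DerivedCategory

variable {R : Type u} [CommRing R]

/-- If `H^i(K) = 0` for `a ≤ i < b` then `τ_{≥ a} K → τ_{≥ b} K` is an isomorphism. -/
theorem isIso_natTransTruncGEOfLE_app_of_gap (K : Dual.D R) (a b : ℤ) (hab : a ≤ b)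
    (hH : ∀ i : ℤ, a ≤ i → i < b →
      IsZero ((DerivedCategory.homologyFunctor (ModuleCat.{u} R) i).obj K)) :
    IsIso (((DerivedCategory.TStructure.t : Triangulated.TStructure (Dual.D R)).natTransTruncGEOfLE
      a b hab).app K) := by
  let t : Triangulated.TStructure (Dual.D R) := DerivedCategory.TStructure.t
  rw [DerivedCategory.isIso_iff]
  intro q
  by_cases hq : b ≤ q
  · have h1 := Groth.Agent.H45.isIso_homologyMap_truncGEπ K a q (by omega)
    have h2 := Groth.Agent.H45.isIso_homologyMap_truncGEπ K b q hq
    have h3 := congrArg (DerivedCategory.homologyFunctor (ModuleCat.{u} R) q).map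
      (t.π_natTransTruncGEOfLE_app a b hab K)
    rw [Functor.map_comp] at h3
    exact IsIso.of_isIso_fac_left h3
  · have ht : IsZero ((DerivedCategory.homologyFunctor (ModuleCat.{u} R) q).obj
        ((t.truncGE b).obj K)) := by
      have : ((t.truncGE b).obj K).IsGE b :=
        inferInstanceAs (t.IsGE ((t.truncGE b).obj K) b)
      exact isZero_of_isGE _ b q (by omega)
    have hs : IsZero ((DerivedCategory.homologyFunctor (ModuleCat.{u} R) q).obj
        ((t.truncGE a).obj K)) := by
      by_cases h : a ≤ q
      · have := Groth.Agent.H45.isIso_homologyMap_truncGEπ K a q h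
        exact IsZero.of_iso (hH q h (by omega))
          (asIso ((DerivedCategory.homologyFunctor (ModuleCat.{u} R) q).map
            ((TStructure.t.truncGEπ a).app K))).symm
      · have : ((t.truncGE a).obj K).IsGE a :=
          inferInstanceAs (t.IsGE ((t.truncGE a).obj K) a)
        exact isZero_of_isGE _ a q (by omega)
    exact ⟨0, hs.eq_of_src _ _, ht.eq_of_src _ _⟩

/-- S6995 -/
theorem splits_across_gap (R : Type u) [CommRing R] [IsNoetherianRing R]
    (hreg : ∀ p : PrimeSpectrum R, IsRegularLocalRing (Localization.AtPrime p.asIdeal)) (d : ℕ)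
    (hd1 : 1 ≤ d) (hd : ringKrullDim R = d) (K : Dual.D R) (hK : DRing.IsPerfect R K) (k : ℤ)
    (hgap : ∀ i : ℤ, k - d + 2 ≤ i → i ≤ k → Subsingleton (Dual.HD R K i))
    [HasBinaryBiproduct
      (((DerivedCategory.TStructure.t : Triangulated.TStructure (Dual.D R)).truncLT
        (k - d + 2)).obj K)
      (((DerivedCategory.TStructure.t : Triangulated.TStructure (Dual.D R)).truncGE
        (k + 1)).obj K)] :
    ∃ e : K ≅
      ((DerivedCategory.TStructure.t : Triangulated.TStructure (Dual.D R)).truncLT
          (k - d + 2)).obj K ⊞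
        ((DerivedCategory.TStructure.t : Triangulated.TStructure (Dual.D R)).truncGE
          (k + 1)).obj K,
      ((DerivedCategory.TStructure.t : Triangulated.TStructure (Dual.D R)).truncLTι
          (k - d + 2)).app K ≫ e.hom = biprod.inl ∧
        e.hom ≫ biprod.snd =
          ((DerivedCategory.TStructure.t : Triangulated.TStructure (Dual.D R)).truncGEπ
            (k + 1)).app K := by
  let t : Triangulated.TStructure (Dual.D R) := DerivedCategory.TStructure.t
  have hm : k - d + 2 ≤ k + 1 := by omega
  have hiso : IsIso ((t.natTransTruncGEOfLE (k - d + 2) (k + 1) hm).app K) :=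
    isIso_natTransTruncGEOfLE_app_of_gap K _ _ hm (fun i h1 h2 => by
      have := hgap i h1 (by omega)
      exact ModuleCat.isZero_of_subsingleton _)
  let φ : (t.truncGE (k - d + 2)).obj K ≅ (t.truncGE (k + 1)).obj K :=
    @asIso _ _ _ _ _ hiso
  let T : Triangle (Dual.D R) := Triangle.mk ((t.truncLTι (k - d + 2)).app K)
    ((t.truncGEπ (k + 1)).app K) (φ.inv ≫ (t.truncGEδLT (k - d + 2)).app K)
  have hT : T ∈ distTriang (Dual.D R) := by
    refine isomorphic_distinguished _ (t.triangleLTGE_distinguished (k - d + 2) K) _ ?_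
    refine Triangle.isoMk _ _ (Iso.refl _) (Iso.refl _) φ.symm ?_ ?_ ?_
    · exact (Category.comp_id _).trans (Category.id_comp _).symm
    · refine Eq.trans ?_ (Category.id_comp _).symm
      change (t.truncGEπ (k + 1)).app K ≫ φ.inv = (t.truncGEπ (k - d + 2)).app K
      rw [Iso.comp_inv_eq]
      exact (t.π_natTransTruncGEOfLE_app (k - d + 2) (k + 1) hm K).symm
    · change (φ.inv ≫ (t.truncGEδLT (k - d + 2)).app K) ≫
        (shiftFunctor (Dual.D R) (1 : ℤ)).map (𝟙 ((t.truncLT (k - d + 2)).obj K)) =
          φ.inv ≫ (t.truncGEδLT (k - d + 2)).app K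
      rw [CategoryTheory.Functor.map_id]
      exact Category.comp_id _
  have hzero : T.mor₃ = 0 := by
    have hbd := ((Groth.Agent.H35.RegPerf.isPerfect_iff_bounded_finite R hreg K).1 hK).1
    obtain ⟨a, b, hab⟩ := hbd
    have hsub : Subsingleton ((t.truncGE (k + 1)).obj K ⟶
        ((t.truncLT (k - d + 2)).obj K)⟦(1 : ℤ)⟧) := by
      refine hom_subsingleton_of_gap R hreg d hd _ _ ⟨max b k, fun i hi => ?_⟩ k
        (fun i hi => ?_) (fun i hi => ?_)
      · have := Groth.Agent.H45.isIso_homologyMap_truncGEπ K (k + 1) i
          (by have := le_max_right b k; omega)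
        have hz : IsZero ((DerivedCategory.homologyFunctor (ModuleCat.{u} R) i).obj K) := by
          have := hab i (Or.inr (by have := le_max_left b k; omega))
          exact ModuleCat.isZero_of_subsingleton _
        exact ModuleCat.subsingleton_of_isZero (IsZero.of_iso hz
          (asIso ((DerivedCategory.homologyFunctor (ModuleCat.{u} R) i).map
            ((TStructure.t.truncGEπ (k + 1)).app K))).symm)
      · have : ((t.truncGE (k + 1)).obj K).IsGE (k + 1) :=
          inferInstanceAs (t.IsGE ((t.truncGE (k + 1)).obj K) (k + 1))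
        exact ModuleCat.subsingleton_of_isZero (isZero_of_isGE _ (k + 1) i (by omega))
      · have h1 : t.IsLE ((t.truncLT (k - d + 2)).obj K) (k - d + 1) := by
          have : k - (d : ℤ) + 1 = k - d + 2 - 1 := by ring
          rw [this]
          infer_instance
        have h2 : (((t.truncLT (k - d + 2)).obj K)⟦(1 : ℤ)⟧).IsLE (k - d) :=
          t.isLE_shift _ (k - d + 1) 1 (k - d) (by omega)
        exact ModuleCat.subsingleton_of_isZero (isZero_of_isLE _ (k - d) i (by omega))
    exact hsub.elim _ _
  obtain ⟨e, he1, he2⟩ := exists_iso_binaryBiproduct_of_distTriang T hT hzero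
  exact ⟨e, he1, he2.symm⟩

end Groth.Agent.H35.RegHom
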