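import Mathlib

/-!
# Relative finite presentation (helper35)

`FPVia φ M` : the `A`-module `M` is finitely presented over `P` through the ring hom `φ : P →+* A`.
Main results: independence of the presentation (`fpVia_indep`), behaviour under surjections,
finite extensions and base change along finitely presented ring maps.
-/

namespace Groth.Agent.H35

open TensorProduct

section Basic

variable {S S' M : Type*} [CommRing S] [CommRing S'] [Algebra S S'] [AddCommGroup M]
  [Module S M] [Module S' M] [IsScalarTower S S' M]

/-- If `S → S'` is surjective, an `S'`-module is its own base change. -/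
theorem isBaseChange_id_of_surjective (hs : Function.Surjective (algebraMap S S')) :
    IsBaseChange S' (LinearMap.id : M →ₗ[S] M) := by
  apply IsBaseChange.of_lift_unique
  intro Q _ _ _ _ g
  refine ⟨{ g with map_smul' := ?_ }, ?_, ?_⟩
  · intro s' m
    obtain ⟨s, rfl⟩ := hs s'
    simp only [AddHom.toFun_eq_coe, LinearMap.coe_toAddHom, RingHom.id_apply, algebraMap_smul,
      map_smul]
  · ext; rfl
  · intro g' hg'
    ext m
    exact congr($hg' m)

theorem fp_of_surjective (hs : Function.Surjective (algebraMap S S'))
    [Module.FinitePresentation S M] : Module.FinitePresentation S' M :=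
  FinitePresentation.of_isBaseChange _ (isBaseChange_id_of_surjective hs)

theorem fp_of_surjective_of_fg_ker (hs : Function.Surjective (algebraMap S S'))
    (hk : (RingHom.ker (algebraMap S S')).FG) [Module.FinitePresentation S' M] :
    Module.FinitePresentation S M := by
  have : Module.FinitePresentation S S' :=
    Module.finitePresentation_of_surjective (Algebra.linearMap S S') hs hk
  exact Module.FinitePresentation.trans S M S'

omit [Algebra S S'] [IsScalarTower S S' M] in
/-- If `C` is a finite `S`-algebra, a `C`-module which is finitely presented over `S`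
is finitely presented over `C`. -/
theorem fp_of_finite {S C M : Type*} [CommRing S] [CommRing C] [Algebra S C] [Module.Finite S C]
    [AddCommGroup M] [Module S M] [Module C M] [IsScalarTower S C M]
    [Module.FinitePresentation S M] : Module.FinitePresentation C M := by
  have : Module.Finite C M := Module.Finite.of_restrictScalars_finite S C M
  obtain ⟨n, f, hf⟩ := Module.Finite.exists_fin' C M
  refine Module.finitePresentation_of_surjective f hf ?_
  have h := Module.FinitePresentation.fg_ker (f.restrictScalars S) hf
  exact Submodule.FG.of_restrictScalars S (by simpa using h)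

end Basic

/-- `M` is finitely presented over `P` via the ring hom `φ : P →+* A`. -/
def FPVia {P A : Type*} [CommRing P] [CommRing A] (φ : P →+* A) (M : Type*) [AddCommGroup M]
    [Module A M] : Prop :=
  @Module.FinitePresentation P M _ _ (Module.compHom M φ)

section FPVia

variable {S P A M : Type*} [CommRing S] [CommRing P] [CommRing A] [AddCommGroup M] [Module A M]

theorem compHom_algebraMap_eq [Algebra P A] [inst : Module P M] [IsScalarTower P A M] :
    Module.compHom M (algebraMap P A) = inst := by
  apply Module.ext'
  intro r m
  exact algebraMap_smul A r m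

theorem fpVia_algebraMap_iff [Algebra P A] [Module P M] [IsScalarTower P A M] :
    FPVia (algebraMap P A) M ↔ Module.FinitePresentation P M := by
  unfold FPVia
  rw [compHom_algebraMap_eq]

theorem FPVia.of_surjective {φ : P →+* A} (hφ : Function.Surjective φ) (h : FPVia φ M) :
    Module.FinitePresentation A M := by
  let : Algebra P A := φ.toAlgebra
  let : Module P M := Module.compHom M φ
  have : IsScalarTower P A M := IsScalarTower.of_algebraMap_smul fun r x => rfl
  have : Module.FinitePresentation P M := h
  exact fp_of_surjective (S := P) (S' := A) hφ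

theorem FPVia.comp_surjective_iff (φ : P →+* A) (π : S →+* P) (hπ : Function.Surjective π)
    (hk : (RingHom.ker π).FG) : FPVia (φ.comp π) M ↔ FPVia φ M := by
  let : Algebra S P := π.toAlgebra
  let : Module P M := Module.compHom M φ
  let : Module S M := Module.compHom M (φ.comp π)
  have : IsScalarTower S P M := IsScalarTower.of_algebraMap_smul fun r x => rfl
  constructor
  · intro h
    have : Module.FinitePresentation S M := h
    exact fp_of_surjective (S := S) (S' := P) hπ
  · intro h
    have : Module.FinitePresentation P M := h
    exact fp_of_surjective_of_fg_ker (S := S) (S' := P) hπ hk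

end FPVia

section Indep

variable {R C C' B M : Type*} [CommRing R] [CommRing C] [CommRing C'] [CommRing B]
  [Algebra R C] [Algebra R C'] [Algebra R B] [AddCommGroup M] [Module B M]

/-- Precomposing with a surjection of finitely presented algebras does not change `FPVia`. -/
theorem fpVia_comp_algHom_iff [Algebra.FinitePresentation R C] [Algebra.FinitePresentation R C']
    (φ' : C' →ₐ[R] B) (π : C →ₐ[R] C') (hπ : Function.Surjective π) :
    FPVia (φ'.comp π).toRingHom M ↔ FPVia φ'.toRingHom M :=
  FPVia.comp_surjective_iff φ'.toRingHom π.toRingHom hπ
    (Algebra.FinitePresentation.ker_fG_of_surjective π hπ)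

theorem fpVia_mvPolynomial_aux {σ τ : Type*} [Finite σ] [Finite τ]
    (α : MvPolynomial σ R →ₐ[R] B) (hα : Function.Surjective α)
    (β : MvPolynomial τ R →ₐ[R] B) :
    FPVia (MvPolynomial.aeval (Sum.elim (fun i => α (MvPolynomial.X i))
      (fun j => β (MvPolynomial.X j))) : MvPolynomial (σ ⊕ τ) R →ₐ[R] B).toRingHom M ↔
      FPVia α.toRingHom M := by
  choose p hp using fun j : τ => hα (β (MvPolynomial.X j))
  let π : MvPolynomial (σ ⊕ τ) R →ₐ[R] MvPolynomial σ R :=
    MvPolynomial.aeval (Sum.elim MvPolynomial.X p)
  have hπ : Function.Surjective π := by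
    intro q
    refine ⟨MvPolynomial.rename Sum.inl q, ?_⟩
    simp only [π, MvPolynomial.aeval_rename]
    have : (Sum.elim MvPolynomial.X p ∘ Sum.inl : σ → MvPolynomial σ R) = MvPolynomial.X := by
      ext i; rfl
    rw [this, MvPolynomial.aeval_X_left]
    rfl
  have hcomp : α.comp π = MvPolynomial.aeval (Sum.elim (fun i => α (MvPolynomial.X i))
      (fun j => β (MvPolynomial.X j))) := by
    apply MvPolynomial.algHom_ext
    rintro (i | j)
    · simp [π]
    · simp [π, hp]
  rw [← hcomp]
  exact fpVia_comp_algHom_iff α π hπ

theorem fpVia_mvPolynomial_indep {σ τ : Type*} [Finite σ] [Finite τ]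
    (α : MvPolynomial σ R →ₐ[R] B) (hα : Function.Surjective α)
    (β : MvPolynomial τ R →ₐ[R] B) (hβ : Function.Surjective β) :
    FPVia α.toRingHom M ↔ FPVia β.toRingHom M := by
  rw [← fpVia_mvPolynomial_aux α hα β, ← fpVia_mvPolynomial_aux β hβ α]
  -- relate the two maps by swapping the variables
  let e : MvPolynomial (σ ⊕ τ) R →ₐ[R] MvPolynomial (τ ⊕ σ) R :=
    (MvPolynomial.renameEquiv R (Equiv.sumComm σ τ)).toAlgHom
  have he : Function.Surjective e := (MvPolynomial.renameEquiv R (Equiv.sumComm σ τ)).surjective
  have hcomp : (MvPolynomial.aeval (Sum.elim (fun j => β (MvPolynomial.X j))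
      (fun i => α (MvPolynomial.X i))) : MvPolynomial (τ ⊕ σ) R →ₐ[R] B).comp e =
      MvPolynomial.aeval (Sum.elim (fun i => α (MvPolynomial.X i))
      (fun j => β (MvPolynomial.X j))) := by
    apply MvPolynomial.algHom_ext
    rintro (i | j)
    · simp [e]
    · simp [e]
  rw [← hcomp]
  exact fpVia_comp_algHom_iff _ e he

/-- Independence of the presentation: finite presentation of a module through a surjection from
a finitely presented `R`-algebra does not depend on the choice of that surjection. -/
theorem fpVia_indep [Algebra.FinitePresentation R C] [Algebra.FinitePresentation R C']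
    (φ : C →ₐ[R] B) (hφ : Function.Surjective φ) (φ' : C' →ₐ[R] B)
    (hφ' : Function.Surjective φ') : FPVia φ.toRingHom M ↔ FPVia φ'.toRingHom M := by
  obtain ⟨n, ρ, hρ, -⟩ := Algebra.FinitePresentation.out (R := R) (A := C)
  obtain ⟨n', ρ', hρ', -⟩ := Algebra.FinitePresentation.out (R := R) (A := C')
  rw [← fpVia_comp_algHom_iff φ ρ hρ, ← fpVia_comp_algHom_iff φ' ρ' hρ']
  exact fpVia_mvPolynomial_indep _ (hφ.comp hρ) _ (hφ'.comp hρ')

end Indep

section Finite

/-- For a finite, finitely presented (as a module) `P`-algebra `C` and a `P`-algebra map
`f : C → B`, a `B`-module is finitely presented over `C` iff it is over `P`. -/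
theorem fpVia_finite_iff {P C B M : Type*} [CommRing P] [CommRing C] [CommRing B] [Algebra P C]
    [Algebra P B] [Module.Finite P C] [Module.FinitePresentation P C] (f : C →ₐ[P] B)
    [AddCommGroup M] [Module B M] :
    FPVia f.toRingHom M ↔ FPVia (algebraMap P B) M := by
  let _ : Module P M := Module.compHom M (algebraMap P B)
  let _ : Module C M := Module.compHom M f.toRingHom
  have : IsScalarTower P C M := IsScalarTower.of_algebraMap_smul fun r x => by
    change f (algebraMap P C r) • x = algebraMap P B r • x
    rw [f.commutes]
  constructor
  · intro h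
    have : Module.FinitePresentation C M := h
    exact Module.FinitePresentation.trans P M C
  · intro h
    have : Module.FinitePresentation P M := h
    exact fp_of_finite (S := P) (C := C)

end Finite

end Groth.Agent.H35
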