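import Mathlib
import Groth.Agent.H35.RelFP

/-!
# Relative finite presentation and base change (helper35)
-/

namespace Groth.Agent.H35

open TensorProduct

section Pushout

variable {P A C A' : Type*} [CommRing P] [CommRing A] [CommRing C] [CommRing A']
  [Algebra P A] [Algebra P C] [Algebra A A'] [Algebra C A'] [Algebra P A']
  [IsScalarTower P A A'] [IsScalarTower P C A']

/-- A commutative square with surjective rows `P → A`, `C → A'` whose kernels correspond
(`ker (C → A') = ker (P → A) · C`) is a pushout square. -/
theorem isPushout_of_surjective (hA : Function.Surjective (algebraMap P A))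
    (hC : Function.Surjective (algebraMap C A'))
    (hker : RingHom.ker (algebraMap C A') =
      Ideal.map (algebraMap P C) (RingHom.ker (algebraMap P A))) :
    Algebra.IsPushout P A C A' := by
  constructor
  apply IsBaseChange.of_lift_unique
  intro Q _ _ _ _ g
  -- `g` kills `ker (C → A')`
  have hg0 : ∀ x ∈ RingHom.ker (algebraMap C A'), ∀ c : C, g (c * x) = 0 := by
    intro x hx
    rw [hker, Ideal.map] at hx
    refine Submodule.span_induction (p := fun x _ => ∀ c : C, g (c * x) = 0) ?_ ?_ ?_ ?_ hx
    · rintro _ ⟨i, hi, rfl⟩ c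
      have : c * algebraMap P C i = i • c := by rw [Algebra.smul_def, mul_comm]
      rw [this, map_smul, ← algebraMap_smul A i (g c), (RingHom.mem_ker).mp hi, zero_smul]
    · intro c; simp
    · intro x y _ _ hx hy c
      rw [mul_add, map_add, hx, hy, add_zero]
    · intro a x _ hx c
      rw [smul_eq_mul, ← mul_assoc]
      exact hx _
  have hgwd : ∀ c c' : C, algebraMap C A' c = algebraMap C A' c' → g c = g c' := by
    intro c c' h
    have hmem : c - c' ∈ RingHom.ker (algebraMap C A') := by
      rw [RingHom.mem_ker, map_sub, h, sub_self]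
    have := hg0 _ hmem 1
    rw [one_mul] at this
    have h2 : c = c' + (c - c') := by ring
    rw [h2, map_add, this, add_zero]
  let s : A' → C := Function.surjInv hC
  have hs : ∀ a, algebraMap C A' (s a) = a := Function.surjInv_eq hC
  let g' : A' →ₗ[A] Q :=
    { toFun := fun a => g (s a)
      map_add' := fun a b => by
        rw [← map_add]
        apply hgwd
        rw [map_add, hs, hs, hs]
      map_smul' := fun a b => by
        obtain ⟨p, rfl⟩ := hA a
        rw [RingHom.id_apply, algebraMap_smul, algebraMap_smul, ← map_smul]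
        apply hgwd
        rw [hs, Algebra.smul_def, Algebra.smul_def, map_mul, hs,
          ← IsScalarTower.algebraMap_apply] }
  refine ⟨g', ?_, ?_⟩
  · ext c
    change g (s (algebraMap C A' c)) = g c
    apply hgwd
    rw [hs]
  · intro g'' hg''
    ext a
    obtain ⟨c, rfl⟩ := hC a
    have := congr($hg'' c)
    change g'' (algebraMap C A' c) = g c at this
    rw [this]
    change _ = g (s (algebraMap C A' c))
    apply hgwd
    rw [hs]

end Pushout

section BaseChange

/-- Key step: if `P → A` is surjective, `M` is finitely presented over `P`, `A → A'` is of finite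
presentation and `N` is the base change of `M` to `A'`, then there is a finitely presented
`P`-algebra `C` with a surjection `C → A'` (over `P`) through which `N` is finitely presented. -/
theorem exists_fp_algebra_of_isBaseChange {P A A' M N : Type*} [CommRing P] [CommRing A]
    [CommRing A'] [Algebra P A] [Algebra A A'] [Algebra P A'] [IsScalarTower P A A']
    [Algebra.FinitePresentation A A']
    [AddCommGroup M] [Module P M] [Module A M] [IsScalarTower P A M]
    [AddCommGroup N] [Module A N] [Module A' N] [IsScalarTower A A' N]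
    (hA : Function.Surjective (algebraMap P A)) [Module.FinitePresentation P M]
    (f : M →ₗ[A] N) (hf : IsBaseChange A' f) :
    ∃ (m : ℕ) (J : Ideal (MvPolynomial (Fin m) P)) (_ : J.FG)
      (φ : (MvPolynomial (Fin m) P ⧸ J) →ₐ[P] A'), Function.Surjective φ ∧ FPVia φ.toRingHom N := by
  obtain ⟨m, δ, hδ, hker⟩ := Algebra.FinitePresentation.out (R := A) (A := A')
  let μ : MvPolynomial (Fin m) P →+* MvPolynomial (Fin m) A := MvPolynomial.map (algebraMap P A)
  have hμ : Function.Surjective μ := MvPolynomial.map_surjective _ hA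
  -- lift the generators of `ker δ`
  obtain ⟨t, ht⟩ := hker
  classical
  let J : Ideal (MvPolynomial (Fin m) P) := Ideal.span ((t.image (Function.surjInv hμ) : Finset _) : Set _)
  have hJfg : J.FG := ⟨_, rfl⟩
  have hJmap : Ideal.map μ J = RingHom.ker δ.toRingHom := by
    rw [Ideal.map_span, ← ht, Finset.coe_image, Set.image_image]
    simp only [Function.surjInv_eq hμ, Set.image_id']
  let θ : MvPolynomial (Fin m) P →ₐ[P] A' :=
    { toRingHom := δ.toRingHom.comp μ
      commutes' := fun p => by
        change δ (MvPolynomial.map (algebraMap P A) (algebraMap P _ p)) = _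
        rw [MvPolynomial.algebraMap_eq, MvPolynomial.map_C, ← MvPolynomial.algebraMap_eq,
          δ.commutes, ← IsScalarTower.algebraMap_apply] }
  have hθ : Function.Surjective θ := hδ.comp hμ
  have hJle : ∀ a ∈ J, θ a = 0 := by
    intro a ha
    have : μ a ∈ RingHom.ker δ.toRingHom := hJmap ▸ Ideal.mem_map_of_mem μ ha
    exact this
  let φ : (MvPolynomial (Fin m) P ⧸ J) →ₐ[P] A' := Ideal.Quotient.liftₐ J θ hJle
  have hφ : Function.Surjective φ := Ideal.Quotient.lift_surjective_of_surjective J _ hθ
  refine ⟨m, J, hJfg, φ, hφ, ?_⟩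
  -- set up the algebra structures
  let _ : Algebra (MvPolynomial (Fin m) P ⧸ J) A' := φ.toRingHom.toAlgebra
  have : IsScalarTower P (MvPolynomial (Fin m) P ⧸ J) A' :=
    IsScalarTower.of_algebraMap_eq fun p => (φ.commutes p).symm
  -- kernel computation
  have hkerφ : RingHom.ker (algebraMap (MvPolynomial (Fin m) P ⧸ J) A') =
      Ideal.map (algebraMap P (MvPolynomial (Fin m) P ⧸ J)) (RingHom.ker (algebraMap P A)) := by
    change RingHom.ker (Ideal.Quotient.lift J θ.toRingHom hJle) = _
    rw [Ideal.ker_quotient_lift]
    have h1 : RingHom.ker θ.toRingHom = J ⊔ Ideal.map MvPolynomial.C (RingHom.ker (algebraMap P A)) := by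
      change RingHom.ker (δ.toRingHom.comp μ) = _
      rw [← RingHom.comap_ker, ← hJmap, Ideal.comap_map_of_surjective μ hμ]
      congr 1
      rw [← RingHom.ker_eq_comap_bot]
      exact MvPolynomial.ker_map _
    rw [h1, Ideal.map_sup, Ideal.map_quotient_self, bot_sup_eq, Ideal.map_map]
    rfl
  have hpo : Algebra.IsPushout P (MvPolynomial (Fin m) P ⧸ J) A A' :=
    (isPushout_of_surjective hA hφ hkerφ).symm
  let _ : Module (MvPolynomial (Fin m) P ⧸ J) N := Module.compHom N φ.toRingHom
  have : IsScalarTower (MvPolynomial (Fin m) P ⧸ J) A' N :=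
    IsScalarTower.of_algebraMap_smul fun r x => rfl
  let e : N ≃ₗ[MvPolynomial (Fin m) P ⧸ J] (MvPolynomial (Fin m) P ⧸ J) ⊗[P] M :=
    (hf.equiv.symm.restrictScalars (MvPolynomial (Fin m) P ⧸ J)) ≪≫ₗ
      (Algebra.IsPushout.cancelBaseChange P (MvPolynomial (Fin m) P ⧸ J) A A' M)
  exact Module.FinitePresentation.of_equiv e.symm

/-- Relative finite presentation is stable under base change along ring maps of finite
presentation. -/
theorem fpVia_of_isBaseChange {R C₀ A A' C₁ M N : Type*} [CommRing R] [CommRing C₀] [CommRing A]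
    [CommRing A'] [CommRing C₁] [Algebra R C₀] [Algebra.FinitePresentation R C₀] [Algebra R A]
    [Algebra A A'] [Algebra R A'] [IsScalarTower R A A'] [Algebra.FinitePresentation A A']
    [Algebra R C₁] [Algebra.FinitePresentation R C₁]
    [AddCommGroup M] [Module A M] [AddCommGroup N] [Module A N] [Module A' N] [IsScalarTower A A' N]
    (φ₀ : C₀ →ₐ[R] A) (hφ₀ : Function.Surjective φ₀) (hM : FPVia φ₀.toRingHom M)
    (f : M →ₗ[A] N) (hf : IsBaseChange A' f)
    (φ₁ : C₁ →ₐ[R] A') (hφ₁ : Function.Surjective φ₁) : FPVia φ₁.toRingHom N := by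
  let _ : Algebra C₀ A := φ₀.toRingHom.toAlgebra
  let _ : Algebra C₀ A' := ((algebraMap A A').comp φ₀.toRingHom).toAlgebra
  have : IsScalarTower C₀ A A' := IsScalarTower.of_algebraMap_eq fun _ => rfl
  let _ : Module C₀ M := Module.compHom M φ₀.toRingHom
  have : IsScalarTower C₀ A M := IsScalarTower.of_algebraMap_smul fun r x => rfl
  have : Module.FinitePresentation C₀ M := hM
  have : IsScalarTower R C₀ A' := IsScalarTower.of_algebraMap_eq fun r => by
    change algebraMap R A' r = algebraMap A A' (φ₀ (algebraMap R C₀ r))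
    rw [φ₀.commutes, ← IsScalarTower.algebraMap_apply]
  obtain ⟨m, J, hJ, φ, hφ, hN⟩ := exists_fp_algebra_of_isBaseChange (P := C₀) hφ₀ f hf
  have : Algebra.FinitePresentation R (MvPolynomial (Fin m) C₀) :=
    Algebra.FinitePresentation.mvPolynomial R C₀ (Fin m)
  have : Algebra.FinitePresentation R (MvPolynomial (Fin m) C₀ ⧸ J) :=
    Algebra.FinitePresentation.quotient hJ
  exact (fpVia_indep (M := N) (φ.restrictScalars R) hφ φ₁ hφ₁).mp hN

end BaseChange

end Groth.Agent.H35
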