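import Mathlib
import Groth.Agent.H35.RelFPBase

/-!
# Relative finite presentation is local (helper35)
-/

namespace Groth.Agent.H35

open TensorProduct

section Local

theorem exists_algHom_localization_away {R P A : Type*} [CommRing R] [CommRing P] [CommRing A]
    [Algebra R P] [Algebra R A] [Algebra P A] [IsScalarTower R P A]
    (hPA : Function.Surjective (algebraMap P A)) (g₀ : P) :
    ∃ ψ : Localization.Away g₀ →ₐ[R] Localization.Away (algebraMap P A g₀),
      Function.Surjective ψ ∧
      ∀ p, ψ (algebraMap P _ p) = algebraMap A _ (algebraMap P A p) := by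
  have : IsLocalization ((Submonoid.powers g₀).map (algebraMap P A))
      (Localization.Away (algebraMap P A g₀)) := by
    rw [Submonoid.map_powers]; infer_instance
  let ψ₀ : Localization.Away g₀ →+* Localization.Away (algebraMap P A g₀) :=
    IsLocalization.map _ (algebraMap P A) (Submonoid.powers g₀).le_comap_map
  refine ⟨{ ψ₀ with commutes' := fun r => ?_ },
    IsLocalization.map_surjective_of_surjective _ _ _ hPA, fun p => IsLocalization.map_eq (T := (Submonoid.powers g₀).map (algebraMap P A))
      (Submonoid.powers g₀).le_comap_map p⟩
  change ψ₀ (algebraMap R _ r) = algebraMap R _ r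
  rw [IsScalarTower.algebraMap_apply R P (Localization.Away g₀), IsLocalization.map_eq,
    ← IsScalarTower.algebraMap_apply R P A, ← IsScalarTower.algebraMap_apply R A]

/-- Relative finite presentation can be checked on a standard open cover. -/
theorem fpVia_of_localizationSpan {R P A M : Type*} [CommRing R] [CommRing P] [CommRing A]
    [Algebra R P] [Algebra R A] [Algebra.FinitePresentation R P] [AddCommGroup M] [Module A M]
    (φ₀ : P →ₐ[R] A) (hφ₀ : Function.Surjective φ₀) (s : Set A) (hs : Ideal.span s = ⊤)
    (H : ∀ a ∈ s, ∃ (k : ℕ) (γ : MvPolynomial (Fin k) R →ₐ[R] Localization.Away a),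
      Function.Surjective γ ∧ FPVia γ.toRingHom (LocalizedModule (Submonoid.powers a) M)) :
    FPVia φ₀.toRingHom M := by
  let _ : Algebra P A := φ₀.toRingHom.toAlgebra
  have : IsScalarTower R P A := IsScalarTower.of_algebraMap_eq fun r => (φ₀.commutes r).symm
  let _ : Module P M := Module.compHom M φ₀.toRingHom
  have : IsScalarTower P A M := IsScalarTower.of_algebraMap_smul fun r x => rfl
  change Module.FinitePresentation P M
  have hsurj : Function.Surjective (algebraMap P A) := hφ₀
  let s' : Set P := {g | algebraMap P A g ∈ s ∨ algebraMap P A g = 0}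
  have hs' : Ideal.span s' = ⊤ := by
    have hker : RingHom.ker (algebraMap P A) ≤ Ideal.span s' :=
      fun x hx => Ideal.subset_span (Or.inr hx)
    have hmap : Ideal.map (algebraMap P A) (Ideal.span s') = ⊤ := by
      rw [Ideal.map_span, eq_top_iff, ← hs]
      apply Ideal.span_mono
      intro a ha
      obtain ⟨p, rfl⟩ := hsurj a
      exact ⟨p, Or.inl ha, rfl⟩
    have h := Ideal.comap_map_of_surjective (algebraMap P A) hsurj (Ideal.span s')
    rw [hmap, Ideal.comap_top, ← RingHom.ker_eq_comap_bot, sup_eq_left.mpr hker] at h
    exact h.symm
  choose ψ hψsurj hψ using fun g : s' => exists_algHom_localization_away (R := R) hsurj g.1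
  let : ∀ g : s', Module (Localization.Away g.1)
      (LocalizedModule (Submonoid.powers (algebraMap P A g.1)) M) :=
    fun g => Module.compHom _ (ψ g).toRingHom
  have : ∀ g : s', IsScalarTower P (Localization.Away g.1)
      (LocalizedModule (Submonoid.powers (algebraMap P A g.1)) M) := fun g =>
    IsScalarTower.of_algebraMap_smul fun p x => by
      change (ψ g) (algebraMap P _ p) • x = p • x
      rw [hψ, algebraMap_smul, algebraMap_smul]
  have : ∀ g : s', IsLocalizedModule (Submonoid.powers g.1)
      ((LocalizedModule.mkLinearMap (Submonoid.powers (algebraMap P A g.1)) M).restrictScalars P) :=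
    fun g => IsLocalizedModule.restrictScalars_powers g.1 _
  refine Module.FinitePresentation.of_localizationSpan' s' hs'
    (Rₚ := fun g => Localization.Away g.1)
    (Mₚ := fun g => LocalizedModule (Submonoid.powers (algebraMap P A g.1)) M)
    (fun g => (LocalizedModule.mkLinearMap _ M).restrictScalars P) (fun g => ?_)
  rcases g.2 with h | h
  · obtain ⟨k, γ, hγ, hfp⟩ := H _ h
    have : Algebra.FinitePresentation P (Localization.Away g.1) :=
      IsLocalization.Away.finitePresentation g.1
    have : Algebra.FinitePresentation R (Localization.Away g.1) :=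
      Algebra.FinitePresentation.trans R P _
    exact (fpVia_indep (ψ g) (hψsurj g) γ hγ).mpr hfp
  · have : Subsingleton (LocalizedModule (Submonoid.powers (algebraMap P A g.1)) M) :=
      LocalizedModule.subsingleton (by rw [h]; exact Submonoid.mem_powers 0)
    infer_instance

end Local

end Groth.Agent.H35
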