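import Mathlib
import Groth.Agent.H35.TensSyz
import Groth.Agent.H35.BCSquareD
import Groth.Agent.H35.FTDLocal
import Groth.Agent.H35.ProjAmpGen
import Groth.Agent.H28.PCohDescent
import Groth.Agent.H28.PCohFlat
import Groth.Agent.H35.PCHomLocal
import Groth.Agent.H35.KFRes

/-!
# Relative pseudo-coherence is preserved by derived base change along a pseudo-coherent ring
map (helper35)
-/

set_option autoImplicit false

open CategoryTheory Limits MonoidalCategory

namespace Groth.Agent.H35.RelPCLBC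

universe u

open Groth.Agent.H28 Groth.Agent.H28.PCohCore Groth.Agent.H28.PCohDer Groth.Agent.H28.PCohSum
  Groth.Agent.H28.PCohDev Groth.Agent.H28.PCohSES Groth.Agent.H28.PCohRing DerivedCategory
  Groth.Agent.H35.LT Groth.Agent.H35.KF Groth.Agent.H35.KFBC Groth.Agent.H35.TensSyz TensorProduct

attribute [local instance] HasDerivedCategory.standard

section Tau

variable {S B : Type u} [CommRing S] [CommRing B] (φ : S →+* B)

/-- the target module `(B ⊗_S X)|_S` -/
noncomputable abbrev RE (X : ModuleCat.{u} S) : ModuleCat.{u} S :=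
  (ModuleCat.restrictScalars φ).obj ((ModuleCat.extendScalars.{u, u, u} φ).obj X)

/-- elementary tensors in `(B ⊗_S X)|_S` -/
noncomputable def rt (X : ModuleCat.{u} S) (b : B) (x : X) : (RE φ X : Type u) :=
  (b ⊗ₜ[S] x : ((ModuleCat.extendScalars.{u, u, u} φ).obj X : Type u))

lemma rt_smul (X : ModuleCat.{u} S) (s : S) (b : B) (x : X) :
    s • rt φ X b x = rt φ X (φ s * b) x := rfl

lemma rt_smul_right (X : ModuleCat.{u} S) (s : S) (b : B) (x : X) :
    rt φ X b (s • x) = rt φ X (φ s * b) x := by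
  unfold rt
  rw [← TensorProduct.smul_tmul]
  rfl

/-- the swap, as an additive map into `(B ⊗_S X)|_S` -/
noncomputable def tauAdd (X : ModuleCat.{u} S) :
    ((X : Type u) ⊗[S] (BA φ : Type u)) →+ (RE φ X : Type u) :=
  (swapEquiv φ X).toAddMonoidHom

lemma tauAdd_tmul (X : ModuleCat.{u} S) (x : X) (b : B) :
    tauAdd φ X (x ⊗ₜ[S] (show (BA φ : Type u) from b)) = rt φ X b x := rfl

lemma tauAdd_smul (X : ModuleCat.{u} S) (s : S) (y : (X : Type u) ⊗[S] (BA φ : Type u)) :
    tauAdd φ X (s • y) = s • tauAdd φ X y := by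
  induction y using TensorProduct.induction_on with
  | zero => rw [smul_zero, map_zero, smul_zero]
  | tmul x b =>
    rw [TensorProduct.smul_tmul']
    change tauAdd φ X ((s • x) ⊗ₜ[S] (show (BA φ : Type u) from b)) = s • rt φ X b x
    rw [tauAdd_tmul, rt_smul_right, rt_smul]
  | add y y' hy hy' => rw [smul_add, map_add, hy, hy', map_add, smul_add]

/-- `X ⊗_S B ≃ (B ⊗_S X)|_S`, linear over `S` -/
noncomputable def tauLin (X : ModuleCat.{u} S) :
    ((X : Type u) ⊗[S] (BA φ : Type u)) ≃ₗ[S] (RE φ X : Type u) where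
  toFun := tauAdd φ X
  invFun z := (swapEquiv φ X).symm z
  left_inv y := (swapEquiv φ X).symm_apply_apply y
  right_inv z := (swapEquiv φ X).apply_symm_apply z
  map_add' := map_add (tauAdd φ X)
  map_smul' s y := tauAdd_smul φ X s y

/-- the isomorphism `X ⊗ B ≅ (B ⊗_S X)|_S` in `ModuleCat S` -/
noncomputable def tauIso (X : ModuleCat.{u} S) : (tensorRight (BA φ)).obj X ≅ RE φ X :=
  (tauLin φ X).toModuleIso

lemma tauIso_naturality {X Y : ModuleCat.{u} S} (f : X ⟶ Y) :
    (tensorRight (BA φ)).map f ≫ (tauIso φ Y).hom =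
      (tauIso φ X).hom ≫ (ModuleCat.restrictScalars φ).map
        ((ModuleCat.extendScalars.{u, u, u} φ).map f) := by
  ext y
  exact (swapEquiv_comm φ f y).symm

/-- `F ⊗_S B ≅ (B ⊗_S F)|_S` for complexes -/
noncomputable def tauCxIso (F : CochainComplex (ModuleCat.{u} S) ℤ) :
    tensCx F (BA φ) ≅ resL φ (extK φ F) :=
  HomologicalComplex.Hom.isoOfComponents (fun i => tauIso φ (F.X i))
    (fun i j _ => (tauIso_naturality φ (F.d i j)).symm)

end Tau

section Sigma

variable (P A : Type u) [CommRing P] [CommRing A] [Algebra P A] (t : ℕ)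

/-- `P[y] ⊗_P A ≃ A[y]` as rings -/
noncomputable def sigma :
    (MvPolynomial (Fin t) P ⊗[P] A) ≃+* MvPolynomial (Fin t) A :=
  (Algebra.TensorProduct.comm P (MvPolynomial (Fin t) P) A).toRingEquiv.trans
    (MvPolynomial.algebraTensorAlgEquiv (σ := Fin t) P A).toRingEquiv

lemma sigma_tmul (q : MvPolynomial (Fin t) P) (a : A) :
    sigma P A t (q ⊗ₜ[P] a) = a • MvPolynomial.map (algebraMap P A) q := by
  change MvPolynomial.algebraTensorAlgEquiv P A (Algebra.TensorProduct.comm P _ A (q ⊗ₜ[P] a)) = _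
  rw [Algebra.TensorProduct.comm_tmul, MvPolynomial.algebraTensorAlgEquiv_tmul]

lemma sigma_comp_left :
    (sigma P A t).toRingHom.comp (algebraMap (MvPolynomial (Fin t) P)
      (MvPolynomial (Fin t) P ⊗[P] A)) = MvPolynomial.map (algebraMap P A) := by
  apply RingHom.ext
  intro q
  change sigma P A t (q ⊗ₜ[P] (1 : A)) = _
  rw [sigma_tmul, one_smul]

lemma sigma_comp_right :
    (sigma P A t).toRingHom.comp (BCSq.psi P A (MvPolynomial (Fin t) P)) =
      (MvPolynomial.C : A →+* MvPolynomial (Fin t) A) := by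
  apply RingHom.ext
  intro a
  change sigma P A t ((1 : MvPolynomial (Fin t) P) ⊗ₜ[P] a) = _
  rw [sigma_tmul, map_one, MvPolynomial.smul_eq_C_mul, mul_one]

end Sigma

section FlatBC

variable {A B : Type u} [CommRing A] [CommRing B] [Algebra A B] [Module.Flat A B]

/-- flat base change preserves `m`-pseudo-coherence (complex level) -/
theorem isNPC_Q_extK_of_flat (G : CochainComplex (ModuleCat.{u} A) ℤ) (m : ℤ)
    (h : IsNPC (finFree A) m (Q.obj G)) :
    IsNPC (finFree B) m (Q.obj (extK (algebraMap A B) G)) := by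
  obtain ⟨E, ⟨⟨b, hb⟩, hE⟩, ⟨e⟩⟩ := h
  refine ⟨extK (algebraMap A B) E, ⟨⟨b, fun i hi =>
    (ModuleCat.extendScalars.{u, u, u} (algebraMap A B)).map_isZero (hb i hi)⟩, fun i hi =>
      PCohFlat.finFree_extendScalars (algebraMap A B) (E.X i) (hE i hi)⟩, ⟨?_⟩⟩
  exact ((ModuleCat.extendScalars.{u, u, u} (algebraMap A B)).mapDerivedCategoryFactors.app E).symm ≪≫
    (ModuleCat.extendScalars.{u, u, u} (algebraMap A B)).mapDerivedCategory.mapIso e ≪≫
    (ModuleCat.extendScalars.{u, u, u} (algebraMap A B)).mapDerivedCategoryFactors.app G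

end FlatBC

section Bounded

variable {P A : Type u} [CommRing P] [CommRing A] (α : P →+* A)

/-- an object of `D(A)` whose restriction is `m`-pseudo-coherent is bounded above -/
lemma exists_isLE_of_isNPC_restrictD (K : Dual.D A) (m : ℤ)
    (h : IsNPC (finFree P) m ((DRing.restrictD α).obj K)) : ∃ b : ℤ, K.IsLE b := by
  obtain ⟨E, ⟨⟨b, hb⟩, -⟩, ⟨e⟩⟩ := h
  refine ⟨b, ?_⟩
  rw [DerivedCategory.isLE_iff]
  intro i hi
  have h1 : IsZero ((DerivedCategory.homologyFunctor (ModuleCat.{u} P) i).obj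
      ((DRing.restrictD α).obj K)) :=
    IsZero.of_iso (isZero_homology_of_isZero_X E i (hb i hi))
      ((DerivedCategory.homologyFunctor _ i).mapIso e.symm ≪≫ homologyQIso E i)
  have h2 : IsZero ((ModuleCat.restrictScalars α).obj
      ((DerivedCategory.homologyFunctor (ModuleCat.{u} A) i).obj K)) :=
    IsZero.of_iso h1 (PCohDescent.homologyMapDerivedIso (ModuleCat.restrictScalars α) K i).symm
  have h3 : Subsingleton ((ModuleCat.restrictScalars α).obj
      ((DerivedCategory.homologyFunctor (ModuleCat.{u} A) i).obj K)) :=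
    ModuleCat.subsingleton_of_isZero h2
  have h4 : Subsingleton ((DerivedCategory.homologyFunctor (ModuleCat.{u} A) i).obj K) := h3
  exact ModuleCat.isZero_of_subsingleton _

end Bounded

section Assembly

variable (P A Py : Type u) [CommRing P] [CommRing A] [CommRing Py] [Algebra P A] [Algebra P Py]
  [Module.Flat P Py] {B : Type u} [CommRing B]

/-- abstract core: `P → A`, `P → Py` flat, `S = Py ⊗_P A`, `β' : S → B` with `B` a pseudo-coherent
`S`-module; for a bounded above complex `F` of flat `A`-modules with `F|_P` `m`-pseudo-coherent,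
the complex `B ⊗_A F` restricted to `Py` is `m`-pseudo-coherent. -/
theorem isNPC_restrictD_extK (β' : Py ⊗[P] A →+* B)
    (hN : ∀ k : ℤ, IsNPC (finFree (Py ⊗[P] A)) k
      ((DerivedCategory.singleFunctor _ 0).obj (BA β')))
    (F : CochainComplex (ModuleCat.{u} A) ℤ) (hFflat : ∀ i, Module.Flat A (F.X i))
    (b : ℤ) (hFz : ∀ i : ℤ, b < i → IsZero (F.X i)) (m : ℤ)
    (hm : IsNPC (finFree P) m (Q.obj (resL (algebraMap P A) F))) :
    IsNPC (finFree Py) m ((DRing.restrictD (algebraMap Py (Py ⊗[P] A))).obj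
      ((DRing.restrictD β').obj (Q.obj (extK (β'.comp (BCSq.psi P A Py)) F)))) := by
  have hF'flat : ∀ i, Module.Flat (Py ⊗[P] A) ((extK (BCSq.psi P A Py) F).X i) := fun i => by
    have := hFflat i
    exact flat_extendScalars (BCSq.psi P A Py) (F.X i)
  have hF'z : ∀ i : ℤ, b < i → IsZero ((extK (BCSq.psi P A Py) F).X i) := fun i hi =>
    (ModuleCat.extendScalars.{u, u, u} (BCSq.psi P A Py)).map_isZero (hFz i hi)
  have h5b : IsNPC (finFree Py) m (Q.obj (extK (algebraMap P Py) (resL (algebraMap P A) F))) :=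
    isNPC_Q_extK_of_flat _ m hm
  have h5 : IsNPC (finFree Py) m ((DRing.restrictD (algebraMap Py (Py ⊗[P] A))).obj
      (Q.obj (extK (BCSq.psi P A Py) F))) :=
    IsNPC.of_iso _ h5b (Q.mapIso (BCSq.cxIso P A Py F).symm ≪≫
      ((ModuleCat.restrictScalars (algebraMap Py (Py ⊗[P] A))).mapDerivedCategoryFactors.app
        (extK (BCSq.psi P A Py) F)).symm)
  have core := isNPC_GG_of_pc (algebraMap Py (Py ⊗[P] A)) (extK (BCSq.psi P A Py) F) hF'flat b
    hF'z m h5 (BA β') hN
  exact IsNPC.of_iso _ core ((DRing.restrictD (algebraMap Py (Py ⊗[P] A))).mapIso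
    (Q.mapIso (tauCxIso β' (extK (BCSq.psi P A Py) F)) ≪≫
      ((ModuleCat.restrictScalars β').mapDerivedCategoryFactors.app
        (extK β' (extK (BCSq.psi P A Py) F))).symm ≪≫
      (DRing.restrictD β').mapIso (Q.mapIso (Groth.Agent.H35.FTDLocal.extKCompIso (BCSq.psi P A Py) β' F).symm)))

end Assembly

section Main

open Groth.Agent.H35.RelPC

lemma LBaseChange_iso_of_eq {A B : Type u} [CommRing A] [CommRing B] (φ ψ : A →+* B)
    (h : φ = ψ) [DRing.HasLBaseChange ψ] (F : CochainComplex (ModuleCat.{u} A) ℤ)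
    (hF : IsKFlat F) :
    Nonempty ((DRing.LBaseChange ψ).obj (Q.obj F) ≅ Q.obj (extK φ F)) := by
  subst h
  exact ⟨LBaseChangeIso φ F hF⟩

variable {R A B : Type u} [CommRing R] [CommRing A] [CommRing B] [Algebra R A] [Algebra A B]
  [Algebra R B] [IsScalarTower R A B]

/-- S6986, one degree -/
theorem isRelPseudoCoherent_LBaseChange [Algebra.FiniteType R A] [Algebra.FiniteType A B]
    (hB : DerCA.IsRelPseudoCoherentModuleAll A B B) [DRing.HasLBaseChange (algebraMap A B)]
    (K : Dual.D A) (m : ℤ) (h : DerCA.IsRelPseudoCoherent R A m K) :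
    DerCA.IsRelPseudoCoherent R B m ((DRing.LBaseChange (algebraMap A B)).obj K) := by
  obtain ⟨n, α, hα⟩ := exists_presentation (R := R) (A := A)
  obtain ⟨t, β, hβ⟩ := exists_presentation (R := A) (A := B)
  let P := MvPolynomial (Fin n) R
  let _ : Algebra P A := (α : P →+* A).toAlgebra
  let Py := MvPolynomial (Fin t) P
  let Ay := MvPolynomial (Fin t) A
  let μ : Py →+* Ay := MvPolynomial.map (algebraMap P A)
  let β' := (β : Ay →+* B).comp (sigma P A t).toRingHom
  have hβ'ν : β'.comp (algebraMap Py (Py ⊗[P] A)) = (β : Ay →+* B).comp μ := by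
    rw [RingHom.comp_assoc, sigma_comp_left P A t]
  have hβ'ψ : β'.comp (BCSq.psi P A Py) = algebraMap A B := by
    rw [RingHom.comp_assoc, sigma_comp_right P A t]
    apply RingHom.ext
    intro a
    change β (MvPolynomial.C a) = _
    rw [← MvPolynomial.algebraMap_eq, AlgHom.commutes]
  -- the hypothesis on `K`
  have hK : IsNPC (finFree P) m ((DRing.restrictD (α : P →+* A)).obj K) :=
    (rel_iff_isNPC α hα K).1 h
  obtain ⟨b, hb⟩ := exists_isLE_of_isNPC_restrictD (α : P →+* A) K m hK
  obtain ⟨F, hFproj, hFle, ⟨eF⟩⟩ := exists_iso_Q_obj_projective K b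
  have hFflat : ∀ i, Module.Flat A (F.X i) := fun i => by
    have : Module.Projective A (F.X i) :=
      (IsProjective.iff_projective (R := A) (F.X i)).mpr (hFproj i)
    infer_instance
  have hFz : ∀ i : ℤ, b < i → IsZero (F.X i) := fun i hi => F.isZero_of_isStrictlyLE b i hi
  have hFK : IsKFlat F := isKFlat_of_bounded_flat F b hFz hFflat
  have h5a : IsNPC (finFree P) m (Q.obj (resL (algebraMap P A) F)) :=
    IsNPC.of_iso _ hK ((DRing.restrictD (α : P →+* A)).mapIso eF.symm ≪≫
      (ModuleCat.restrictScalars (α : P →+* A)).mapDerivedCategoryFactors.app F)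
  -- `B` is a pseudo-coherent `S`-module
  have hN : ∀ k : ℤ, IsNPC (finFree (Py ⊗[P] A)) k
      ((DerivedCategory.singleFunctor _ 0).obj (BA β')) := by
    intro k
    have h1 : PCvia (β : Ay →+* B) k (Dual.inD B B) :=
      (isRelPseudoCoherent_iff_via β hβ k _).1 (hB k)
    have h2 : PCvia β' k (Dual.inD B B) :=
      (pcvia_ringEquiv (sigma P A t) (β : Ay →+* B) β' rfl k _).2 h1
    unfold PCvia at h2
    rw [isPseudoCoherent_iff_isNPC] at h2
    exact IsNPC.of_iso _ h2 (restrictDSingleIso β' (ModuleCat.of B B))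
  have h6 := isNPC_restrictD_extK P A Py β' hN F hFflat b hFz m h5a
  -- identification with the derived base change
  obtain ⟨e4⟩ := LBaseChange_iso_of_eq (β'.comp (BCSq.psi P A Py)) (algebraMap A B) hβ'ψ F hFK
  have eX : (DRing.LBaseChange (algebraMap A B)).obj K ≅
      Q.obj (extK (β'.comp (BCSq.psi P A Py)) F) :=
    (DRing.LBaseChange (algebraMap A B)).mapIso eF.symm ≪≫ e4
  have e6 := (DRing.restrictD (algebraMap Py (Py ⊗[P] A))).mapIso
      ((DRing.restrictD β').mapIso eX.symm)
  have h6' := IsNPC.of_iso (finFree Py) h6 e6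
  obtain ⟨e7⟩ := nonempty_restrictD_comp_iso (algebraMap Py (Py ⊗[P] A)) β'
    _ rfl ((DRing.LBaseChange (algebraMap A B)).obj K)
  have h7' := IsNPC.of_iso (finFree Py) h6' e7.symm
  rw [hβ'ν] at h7'
  have h7 : PCvia ((β : Ay →+* B).comp μ) m ((DRing.LBaseChange (algebraMap A B)).obj K) := by
    unfold PCvia
    rw [isPseudoCoherent_iff_isNPC]
    exact h7'
  let e : MvPolynomial (Fin (t + n)) R ≃ₐ[R] Py :=
    (MvPolynomial.renameEquiv R finSumFinEquiv.symm).trans
      (MvPolynomial.sumAlgEquiv R (Fin t) (Fin n))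
  let μ' : Py →ₐ[R] Ay := MvPolynomial.mapAlgHom α
  let γ : MvPolynomial (Fin (t + n)) R →ₐ[R] B :=
    ((β.restrictScalars R).comp μ').comp e.toAlgHom
  have hμ : Function.Surjective μ := MvPolynomial.map_surjective _ hα
  have hγ : Function.Surjective γ := (hβ.comp hμ).comp e.surjective
  rw [isRelPseudoCoherent_iff_via γ hγ m _]
  have h8 : PCvia (γ : MvPolynomial (Fin (t + n)) R →+* B) m
      ((DRing.LBaseChange (algebraMap A B)).obj K) ↔
      PCvia ((β : Ay →+* B).comp μ) m ((DRing.LBaseChange (algebraMap A B)).obj K) := by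
    refine pcvia_ringEquiv e.toRingEquiv _ _ ?_ m _
    apply RingHom.ext
    intro x
    change β (μ' (e x)) = β (μ (e x))
    rfl
  exact h8.2 h7

end Main

section FlatLBC

variable {A B : Type u} [CommRing A] [CommRing B] [Algebra A B] [Module.Flat A B]

/-- for flat `A → B`, derived base change is computed termwise on any complex -/
theorem nonempty_LBaseChange_iso_of_flat [DRing.HasLBaseChange (algebraMap A B)]
    (G : CochainComplex (ModuleCat.{u} A) ℤ) :
    Nonempty ((DRing.LBaseChange (algebraMap A B)).obj (Q.obj G) ≅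
      Q.obj (extK (algebraMap A B) G)) := by
  obtain ⟨F, q, hF, -, hq, -⟩ := exists_isKFlat_resolution A G
  have : IsIso (Q.map q) := by
    rw [DerivedCategory.isIso_Q_map_iff_quasiIso (φ := q)]
    exact hq
  let E := ModuleCat.extendScalars.{u, u, u} (algebraMap A B)
  exact ⟨(DRing.LBaseChange (algebraMap A B)).mapIso (asIso (Q.map q)).symm ≪≫
    LBaseChangeIso (algebraMap A B) F hF ≪≫ (E.mapDerivedCategoryFactors.app F).symm ≪≫
    E.mapDerivedCategory.mapIso (asIso (Q.map q)) ≪≫ E.mapDerivedCategoryFactors.app G⟩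

/-- for flat `A → B`, the derived base change of `M[0]` is `(B ⊗_A M)[0]` -/
theorem nonempty_LBaseChange_inD_iso_of_flat [DRing.HasLBaseChange (algebraMap A B)]
    (M : Type u) [AddCommGroup M] [Module A M] :
    Nonempty ((DRing.LBaseChange (algebraMap A B)).obj (Dual.inD A M) ≅
      Dual.inD B (B ⊗[A] M)) := by
  obtain ⟨e⟩ := nonempty_LBaseChange_iso_of_flat (A := A) (B := B)
    ((HomologicalComplex.single (ModuleCat.{u} A) (ComplexShape.up ℤ) 0).obj (ModuleCat.of A M))
  exact ⟨(DRing.LBaseChange (algebraMap A B)).mapIso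
      ((DerivedCategory.singleFunctorIsoCompQ (ModuleCat.{u} A) 0).app (ModuleCat.of A M)) ≪≫ e ≪≫
    Groth.Agent.H35.PCHomLocal.extKSingleIso (algebraMap A B) (ModuleCat.of A M) ≪≫
    (DerivedCategory.singleFunctor (ModuleCat.{u} B) 0).mapIso (extendScalarsObjIso M)⟩

end FlatLBC

end Groth.Agent.H35.RelPCLBC
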