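import Mathlib
import Groth.Agent.H35.TorIndepData
import Groth.Agent.H35.RelPCLBC

/-!
# Tor independent base change of relative pseudo-coherence (helper35)
-/

set_option autoImplicit false

open CategoryTheory Limits MonoidalCategory

namespace Groth.Agent.H35.RelPCTI

universe u

open Groth.Agent.H28 Groth.Agent.H28.PCohCore Groth.Agent.H28.PCohDer Groth.Agent.H28.PCohRing
  DerivedCategory Groth.Agent.H35.LT Groth.Agent.H35.KF Groth.Agent.H35.KFBC
  Groth.Agent.H35.TIGen Groth.Agent.H35.RelPCLBC Groth.Agent.H35.RelPC TensorProduct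

attribute [local instance] HasDerivedCategory.standard

section Abstract

variable {R R' P P' A A' : Type u} [CommRing R] [CommRing R'] [CommRing P] [CommRing P']
  [CommRing A] [CommRing A']
  [Algebra R R'] [Algebra R P] [Algebra R' P'] [Algebra P P'] [Algebra R P']
  [IsScalarTower R R' P'] [IsScalarTower R P P'] [Algebra.IsPushout R R' P P'] [Module.Flat R P]
  [Algebra P A] [Algebra R A] [IsScalarTower R P A]
  [Algebra P' A'] [Algebra A A'] [Algebra P A'] [IsScalarTower P P' A'] [IsScalarTower P A A']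
  [Algebra.IsPushout P P' A A']

/-- abstract form of the Tor independent base change of relative pseudo-coherence -/
theorem isNPC_restrictD_LBaseChange_of_torIndepData
    (h : TorIndepData (algebraMap R A) (algebraMap R R'))
    (ψ : A →+* A') (hψ : algebraMap A A' = ψ) [DRing.HasLBaseChange ψ]
    (αP : P →+* A) (hα : algebraMap P A = αP) (α' : P' →+* A') (hα' : algebraMap P' A' = α')
    (K : Dual.D A) (m : ℤ)
    (hK : IsNPC (finFree P) m ((DRing.restrictD αP).obj K)) :
    IsNPC (finFree P') m ((DRing.restrictD α').obj ((DRing.LBaseChange ψ).obj K)) := by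
  subst hψ hα hα'
  obtain ⟨b, hb⟩ := exists_isLE_of_isNPC_restrictD (algebraMap P A) K m hK
  obtain ⟨F, hFproj, hFle, ⟨eF⟩⟩ := exists_iso_Q_obj_projective K b
  have hFflat : ∀ i, Module.Flat A (F.X i) := fun i => by
    have : Module.Projective A (F.X i) :=
      (IsProjective.iff_projective (R := A) (F.X i)).mpr (hFproj i)
    infer_instance
  have hFz : ∀ i : ℤ, b < i → IsZero (F.X i) := fun i hi => F.isZero_of_isStrictlyLE b i hi
  have hFK : IsKFlat F := isKFlat_of_bounded_flat F b hFz hFflat
  have h5a : IsNPC (finFree P) m (Q.obj (resL (algebraMap P A) F)) :=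
    IsNPC.of_iso _ hK ((DRing.restrictD (algebraMap P A)).mapIso eF.symm ≪≫
      (ModuleCat.restrictScalars (algebraMap P A)).mapDerivedCategoryFactors.app F)
  have h6 := isNPC_restrict_extK_of_torIndepData (R := R) (R' := R') (P := P) (P' := P')
    (A := A) (A' := A') h F hFK m h5a
  exact IsNPC.of_iso _ h6
    (((ModuleCat.restrictScalars (algebraMap P' A')).mapDerivedCategoryFactors.app
        (extK (algebraMap A A') F)).symm ≪≫
      (DRing.restrictD (algebraMap P' A')).mapIso
        ((LBaseChangeIso (algebraMap A A') F hFK).symm ≪≫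
          (DRing.LBaseChange (algebraMap A A')).mapIso eF))

end Abstract

section Concrete

variable {R A R' : Type u} [CommRing R] [CommRing A] [CommRing R'] [Algebra R A] [Algebra R R']

attribute [local instance] MvPolynomial.algebraMvPolynomial Algebra.TensorProduct.rightAlgebra

/-- the base change of a presentation -/
noncomputable def presBC {n : ℕ} (α : MvPolynomial (Fin n) R →ₐ[R] A) :
    MvPolynomial (Fin n) R' →ₐ[R'] R' ⊗[R] A :=
  MvPolynomial.aeval (fun i => (1 : R') ⊗ₜ[R] α (MvPolynomial.X i))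

lemma presBC_comp_map {n : ℕ} (α : MvPolynomial (Fin n) R →ₐ[R] A) :
    ((presBC (R' := R') α : MvPolynomial (Fin n) R' →+* R' ⊗[R] A)).comp
        (MvPolynomial.map (algebraMap R R')) =
      ((Algebra.TensorProduct.includeRight : A →ₐ[R] R' ⊗[R] A) : A →+* R' ⊗[R] A).comp
        (α : MvPolynomial (Fin n) R →+* A) := by
  apply MvPolynomial.ringHom_ext
  · intro r
    change presBC α (MvPolynomial.map (algebraMap R R') (MvPolynomial.C r)) =
      (1 : R') ⊗ₜ[R] α (MvPolynomial.C r)
    rw [MvPolynomial.map_C, ← MvPolynomial.algebraMap_eq, ← MvPolynomial.algebraMap_eq,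
      AlgHom.commutes, AlgHom.commutes, Algebra.TensorProduct.algebraMap_apply]
    change (algebraMap R R' r) ⊗ₜ[R] (1 : A) = 1 ⊗ₜ[R] algebraMap R A r
    rw [Algebra.algebraMap_eq_smul_one (A := R') r, Algebra.algebraMap_eq_smul_one (A := A) r,
      TensorProduct.smul_tmul]
  · intro i
    change presBC α (MvPolynomial.map (algebraMap R R') (MvPolynomial.X i)) =
      (1 : R') ⊗ₜ[R] α (MvPolynomial.X i)
    rw [MvPolynomial.map_X]
    exact MvPolynomial.aeval_X _ i

lemma presBC_surjective {n : ℕ} (α : MvPolynomial (Fin n) R →ₐ[R] A)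
    (hα : Function.Surjective α) : Function.Surjective (presBC (R' := R') α) := by
  intro x
  induction x using TensorProduct.induction_on with
  | zero => exact ⟨0, map_zero _⟩
  | tmul r' a =>
    obtain ⟨p, rfl⟩ := hα a
    refine ⟨MvPolynomial.C r' * MvPolynomial.map (algebraMap R R') p, ?_⟩
    rw [map_mul]
    have h1 : presBC (R' := R') α (MvPolynomial.map (algebraMap R R') p) = (1 : R') ⊗ₜ[R] α p :=
      congr($(presBC_comp_map (R' := R') α) p)
    have h2 : presBC (R' := R') α (MvPolynomial.C r') = r' ⊗ₜ[R] (1 : A) := by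
      rw [← MvPolynomial.algebraMap_eq, AlgHom.commutes, Algebra.TensorProduct.algebraMap_apply]
      rfl
    rw [h1, h2, Algebra.TensorProduct.tmul_mul_tmul, mul_one, one_mul]
  | add x y hx hy =>
    obtain ⟨p, rfl⟩ := hx
    obtain ⟨q, rfl⟩ := hy
    exact ⟨p + q, map_add _ _ _⟩

/-- S6998, one degree -/
theorem isRelPseudoCoherent_LBaseChange_of_tor [Algebra.FiniteType R A]
    (htor : ∀ p : ℕ, 0 < p → Subsingleton (DRing.Tor R p A R'))
    [DRing.HasLBaseChange
      (Algebra.TensorProduct.includeRight : A →ₐ[R] R' ⊗[R] A).toRingHom]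
    (K : Dual.D A) (m : ℤ) (h : DerCA.IsRelPseudoCoherent R A m K) :
    DerCA.IsRelPseudoCoherent R' (R' ⊗[R] A) m
      ((DRing.LBaseChange
        (Algebra.TensorProduct.includeRight : A →ₐ[R] R' ⊗[R] A).toRingHom).obj K) := by
  obtain ⟨n, α, hα⟩ := exists_presentation (R := R) (A := A)
  let P := MvPolynomial (Fin n) R
  let P' := MvPolynomial (Fin n) R'
  let α' : P' →ₐ[R'] R' ⊗[R] A := presBC (R' := R') α
  have hα' : Function.Surjective α' := presBC_surjective α hα
  rw [rel_iff_isNPC α' hα']
  have hK := (rel_iff_isNPC α hα K).1 h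
  letI : Algebra P A := (α : P →+* A).toAlgebra
  letI : Algebra P' (R' ⊗[R] A) := (α' : P' →+* R' ⊗[R] A).toAlgebra
  letI : Algebra P (R' ⊗[R] A) :=
    ((algebraMap A (R' ⊗[R] A)).comp (algebraMap P A)).toAlgebra
  haveI : IsScalarTower R P A := IsScalarTower.of_algebraMap_eq (fun r => (α.commutes r).symm)
  haveI : IsScalarTower P A (R' ⊗[R] A) := IsScalarTower.of_algebraMap_eq (fun _ => rfl)
  haveI : IsScalarTower P P' (R' ⊗[R] A) := IsScalarTower.of_algebraMap_eq (fun p =>
    (congr($(presBC_comp_map (R' := R') α) p)).symm)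
  haveI : IsScalarTower R' P' (R' ⊗[R] A) :=
    IsScalarTower.of_algebraMap_eq (fun r => (α'.commutes r).symm)
  haveI : IsScalarTower R P' (R' ⊗[R] A) := IsScalarTower.of_algebraMap_eq (fun r => by
    rw [IsScalarTower.algebraMap_apply R R' (R' ⊗[R] A), IsScalarTower.algebraMap_apply R R' P',
      ← IsScalarTower.algebraMap_apply R' P' (R' ⊗[R] A)])
  have hpo : Algebra.IsPushout P A P' (R' ⊗[R] A) :=
    (Algebra.IsPushout.comp_iff R P R' P').1 inferInstance
  haveI : Algebra.IsPushout P P' A (R' ⊗[R] A) := hpo.symm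
  exact isNPC_restrictD_LBaseChange_of_torIndepData (R := R) (R' := R') (P := P) (P' := P')
    (A := A) (A' := R' ⊗[R] A) (torIndepData_of_tor_vanishing htor) _ rfl
    (α : P →+* A) rfl (α' : P' →+* R' ⊗[R] A) rfl K m hK

end Concrete

end Groth.Agent.H35.RelPCTI
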