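import Mathlib
import Groth.Agent.H35.RelPerfFibreLib
import Groth.Agent.H28.FibreGlDim
import Groth.Agent.H12.Bridge

/-!
# Fibres of a localization (helper35, for S7094)
-/

set_option autoImplicit false
set_option linter.style.haveILetI false
universe u
open CategoryTheory CategoryTheory.Limits MonoidalCategory TensorProduct

namespace Groth.Agent.H35.RelPerfFibreLoc

open HomologicalComplex DerivedCategory Groth.Agent.H35 Groth.Agent.H35.KF Groth.Agent.H35.KFBC
  Groth.Agent.H35.LT Groth.Agent.H35.RelPerfFibreLib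

attribute [local instance] HasDerivedCategory.standard

section Restrict

variable {A B : Type u} [CommRing A] [CommRing B] [Algebra A B]

/-- restriction of scalars of a `B`-module which is already an `A`-module -/
noncomputable def restrictIsoOfLinearEquiv (X : ModuleCat.{u} B) (Y : Type u) [AddCommGroup Y]
    [Module A Y] [Module B Y] [IsScalarTower A B Y] (e : X ≃ₗ[B] Y) :
    (ModuleCat.restrictScalars (algebraMap A B)).obj X ≅ ModuleCat.of A Y :=
  (AddEquiv.toLinearEquiv (M := ↑((ModuleCat.restrictScalars (algebraMap A B)).obj X))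
    (M₂ := ↑(ModuleCat.of A Y)) e.toAddEquiv (fun a x => by
      change e (algebraMap A B a • (show X from x)) = a • e (show X from x)
      rw [e.map_smul, algebraMap_smul])).toModuleIso

end Restrict

section FibreLoc

variable {R A : Type u} [CommRing R] [CommRing A] [Algebra R A]
  (S : Submonoid R) (Rp : Type u) [CommRing Rp] [Algebra R Rp] [IsLocalization S Rp]
  (Aq : Type u) [CommRing Aq] [Algebra A Aq] [Algebra R Aq] [IsScalarTower R A Aq]
  [Module.Flat A Aq] [Algebra Rp Aq] [IsScalarTower R Rp Aq]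
  (κ : Type u) [AddCommGroup κ] [Module R κ] [Module Rp κ] [IsScalarTower R Rp κ]

include S in
lemma tensExactAt_fibre_localization (E : CochainComplex (ModuleCat.{u} A) ℤ) (i : ℤ)
    (h : TensExactAt (resL (algebraMap R A) E) (ModuleCat.of R κ) i) :
    TensExactAt (resL (algebraMap Rp Aq) ((extCx (algebraMap A Aq)).obj E))
      (ModuleCat.of Rp κ) i := by
  rw [Groth.Agent.H28.FibreGlDim.tensExactAt_resL_iff (algebraMap Rp Aq) _ (ModuleCat.of Rp κ) i,
    tensExactAt_extCx_iff (algebraMap A Aq) E _ i]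
  rw [Groth.Agent.H28.FibreGlDim.tensExactAt_resL_iff (algebraMap R A) E (ModuleCat.of R κ) i] at h
  have h1 : TensExactAt E (ModuleCat.of A (A ⊗[R] κ)) i :=
    (tensExactAt_iff_of_iso E
      (Groth.Agent.H12.BC.bridge (B := A) (ModuleCat.of R κ)).toModuleIso i).1 h
  have h2 := tensExactAt_tensor_of_flat Aq E (A ⊗[R] κ) i h1
  haveI : SMulCommClass Rp A Aq := ⟨fun r a x => by
    simp only [Algebra.smul_def]
    exact mul_left_comm _ _ _⟩
  haveI := IsLocalization.tensorProduct_compatibleSMul S Rp Aq κ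
  let ea : Aq ⊗[A] (A ⊗[R] κ) ≃ₗ[A] Aq ⊗[R] κ :=
    TensorProduct.AlgebraTensorModule.cancelBaseChange R A A Aq κ
  let eb : Aq ⊗[Rp] κ ≃ₗ[A] Aq ⊗[R] κ := TensorProduct.equivOfCompatibleSMul R Rp A Aq κ
  let ec := Groth.Agent.H12.BC.bridge (B := Aq) (ModuleCat.of Rp κ)
  haveI : IsScalarTower A Aq (Aq ⊗[Rp] κ) := inferInstance
  let iso1 := restrictIsoOfLinearEquiv (A := A) (B := Aq) _ (Aq ⊗[Rp] κ) ec
  refine (tensExactAt_iff_of_iso E (iso1 ≪≫ (eb.trans ea.symm).toModuleIso) i).2 h2

end FibreLoc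

end Groth.Agent.H35.RelPerfFibreLoc
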