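import Mathlib
import Groth.Agent.H35.RelPerfFibreLoc
import Groth.Agent.H35.PseudoCohMap
import Groth.Agent.H28.TorAmpWE
import Groth.Agent.H71.FlatOver.Alg

/-!
# Opcycles of a complex of `A`-modules as `R`-modules, and their localizations (helper35, S7094)
-/

set_option autoImplicit false
set_option linter.style.haveILetI false
universe u
open CategoryTheory CategoryTheory.Limits MonoidalCategory TensorProduct

namespace Groth.Agent.H35.RelPerfOpcycles

open HomologicalComplex DerivedCategory Groth.Agent.H35 Groth.Agent.H35.KF Groth.Agent.H35.KFBC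
  Groth.Agent.H35.LT Groth.Agent.H35.RelPerfFibreLib Groth.Agent.H35.RelPerfFibreLoc

attribute [local instance] HasDerivedCategory.standard

/-- an `A`-module viewed also as an `R`-module -/
@[nolint unusedArguments]
def RMod (R : Type u) {A : Type u} [CommRing A] (X : ModuleCat.{u} A) : Type u := X

variable (R : Type u) {A : Type u} [CommRing R] [CommRing A] [Algebra R A]

instance (X : ModuleCat.{u} A) : AddCommGroup (RMod R X) := inferInstanceAs (AddCommGroup X)

instance (X : ModuleCat.{u} A) : Module A (RMod R X) := inferInstanceAs (Module A X)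

instance (X : ModuleCat.{u} A) : Module R (RMod R X) := Module.compHom X (algebraMap R A)

instance (X : ModuleCat.{u} A) : IsScalarTower R A (RMod R X) :=
  ⟨fun r a x => by
    change (r • a) • (show X from x) = algebraMap R A r • (a • (show X from x))
    rw [Algebra.smul_def, mul_smul]⟩

/-- the identity `X ≃ RMod R X` -/
def toRMod (X : ModuleCat.{u} A) : X ≃ₗ[A] RMod R X := LinearEquiv.refl A X

/-- restriction of scalars is `RMod` -/
noncomputable def restrictRModIso (X : ModuleCat.{u} A) :
    (ModuleCat.restrictScalars (algebraMap R A)).obj X ≅ ModuleCat.of R (RMod R X) :=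
  restrictIsoOfLinearEquiv (A := R) (B := A) X (RMod R X) (toRMod R X)

lemma flat_rmod_of_flat [Module.Flat R A] (X : ModuleCat.{u} A) [Module.Flat A X] :
    Module.Flat R (RMod R X) := by
  haveI : Module.Flat A (RMod R X) := inferInstanceAs (Module.Flat A X)
  exact Module.Flat.trans R A (RMod R X)

lemma finitePresentation_rmod_opcycles (E : CochainComplex (ModuleCat.{u} A) ℤ) (m : ℤ)
    (h1 : Module.Finite A (E.X (m - 1))) (h2 : Module.Finite A (E.X m))
    (h3 : Module.Free A (E.X m)) : Module.FinitePresentation A (RMod R (E.opcycles m)) := by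
  have hfpres : Module.FinitePresentation A (E.X m) :=
    Module.finitePresentation_of_projective A (E.X m)
  exact Groth.Agent.H35.finitePresentation_opcycles E m h1 hfpres

section ClaimA

variable {R}

lemma opcycles_ses (E : CochainComplex (ModuleCat.{u} A) ℤ) (m : ℤ) (hex : E.ExactAt (m - 1)) :
    Function.Injective (E.fromOpcycles (m - 1) m).hom ∧
      Function.Exact (E.fromOpcycles (m - 1) m).hom (E.pOpcycles m).hom ∧
      Function.Surjective (E.pOpcycles m).hom := by
  have hsurj : ∀ k : ℤ, Function.Surjective (E.pOpcycles k).hom := fun k =>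
    (ModuleCat.epi_iff_surjective _).mp inferInstance
  refine ⟨?_, ?_, hsurj m⟩
  · have hex' : (E.sc' (m - 1 - 1) (m - 1) m).Exact :=
      (E.exactAt_iff' (m - 1 - 1) (m - 1) m (by simp) (by simp)).1 hex
    have hm := hex'.mono_fromOpcycles
    have e := E.opcyclesIsoSc'_inv_fromOpcycles (m - 1 - 1) (m - 1) m (by simp) (by simp)
    have h2 : Mono (E.fromOpcycles (m - 1) m) := by
      have h3 : Mono ((E.opcyclesIsoSc' (m - 1 - 1) (m - 1) m (by simp) (by simp)).inv ≫
          E.fromOpcycles (m - 1) m) := by
        rw [e]
        exact hm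
      have h4 := mono_comp (E.opcyclesIsoSc' (m - 1 - 1) (m - 1) m (by simp) (by simp)).hom
        ((E.opcyclesIsoSc' (m - 1 - 1) (m - 1) m _ _).inv ≫
          E.fromOpcycles (m - 1) m)
      rwa [Iso.hom_inv_id_assoc] at h4
    exact (ModuleCat.mono_iff_injective _).mp h2
  · let S : ShortComplex (ModuleCat.{u} A) :=
      ShortComplex.mk (E.d (m - 1) m) (E.pOpcycles m) (by simp)
    have hS : S.Exact := S.exact_of_g_is_cokernel (E.opcyclesIsCokernel (m - 1) m (by simp))
    have hS' : Function.Exact (E.d (m - 1) m).hom (E.pOpcycles m).hom :=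
      (ShortComplex.ShortExact.moduleCat_exact_iff_function_exact S).1 hS
    have hd : ∀ x, (E.d (m - 1) m).hom x =
        (E.fromOpcycles (m - 1) m).hom ((E.pOpcycles (m - 1)).hom x) := fun x => by
      rw [← ModuleCat.comp_apply, E.p_fromOpcycles]
    intro y
    rw [hS' y]
    constructor
    · rintro ⟨x, rfl⟩
      exact ⟨_, (hd x).symm⟩
    · rintro ⟨z, rfl⟩
      obtain ⟨x, rfl⟩ := hsurj (m - 1) z
      exact ⟨x, hd x⟩

lemma flat_localized_opcycles_pred [Module.Flat R A] (S : Submonoid A)
    (E : CochainComplex (ModuleCat.{u} A) ℤ) (m : ℤ) (hex : E.ExactAt (m - 1))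
    (hfl : Module.Flat A (E.X m))
    (h : Module.Flat R (LocalizedModule S (RMod R (E.opcycles m)))) :
    Module.Flat R (LocalizedModule S (RMod R (E.opcycles (m - 1)))) := by
  obtain ⟨hinj, hexact, hsurj⟩ := opcycles_ses E m hex
  let f : RMod R (E.opcycles (m - 1)) →ₗ[A] RMod R (E.X m) := (E.fromOpcycles (m - 1) m).hom
  let g : RMod R (E.X m) →ₗ[A] RMod R (E.opcycles m) := (E.pOpcycles m).hom
  let f' := IsLocalizedModule.map S (LocalizedModule.mkLinearMap S (RMod R (E.opcycles (m - 1))))
    (LocalizedModule.mkLinearMap S (RMod R (E.X m))) f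
  let g' := IsLocalizedModule.map S (LocalizedModule.mkLinearMap S (RMod R (E.X m)))
    (LocalizedModule.mkLinearMap S (RMod R (E.opcycles m))) g
  have h1 : Function.Injective f' := IsLocalizedModule.map_injective S _ _ f hinj
  have h2 : Function.Exact f' g' := LocalizedModule.map_exact S f g hexact
  have h3 : Function.Surjective g' := IsLocalizedModule.map_surjective S _ _ g hsurj
  haveI : Module.Flat R (RMod R (E.X m)) := flat_rmod_of_flat R (E.X m)
  haveI : Module.Flat R (LocalizedModule S (RMod R (E.X m))) :=
    Groth.Agent.H71.FlatOver.flat_of_isLocalizedModule S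
      (LocalizedModule.mkLinearMap S (RMod R (E.X m)))
  exact (Groth.Agent.H71.FlatOver.flat_iff_of_exact_of_flat_right (f'.restrictScalars R)
    (g'.restrictScalars R) h1 h2 h3).1 inferInstance

end ClaimA

section ClaimB

variable {R}

lemma flat_opcycles_resL (E : CochainComplex (ModuleCat.{u} A) ℤ) (m : ℤ)
    (h : Module.Flat R (RMod R (E.opcycles m))) :
    Module.Flat R ((resL (algebraMap R A) E).opcycles m) :=
  Module.Flat.of_linearEquiv
    (Groth.Agent.H28.TorAmpWE.opcyclesRestrictIso (A := R) (B := A) E m ≪≫
      restrictRModIso R (E.opcycles m)).toLinearEquiv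

lemma flat_localized_opcycles_of_flat (S : Submonoid A)
    (E : CochainComplex (ModuleCat.{u} A) ℤ) (m : ℤ)
    (h : Module.Flat R ((resL (algebraMap R (Localization S))
      ((extCx (algebraMap A (Localization S))).obj E)).opcycles m)) :
    Module.Flat R (LocalizedModule S (RMod R (E.opcycles m))) := by
  haveI : Module.Flat A (Localization S) := IsLocalization.flat _ S
  haveI : PreservesFiniteLimits
      (ModuleCat.extendScalars.{u, u, u} (algebraMap A (Localization S))) :=
    ModuleCat.preservesFiniteLimits_extendScalars_of_flat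
      ((RingHom.flat_algebraMap_iff).2 inferInstance)
  let e1 := Groth.Agent.H28.TorAmpWE.opcyclesRestrictIso (A := R) (B := Localization S)
    ((extCx (algebraMap A (Localization S))).obj E) m
  let e2 : ((extCx (algebraMap A (Localization S))).obj E).opcycles m ≅
      (ModuleCat.extendScalars.{u, u, u} (algebraMap A (Localization S))).obj (E.opcycles m) :=
    ShortComplex.mapOpcyclesIso (E.sc m)
      (ModuleCat.extendScalars.{u, u, u} (algebraMap A (Localization S)))
  let e3 := Groth.Agent.H12.BC.bridge (B := Localization S) (E.opcycles m)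
  let e4 : Localization S ⊗[A] (E.opcycles m) ≃ₗ[Localization S]
      Localization S ⊗[A] RMod R (E.opcycles m) :=
    TensorProduct.AlgebraTensorModule.congr (LinearEquiv.refl (Localization S) (Localization S))
      (toRMod R (E.opcycles m))
  let e5 : Localization S ⊗[A] RMod R (E.opcycles m) ≃ₗ[Localization S]
      LocalizedModule S (RMod R (E.opcycles m)) :=
    (IsLocalizedModule.isBaseChange S (Localization S)
      (LocalizedModule.mkLinearMap S (RMod R (E.opcycles m)))).equiv
  let iso := e1 ≪≫ (ModuleCat.restrictScalars (algebraMap R (Localization S))).mapIso e2 ≪≫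
    restrictIsoOfLinearEquiv (A := R) (B := Localization S) _
      (LocalizedModule S (RMod R (E.opcycles m))) (e3 ≪≫ₗ e4 ≪≫ₗ e5)
  exact Module.Flat.of_linearEquiv iso.toLinearEquiv.symm

end ClaimB

end Groth.Agent.H35.RelPerfOpcycles
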