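import Mathlib
import Groth.Agent.H35.FibreLoc
import Groth.Agent.H35.FibreTorAmpLoc
import Groth.Agent.H35.PCFlatBC
import Groth.Agent.H35.PCQuotient
import Groth.Agent.H35.PolyTor
import Groth.Agent.H35.LBaseChangeLib
import Groth.Agent.H28.PCohRestrict
import Groth.Prelude.Def_DDual2

/-!
# Tor amplitude of a localization from a bound on the fibre (helper35, S7104)
-/

set_option autoImplicit false
set_option linter.style.haveILetI false
universe u
open CategoryTheory CategoryTheory.Limits TensorProduct

namespace Groth.Agent.H35.TorAmpLocMain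

open DerivedCategory Groth.Agent.H35 Groth.Agent.H35.LT Groth.Agent.H35.PolyTor
  Groth.Agent.H35.RelPC

attribute [local instance] HasDerivedCategory.standard

variable (R A : Type u) [CommRing R] [CommRing A] [Algebra R A]
    [Module.Flat R A] [Algebra.FinitePresentation R A] (d : ℕ)
    (ψ : MvPolynomial (Fin d) R →ₐ[R] A) (hψ : Function.Surjective ψ)
    (q : Ideal A) [q.IsPrime] (p : Ideal R) [p.IsPrime] (hpq : p = Ideal.comap (algebraMap R A) q)

local notation "Pd" => MvPolynomial (Fin d) R
local notation "Rp" => Localization.AtPrime p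
local notation "Aq" => Localization.AtPrime q
local notation "Bq" => Localization.AtPrime (Ideal.comap (AlgHom.toRingHom ψ) q)

include hψ in
theorem main
    [DRing.HasLBaseChange (algebraMap A (Localization.AtPrime q))]
    [DRing.HasLTensor (Localization.AtPrime p) (ModuleCat.of (Localization.AtPrime p) p.ResidueField)]
    (K : Dual.D A) (hK : DRing.IsPseudoCoherent' A K) (a b : ℤ)
    (hfib : ∀ i : ℤ, i < a ∨ b < i → Subsingleton (Dual.HD (Localization.AtPrime p)
      ((DRing.LTensor (Localization.AtPrime p) (ModuleCat.of (Localization.AtPrime p) p.ResidueField)).obj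
        ((DRing.restrictD (Localization.localRingHom p q (algebraMap R A) hpq)).obj
          ((DRing.LBaseChange (algebraMap A (Localization.AtPrime q))).obj K))) i)) :
    DRing.HasTorAmplitudeIn R (a - d) b
      ((DRing.restrictD (algebraMap R (Localization.AtPrime q))).obj
        ((DRing.LBaseChange (algebraMap A (Localization.AtPrime q))).obj K)) := by
  -- the prime of the polynomial ring
  haveI hq' : (q.comap ψ.toRingHom).IsPrime := Ideal.comap_isPrime _ _
  have hpq' : p = (q.comap ψ.toRingHom).comap (algebraMap R Pd) := by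
    rw [hpq, Ideal.comap_comap]
    congr 1
    exact ψ.comp_algebraMap.symm
  -- the ring maps
  let φ₀ : Rp →+* Bq := Localization.localRingHom p (q.comap ψ.toRingHom) (algebraMap R Pd) hpq'
  let γ' : Bq →+* Aq := Localization.localRingHom (q.comap ψ.toRingHom) q ψ.toRingHom rfl
  have hcomp : Localization.localRingHom p q (algebraMap R A) hpq = γ'.comp φ₀ :=
    Localization.localRingHom_unique _ _ _ _ (fun x => by
      simp only [RingHom.comp_apply, φ₀, γ', Localization.localRingHom_to_map]
      congr 1
      exact ψ.commutes x)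
  -- algebra structures
  letI algRpB : Algebra Rp Bq := φ₀.toAlgebra
  haveI hloc : IsLocalHom (algebraMap Rp Bq) := Localization.isLocalHom_localRingHom _ _ _ hpq'
  have hflatRP : (algebraMap R Pd).Flat := RingHom.flat_algebraMap_iff.2 inferInstance
  haveI hflat : Module.Flat Rp Bq := RingHom.Flat.localRingHom hflatRP _ _ hpq'
  haveI tRRpB : IsScalarTower R Rp Bq :=
    IsScalarTower.of_algebraMap_eq (fun r => by
      change _ = φ₀ (algebraMap R _ r)
      rw [Localization.localRingHom_to_map, ← IsScalarTower.algebraMap_apply])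
  letI algPA : Algebra Pd A := ψ.toRingHom.toAlgebra
  haveI tRPA : IsScalarTower R Pd A := IsScalarTower.of_algebraMap_eq (fun r => (ψ.commutes r).symm)
  letI algBAq : Algebra Bq Aq := γ'.toAlgebra
  haveI tPAAq : IsScalarTower Pd A Aq := inferInstance
  haveI tPBAq : IsScalarTower Pd Bq Aq :=
    IsScalarTower.of_algebraMap_eq (fun x => by
      change _ = γ' (algebraMap Pd Bq x)
      rw [Localization.localRingHom_to_map, IsScalarTower.algebraMap_apply Pd A Aq]
      rfl)
  -- `A` is a pseudo-coherent `P`-module, hence `A_q` is a pseudo-coherent `B`-module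
  have hRP : PCHomLocal.PCAlg R Pd :=
    (PCHomLocal.isPseudoCoherentHom_iff R Pd).1
      (TorIndepBC.isPerfectHom_of_flat_of_finitePresentation R Pd).1
  have hRA : PCHomLocal.PCAlg R A :=
    (PCHomLocal.isPseudoCoherentHom_iff R A).1
      (TorIndepBC.isPerfectHom_of_flat_of_finitePresentation R A).1
  have hPA : PCHomLocal.PCAlg Pd A := PCHomLocal.pcAlg_cancel hRP hRA
  have hfin : Module.Finite Pd A := Module.Finite.of_surjective (Algebra.linearMap Pd A) hψ
  have hpcA : DRing.IsPseudoCoherentModule' Pd A :=
    (PCHomLocal.isPseudoCoherentHom_iff_of_finite Pd A).1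
      ((PCHomLocal.isPseudoCoherentHom_iff Pd A).2 hPA)
  have hsub : Algebra.algebraMapSubmonoid A (q.comap ψ.toRingHom).primeCompl = q.primeCompl := by
    ext y
    constructor
    · rintro ⟨x, hx, rfl⟩
      exact hx
    · intro hy
      obtain ⟨x, rfl⟩ := hψ y
      exact ⟨x, hy, rfl⟩
  have hlocA : IsLocalization (Algebra.algebraMapSubmonoid A (q.comap ψ.toRingHom).primeCompl) Aq := by
    rw [hsub]
    infer_instance
  have hpo : Algebra.IsPushout Pd Bq A Aq :=
    ((Algebra.isLocalization_iff_isPushout (q.comap ψ.toRingHom).primeCompl Bq).1 hlocA).symm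
  have hpcB : DRing.IsPseudoCoherentModule' Bq Aq :=
    PCFlatBC.isPseudoCoherentModule'_baseChange_of_flat hpcA
  -- pseudo-coherence over `B`
  have hKq : DRing.IsPseudoCoherent' Aq ((DRing.LBaseChange (algebraMap A Aq)).obj K) :=
    isPseudoCoherent'_LBaseChange _ K hK
  have hK' : DRing.IsPseudoCoherent' Bq
      ((DRing.restrictD γ').obj ((DRing.LBaseChange (algebraMap A Aq)).obj K)) := by
    rw [Groth.Agent.H28.PCohRing.isPseudoCoherent'_iff] at hKq ⊢
    intro m
    exact (Groth.Agent.H28.PCohRestrict.isNPC_restrict_algebraMap_iff Bq Aq hpcB m _).1 (hKq m)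
  -- the fibre has global dimension `≤ d`
  have hgl : ∀ M : ModuleCat.{u} ((Rp ⧸ IsLocalRing.maximalIdeal Rp) ⊗[Rp] Bq),
      HasProjectiveDimensionLT M (d + 1) := by
    letI : Field (Rp ⧸ IsLocalRing.maximalIdeal Rp) := Ideal.Quotient.field _
    exact fun M => FibreLoc.hasProjectiveDimensionLT_fibre R p.primeCompl Rp
      (Rp ⧸ IsLocalRing.maximalIdeal Rp) d (q.comap ψ.toRingHom).primeCompl Bq M
  -- the fibre vanishing
  let eN : ModuleCat.of Rp p.ResidueField ≅
      ModuleCat.of Rp (Rp ⧸ IsLocalRing.maximalIdeal Rp) := Iso.refl _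
  obtain ⟨e₁⟩ := nonempty_restrictD_comp_iso φ₀ γ' _ hcomp
    ((DRing.LBaseChange (algebraMap A Aq)).obj K)
  have h : ∀ i : ℤ, (i < a ∨ b < i) → Subsingleton (Dual.HD Rp
      ((DRing.LTensor Rp (ModuleCat.of Rp p.ResidueField)).obj
        ((DRing.restrictD (algebraMap Rp Bq)).obj
          ((DRing.restrictD γ').obj ((DRing.LBaseChange (algebraMap A Aq)).obj K)))) i) := by
    intro i hi
    have := hfib i hi
    exact ModuleCat.subsingleton_of_isZero (IsZero.of_iso (ModuleCat.isZero_of_subsingleton _)
      ((DerivedCategory.homologyFunctor _ i).mapIso ((DRing.LTensor Rp _).mapIso e₁.symm)))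
  obtain ⟨-, hTor⟩ := FibreTorAmpLoc.isPerfect_and_hasTorAmplitudeIn_of_fibre_glDim d hgl a b _ hK'
    (ModuleCat.of Rp p.ResidueField) eN h
  -- descend to `R`
  have hflatRB : (algebraMap R Bq).Flat :=
    RingHom.flat_algebraMap_iff.2 (Module.Flat.trans R Pd Bq)
  have hδ : algebraMap R Aq = γ'.comp (algebraMap R Bq) := by
    ext r
    rw [RingHom.comp_apply, IsScalarTower.algebraMap_apply R Pd Bq]
    change _ = γ' (algebraMap Pd Bq _)
    rw [Localization.localRingHom_to_map, IsScalarTower.algebraMap_apply R A Aq]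
    congr 1
    exact (ψ.commutes r).symm
  exact tavia_comp_of_flat (algebraMap R Bq) hflatRB γ' (algebraMap R Aq) hδ (a - d) b _ hTor

end Groth.Agent.H35.TorAmpLocMain
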