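import Mathlib
import Groth.Agent.H35.RelPerfOpcycles
import Groth.Agent.H35.TorAmpLocMain
import Groth.Agent.H35.TorAmpCone
import Groth.Agent.S4865
import Groth.Prelude.Def_DualSh

/-!
# `R`-perfectness via boundedness below of the fibres (helper35, S7094)
-/

set_option autoImplicit false
set_option linter.style.haveILetI false
universe u
open CategoryTheory CategoryTheory.Limits MonoidalCategory TensorProduct

namespace Groth.Agent.H35.RelPerfFibreMain

open HomologicalComplex DerivedCategory Groth.Agent.H35 Groth.Agent.H35.KF Groth.Agent.H35.KFBC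
  Groth.Agent.H35.LT Groth.Agent.H35.RelPerfFibreLib Groth.Agent.H35.RelPerfFibreLoc
  Groth.Agent.H35.RelPerfOpcycles

attribute [local instance] HasDerivedCategory.standard

variable (R A : Type u) [CommRing R] [CommRing A] [Algebra R A]

section Forward

variable {R A}

/-- data attached to a bounded above complex of flat `A`-modules representing `K` -/
lemma forward [Module.Flat R A] (K : Dual.D A) (E : CochainComplex (ModuleCat.{u} A) ℤ) (c : ℤ)
    (hc : ∀ i, c < i → IsZero (E.X i)) (hfl : ∀ i, Module.Flat A (E.X i))
    (e : Q.obj E ≅ K) (a b : ℤ)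
    (hTor : DRing.HasTorAmplitudeIn R a b ((DRing.restrictD (algebraMap R A)).obj K)) :
    (∀ i : ℤ, i < a → Subsingleton (Dual.HD A K i)) ∧
      ∀ (N : ModuleCat.{u} R) [DRing.HasLTensor R N] (i : ℤ), i < a →
        Subsingleton (Dual.HD R ((DRing.LTensor R N).obj
          ((DRing.restrictD (algebraMap R A)).obj K)) i) := by
  have hFc : ∀ i, c < i → IsZero ((resL (algebraMap R A) E).X i) := fun i hi =>
    (ModuleCat.restrictScalars (algebraMap R A)).map_isZero (hc i hi)
  have hFfl : ∀ i, Module.Flat R ((resL (algebraMap R A) E).X i) := fun i => by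
    have := hfl i
    exact flat_restrictScalars_of_flat (E.X i)
  have hFK : IsKFlat (resL (algebraMap R A) E) := isKFlat_of_bounded_flat _ c hFc hFfl
  let eF : Q.obj (resL (algebraMap R A) E) ≅ (DRing.restrictD (algebraMap R A)).obj K :=
    ((ModuleCat.restrictScalars (algebraMap R A)).mapDerivedCategoryFactors.app E).symm ≪≫
      (DRing.restrictD (algebraMap R A)).mapIso e
  have hv : TorVanishing (resL (algebraMap R A) E) a b :=
    torVanishing_of_hasTorAmplitudeIn _ a b hTor _ c hFc hFfl eF
  refine ⟨fun i hi => ?_, fun N _ i hi => ?_⟩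
  · have h1 : (resL (algebraMap R A) E).ExactAt i :=
      exactAt_of_tensExactAt_unit _ i (hv _ i (Or.inl hi))
    have h2 : E.ExactAt i := (exactAt_resL_iff (algebraMap R A) E i).1 h1
    rw [exactAt_iff_isZero_homology] at h2
    exact ModuleCat.subsingleton_of_isZero (IsZero.of_iso h2
      ((DerivedCategory.homologyFunctor _ i).mapIso e.symm ≪≫
        (DerivedCategory.homologyFunctorFactors _ i).app E))
  · exact (subsingleton_HD_LTensor_iff N _ hFK _ eF i).2 (hv N i (Or.inl hi))

end Forward

section Backward

variable {R A}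

/-- Claim B: the localized opcycles are flat over `R` in low degrees -/
lemma flat_localized_at_prime [Module.Flat R A] [Algebra.FinitePresentation R A] (d : ℕ)
    (ψ : MvPolynomial (Fin d) R →ₐ[R] A) (hψ : Function.Surjective ψ)
    (K : Dual.D A) (hK : DRing.IsPseudoCoherent' A K)
    (E : CochainComplex (ModuleCat.{u} A) ℤ) (c : ℤ) (hc : ∀ i, c < i → IsZero (E.X i))
    (hff : ∀ i, Module.Finite A (E.X i) ∧ Module.Free A (E.X i)) (e : Q.obj E ≅ K)
    (q : Ideal A) [q.IsPrime] (p : Ideal R) [p.IsPrime] (hpq : p = q.comap (algebraMap R A))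
    [DRing.HasLTensor R (ModuleCat.of R p.ResidueField)]
    (ap : ℤ) (hap : ∀ i : ℤ, i < ap → Subsingleton (Dual.HD R
      ((DRing.LTensor R (ModuleCat.of R p.ResidueField)).obj
        ((DRing.restrictD (algebraMap R A)).obj K)) i))
    (m : ℤ) (hm : m ≤ ap - d) :
    Module.Flat R (LocalizedModule q.primeCompl (RMod R (E.opcycles m))) := by
  have hfl : ∀ i, Module.Flat A (E.X i) := fun i => by
    have := (hff i).2
    infer_instance
  have hEK : IsKFlat E := isKFlat_of_bounded_flat E c hc hfl
  -- the fibre over `R`
  have hFc : ∀ i, c < i → IsZero ((resL (algebraMap R A) E).X i) := fun i hi =>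
    (ModuleCat.restrictScalars (algebraMap R A)).map_isZero (hc i hi)
  have hFfl : ∀ i, Module.Flat R ((resL (algebraMap R A) E).X i) := fun i => by
    have := hfl i
    exact flat_restrictScalars_of_flat (E.X i)
  have hFK : IsKFlat (resL (algebraMap R A) E) := isKFlat_of_bounded_flat _ c hFc hFfl
  let eF : Q.obj (resL (algebraMap R A) E) ≅ (DRing.restrictD (algebraMap R A)).obj K :=
    ((ModuleCat.restrictScalars (algebraMap R A)).mapDerivedCategoryFactors.app E).symm ≪≫
      (DRing.restrictD (algebraMap R A)).mapIso e
  have h₀ : ∀ i : ℤ, i < ap →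
      TensExactAt (resL (algebraMap R A) E) (ModuleCat.of R p.ResidueField) i := fun i hi =>
    (subsingleton_HD_LTensor_iff _ _ hFK _ eF i).1 (hap i hi)
  -- the localizations
  haveI : DRing.HasLBaseChange (algebraMap A (Localization.AtPrime q)) := hasLBaseChange _
  haveI : DRing.HasLTensor (Localization.AtPrime p)
      (ModuleCat.of (Localization.AtPrime p) p.ResidueField) := hasLTensor _
  letI algRpAq : Algebra (Localization.AtPrime p) (Localization.AtPrime q) :=
    (Localization.localRingHom p q (algebraMap R A) hpq).toAlgebra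
  haveI : IsScalarTower R (Localization.AtPrime p) (Localization.AtPrime q) :=
    IsScalarTower.of_algebraMap_eq (fun r => by
      change _ = Localization.localRingHom p q (algebraMap R A) hpq (algebraMap R _ r)
      rw [Localization.localRingHom_to_map, ← IsScalarTower.algebraMap_apply])
  have hflatRA : (algebraMap R A).Flat := RingHom.flat_algebraMap_iff.2 inferInstance
  haveI : Module.Flat (Localization.AtPrime p) (Localization.AtPrime q) :=
    RingHom.Flat.localRingHom hflatRA _ _ hpq
  haveI : Module.Flat A (Localization.AtPrime q) := IsLocalization.flat _ q.primeCompl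
  haveI : Module.Flat R (Localization.AtPrime q) := Module.Flat.trans R A _
  -- the localized complex
  have hEqc : ∀ i, c < i →
      IsZero (((extCx (algebraMap A (Localization.AtPrime q))).obj E).X i) := fun i hi =>
    (ModuleCat.extendScalars.{u, u, u} (algebraMap A (Localization.AtPrime q))).map_isZero (hc i hi)
  have hEqfl : ∀ i, Module.Flat (Localization.AtPrime q)
      (((extCx (algebraMap A (Localization.AtPrime q))).obj E).X i) := fun i => by
    have := hfl i
    exact flat_extendScalars _ (E.X i)
  let eKq : Q.obj ((extCx (algebraMap A (Localization.AtPrime q))).obj E) ≅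
      (DRing.LBaseChange (algebraMap A (Localization.AtPrime q))).obj K :=
    (LBaseChangeIso _ E hEK).symm ≪≫ (DRing.LBaseChange _).mapIso e
  have hfib' : ∀ i : ℤ, i < ap ∨ c < i → Subsingleton (Dual.HD (Localization.AtPrime p)
      ((DRing.LTensor (Localization.AtPrime p)
        (ModuleCat.of (Localization.AtPrime p) p.ResidueField)).obj
        ((DRing.restrictD (Localization.localRingHom p q (algebraMap R A) hpq)).obj
          ((DRing.LBaseChange (algebraMap A (Localization.AtPrime q))).obj K))) i) := by
    intro i hi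
    have hF'c : ∀ j, c < j → IsZero ((resL (algebraMap (Localization.AtPrime p)
        (Localization.AtPrime q)) ((extCx (algebraMap A (Localization.AtPrime q))).obj E)).X j) :=
      fun j hj => (ModuleCat.restrictScalars _).map_isZero (hEqc j hj)
    have hF'fl : ∀ j, Module.Flat (Localization.AtPrime p) ((resL (algebraMap (Localization.AtPrime p)
        (Localization.AtPrime q)) ((extCx (algebraMap A (Localization.AtPrime q))).obj E)).X j) :=
      fun j => by
        have := hEqfl j
        exact flat_restrictScalars_of_flat _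
    have hF'K := isKFlat_of_bounded_flat _ c hF'c hF'fl
    let eF' : Q.obj (resL (algebraMap (Localization.AtPrime p) (Localization.AtPrime q))
        ((extCx (algebraMap A (Localization.AtPrime q))).obj E)) ≅
        (DRing.restrictD (Localization.localRingHom p q (algebraMap R A) hpq)).obj
          ((DRing.LBaseChange (algebraMap A (Localization.AtPrime q))).obj K) :=
      ((ModuleCat.restrictScalars _).mapDerivedCategoryFactors.app _).symm ≪≫
        (DRing.restrictD _).mapIso eKq
    rw [subsingleton_HD_LTensor_iff _ _ hF'K _ eF' i]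
    rcases hi with hi | hi
    · exact tensExactAt_fibre_localization p.primeCompl (Localization.AtPrime p)
        (Localization.AtPrime q) p.ResidueField E i (h₀ i hi)
    · exact tensExactAt_of_isZero _ _ i (hF'c i hi)
  have hTorq := Groth.Agent.H35.TorAmpLocMain.main R A d ψ hψ q p hpq K hK ap c hfib'
  -- the restriction to `R` of the localized complex
  have hFqc : ∀ j, c < j → IsZero ((resL (algebraMap R (Localization.AtPrime q))
      ((extCx (algebraMap A (Localization.AtPrime q))).obj E)).X j) :=
    fun j hj => (ModuleCat.restrictScalars _).map_isZero (hEqc j hj)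
  have hFqfl : ∀ j, Module.Flat R ((resL (algebraMap R (Localization.AtPrime q))
      ((extCx (algebraMap A (Localization.AtPrime q))).obj E)).X j) :=
    fun j => by
      have := hEqfl j
      exact flat_restrictScalars_of_flat _
  let eFq : Q.obj (resL (algebraMap R (Localization.AtPrime q))
      ((extCx (algebraMap A (Localization.AtPrime q))).obj E)) ≅
      (DRing.restrictD (algebraMap R (Localization.AtPrime q))).obj
        ((DRing.LBaseChange (algebraMap A (Localization.AtPrime q))).obj K) :=
    ((ModuleCat.restrictScalars _).mapDerivedCategoryFactors.app _).symm ≪≫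
      (DRing.restrictD _).mapIso eKq
  have hvq := torVanishing_of_hasTorAmplitudeIn _ _ _ hTorq _ c hFqc hFqfl eFq
  have hop := flat_opcycles _ m (hFqfl m) (fun N => hvq N (m - 1) (Or.inl (by omega)))
  exact flat_localized_opcycles_of_flat q.primeCompl E m hop

end Backward

theorem main [Module.Flat R A] [Algebra.FinitePresentation R A]
    [∀ p : PrimeSpectrum R, DRing.HasLTensor R (ModuleCat.of R p.asIdeal.ResidueField)]
    (K : Dual.D A) (hK : DRing.IsPseudoCoherent' A K) :
    Dual2.IsRelPerfect R A K ↔
      (∃ a : ℤ, ∀ i : ℤ, i < a → Subsingleton (Dual.HD A K i)) ∧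
        ∀ p : PrimeSpectrum R, ∃ a : ℤ, ∀ i : ℤ, i < a →
          Subsingleton (Dual.HD R ((DRing.LTensor R (ModuleCat.of R p.asIdeal.ResidueField)).obj
            ((DRing.restrictD (algebraMap R A)).obj K)) i) := by
  have hK0 := hK
  obtain ⟨E, c, hc, hff, ⟨e⟩⟩ := hK
  have hfl : ∀ i, Module.Flat A (E.X i) := fun i => by
    have := (hff i).2
    infer_instance
  constructor
  · rintro ⟨-, a, b, hTor⟩
    obtain ⟨h1, h2⟩ := forward K E c hc hfl e a b hTor
    exact ⟨⟨a, h1⟩, fun p => ⟨a, fun i hi => h2 _ i hi⟩⟩
  · rintro ⟨⟨a₀, h0⟩, hfib⟩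
    refine ⟨hK0, ?_⟩
    obtain ⟨d, ψ, hψ⟩ := Algebra.FiniteType.iff_quotient_mvPolynomial''.1
      (inferInstance : Algebra.FiniteType R A)
    have hEex : ∀ i, i < a₀ → E.ExactAt i := fun i hi => by
      rw [exactAt_iff_isZero_homology]
      have := h0 i hi
      exact IsZero.of_iso (ModuleCat.isZero_of_subsingleton _)
        (((DerivedCategory.homologyFunctorFactors _ i).app E).symm ≪≫
          (DerivedCategory.homologyFunctor _ i).mapIso e)
    let U : ℕ → Set (PrimeSpectrum A) := fun n =>
      {q | Module.Flat R (LocalizedModule q.asIdeal.primeCompl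
        (RMod R (E.opcycles (a₀ - 1 - (n : ℤ)))))}
    have hopen : ∀ n, IsOpen (U n) := fun n => by
      haveI := finitePresentation_rmod_opcycles R E (a₀ - 1 - (n : ℤ)) (hff _).1 (hff _).1 (hff _).2
      exact Groth.Agent.S4865.result (A := R) (B := A) (C := A)
        (RMod R (E.opcycles (a₀ - 1 - (n : ℤ))))
    have hmono : ∀ n, U n ⊆ U (n + 1) := fun n q hq => by
      have h1 := flat_localized_opcycles_pred q.asIdeal.primeCompl E (a₀ - 1 - (n : ℤ))
        (hEex _ (by omega)) (hfl _) hq
      have h2 : a₀ - 1 - ((n + 1 : ℕ) : ℤ) = a₀ - 1 - (n : ℤ) - 1 := by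
        push_cast
        ring
      change Module.Flat R (LocalizedModule _ (RMod R (E.opcycles (a₀ - 1 - ((n + 1 : ℕ) : ℤ)))))
      rw [h2]
      exact h1
    have hcover : ∀ q : PrimeSpectrum A, ∃ n, q ∈ U n := fun q => by
      obtain ⟨ap, hap⟩ := hfib ⟨q.asIdeal.comap (algebraMap R A), inferInstance⟩
      refine ⟨(a₀ - 1 - min (ap - d) (a₀ - 1)).toNat, ?_⟩
      have h2 : a₀ - 1 - (((a₀ - 1 - min (ap - d) (a₀ - 1)).toNat : ℕ) : ℤ) =
          min (ap - d) (a₀ - 1) := by
        rw [Int.toNat_of_nonneg (by omega)]
        ring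
      change Module.Flat R (LocalizedModule _ (RMod R (E.opcycles _)))
      rw [h2]
      haveI : DRing.HasLTensor R
          (ModuleCat.of R (Ideal.comap (algebraMap R A) q.asIdeal).ResidueField) :=
        inferInstanceAs (DRing.HasLTensor R (ModuleCat.of R (PrimeSpectrum.asIdeal
          (⟨q.asIdeal.comap (algebraMap R A), inferInstance⟩ : PrimeSpectrum R)).ResidueField))
      exact flat_localized_at_prime d ψ hψ K hK0 E c hc hff e q.asIdeal _ rfl ap hap _
        (min_le_left _ _)
    obtain ⟨n, hn⟩ := isCompact_univ.elim_directed_cover U hopen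
      (fun q _ => Set.mem_iUnion.2 (hcover q)) (monotone_nat_of_le_succ hmono).directed_le
    have hflat : Module.Flat R (RMod R (E.opcycles (a₀ - 1 - (n : ℤ)))) :=
      Groth.Agent.H71.FlatOver.flat_of_localized_maximal _
        (fun P _ => hn (Set.mem_univ (⟨P, inferInstance⟩ : PrimeSpectrum A)))
    have hFc : ∀ i, c < i → IsZero ((resL (algebraMap R A) E).X i) := fun i hi =>
      (ModuleCat.restrictScalars (algebraMap R A)).map_isZero (hc i hi)
    have hFfl : ∀ i, Module.Flat R ((resL (algebraMap R A) E).X i) := fun i => by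
      have := hfl i
      exact flat_restrictScalars_of_flat (E.X i)
    let eF : Q.obj (resL (algebraMap R A) E) ≅ (DRing.restrictD (algebraMap R A)).obj K :=
      ((ModuleCat.restrictScalars (algebraMap R A)).mapDerivedCategoryFactors.app E).symm ≪≫
        (DRing.restrictD (algebraMap R A)).mapIso e
    have hFex : ∀ i, i < a₀ - 1 - (n : ℤ) → (resL (algebraMap R A) E).ExactAt i := fun i hi =>
      (exactAt_resL_iff (algebraMap R A) E i).2 (hEex i (by omega))
    have hT := hasTorAmplitudeIn_of_flat_opcycles (resL (algebraMap R A) E) (a₀ - 1 - (n : ℤ)) c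
      hFc hFfl hFex (flat_opcycles_resL E _ hflat)
    exact ⟨a₀ - 1 - (n : ℤ), c, hasTorAmplitudeIn_of_iso eF _ _ hT⟩

end Groth.Agent.H35.RelPerfFibreMain
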