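import Mathlib
import Groth.Prelude.Def_DualSh
import Groth.Agent.H35.SqZeroPC
import Groth.Agent.H35.PerfectPC
import Groth.Agent.H35.RestrictFlat
import Groth.Agent.H35.KFBaseChange
import Groth.Agent.H28.PCohDev2
import Groth.Agent.H35.TorIndepBC
import Groth.Agent.H35.TorAmpD

/-!
# `R`-perfect complexes as bounded complexes of finitely presented `R`-flat modules (helper35)
-/

universe u

open CategoryTheory Limits

attribute [local instance] HasDerivedCategory.standard

set_option linter.unusedSectionVars false

namespace Groth.Agent.H35.RelPerfectFlat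

open DerivedCategory HomologicalComplex Groth.Agent.H35.KF Groth.Agent.H35.KFBC
  Groth.Agent.H28 Groth.Agent.H28.PCohRing

variable (R A : Type u) [CommRing R] [CommRing A] [Algebra R A] [Module.Flat R A]
  [Algebra.FinitePresentation R A]

/-- a bounded complex of finitely presented `A`-modules which are flat over `R` is `R`-perfect -/
theorem isRelPerfect_of_bounded_fp_flat (E : DRing.Cx A) (a b : ℤ)
    (hE : DRing.VanishesOutside E a b)
    (hterm : ∀ i : ℤ, Module.FinitePresentation A (E.X i) ∧
      Module.Flat R ((ModuleCat.restrictScalars (algebraMap R A)).obj (E.X i))) :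
    Dual2.IsRelPerfect R A (DRing.toD E) := by
  refine ⟨?_, a, b, resL (algebraMap R A) E, ?_, fun i => (hterm i).2,
    ⟨((ModuleCat.restrictScalars (algebraMap R A)).mapDerivedCategoryFactors.app E).symm⟩⟩
  · rw [isPseudoCoherent'_iff]
    intro n
    refine PCohDev.isNPC_of_terms (finFree A) (hql_finFree A) (finFree_prod A) (hqs_finFree A) n E b
      (fun i hi => hE i (Or.inr hi)) (fun i _ => ?_)
    have := (hterm i).1
    exact (isPseudoCoherent'_iff A _).1
      (SqZeroPC.isPseudoCoherent'_single_of_finitePresentation_of_flat (R := R) (E.X i)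
        (hterm i).2) (n - i)
  · intro i hi
    exact (ModuleCat.restrictScalars (algebraMap R A)).map_isZero (hE i hi)

/-- an `R`-perfect object is represented by a bounded complex of finitely presented `A`-modules
which are flat over `R` -/
theorem exists_bounded_fp_flat_of_isRelPerfect (K : Dual.D A) (h : Dual2.IsRelPerfect R A K) :
    ∃ (E : DRing.Cx A) (a b : ℤ), DRing.VanishesOutside E a b ∧
      (∀ i : ℤ, Module.FinitePresentation A (E.X i) ∧
        Module.Flat R ((ModuleCat.restrictScalars (algebraMap R A)).obj (E.X i))) ∧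
      Nonempty (DRing.toD E ≅ K) := by
  obtain ⟨⟨E₀, b₀, hb₀, hff, ⟨e₀⟩⟩, a, b, htor⟩ := h
  let φ : R →+* A := algebraMap R A
  let P := resL φ E₀
  have hfl₀ : ∀ i, Module.Flat R ((ModuleCat.restrictScalars φ).obj (E₀.X i)) := fun i => by
    have := (hff i).2
    exact Groth.Agent.H35.KF.flat_restrictScalars_of_flat (E₀.X i)
  have hPz : ∀ i, b₀ < i → IsZero (P.X i) := fun i hi =>
    (ModuleCat.restrictScalars φ).map_isZero (hb₀ i hi)
  have eP : Q.obj P ≅ (DRing.restrictD φ).obj K :=
    ((ModuleCat.restrictScalars φ).mapDerivedCategoryFactors.app E₀).symm ≪≫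
      (DRing.restrictD φ).mapIso e₀
  have hv : TorVanishing P a b :=
    torVanishing_of_hasTorAmplitudeIn _ a b htor P b₀ hPz hfl₀ eP
  have hGE : E₀.IsGE a := by
    rw [CochainComplex.isGE_iff]
    intro i hi
    exact (exactAt_map_restrictScalars_iff φ E₀ i).1
      (exactAt_of_tensExactAt_unit P i (hv _ i (Or.inl hi)))
  have hq : QuasiIso (E₀.πTruncGE a) := inferInstance
  have hiso : IsIso (Q.map (E₀.πTruncGE a)) :=
    (DerivedCategory.isIso_Q_map_iff_quasiIso (φ := E₀.πTruncGE a)).2 hq
  refine ⟨E₀.truncGE a, a, max a b₀, ?_, ?_, ⟨(asIso (Q.map (E₀.πTruncGE a))).symm ≪≫ e₀⟩⟩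
  · intro i hi
    by_cases h1 : i < a
    · exact (E₀.truncGE a).isZero_of_isStrictlyGE a i h1
    · have h2 : max a b₀ < i := by omega
      exact IsZero.of_iso (hb₀ i (by omega)) (E₀.truncGEXIso a i (by omega))
  · intro i
    by_cases h1 : i < a
    · have hz := (E₀.truncGE a).isZero_of_isStrictlyGE a i h1
      have : Subsingleton ((E₀.truncGE a).X i) := ModuleCat.subsingleton_of_isZero hz
      exact ⟨Module.finitePresentation_of_projective A _,
        Groth.Agent.H35.TorIndepBC.flat_restrict_of_isZero hz⟩
    · by_cases h3 : i = a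
      · subst h3
        have hfin1 := (hff (i - 1)).1
        have hfin2 := (hff i).1
        have hfree2 := (hff i).2
        have hfpres : Module.FinitePresentation A (E₀.X i) :=
          Module.finitePresentation_of_projective A (E₀.X i)
        have hfpo : Module.FinitePresentation A (E₀.opcycles i) :=
          Groth.Agent.H35.finitePresentation_opcycles E₀ i hfin1 hfpres
        refine ⟨Module.FinitePresentation.of_equiv
          (E₀.truncGEXIsoOpcycles i).toLinearEquiv.symm, ?_⟩
        have hflo : Module.Flat R (P.opcycles i) :=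
          flat_opcycles P i (hfl₀ i) (fun N => hv N (i - 1) (Or.inl (by omega)))
        have e1 : P.opcycles i ≅ (ModuleCat.restrictScalars φ).obj (E₀.opcycles i) :=
          ShortComplex.mapOpcyclesIso (E₀.sc i) (ModuleCat.restrictScalars φ)
        have hflo' : Module.Flat R ((ModuleCat.restrictScalars φ).obj (E₀.opcycles i)) :=
          Module.Flat.of_linearEquiv e1.symm.toLinearEquiv
        exact Groth.Agent.H35.TorIndepBC.flat_restrict_of_iso (E₀.truncGEXIsoOpcycles i).symm hflo'
      · have hfin2 := (hff i).1
        have hfree2 := (hff i).2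
        have hfpres : Module.FinitePresentation A (E₀.X i) :=
          Module.finitePresentation_of_projective A (E₀.X i)
        exact ⟨Module.FinitePresentation.of_equiv
          (E₀.truncGEXIso a i (by omega)).toLinearEquiv.symm,
          Groth.Agent.H35.TorIndepBC.flat_restrict_of_iso (E₀.truncGEXIso a i (by omega)).symm
            (hfl₀ i)⟩

end Groth.Agent.H35.RelPerfectFlat
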